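import Mathlib
import Groth.Prelude.Def_ArtFun3

universe u v

open CategoryTheory

namespace Groth.Agent.H15.ArtEps

open ArtFun ArtFun.Art

variable {Λ : Type u} {k : Type u} [CommRing Λ] [Field k] [Algebra Λ k]

/-- `k` as a module over `A` through the augmentation. -/
def ResMod (_A : Art Λ k) : Type u := k

section ResMod

variable (A : Art Λ k)

instance : AddCommGroup (ResMod A) := inferInstanceAs (AddCommGroup k)
instance : Module k (ResMod A) := inferInstanceAs (Module k k)
instance : Module Λ (ResMod A) := inferInstanceAs (Module Λ k)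
instance : Module A (ResMod A) := Module.compHom k (A.res : A →+* k)
instance : Module Aᵐᵒᵖ (ResMod A) :=
  Module.compHom k ((A.res : A →+* k).comp ((RingEquiv.toOpposite A).symm : Aᵐᵒᵖ →+* A))

/-- view an element of `k` in `ResMod A` -/
def rmk (c : k) : ResMod A := c
/-- view an element of `ResMod A` in `k` -/
def rval (c : ResMod A) : k := c

variable {A}

lemma smul_def' (a : A) (c : ResMod A) : a • c = rmk A (A.res a * rval A c) := rfl
lemma op_smul_def' (a : A) (c : ResMod A) : MulOpposite.op a • c = rmk A (A.res a * rval A c) := rfl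
lemma lsmul_def' (l : Λ) (c : ResMod A) : l • c = rmk A (l • rval A c) := rfl

variable (A)

instance : IsCentralScalar A (ResMod A) := ⟨fun _ _ => rfl⟩

instance : SMulCommClass A Aᵐᵒᵖ (ResMod A) := ⟨fun a b c => by
  change rmk A (A.res a * (A.res b.unop * rval A c)) = rmk A (A.res b.unop * (A.res a * rval A c))
  rw [mul_left_comm]⟩

instance : IsScalarTower Λ A (ResMod A) := ⟨fun l a c => by
  change rmk A (A.res (l • a) * rval A c) = rmk A (l • (A.res a * rval A c))
  rw [map_smul, smul_mul_assoc]⟩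

instance : IsScalarTower Λ Aᵐᵒᵖ (ResMod A) := ⟨fun l a c => by
  change rmk A (A.res (l • a).unop * rval A c) = rmk A (l • (A.res a.unop * rval A c))
  rw [MulOpposite.unop_smul, map_smul, smul_mul_assoc]⟩

instance : Module.Finite A (ResMod A) := by
  let f : A →ₗ[A] ResMod A :=
    { toFun := fun a => rmk A (A.res a)
      map_add' := fun a b => map_add A.res a b
      map_smul' := fun a b => by
        change rmk A (A.res (a * b)) = rmk A (A.res a * A.res b)
        rw [map_mul] }
  exact Module.Finite.of_surjective f A.res_surjective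

end ResMod

/-- The carrier of `A ×_k k[ε]`. -/
abbrev E (A : Art Λ k) : Type u := TrivSqZeroExt A (ResMod A)

instance (A : Art Λ k) : IsLocalRing (E A) :=
  haveI : IsLocalHom (TrivSqZeroExt.fstHom A A (ResMod A)).toRingHom :=
    ⟨fun _ hx => TrivSqZeroExt.isUnit_iff_isUnit_fst.2 hx⟩
  RingHom.domain_isLocalRing (TrivSqZeroExt.fstHom A A (ResMod A)).toRingHom

instance (A : Art Λ k) : IsArtinianRing (E A) :=
  haveI : Module.Finite A (E A) := inferInstanceAs (Module.Finite A (A × ResMod A))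
  IsArtinianRing.of_finite A _

/-- The object `A ×_k k[ε]`. -/
noncomputable def eps (A : Art Λ k) : Art Λ k :=
  { carrier := E A
    res := A.res.comp (TrivSqZeroExt.fstHom Λ A (ResMod A))
    res_surjective := fun c => by
      obtain ⟨a, ha⟩ := A.res_surjective c
      exact ⟨TrivSqZeroExt.inl a, ha⟩ }

section Maps

variable (A : Art Λ k)

/-- first projection `A ×_k k[ε] → A` -/
noncomputable def p₁ : eps A ⟶ A := ⟨TrivSqZeroExt.fstHom Λ A (ResMod A), rfl⟩

/-- second projection `A ×_k k[ε] → k[ε]` -/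
noncomputable def p₂ : eps A ⟶ dual Λ k :=
  ⟨{ toFun := fun x => ((A.res x.fst, rval A x.snd) : TrivSqZeroExt k k)
     map_one' := TrivSqZeroExt.ext (map_one A.res) rfl
     map_mul' := fun x y => TrivSqZeroExt.ext (map_mul A.res x.fst y.fst) (by
        change A.res x.fst * rval A y.snd + A.res y.fst * rval A x.snd =
          A.res x.fst * rval A y.snd + rval A x.snd * A.res y.fst
        rw [mul_comm (A.res y.fst)])
     map_zero' := TrivSqZeroExt.ext (map_zero A.res) rfl
     map_add' := fun x y => TrivSqZeroExt.ext (map_add A.res x.fst y.fst) rfl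
     commutes' := fun r => TrivSqZeroExt.ext (by
        change A.res (algebraMap Λ A r) = algebraMap Λ k r
        exact A.res.commutes r) rfl }, AlgHom.ext fun _ => rfl⟩

/-- the section `A → A ×_k k[ε]` -/
noncomputable def ι : A ⟶ eps A := ⟨TrivSqZeroExt.inlAlgHom Λ A (ResMod A), AlgHom.ext fun _ => rfl⟩

lemma ι_p₁ : ι A ≫ p₁ A = 𝟙 A := hom_ext (AlgHom.ext fun _ => rfl)

lemma ι_p₂ : ι A ≫ p₂ A = toBase A ≫ baseToDual := hom_ext (AlgHom.ext fun _ => rfl)

lemma p₁_apply (x : eps A) : p₁ A x = TrivSqZeroExt.fst (x : E A) := rfl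

lemma p₂_apply_fst (x : eps A) : TrivSqZeroExt.fst (p₂ A x : DualNumber k) = A.res (TrivSqZeroExt.fst (x : E A)) := rfl

lemma p₂_apply_snd (x : eps A) : TrivSqZeroExt.snd (p₂ A x : DualNumber k) = rval A (TrivSqZeroExt.snd (x : E A)) := rfl

theorem isFibreProd_eps : IsFibreProd (p₁ A) (p₂ A) (toBase A) (toBase (dual Λ k)) where
  w := by rw [eq_toBase (p₁ A ≫ toBase _), eq_toBase (p₂ A ≫ toBase _)]
  inj b₁ b₂ h₁ h₂ := by
    have e₂ : TrivSqZeroExt.snd (b₁ : E A) = TrivSqZeroExt.snd (b₂ : E A) := by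
      have e := congrArg TrivSqZeroExt.snd h₂; exact e
    exact TrivSqZeroExt.ext h₁ e₂
  surj a' a'' h := by
    have h' : A.res a' = TrivSqZeroExt.fst (a'' : DualNumber k) := h
    exact ⟨((a', rmk A (TrivSqZeroExt.snd (a'' : DualNumber k))) : E A), rfl, TrivSqZeroExt.ext h' rfl⟩

variable {A}

/-- `c ↦ c̃ t` -/
noncomputable def lam (t : A) (c : k) : A := Function.surjInv A.res_surjective c * t

lemma lam_eq {t : A} (ht : ∀ a ∈ IsLocalRing.maximalIdeal A, a * t = 0) {a : A} {c : k} (h : A.res a = c) :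
    lam t c = a * t := by
  unfold lam
  have h1 : Function.surjInv A.res_surjective c - a ∈ IsLocalRing.maximalIdeal A := by
    rw [mem_maximalIdeal_iff, map_sub, Function.surjInv_eq A.res_surjective c, h, sub_self]
  have h2 := ht _ h1
  rw [sub_mul, sub_eq_zero] at h2
  exact h2

/-- the "action" map `A ×_k k[ε] → A`, `(a, c) ↦ a + c t` for `t` in the socle. -/
noncomputable def σ (t : A) (ht' : t ∈ IsLocalRing.maximalIdeal A)
    (ht : ∀ a ∈ IsLocalRing.maximalIdeal A, a * t = 0) : eps A ⟶ A :=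
  ⟨{ toFun := fun x => TrivSqZeroExt.fst (x : E A) + lam t (rval A (TrivSqZeroExt.snd (x : E A)))
     map_one' := by
        change (1 : A) + lam t 0 = 1
        rw [lam_eq ht (map_zero A.res), zero_mul, add_zero]
     map_mul' := fun x y => by
        obtain ⟨a, ha⟩ := A.res_surjective (rval A (TrivSqZeroExt.snd (x : E A)))
        obtain ⟨b, hb⟩ := A.res_surjective (rval A (TrivSqZeroExt.snd (y : E A)))
        have hxy : A.res (TrivSqZeroExt.fst (x : E A) * b + TrivSqZeroExt.fst (y : E A) * a) =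
            rval A (TrivSqZeroExt.snd ((x * y : E A))) := by
          rw [map_add, map_mul, map_mul, ha, hb]
          rfl
        change TrivSqZeroExt.fst (x : E A) * TrivSqZeroExt.fst (y : E A) + lam t (rval A (TrivSqZeroExt.snd ((x * y : E A)))) = _
        rw [lam_eq ht hxy, lam_eq ht ha, lam_eq ht hb]
        have htt : t * t = 0 := ht t ht'
        linear_combination (-(a * b)) * htt
     map_zero' := by
        change (0 : A) + lam t 0 = 0
        rw [lam_eq ht (map_zero A.res), zero_mul, add_zero]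
     map_add' := fun x y => by
        obtain ⟨a, ha⟩ := A.res_surjective (rval A (TrivSqZeroExt.snd (x : E A)))
        obtain ⟨b, hb⟩ := A.res_surjective (rval A (TrivSqZeroExt.snd (y : E A)))
        have hxy : A.res (a + b) = rval A (TrivSqZeroExt.snd ((x + y : E A))) := by
          rw [map_add, ha, hb]
          rfl
        change TrivSqZeroExt.fst (x : E A) + TrivSqZeroExt.fst (y : E A) + lam t (rval A (TrivSqZeroExt.snd ((x + y : E A)))) = _
        rw [lam_eq ht hxy, lam_eq ht ha, lam_eq ht hb]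
        ring
     commutes' := fun r => by
        change algebraMap Λ A r + lam t 0 = algebraMap Λ A r
        rw [lam_eq ht (map_zero A.res), zero_mul, add_zero] },
   by
    apply AlgHom.ext
    intro x
    change A.res (TrivSqZeroExt.fst (x : E A) + lam t (rval A (TrivSqZeroExt.snd (x : E A)))) = A.res (TrivSqZeroExt.fst (x : E A))
    obtain ⟨a, ha⟩ := A.res_surjective (rval A (TrivSqZeroExt.snd (x : E A)))
    rw [lam_eq ht ha, map_add, map_mul, (mem_maximalIdeal_iff A t).1 ht', mul_zero, add_zero]⟩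

lemma σ_apply (t : A) (ht' : t ∈ IsLocalRing.maximalIdeal A)
    (ht : ∀ a ∈ IsLocalRing.maximalIdeal A, a * t = 0) (x : eps A) :
    σ t ht' ht x = TrivSqZeroExt.fst (x : E A) + lam t (rval A (TrivSqZeroExt.snd (x : E A))) := rfl

lemma ι_σ (t : A) (ht' : t ∈ IsLocalRing.maximalIdeal A)
    (ht : ∀ a ∈ IsLocalRing.maximalIdeal A, a * t = 0) : ι A ≫ σ t ht' ht = 𝟙 A := by
  apply hom_ext
  apply AlgHom.ext
  intro a
  change a + lam t 0 = a
  rw [lam_eq ht (map_zero A.res), zero_mul, add_zero]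

theorem isFibreProd_σ {A₀ : Art Λ k} (π : A ⟶ A₀) (t : A) (ht' : t ∈ IsLocalRing.maximalIdeal A)
    (ht : ∀ a ∈ IsLocalRing.maximalIdeal A, a * t = 0) (ht0 : t ≠ 0)
    (hker : RingHom.ker π.toAlgHom = Ideal.span {t}) :
    IsFibreProd (p₁ A) (σ t ht' ht) π π where
  w := by
    apply hom_ext
    apply AlgHom.ext
    intro x
    change π (TrivSqZeroExt.fst (x : E A)) = π (TrivSqZeroExt.fst (x : E A) + lam t (rval A (TrivSqZeroExt.snd (x : E A))))
    obtain ⟨a, ha⟩ := A.res_surjective (rval A (TrivSqZeroExt.snd (x : E A)))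
    have h0 : π.toAlgHom (a * t) = 0 := by
      rw [← RingHom.mem_ker, hker]
      exact Ideal.mul_mem_left _ _ (Ideal.subset_span rfl)
    rw [lam_eq ht ha]
    change π.toAlgHom _ = π.toAlgHom _
    rw [map_add, h0, add_zero]
  inj b₁ b₂ h₁ h₂ := by
    have h₁' : TrivSqZeroExt.fst (b₁ : E A) = TrivSqZeroExt.fst (b₂ : E A) := h₁
    rw [σ_apply, σ_apply, h₁'] at h₂
    have h₃ := add_left_cancel h₂
    obtain ⟨a, ha⟩ := A.res_surjective (rval A (TrivSqZeroExt.snd (b₁ : E A)))
    obtain ⟨b, hb⟩ := A.res_surjective (rval A (TrivSqZeroExt.snd (b₂ : E A)))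
    rw [lam_eq ht ha, lam_eq ht hb] at h₃
    have h₄ : (a - b) * t = 0 := by rw [sub_mul, h₃, sub_self]
    have h₅ : a - b ∈ IsLocalRing.maximalIdeal A := by
      by_contra hu
      have hu' : IsUnit (a - b) := by
        by_contra hnu
        exact hu ((IsLocalRing.mem_maximalIdeal _).2 hnu)
      exact ht0 ((hu'.mul_right_eq_zero).1 h₄)
    rw [mem_maximalIdeal_iff, map_sub, ha, hb, sub_eq_zero] at h₅
    exact TrivSqZeroExt.ext h₁' h₅
  surj a b h := by
    have hab : b - a ∈ RingHom.ker π.toAlgHom := by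
      rw [RingHom.mem_ker, map_sub, sub_eq_zero]
      exact h.symm
    rw [hker, Ideal.mem_span_singleton'] at hab
    obtain ⟨r, hr⟩ := hab
    refine ⟨((a, rmk A (A.res r)) : E A), rfl, ?_⟩
    change a + lam t (A.res r) = b
    rw [lam_eq ht rfl, hr]
    ring

end Maps

section Inverse

theorem exists_inv_of_bijective {A B : Art Λ k} (f : A ⟶ B) (hf : Function.Bijective f) :
    ∃ g : B ⟶ A, f ≫ g = 𝟙 A ∧ g ≫ f = 𝟙 B := by
  let e : A ≃ₐ[Λ] B := AlgEquiv.ofBijective f.toAlgHom hf
  refine ⟨⟨e.symm.toAlgHom, ?_⟩, ?_, ?_⟩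
  · apply AlgHom.ext
    intro b
    obtain ⟨a, rfl⟩ := hf.2 b
    change A.res (e.symm (e a)) = B.res (f a)
    rw [e.symm_apply_apply, res_app]
  · apply hom_ext
    apply AlgHom.ext
    intro a
    exact e.symm_apply_apply a
  · apply hom_ext
    apply AlgHom.ext
    intro b
    exact e.apply_symm_apply b

theorem maximalIdeal_nilpotent (B : Art Λ k) : ∃ N : ℕ, IsLocalRing.maximalIdeal B ^ N = ⊥ := by
  have h := IsArtinianRing.isNilpotent_jacobson_bot (R := B)
  rw [IsLocalRing.jacobson_eq_maximalIdeal _ bot_ne_top] at h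
  exact h

theorem ker_le_maximalIdeal {B A : Art Λ k} (μ : B ⟶ A) :
    RingHom.ker μ.toAlgHom ≤ IsLocalRing.maximalIdeal B := by
  intro b hb
  rw [mem_maximalIdeal_iff, ← res_app μ b]
  rw [RingHom.mem_ker] at hb
  rw [hb, map_zero]

/-- Induction along small extensions inside a fixed object. -/
theorem ideal_induction (B : Art Λ k) (P : Ideal B → Prop) (h0 : P ⊥)
    (hstep : ∀ (J : Ideal B) (x : B), P J → x ∉ J → x ∈ IsLocalRing.maximalIdeal B →
      (∀ a ∈ IsLocalRing.maximalIdeal B, a * x ∈ J) → P (J ⊔ Ideal.span {x})) :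
    ∀ I : Ideal B, I ≤ IsLocalRing.maximalIdeal B → P I := by
  classical
  intro I hI
  have hne : {J : Ideal B | J ≤ I ∧ P J}.Nonempty := ⟨⊥, bot_le, h0⟩
  obtain ⟨J, ⟨hJI, hPJ⟩, hmax⟩ :=
    (wellFounded_gt : WellFounded ((· > ·) : Ideal B → Ideal B → Prop)).has_min _ hne
  by_cases hJeq : J = I
  · exact hJeq ▸ hPJ
  exfalso
  have hlt : J < I := lt_of_le_of_ne hJI hJeq
  obtain ⟨x₀, hx₀I, hx₀J⟩ := SetLike.exists_of_lt hlt
  obtain ⟨N, hN⟩ := maximalIdeal_nilpotent B
  let Q : ℕ → Prop := fun n => IsLocalRing.maximalIdeal B ^ n * Ideal.span {x₀} ≤ J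
  have hQN : Q N := by
    change IsLocalRing.maximalIdeal B ^ N * Ideal.span {x₀} ≤ J
    rw [hN, Ideal.bot_mul]
    exact bot_le
  have hex : ∃ n, Q n := ⟨N, hQN⟩
  have hn : Q (Nat.find hex) := Nat.find_spec hex
  have hn0 : Nat.find hex ≠ 0 := by
    intro h0'
    rw [h0'] at hn
    change IsLocalRing.maximalIdeal B ^ 0 * Ideal.span {x₀} ≤ J at hn
    rw [pow_zero, one_mul] at hn
    exact hx₀J (hn (Ideal.subset_span rfl))
  obtain ⟨n', hn'⟩ := Nat.exists_eq_succ_of_ne_zero hn0
  have hn'Q : ¬ Q n' := Nat.find_min hex (by omega)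
  obtain ⟨x, hx, hxJ⟩ := SetLike.not_le_iff_exists.1 hn'Q
  have hxI : x ∈ I :=
    (Ideal.mul_le_right.trans ((Ideal.span_singleton_le_iff_mem _).2 hx₀I)) hx
  have hmx : ∀ a ∈ IsLocalRing.maximalIdeal B, a * x ∈ J := fun a ha => hn (by
    rw [hn', pow_succ', mul_assoc]
    exact Ideal.mul_mem_mul ha hx)
  have hP := hstep J x hPJ hxJ (hI hxI) hmx
  refine hmax (J ⊔ Ideal.span {x}) ⟨sup_le hJI ((Ideal.span_singleton_le_iff_mem _).2 hxI), hP⟩ ?_
  exact lt_of_le_of_ne le_sup_left
    (fun h => hxJ (h ▸ (le_sup_right : Ideal.span {x} ≤ J ⊔ Ideal.span {x}) (Ideal.subset_span rfl)))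

end Inverse

section Key

variable {G H : Art Λ k ⥤ Type v} (ψ : G ⟶ H)

/-- key uniqueness step along a small extension -/
theorem key_step (hGS1 : S1 G) (hGeps : Heps G)
    (hH : ∀ ⦃B A A' A'' : Art Λ k⦄ (p' : B ⟶ A') (p'' : B ⟶ A'') (f' : A' ⟶ A) (f'' : A'' ⟶ A)
      (h : IsFibreProd p' p'' f' f''), Function.Surjective f'' → Function.Injective (cmp H h))
    (hψ : Function.Injective (TangentSpace.map ψ))
    {A A₀ : Art Λ k} (π : A ⟶ A₀) (hπ : Function.Surjective π) (t : A)
    (ht' : t ∈ IsLocalRing.maximalIdeal A)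
    (ht : ∀ a ∈ IsLocalRing.maximalIdeal A, a * t = 0) (ht0 : t ≠ 0)
    (hker : RingHom.ker π.toAlgHom = Ideal.span {t})
    (y₁ y₂ : G.obj A) (h1 : G.map π y₁ = G.map π y₂) (h2 : ψ.app A y₁ = ψ.app A y₂) : y₁ = y₂ := by
  have fp1 := isFibreProd_eps A
  have fp2 := isFibreProd_σ π t ht' ht ht0 hker
  obtain ⟨w, hw⟩ := hGS1 _ _ _ _ fp2 hπ ⟨(y₁, y₂), h1⟩
  have hw1 : G.map (p₁ A) w = y₁ := congrArg (fun z => z.1.1) hw
  have hw2 : G.map (σ t ht' ht) w = y₂ := congrArg (fun z => z.1.2) hw
  have hz : ψ.app _ w = H.map (ι A) (ψ.app A y₁) := by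
    apply hH _ _ _ _ fp2 hπ
    apply FibProd.ext
    · change H.map (p₁ A) (ψ.app _ w) = H.map (p₁ A) (H.map (ι A) (ψ.app A y₁))
      rw [← NatTrans.naturality_apply, hw1, ← Functor.map_comp_apply, ι_p₁,
        Functor.map_id_apply]
    · change H.map (σ t ht' ht) (ψ.app _ w) = H.map (σ t ht' ht) (H.map (ι A) (ψ.app A y₁))
      rw [← NatTrans.naturality_apply, hw2, ← h2, ← Functor.map_comp_apply, ι_σ,
        Functor.map_id_apply]
  have hv : G.map (p₂ A) w = G.map (p₂ A) (G.map (ι A) y₁) := by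
    apply hψ
    change ψ.app _ (G.map (p₂ A) w) = ψ.app _ (G.map (p₂ A) (G.map (ι A) y₁))
    rw [NatTrans.naturality_apply, NatTrans.naturality_apply, NatTrans.naturality_apply, hz]
  have hww : w = G.map (ι A) y₁ := by
    apply (hGeps _ _ fp1).1
    apply FibProd.ext
    · change G.map (p₁ A) w = G.map (p₁ A) (G.map (ι A) y₁)
      rw [hw1, ← Functor.map_comp_apply, ι_p₁, Functor.map_id_apply]
    · exact hv
  rw [← hw2, hww, ← Functor.map_comp_apply, ι_σ, Functor.map_id_apply]

/-- `G(B) → G(A) ×_{H(A)} H(B)` is injective for every surjection. -/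
theorem inj_of_surj (hGS1 : S1 G) (hGeps : Heps G)
    (hH : ∀ ⦃B A A' A'' : Art Λ k⦄ (p' : B ⟶ A') (p'' : B ⟶ A'') (f' : A' ⟶ A) (f'' : A'' ⟶ A)
      (h : IsFibreProd p' p'' f' f''), Function.Surjective f'' → Function.Injective (cmp H h))
    (hψ : Function.Injective (TangentSpace.map ψ))
    {B A : Art Λ k} (μ : B ⟶ A) (hμ : Function.Surjective μ)
    (y₁ y₂ : G.obj B) (h1 : G.map μ y₁ = G.map μ y₂) (h2 : ψ.app B y₁ = ψ.app B y₂) : y₁ = y₂ := by
  let P : Ideal B → Prop := fun I => ∀ (A : Art Λ k) (μ : B ⟶ A), Function.Surjective μ →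
    RingHom.ker μ.toAlgHom = I → ∀ y₁ y₂ : G.obj B, G.map μ y₁ = G.map μ y₂ →
      ψ.app B y₁ = ψ.app B y₂ → y₁ = y₂
  have hP : ∀ I : Ideal B, I ≤ IsLocalRing.maximalIdeal B → P I := by
    apply ideal_induction B P
    · intro A μ hμ hker y₁ y₂ h1 _
      have hinj : Function.Injective μ := (RingHom.injective_iff_ker_eq_bot μ.toAlgHom).2 hker
      obtain ⟨ν, hν, _⟩ := exists_inv_of_bijective μ ⟨hinj, hμ⟩
      have := congrArg (G.map ν) h1
      rwa [← Functor.map_comp_apply, ← Functor.map_comp_apply, hν,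
        Functor.map_id_apply, Functor.map_id_apply] at this
    · intro J x hPJ hxJ hxm hmx A' μ' hμ' hker y₁ y₂ h1 h2
      have hJker : J ≤ RingHom.ker μ'.toAlgHom := hker ▸ le_sup_left
      have hJm : J ≤ IsLocalRing.maximalIdeal B := hJker.trans (ker_le_maximalIdeal μ')
      have hqπ : quotMk B J hJm ≫ quotFactor hJm μ' hJker = μ' := quotMk_quotFactor hJm μ' hJker
      have hπsurj : Function.Surjective (quotFactor hJm μ' hJker) := fun a' => by
        obtain ⟨b, rfl⟩ := hμ' a'
        exact ⟨quotMk B J hJm b, rfl⟩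
      have ht0 : quotMk B J hJm x ≠ 0 := fun h => hxJ (Ideal.Quotient.eq_zero_iff_mem.1 h)
      have ht' : quotMk B J hJm x ∈ IsLocalRing.maximalIdeal (quot B J hJm) := by
        rw [mem_maximalIdeal_iff, res_app]
        exact (mem_maximalIdeal_iff B x).1 hxm
      have ht : ∀ a ∈ IsLocalRing.maximalIdeal (quot B J hJm), a * quotMk B J hJm x = 0 := by
        intro a ha
        obtain ⟨b, rfl⟩ := quotMk_surjective B J hJm a
        have hb : b ∈ IsLocalRing.maximalIdeal B := by
          rw [mem_maximalIdeal_iff] at ha ⊢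
          rw [← res_app (quotMk B J hJm) b]
          exact ha
        change Ideal.Quotient.mk J b * Ideal.Quotient.mk J x = 0
        rw [← map_mul]
        exact Ideal.Quotient.eq_zero_iff_mem.2 (hmx b hb)
      have hkerπ : RingHom.ker (quotFactor hJm μ' hJker).toAlgHom = Ideal.span {quotMk B J hJm x} := by
        apply le_antisymm
        · intro a ha
          obtain ⟨b, rfl⟩ := quotMk_surjective B J hJm a
          have hb : b ∈ RingHom.ker μ'.toAlgHom := by
            rw [RingHom.mem_ker] at ha ⊢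
            rw [← hqπ]
            exact ha
          rw [hker] at hb
          obtain ⟨j, hj, s, hs, rfl⟩ := Submodule.mem_sup.1 hb
          obtain ⟨r, rfl⟩ := Ideal.mem_span_singleton'.1 hs
          have e : quotMk B J hJm (j + r * x) = quotMk B J hJm r * quotMk B J hJm x := by
            change Ideal.Quotient.mk J (j + r * x) = Ideal.Quotient.mk J r * Ideal.Quotient.mk J x
            rw [map_add, map_mul, Ideal.Quotient.eq_zero_iff_mem.2 hj, zero_add]
          rw [e]
          exact Ideal.mul_mem_left _ _ (Ideal.subset_span rfl)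
        · rw [Ideal.span_singleton_le_iff_mem, RingHom.mem_ker]
          have hx : x ∈ RingHom.ker μ'.toAlgHom :=
            hker ▸ (le_sup_right : Ideal.span {x} ≤ J ⊔ Ideal.span {x}) (Ideal.subset_span rfl)
          rw [RingHom.mem_ker] at hx
          change (quotMk B J hJm ≫ quotFactor hJm μ' hJker).toAlgHom x = 0
          rw [hqπ]
          exact hx
      have e := key_step ψ hGS1 hGeps hH hψ (quotFactor hJm μ' hJker) hπsurj _ ht' ht ht0 hkerπ
        (G.map (quotMk B J hJm) y₁) (G.map (quotMk B J hJm) y₂)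
        (by rw [← Functor.map_comp_apply, ← Functor.map_comp_apply, hqπ, h1])
        (by rw [NatTrans.naturality_apply, NatTrans.naturality_apply, h2])
      refine hPJ _ (quotMk B J hJm) (quotMk_surjective B J hJm) ?_ y₁ y₂ e h2
      ext b
      rw [RingHom.mem_ker]
      change Ideal.Quotient.mk J b = 0 ↔ b ∈ J
      exact Ideal.Quotient.eq_zero_iff_mem
  exact hP _ (ker_le_maximalIdeal μ) A μ hμ rfl y₁ y₂ h1 h2

end Key

end Groth.Agent.H15.ArtEps
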