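import Mathlib
import Groth.Prelude.Def_ArtFun3

universe u v

open CategoryTheory

namespace Groth.Agent.H15.ArtFunA

open ArtFun ArtFun.Art

variable {Λ : Type u} {k : Type u} [CommRing Λ] [Field k] [Algebra Λ k]

/-- Lifting into a pinned fibre product. -/
theorem IsFibreProd.exists_lift {B A A' A'' : Art Λ k} {p' : B ⟶ A'} {p'' : B ⟶ A''} {f' : A' ⟶ A}
    {f'' : A'' ⟶ A} (h : IsFibreProd p' p'' f' f'')
    {R : Type u} [CommRing R] [Algebra Λ R] {resR : R →ₐ[Λ] k}
    (g' : HomSet R resR A') (g'' : HomSet R resR A'')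
    (hg : HomSet.map f' g' = HomSet.map f'' g'') :
    ∃ g : HomSet R resR B, HomSet.map p' g = g' ∧ HomSet.map p'' g = g'' := by
  classical
  have hg' : ∀ r : R, f' (g'.1 r) = f'' (g''.1 r) := fun r => by
    have := congrArg (fun t : HomSet R resR A => t.1 r) hg
    exact this
  choose c hc1 hc2 using fun r : R => h.surj (g'.1 r) (g''.1 r) (hg' r)
  have key : ∀ (b : B) (r : R), p' b = g'.1 r → p'' b = g''.1 r → b = c r := fun b r h1 h2 =>
    h.inj _ _ (h1.trans (hc1 r).symm) (h2.trans (hc2 r).symm)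
  let χ : R →ₐ[Λ] B :=
    { toFun := c
      map_one' := (key 1 1 ((map_one p'.toAlgHom).trans (map_one g'.1).symm)
        ((map_one p''.toAlgHom).trans (map_one g''.1).symm)).symm
      map_mul' := fun x y => (key (c x * c y) (x * y)
        ((map_mul p'.toAlgHom _ _).trans (by rw [hc1, hc1]; exact (map_mul g'.1 x y).symm))
        ((map_mul p''.toAlgHom _ _).trans (by rw [hc2, hc2]; exact (map_mul g''.1 x y).symm))).symm
      map_zero' := (key 0 0 ((map_zero p'.toAlgHom).trans (map_zero g'.1).symm)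
        ((map_zero p''.toAlgHom).trans (map_zero g''.1).symm)).symm
      map_add' := fun x y => (key (c x + c y) (x + y)
        ((map_add p'.toAlgHom _ _).trans (by rw [hc1, hc1]; exact (map_add g'.1 x y).symm))
        ((map_add p''.toAlgHom _ _).trans (by rw [hc2, hc2]; exact (map_add g''.1 x y).symm))).symm
      commutes' := fun r => (key (algebraMap Λ B r) (algebraMap Λ R r)
        ((AlgHom.commutes p'.toAlgHom r).trans (AlgHom.commutes g'.1 r).symm)
        ((AlgHom.commutes p''.toAlgHom r).trans (AlgHom.commutes g''.1 r).symm)).symm }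
  have hχ1 : p'.toAlgHom.comp χ = g'.1 := AlgHom.ext fun r => hc1 r
  have hχ2 : p''.toAlgHom.comp χ = g''.1 := AlgHom.ext fun r => hc2 r
  refine ⟨⟨χ, ?_⟩, Subtype.ext hχ1, Subtype.ext hχ2⟩
  rw [← p'.res_comp, AlgHom.comp_assoc, hχ1, g'.2]

/-- Uniqueness of lifts into a pinned fibre product. -/
theorem IsFibreProd.lift_unique {B A A' A'' : Art Λ k} {p' : B ⟶ A'} {p'' : B ⟶ A''} {f' : A' ⟶ A}
    {f'' : A'' ⟶ A} (h : IsFibreProd p' p'' f' f'')
    {R : Type u} [CommRing R] [Algebra Λ R] {resR : R →ₐ[Λ] k}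
    (g₁ g₂ : HomSet R resR B)
    (h1 : HomSet.map p' g₁ = HomSet.map p' g₂) (h2 : HomSet.map p'' g₁ = HomSet.map p'' g₂) :
    g₁ = g₂ := by
  apply Subtype.ext
  apply AlgHom.ext
  intro r
  apply h.inj
  · exact congrArg (fun t : HomSet R resR A' => t.1 r) h1
  · exact congrArg (fun t : HomSet R resR A'' => t.1 r) h2

/-- In a fibre square with `f''` surjective, `p'` is surjective. -/
theorem IsFibreProd.surjective_fst {B A A' A'' : Art Λ k} {p' : B ⟶ A'} {p'' : B ⟶ A''} {f' : A' ⟶ A}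
    {f'' : A'' ⟶ A} (h : IsFibreProd p' p'' f' f'') (hf : Function.Surjective f'') :
    Function.Surjective p' := by
  intro a'
  obtain ⟨a'', ha''⟩ := hf (f' a')
  obtain ⟨b, hb, _⟩ := h.surj a' a'' ha''.symm
  exact ⟨b, hb⟩

section Versal

variable {F : Art Λ k ⥤ Type v} {R : Type u} [CommRing R] [Algebra Λ R] {resR : R →ₐ[Λ] k}

theorem H0_of_surj (ξ : Family R resR F) (hsurj : Function.Surjective (ξ.app (base Λ k))) : H0 F := by
  have h0 : HomSet R resR (base Λ k) := ⟨resR, AlgHom.id_comp _⟩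
  have hss : Subsingleton (HomSet R resR (base Λ k)) := by
    constructor
    intro a b
    apply Subtype.ext
    apply AlgHom.ext
    intro r
    have ha : a.1 r = resR r := DFunLike.congr_fun a.2 r
    have hb : b.1 r = resR r := DFunLike.congr_fun b.2 r
    rw [ha, hb]
  refine ⟨⟨ξ.app _ h0⟩, ⟨fun a b => ?_⟩⟩
  obtain ⟨a', rfl⟩ := hsurj a
  obtain ⟨b', rfl⟩ := hsurj b
  rw [Subsingleton.elim a' b']

theorem S1_of_versal (ξ : Family R resR F) (hξ : IsVersal ξ)
    (hsurj : ∀ A : Art Λ k, Function.Surjective (ξ.app A)) : S1 F := by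
  intro B A A' A'' p' p'' f' f'' h hf x
  obtain ⟨⟨x', x''⟩, hx⟩ := x
  change F.map f' x' = F.map f'' x'' at hx
  obtain ⟨φ', rfl⟩ := hsurj A' x'
  obtain ⟨ψ, hψ1, hψ2⟩ := hξ f'' hf (HomSet.map f' φ') x'' (by rw [← hx, ξ.natural])
  obtain ⟨χ, hχ1, hχ2⟩ := IsFibreProd.exists_lift h φ' ψ hψ1.symm
  refine ⟨ξ.app B χ, ?_⟩
  apply FibProd.ext
  · change F.map p' (ξ.app B χ) = ξ.app A' φ'
    rw [← ξ.natural, hχ1]
  · change F.map p'' (ξ.app B χ) = x''
    rw [← ξ.natural, hχ2, hψ2]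

theorem Heps_of_miniversal (ξ : Family R resR F) (hξ : IsMiniversal ξ)
    (hsurj : ∀ A : Art Λ k, Function.Surjective (ξ.app A)) : Heps F := by
  intro B A' p' p'' h
  have hts : Function.Surjective (toBase (dual Λ k)) := (dual Λ k).res_surjective
  refine ⟨?_, S1_of_versal ξ hξ.1 hsurj p' p'' _ _ h hts⟩
  intro z₁ z₂ hz
  have hz1 : F.map p' z₁ = F.map p' z₂ := congrArg (fun t => t.1.1) hz
  have hz2 : F.map p'' z₁ = F.map p'' z₂ := congrArg (fun t => t.1.2) hz
  obtain ⟨χ₁, rfl⟩ := hsurj B z₁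
  have hp' : Function.Surjective p' := IsFibreProd.surjective_fst h hts
  obtain ⟨χ₂, hχ1, hχ2⟩ := hξ.1 p' hp' (HomSet.map p' χ₁) z₂ (by rw [← hz1, ξ.natural])
  have e2 : HomSet.map p'' χ₁ = HomSet.map p'' χ₂ := by
    apply hξ.2.1
    rw [ξ.natural, ξ.natural, hχ2, hz2]
  rw [← hχ2, IsFibreProd.lift_unique h χ₁ χ₂ hχ1.symm e2]

end Versal

section Obs

variable {k : Type u} [Field k]

/-- Pull an obstruction theory back along a smooth morphism. -/
noncomputable def obsOfSmooth {F G : Art k k ⥤ Type v} (η : G ⟶ F) (hη : IsSmooth η)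
    (V : Type u) [AddCommGroup V] [Module k V] (T : ObsTheory F V) : ObsTheory G V where
  obs p hp u := T.obs p hp (η.app _ u)
  obs_eq_zero_iff p hp u := by
    rw [T.obs_eq_zero_iff]
    constructor
    · rintro ⟨v', hv'⟩
      obtain ⟨u', hu'⟩ := hη p hp.1 ⟨(u, v'), hv'.symm⟩
      exact ⟨u', congrArg (fun t => t.1.1) hu'⟩
    · rintro ⟨u', rfl⟩
      exact ⟨η.app _ u', (NatTrans.naturality_apply η p u').symm⟩
  obs_quot p hp K hK hKJ hq u := T.obs_quot p hp K hK hKJ hq (η.app _ u)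

end Obs

end Groth.Agent.H15.ArtFunA
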