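import Mathlib
import Groth.Agent.H15.ArtEps
import Groth.Agent.H15.ArtFunA

universe u v

open CategoryTheory

namespace Groth.Agent.H15.ArtSmooth

open ArtFun ArtFun.Art Groth.Agent.H15.ArtEps

variable {Λ : Type u} {k : Type u} [CommRing Λ] [Field k] [Algebra Λ k]

lemma comp_app_apply {F G H : Art Λ k ⥤ Type v} (φ : F ⟶ G) (ψ : G ⟶ H) (A : Art Λ k) (x : F.obj A) :
    (φ ≫ ψ).app A x = ψ.app A (φ.app A x) := rfl

theorem smooth_comp_iff {F G H : Art Λ k ⥤ Type v} (φ : F ⟶ G) (ψ : G ⟶ H)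
    (hF : H0 F) (hG : H0 G ∧ S1 G ∧ Heps G) (hH0 : H0 H)
    (hH : ∀ ⦃B A A' A'' : Art Λ k⦄ (p' : B ⟶ A') (p'' : B ⟶ A'') (f' : A' ⟶ A) (f'' : A'' ⟶ A)
      (h : IsFibreProd p' p'' f' f''), Function.Surjective f'' → Function.Bijective (cmp H h))
    (hψ : Function.Injective (TangentSpace.map ψ)) :
    IsSmooth (φ ≫ ψ) ↔ (IsSmooth φ ∧ IsSmooth ψ) := by
  have hHinj : ∀ ⦃B A A' A'' : Art Λ k⦄ (p' : B ⟶ A') (p'' : B ⟶ A'') (f' : A' ⟶ A) (f'' : A'' ⟶ A)
      (h : IsFibreProd p' p'' f' f''), Function.Surjective f'' → Function.Injective (cmp H h) :=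
    fun _ _ _ _ p' p'' f' f'' h hs => (hH p' p'' f' f'' h hs).1
  constructor
  · intro hs
    have K : ∀ {B A : Art Λ k} (μ : B ⟶ A), Function.Surjective μ → ∀ y₁ y₂ : G.obj B,
        G.map μ y₁ = G.map μ y₂ → ψ.app B y₁ = ψ.app B y₂ → y₁ = y₂ :=
      fun μ hμ y₁ y₂ h1 h2 => inj_of_surj ψ hG.2.1 hG.2.2 hHinj hψ μ hμ y₁ y₂ h1 h2
    have hφsurj : ∀ A : Art Λ k, Function.Surjective (φ.app A) := by
      intro A y
      obtain ⟨x₀⟩ := hF.1
      have hμ : Function.Surjective (toBase A) := A.res_surjective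
      obtain ⟨x, hx⟩ := hs (toBase A) hμ ⟨(x₀, ψ.app A y), Subsingleton.elim (h := hH0.2) _ _⟩
      have hx2 : (φ ≫ ψ).app A x = ψ.app A y := congrArg (fun z => z.1.2) hx
      exact ⟨x, K (toBase A) hμ _ _ (Subsingleton.elim (h := hG.1.2) _ _) hx2⟩
    constructor
    · rintro B A μ hμ ⟨⟨x, y⟩, hxy⟩
      change φ.app A x = G.map μ y at hxy
      obtain ⟨w, hw⟩ := hs μ hμ ⟨(x, ψ.app B y), by
        change (φ ≫ ψ).app A x = H.map μ (ψ.app B y)
        rw [← NatTrans.naturality_apply, ← hxy]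
        rfl⟩
      have hw1 : F.map μ w = x := congrArg (fun z => z.1.1) hw
      have hw2 : (φ ≫ ψ).app B w = ψ.app B y := congrArg (fun z => z.1.2) hw
      refine ⟨w, ?_⟩
      apply Subtype.ext
      apply Prod.ext
      · exact hw1
      · change φ.app B w = y
        apply K μ hμ
        · rw [← NatTrans.naturality_apply, hw1]
          exact hxy
        · exact hw2
    · rintro B A μ hμ ⟨⟨y, z⟩, hyz⟩
      obtain ⟨x, rfl⟩ := hφsurj A y
      obtain ⟨w, hw⟩ := hs μ hμ ⟨(x, z), hyz⟩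
      have hw1 : F.map μ w = x := congrArg (fun z => z.1.1) hw
      have hw2 : (φ ≫ ψ).app B w = z := congrArg (fun z => z.1.2) hw
      refine ⟨φ.app B w, ?_⟩
      apply Subtype.ext
      apply Prod.ext
      · change G.map μ (φ.app B w) = φ.app A x
        rw [← NatTrans.naturality_apply, hw1]
      · exact hw2
  · rintro ⟨hφ, hψs⟩ B A μ hμ ⟨⟨x, z⟩, hxz⟩
    obtain ⟨y, hy⟩ := hψs μ hμ ⟨(φ.app A x, z), hxz⟩
    have hy1 : G.map μ y = φ.app A x := congrArg (fun z => z.1.1) hy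
    have hy2 : ψ.app B y = z := congrArg (fun z => z.1.2) hy
    obtain ⟨w, hw⟩ := hφ μ hμ ⟨(x, y), hy1.symm⟩
    have hw1 : F.map μ w = x := congrArg (fun z => z.1.1) hw
    have hw2 : φ.app B w = y := congrArg (fun z => z.1.2) hw
    refine ⟨w, ?_⟩
    apply Subtype.ext
    apply Prod.ext
    · exact hw1
    · change ψ.app B (φ.app B w) = z
      rw [hw2, hy2]

theorem exists_lift_hom {B A A' A'' T : Art Λ k} {p' : B ⟶ A'} {p'' : B ⟶ A''} {f' : A' ⟶ A}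
    {f'' : A'' ⟶ A} (h : IsFibreProd p' p'' f' f'') (u' : T ⟶ A') (u'' : T ⟶ A'')
    (hu : u' ≫ f' = u'' ≫ f'') : ∃ u : T ⟶ B, u ≫ p' = u' ∧ u ≫ p'' = u'' := by
  obtain ⟨g, hg1, hg2⟩ := Groth.Agent.H15.ArtFunA.IsFibreProd.exists_lift h (R := T) (resR := T.res)
    ⟨u'.toAlgHom, u'.res_comp⟩ ⟨u''.toAlgHom, u''.res_comp⟩
    (Subtype.ext (congrArg Hom.toAlgHom hu))
  exact ⟨⟨g.1, g.2⟩, hom_ext (congrArg Subtype.val hg1), hom_ext (congrArg Subtype.val hg2)⟩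

lemma dual_mul_eq_zero (a b : DualNumber k) (ha : a.fst = 0) (hb : b.fst = 0) : a * b = 0 := by
  apply TrivSqZeroExt.ext
  · simp [ha]
  · simp [ha, hb]

/-- `ε` as an element of the object `k[ε]`. -/
def epsElt : (dual Λ k : Type u) := (TrivSqZeroExt.inr 1 : DualNumber k)

theorem isSmallExt_toBase_dual : IsSmallExt (toBase (dual Λ k)) := by
  have hker : RingHom.ker (toBase (dual Λ k)).toAlgHom =
      Ideal.span {(epsElt : (dual Λ k : Type u))} := by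
    ext x
    rw [RingHom.mem_ker, Ideal.mem_span_singleton']
    change TrivSqZeroExt.fst (x : DualNumber k) = 0 ↔
      ∃ a : DualNumber k, a * (TrivSqZeroExt.inr 1 : DualNumber k) = (x : DualNumber k)
    constructor
    · intro h
      refine ⟨TrivSqZeroExt.inl (TrivSqZeroExt.snd (x : DualNumber k)), ?_⟩
      apply TrivSqZeroExt.ext
      · simp [h]
      · simp
    · rintro ⟨a, rfl⟩
      simp
  refine ⟨(dual Λ k).res_surjective, ?_, ?_, ?_⟩
  · rw [hker]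
    intro h
    have h1 : (epsElt : (dual Λ k : Type u)) ∈ (⊥ : Ideal (dual Λ k : Type u)) :=
      h ▸ Ideal.subset_span rfl
    rw [Ideal.mem_bot] at h1
    have h2 : TrivSqZeroExt.snd (TrivSqZeroExt.inr 1 : DualNumber k) = TrivSqZeroExt.snd (0 : DualNumber k) :=
      congrArg (fun z : DualNumber k => TrivSqZeroExt.snd z) h1
    simp at h2
  · rw [hker]
    exact ⟨⟨_, rfl⟩⟩
  · rw [eq_bot_iff, Ideal.mul_le]
    intro a ha b hb
    rw [mem_maximalIdeal_iff] at ha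
    rw [RingHom.mem_ker] at hb
    have ha' : TrivSqZeroExt.fst (a : DualNumber k) = 0 := ha
    have hb' : TrivSqZeroExt.fst (b : DualNumber k) = 0 := hb
    rw [Ideal.mem_bot]
    exact dual_mul_eq_zero a b ha' hb'

theorem exists_lift_iff (F : Art Λ k ⥤ Type v) (hS1 : S1 F) (hEps : Heps F)
    {R R₁ R' : Art Λ k} (π₁ : R₁ ⟶ R) (hπ : IsSmallExt π₁) (g : R' ⟶ R)
    (a : F.obj R) (a₁ : F.obj R₁) (a' : F.obj R') (h₁ : F.map π₁ a₁ = a) (h' : F.map g a' = a)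
    (hvers : ∀ (R₀ : Art Λ k), IsSmallExt (toBase R₀) → ∀ b : F.obj R₀, ∃ φ : R ⟶ R₀, F.map φ a = b) :
    (∃ f : R' ⟶ R₁, f ≫ π₁ = g ∧ F.map f a' = a₁) ↔ (∃ f : R' ⟶ R₁, f ≫ π₁ = g) := by
  constructor
  · rintro ⟨f, hf, _⟩
    exact ⟨f, hf⟩
  rintro ⟨f, hf⟩
  obtain ⟨hsurj, hne, hprin, hmk⟩ := hπ
  obtain ⟨t, ht⟩ := hprin.principal
  have hker : RingHom.ker π₁.toAlgHom = Ideal.span {t} := ht
  have ht0 : t ≠ 0 := by
    rintro rfl
    apply hne
    rw [hker]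
    simp
  have htker : t ∈ RingHom.ker π₁.toAlgHom := hker ▸ Ideal.subset_span rfl
  have ht' : t ∈ IsLocalRing.maximalIdeal R₁ := ker_le_maximalIdeal π₁ htker
  have htm : ∀ a ∈ IsLocalRing.maximalIdeal R₁, a * t = 0 := fun a ha => by
    have h3 : a * t ∈ IsLocalRing.maximalIdeal R₁ * RingHom.ker π₁.toAlgHom := Ideal.mul_mem_mul ha htker
    rw [hmk] at h3
    exact h3
  have fp1 := isFibreProd_eps R₁
  have fp2 := isFibreProd_σ π₁ t ht' htm ht0 hker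
  obtain ⟨w, hw⟩ := hS1 _ _ _ _ fp2 hsurj ⟨(F.map f a', a₁), by
    change F.map π₁ (F.map f a') = F.map π₁ a₁
    rw [← Functor.map_comp_apply, hf, h', h₁]⟩
  have hw1 : F.map (p₁ R₁) w = F.map f a' := congrArg (fun z => z.1.1) hw
  have hw2 : F.map (σ t ht' htm) w = a₁ := congrArg (fun z => z.1.2) hw
  obtain ⟨φ, hφ⟩ := hvers (dual Λ k) isSmallExt_toBase_dual (F.map (p₂ R₁) w)
  obtain ⟨χ, hχ1, hχ2⟩ := exists_lift_hom fp1 f (g ≫ φ)
    (by rw [eq_toBase (f ≫ _), eq_toBase ((g ≫ φ) ≫ _)])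
  refine ⟨χ ≫ σ t ht' htm, ?_, ?_⟩
  · rw [Category.assoc, ← fp2.w, ← Category.assoc, hχ1, hf]
  · rw [Functor.map_comp_apply]
    have hχw : F.map χ a' = w := by
      apply (hEps _ _ fp1).1
      apply FibProd.ext
      · change F.map (p₁ R₁) (F.map χ a') = F.map (p₁ R₁) w
        rw [← Functor.map_comp_apply, hχ1, hw1]
      · change F.map (p₂ R₁) (F.map χ a') = F.map (p₂ R₁) w
        rw [← Functor.map_comp_apply, hχ2, Functor.map_comp_apply, h', hφ]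
    rw [hχw, hw2]

end Groth.Agent.H15.ArtSmooth
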