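import Mathlib
import Groth.Agent.H15.ArtEps
import Groth.Agent.H15.ArtSmooth
import Groth.Agent.H15.ArtFunA

universe u v v₁ v₂

open CategoryTheory

namespace Groth.Agent.H15.ArtInd

open ArtFun ArtFun.Art IsLocalRing Groth.Agent.H15.ArtEps Groth.Agent.H15.ArtSmooth

variable {Λ : Type u} {k : Type u} [CommRing Λ] [Field k] [Algebra Λ k]

section Finite

/-- Ideals inside the maximal ideal are finitely generated over `Λ`. -/
theorem fg_restrictScalars [Module.Finite Λ k] (A : Art Λ k) :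
    ∀ I : Ideal A, I ≤ maximalIdeal A → (I.restrictScalars Λ).FG := by
  classical
  obtain ⟨S, hS⟩ := (Module.Finite.fg_top : (⊤ : Submodule Λ k).FG)
  let lift : k → A := Function.surjInv A.res_surjective
  have hlift : ∀ c, A.res (lift c) = c := Function.surjInv_eq A.res_surjective
  apply ideal_induction A (fun I => (I.restrictScalars Λ).FG)
  · rw [Submodule.restrictScalars_bot]
    exact Submodule.fg_bot
  · intro J x hJ hxJ hxm hmx
    let M : Submodule Λ A :=
      J.restrictScalars Λ ⊔ Submodule.span Λ ((fun c => lift c * x) '' (S : Set k))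
    let φ : A →ₗ[Λ] A := LinearMap.mulRight Λ x
    have hφ : ∀ a : A, φ a = a * x := fun a => rfl
    have hN1 : ∀ a ∈ maximalIdeal A, a ∈ M.comap φ := fun a ha =>
      (le_sup_left : J.restrictScalars Λ ≤ M) (hmx a ha)
    have hN2 : ∀ c ∈ S, lift c ∈ M.comap φ := fun c hc =>
      (le_sup_right : _ ≤ M) (Submodule.subset_span ⟨c, hc, rfl⟩)
    have htop : (M.comap φ).map A.res.toLinearMap = ⊤ := by
      rw [eq_top_iff, ← hS, Submodule.span_le]
      intro c hc
      exact ⟨lift c, hN2 c hc, hlift c⟩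
    have hall : ∀ r : A, r * x ∈ M := by
      intro r
      have h1 : A.res r ∈ (M.comap φ).map A.res.toLinearMap := htop ▸ Submodule.mem_top
      obtain ⟨n, hn, hnr⟩ := h1
      have hm : r - n ∈ maximalIdeal A := by
        rw [mem_maximalIdeal_iff, map_sub, sub_eq_zero]
        exact hnr.symm
      have h2 := (M.comap φ).add_mem (hN1 _ hm) hn
      rw [sub_add_cancel] at h2
      exact h2
    have hM : (J ⊔ Ideal.span {x}).restrictScalars Λ = M := by
      apply le_antisymm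
      · intro y hy
        have hy' : y ∈ J ⊔ Ideal.span {x} := hy
        obtain ⟨j, hj, s, hs, rfl⟩ := Submodule.mem_sup.1 hy'
        obtain ⟨r, rfl⟩ := Ideal.mem_span_singleton'.1 hs
        exact M.add_mem ((le_sup_left : J.restrictScalars Λ ≤ M) hj) (hall r)
      · apply sup_le
        · intro y hy
          exact (le_sup_left : J ≤ J ⊔ Ideal.span {x}) hy
        · rw [Submodule.span_le]
          rintro _ ⟨c, _, rfl⟩
          exact (le_sup_right : Ideal.span {x} ≤ J ⊔ Ideal.span {x})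
            (Ideal.mul_mem_left _ _ (Ideal.subset_span rfl))
    change ((J ⊔ Ideal.span {x}).restrictScalars Λ).FG
    rw [hM]
    exact hJ.sup (Submodule.fg_span (S.finite_toSet.image _))

/-- Every object is a finite `Λ`-module. -/
theorem finite_Λ [Module.Finite Λ k] (A : Art Λ k) : Module.Finite Λ A := by
  classical
  obtain ⟨S, hS⟩ := (Module.Finite.fg_top : (⊤ : Submodule Λ k).FG)
  let lift : k → A := Function.surjInv A.res_surjective
  have hlift : ∀ c, A.res (lift c) = c := Function.surjInv_eq A.res_surjective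
  have hm := fg_restrictScalars A (maximalIdeal A) le_rfl
  let M : Submodule Λ A :=
    (maximalIdeal A).restrictScalars Λ ⊔ Submodule.span Λ (lift '' (S : Set k))
  have htop : M.map A.res.toLinearMap = ⊤ := by
    rw [eq_top_iff, ← hS, Submodule.span_le]
    intro c hc
    exact ⟨lift c, (le_sup_right : _ ≤ M) (Submodule.subset_span ⟨c, hc, rfl⟩), hlift c⟩
  have hM : M = ⊤ := by
    rw [eq_top_iff]
    intro r _
    have h1 : A.res r ∈ M.map A.res.toLinearMap := htop ▸ Submodule.mem_top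
    obtain ⟨n, hn, hnr⟩ := h1
    have hm' : r - n ∈ maximalIdeal A := by
      rw [mem_maximalIdeal_iff, map_sub, sub_eq_zero]
      exact hnr.symm
    have h2 := M.add_mem ((le_sup_left : (maximalIdeal A).restrictScalars Λ ≤ M) hm') hn
    rw [sub_add_cancel] at h2
    exact h2
  refine ⟨?_⟩
  rw [← hM]
  exact hm.sup (Submodule.fg_span (S.finite_toSet.image _))

end Finite

section FibreProd

/-- Fibre products along a surjection exist. -/
theorem exists_isFibreProd_of_surjective [IsNoetherianRing Λ] [Module.Finite Λ k] {A A₁ A₂ : Art Λ k}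
    (f₁ : A₁ ⟶ A) (f₂ : A₂ ⟶ A) (hf₂ : Function.Surjective f₂) :
    ∃ (B : Art Λ k) (p₁ : B ⟶ A₁) (p₂ : B ⟶ A₂), IsFibreProd p₁ p₂ f₁ f₂ := by
  have : IsLocalHom f₂.toAlgHom := Art.isLocalHom f₂
  let Bs : Subalgebra Λ (A₁ × A₂) := AlgHom.pullback f₁.toAlgHom f₂.toAlgHom
  have : IsLocalRing Bs := AlgHom.isLocalRing_pullback f₁.toAlgHom f₂.toAlgHom
  have := finite_Λ A₁
  have := finite_Λ A₂
  have : IsNoetherian Λ (A₁ × A₂) := inferInstance
  have : IsNoetherian Λ Bs := isNoetherian_of_injective Bs.val.toLinearMap Subtype.val_injective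
  have : IsNoetherianRing Bs := isNoetherian_of_tower Λ (inferInstance : IsNoetherian Λ Bs)
  have hres : ∀ x : Bs, A₁.res (x : A₁ × A₂).1 = A₂.res (x : A₁ × A₂).2 := fun x => by
    rw [← res_app f₁, ← res_app f₂]
    exact congrArg A.res x.2
  have hmem : ∀ x : Bs, x ∈ maximalIdeal Bs →
      (x : A₁ × A₂).1 ∈ maximalIdeal A₁ ∧ (x : A₁ × A₂).2 ∈ maximalIdeal A₂ := by
    intro x hx
    by_contra hcon
    apply (mem_maximalIdeal x).1 hx
    have h1 : A₁.res (x : A₁ × A₂).1 ≠ 0 := by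
      intro h0
      apply hcon
      exact ⟨(mem_maximalIdeal_iff A₁ _).2 h0, (mem_maximalIdeal_iff A₂ _).2 ((hres x).symm.trans h0)⟩
    have hu1 : IsUnit (x : A₁ × A₂).1 := by
      by_contra h
      exact h1 ((mem_maximalIdeal_iff A₁ _).1 ((mem_maximalIdeal _).2 h))
    have hu2 : IsUnit (x : A₁ × A₂).2 := by
      by_contra h
      exact h1 ((hres x).trans ((mem_maximalIdeal_iff A₂ _).1 ((mem_maximalIdeal _).2 h)))
    exact (AlgHom.isUnit_pullback_mk_iff f₁.toAlgHom f₂.toAlgHom x.2).2 ⟨hu1, hu2⟩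
  have hnil : IsNilpotent (maximalIdeal Bs) := by
    obtain ⟨N₁, h₁⟩ := maximalIdeal_nilpotent A₁
    obtain ⟨N₂, h₂⟩ := maximalIdeal_nilpotent A₂
    refine ⟨N₁ + N₂, ?_⟩
    rw [Ideal.zero_eq_bot, eq_bot_iff]
    let π₁ : Bs →+* A₁ := (AlgHom.pullbackFst f₁.toAlgHom f₂.toAlgHom).toRingHom
    let π₂ : Bs →+* A₂ := (AlgHom.pullbackSnd f₁.toAlgHom f₂.toAlgHom).toRingHom
    have e₁ : (maximalIdeal Bs).map π₁ ≤ maximalIdeal A₁ :=
      Ideal.map_le_iff_le_comap.2 fun x hx => (hmem x hx).1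
    have e₂ : (maximalIdeal Bs).map π₂ ≤ maximalIdeal A₂ :=
      Ideal.map_le_iff_le_comap.2 fun x hx => (hmem x hx).2
    intro x hx
    have hx1 : π₁ x = 0 := by
      have h3 : π₁ x ∈ (maximalIdeal Bs ^ N₁).map π₁ :=
        Ideal.mem_map_of_mem _ (Ideal.pow_le_pow_right (Nat.le_add_right N₁ N₂) hx)
      rw [Ideal.map_pow] at h3
      have h4 := Ideal.pow_right_mono e₁ N₁ h3
      rw [h₁] at h4
      exact h4
    have hx2 : π₂ x = 0 := by
      have h3 : π₂ x ∈ (maximalIdeal Bs ^ N₂).map π₂ :=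
        Ideal.mem_map_of_mem _ (Ideal.pow_le_pow_right (Nat.le_add_left N₂ N₁) hx)
      rw [Ideal.map_pow] at h3
      have h4 := Ideal.pow_right_mono e₂ N₂ h3
      rw [h₂] at h4
      exact h4
    rw [Ideal.mem_bot]
    exact Subtype.ext (Prod.ext hx1 hx2)
  have : IsArtinianRing Bs := (isArtinianRing_iff_isNilpotent_maximalIdeal Bs).2 hnil
  let resB : Bs →ₐ[Λ] k := A₁.res.comp (AlgHom.pullbackFst f₁.toAlgHom f₂.toAlgHom)
  have hresB : Function.Surjective resB := A₁.res_surjective.comp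
    (AlgHom.surjective_pullbackFst_of_surjective f₁.toAlgHom f₂.toAlgHom hf₂)
  let B : Art Λ k := Art.of Bs resB hresB
  let p₁ : B ⟶ A₁ := ⟨AlgHom.pullbackFst f₁.toAlgHom f₂.toAlgHom, rfl⟩
  let p₂ : B ⟶ A₂ := ⟨AlgHom.pullbackSnd f₁.toAlgHom f₂.toAlgHom, AlgHom.ext fun x => (hres x).symm⟩
  refine ⟨B, p₁, p₂, ⟨?_, ?_, ?_⟩⟩
  · exact hom_ext (AlgHom.pullback_comm_sq f₁.toAlgHom f₂.toAlgHom)
  · intro b₁ b₂ h1 h2
    exact Subtype.ext (Prod.ext h1 h2)
  · intro a' a'' h
    exact ⟨⟨(a', a''), h⟩, rfl, rfl⟩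

/-- The first projection of a fibre product along a small extension is a small extension. -/
theorem isSmallExt_fst {B A A₁ A₂ : Art Λ k} {p₁ : B ⟶ A₁} {p₂ : B ⟶ A₂} {f₁ : A₁ ⟶ A} {f₂ : A₂ ⟶ A}
    (h : IsFibreProd p₁ p₂ f₁ f₂) (hf₂ : IsSmallExt f₂) : IsSmallExt p₁ := by
  obtain ⟨hsurj, hne, hprin, hmk⟩ := hf₂
  obtain ⟨t, ht⟩ := hprin.principal
  have hker : RingHom.ker f₂.toAlgHom = Ideal.span {t} := ht
  have ht0 : t ≠ 0 := by
    rintro rfl
    apply hne
    rw [hker]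
    simp
  have htker : t ∈ RingHom.ker f₂.toAlgHom := hker ▸ Ideal.subset_span rfl
  have htm : ∀ a ∈ maximalIdeal A₂, a * t = 0 := fun a ha => by
    have h3 : a * t ∈ maximalIdeal A₂ * RingHom.ker f₂.toAlgHom := Ideal.mul_mem_mul ha htker
    rw [hmk] at h3
    exact h3
  have hft : f₂ t = 0 := RingHom.mem_ker.1 htker
  obtain ⟨b₀, hb₀1, hb₀2⟩ := h.surj 0 t ((map_zero f₁.toAlgHom).trans hft.symm)
  have hp₂m : ∀ a ∈ maximalIdeal B, p₂ a ∈ maximalIdeal A₂ := fun a ha => by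
    rw [mem_maximalIdeal_iff] at ha ⊢
    rw [res_app]
    exact ha
  have hzero : ∀ b : B, p₁ b = 0 → p₂ b = 0 → b = 0 := fun b h1 h2 =>
    h.inj b 0 (h1.trans (map_zero p₁.toAlgHom).symm) (h2.trans (map_zero p₂.toAlgHom).symm)
  have hkerp : RingHom.ker p₁.toAlgHom = Ideal.span {b₀} := by
    apply le_antisymm
    · intro b hb
      have hb' : p₁ b = 0 := RingHom.mem_ker.1 hb
      have h2 : p₂ b ∈ RingHom.ker f₂.toAlgHom := by
        rw [RingHom.mem_ker]
        have h3 := h.w_apply b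
        rw [hb'] at h3
        exact h3.symm.trans (map_zero f₁.toAlgHom)
      rw [hker] at h2
      obtain ⟨a, ha⟩ := Ideal.mem_span_singleton'.1 h2
      obtain ⟨c, hc⟩ := B.res_surjective (A₂.res a)
      have hca : p₂ c - a ∈ maximalIdeal A₂ := by
        rw [mem_maximalIdeal_iff, map_sub, res_app, hc, sub_self]
      have hcb : c * b₀ = b := by
        apply h.inj
        · have e1 : p₁ (c * b₀) = p₁ c * p₁ b₀ := map_mul p₁.toAlgHom c b₀
          rw [e1, hb₀1, mul_zero, hb']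
        · have e1 : p₂ (c * b₀) = p₂ c * p₂ b₀ := map_mul p₂.toAlgHom c b₀
          rw [e1, hb₀2, ← ha]
          have h4 := htm _ hca
          rw [sub_mul, sub_eq_zero] at h4
          exact h4
      rw [← hcb]
      exact Ideal.mul_mem_left _ _ (Ideal.subset_span rfl)
    · rw [Ideal.span_singleton_le_iff_mem, RingHom.mem_ker]
      exact hb₀1
  have hmb₀ : ∀ a ∈ maximalIdeal B, a * b₀ = 0 := fun a ha => by
    apply hzero
    · have e1 : p₁ (a * b₀) = p₁ a * p₁ b₀ := map_mul p₁.toAlgHom a b₀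
      rw [e1, hb₀1, mul_zero]
    · have e1 : p₂ (a * b₀) = p₂ a * p₂ b₀ := map_mul p₂.toAlgHom a b₀
      rw [e1, hb₀2]
      exact htm _ (hp₂m a ha)
  refine ⟨Groth.Agent.H15.ArtFunA.IsFibreProd.surjective_fst h hsurj, ?_, ?_, ?_⟩
  · rw [hkerp]
    intro h0
    rw [Ideal.span_singleton_eq_bot] at h0
    apply ht0
    rw [← hb₀2, h0]
    exact map_zero p₂.toAlgHom
  · rw [hkerp]
    exact ⟨⟨_, rfl⟩⟩
  · rw [hkerp, eq_bot_iff, Ideal.mul_le]
    intro a ha b hb
    obtain ⟨r, rfl⟩ := Ideal.mem_span_singleton'.1 hb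
    rw [Ideal.mem_bot, mul_left_comm, hmb₀ a ha, mul_zero]

end FibreProd

section Induction

theorem isSmallExt_quotFactor {B A : Art Λ k} (μ : B ⟶ A) (hμ : Function.Surjective μ) (J : Ideal B) (x : B)
    (hker : RingHom.ker μ.toAlgHom = J ⊔ Ideal.span {x}) (hxJ : x ∉ J) (_hxm : x ∈ maximalIdeal B)
    (hmx : ∀ a ∈ maximalIdeal B, a * x ∈ J) (hJm : J ≤ maximalIdeal B)
    (hJker : J ≤ RingHom.ker μ.toAlgHom) :
    IsSmallExt (quotFactor hJm μ hJker) := by
  have hqπ : quotMk B J hJm ≫ quotFactor hJm μ hJker = μ := quotMk_quotFactor hJm μ hJker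
  have hπsurj : Function.Surjective (quotFactor hJm μ hJker) := fun a' => by
    obtain ⟨b, rfl⟩ := hμ a'
    exact ⟨quotMk B J hJm b, rfl⟩
  have ht0 : quotMk B J hJm x ≠ 0 := fun h => hxJ (Ideal.Quotient.eq_zero_iff_mem.1 h)
  have ht : ∀ a ∈ maximalIdeal (quot B J hJm), a * quotMk B J hJm x = 0 := by
    intro a ha
    obtain ⟨b, rfl⟩ := quotMk_surjective B J hJm a
    have hb : b ∈ maximalIdeal B := by
      rw [mem_maximalIdeal_iff] at ha ⊢
      rw [← res_app (quotMk B J hJm) b]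
      exact ha
    change Ideal.Quotient.mk J b * Ideal.Quotient.mk J x = 0
    rw [← map_mul]
    exact Ideal.Quotient.eq_zero_iff_mem.2 (hmx b hb)
  have hkerπ : RingHom.ker (quotFactor hJm μ hJker).toAlgHom = Ideal.span {quotMk B J hJm x} := by
    apply le_antisymm
    · intro a ha
      obtain ⟨b, rfl⟩ := quotMk_surjective B J hJm a
      have hb : b ∈ RingHom.ker μ.toAlgHom := by
        rw [RingHom.mem_ker] at ha ⊢
        rw [← hqπ]
        exact ha
      rw [hker] at hb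
      obtain ⟨j, hj, s, hs, rfl⟩ := Submodule.mem_sup.1 hb
      obtain ⟨r, rfl⟩ := Ideal.mem_span_singleton'.1 hs
      have e : quotMk B J hJm (j + r * x) = quotMk B J hJm r * quotMk B J hJm x := by
        change Ideal.Quotient.mk J (j + r * x) = Ideal.Quotient.mk J r * Ideal.Quotient.mk J x
        rw [map_add, map_mul, Ideal.Quotient.eq_zero_iff_mem.2 hj, zero_add]
      rw [e]
      exact Ideal.mul_mem_left _ _ (Ideal.subset_span rfl)
    · rw [Ideal.span_singleton_le_iff_mem, RingHom.mem_ker]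
      have hx : x ∈ RingHom.ker μ.toAlgHom :=
        hker ▸ (le_sup_right : Ideal.span {x} ≤ J ⊔ Ideal.span {x}) (Ideal.subset_span rfl)
      rw [RingHom.mem_ker] at hx
      change (quotMk B J hJm ≫ quotFactor hJm μ hJker).toAlgHom x = 0
      rw [hqπ]
      exact hx
  refine ⟨hπsurj, ?_, ?_, ?_⟩
  · rw [hkerπ]
    intro h0
    rw [Ideal.span_singleton_eq_bot] at h0
    exact ht0 h0
  · rw [hkerπ]
    exact ⟨⟨_, rfl⟩⟩
  · rw [hkerπ, eq_bot_iff, Ideal.mul_le]
    intro a ha b hb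
    obtain ⟨r, rfl⟩ := Ideal.mem_span_singleton'.1 hb
    rw [Ideal.mem_bot, mul_left_comm, ht a ha, mul_zero]

/-- Induction along small extensions: every surjection is a composite of small extensions. -/
theorem surjective_induction
    (P : ∀ ⦃A B : Art Λ k⦄, (B ⟶ A) → Prop)
    (hiso : ∀ ⦃A B : Art Λ k⦄ (e : B ⟶ A), IsIso e → P e)
    (hsmall : ∀ ⦃A B : Art Λ k⦄ (p : B ⟶ A), IsSmallExt p → P p)
    (hcomp : ∀ ⦃A B C : Art Λ k⦄ (p : C ⟶ B) (q : B ⟶ A), P p → P q → P (p ≫ q))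
    ⦃A B : Art Λ k⦄ (f : B ⟶ A) (hf : Function.Surjective f) : P f := by
  have hbij : ∀ ⦃A B : Art Λ k⦄ (e : B ⟶ A), Function.Bijective e → P e := fun A B e he => by
    obtain ⟨g, h1, h2⟩ := exists_inv_of_bijective e he
    exact hiso e ⟨⟨g, h1, h2⟩⟩
  have key : ∀ I : Ideal B, I ≤ maximalIdeal B → ∀ hI : I ≤ maximalIdeal B, P (quotMk B I hI) := by
    apply ideal_induction B (fun I => ∀ hI : I ≤ maximalIdeal B, P (quotMk B I hI))
    · intro hI
      apply hbij
      refine ⟨fun a b hab => ?_, quotMk_surjective B ⊥ hI⟩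
      have h1 : a - b ∈ (⊥ : Ideal B) := Ideal.Quotient.eq.1 hab
      exact sub_eq_zero.1 (Ideal.mem_bot.1 h1)
    · intro J x hPJ hxJ hxm hmx hI
      have hJm : J ≤ maximalIdeal B := le_sup_left.trans hI
      have hkerq : RingHom.ker (quotMk B (J ⊔ Ideal.span {x}) hI).toAlgHom = J ⊔ Ideal.span {x} := by
        ext b
        rw [RingHom.mem_ker]
        change Ideal.Quotient.mk (J ⊔ Ideal.span {x}) b = 0 ↔ b ∈ J ⊔ Ideal.span {x}
        exact Ideal.Quotient.eq_zero_iff_mem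
      have hle : J ≤ RingHom.ker (quotMk B (J ⊔ Ideal.span {x}) hI).toAlgHom := by
        rw [hkerq]
        exact le_sup_left
      have hfac : quotMk B J hJm ≫ quotFactor hJm (quotMk B (J ⊔ Ideal.span {x}) hI) hle =
          quotMk B (J ⊔ Ideal.span {x}) hI := quotMk_quotFactor hJm _ hle
      rw [← hfac]
      exact hcomp _ _ (hPJ hJm) (hsmall _ (isSmallExt_quotFactor _ (quotMk_surjective B _ hI) J x hkerq
        hxJ hxm hmx hJm hle))
  have hK := ker_le_maximalIdeal f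
  have hfac : quotMk B _ hK ≫ quotFactor hK f le_rfl = f := quotMk_quotFactor hK f le_rfl
  rw [← hfac]
  refine hcomp _ _ (key _ hK hK) (hbij _ ⟨?_, ?_⟩)
  · intro a b hab
    obtain ⟨a', rfl⟩ := quotMk_surjective B _ hK a
    obtain ⟨b', rfl⟩ := quotMk_surjective B _ hK b
    have h1 : f a' = f b' := hab
    refine Ideal.Quotient.eq.2 ?_
    rw [RingHom.mem_ker, map_sub, sub_eq_zero]
    exact h1
  · intro a
    obtain ⟨b, rfl⟩ := hf a
    exact ⟨quotMk B _ hK b, rfl⟩

end Induction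

section Raw

variable {F : Art Λ k ⥤ Type v₁} {G : Art Λ k ⥤ Type v₂} (app : ∀ A : Art Λ k, F.obj A → G.obj A)

/-- The lifting property of a (raw) natural family along `μ`. -/
def Lifts {B A : Art Λ k} (μ : B ⟶ A) : Prop :=
  ∀ (x : F.obj A) (y : G.obj B), G.map μ y = app A x → ∃ z : F.obj B, F.map μ z = x ∧ app B z = y

theorem lifts_of_small
    (nat : ∀ {A B : Art Λ k} (f : A ⟶ B) (x : F.obj A), app B (F.map f x) = G.map f (app A x))
    (h : ∀ ⦃B A : Art Λ k⦄ (μ : B ⟶ A), IsSmallExt μ → Lifts app μ)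
    ⦃B A : Art Λ k⦄ (μ : B ⟶ A) (hμ : Function.Surjective μ) : Lifts app μ := by
  refine surjective_induction (fun A B μ => Lifts app μ) ?_ (fun A B p hp => h p hp) ?_ μ hμ
  · intro A B e he x y hy
    have := he
    refine ⟨F.map (inv e) x, ?_, ?_⟩
    · rw [← Functor.map_comp_apply, IsIso.inv_hom_id, Functor.map_id_apply]
    · rw [nat, ← hy, ← Functor.map_comp_apply, IsIso.hom_inv_id, Functor.map_id_apply]
  · intro A B C p q hp hq x y hy
    obtain ⟨zB, hzB1, hzB2⟩ := hq x (G.map p y) (by rw [← Functor.map_comp_apply]; exact hy)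
    obtain ⟨z, hz1, hz2⟩ := hp zB y hzB2.symm
    exact ⟨z, by rw [Functor.map_comp_apply, hz1, hzB1], hz2⟩

/-- Adjusting a lift along a small extension using tangent vectors. -/
theorem adjust
    (nat : ∀ {A B : Art Λ k} (f : A ⟶ B) (x : F.obj A), app B (F.map f x) = G.map f (app A x))
    (hF0 : Subsingleton (F.obj (base Λ k))) (hFeps : Heps F) (hG1 : Hbar G) (hGeps : Heps G)
    (hd : Function.Surjective (app (dual Λ k)))
    {A' A : Art Λ k} (μ : A' ⟶ A) (hμ : IsSmallExt μ) (x' : F.obj A') (y' : G.obj A')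
    (h : G.map μ y' = G.map μ (app A' x')) :
    ∃ x'' : F.obj A', app A' x'' = y' ∧ F.map μ x'' = F.map μ x' := by
  obtain ⟨hsurj, hne, hprin, hmk⟩ := hμ
  obtain ⟨t, ht⟩ := hprin.principal
  have hker : RingHom.ker μ.toAlgHom = Ideal.span {t} := ht
  have ht0 : t ≠ 0 := by
    rintro rfl
    apply hne
    rw [hker]
    simp
  have htker : t ∈ RingHom.ker μ.toAlgHom := hker ▸ Ideal.subset_span rfl
  have ht' : t ∈ maximalIdeal A' := ker_le_maximalIdeal μ htker
  have htm : ∀ a ∈ maximalIdeal A', a * t = 0 := fun a ha => by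
    have h3 : a * t ∈ maximalIdeal A' * RingHom.ker μ.toAlgHom := Ideal.mul_mem_mul ha htker
    rw [hmk] at h3
    exact h3
  have fp1 := isFibreProd_eps A'
  have fp2 := isFibreProd_σ μ t ht' htm ht0 hker
  obtain ⟨w, hw⟩ := hG1 _ _ _ _ fp2 ⟨hsurj, hne, hprin, hmk⟩ ⟨(app A' x', y'), h.symm⟩
  have hw1 : G.map (p₁ A') w = app A' x' := congrArg (fun z => z.1.1) hw
  have hw2 : G.map (σ t ht' htm) w = y' := congrArg (fun z => z.1.2) hw
  obtain ⟨u, hu⟩ := hd (G.map (p₂ A') w)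
  obtain ⟨w', hw'⟩ := (hFeps _ _ fp1).2 ⟨(x', u), Subsingleton.elim _ _⟩
  have hw'1 : F.map (p₁ A') w' = x' := congrArg (fun z => z.1.1) hw'
  have hw'2 : F.map (p₂ A') w' = u := congrArg (fun z => z.1.2) hw'
  have hww : app _ w' = w := by
    apply (hGeps _ _ fp1).1
    apply FibProd.ext
    · change G.map (p₁ A') (app _ w') = G.map (p₁ A') w
      rw [← nat, hw'1, hw1]
    · change G.map (p₂ A') (app _ w') = G.map (p₂ A') w
      rw [← nat, hw'2, hu]
  refine ⟨F.map (σ t ht' htm) w', ?_, ?_⟩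
  · rw [nat, hww, hw2]
  · rw [← Functor.map_comp_apply, ← fp2.w, Functor.map_comp_apply, hw'1]

end Raw

section Smooth

variable {F G : Art Λ k ⥤ Type v}

lemma relCmp_surjective_iff (η : F ⟶ G) {B A : Art Λ k} (μ : B ⟶ A) :
    Function.Surjective (relCmp η μ) ↔ Lifts (fun A x => η.app A x) μ := by
  constructor
  · intro h x y hy
    obtain ⟨z, hz⟩ := h ⟨(x, y), hy.symm⟩
    exact ⟨z, congrArg (fun t => t.1.1) hz, congrArg (fun t => t.1.2) hz⟩
  · intro h w
    obtain ⟨z, h1, h2⟩ := h w.1.1 w.1.2 w.2.symm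
    exact ⟨z, Subtype.ext (Prod.ext h1 h2)⟩

theorem isSmooth_of_small (η : F ⟶ G)
    (h : ∀ ⦃B A : Art Λ k⦄ (μ : B ⟶ A), IsSmallExt μ → Function.Surjective (relCmp η μ)) :
    IsSmooth η := by
  intro B A μ hμ
  rw [relCmp_surjective_iff]
  exact lifts_of_small (fun A x => η.app A x) (fun f x => NatTrans.naturality_apply η f x)
    (fun B A μ hμ => (relCmp_surjective_iff η μ).1 (h μ hμ)) μ hμ

end Smooth

section Decomp

theorem fibre_decomp [IsNoetherianRing Λ] [Module.Finite Λ k] {B A A' C B₀ : Art Λ k} {p' : B ⟶ A'}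
    {p'' : B ⟶ C} {f' : A' ⟶ A} {p : C ⟶ B₀} {q : B₀ ⟶ A} (h : IsFibreProd p' p'' f' (p ≫ q))
    (hq : Function.Surjective q) :
    ∃ (B₁ : Art Λ k) (r' : B₁ ⟶ A') (r'' : B₁ ⟶ B₀) (s : B ⟶ B₁),
      IsFibreProd r' r'' f' q ∧ IsFibreProd s p'' r'' p ∧ s ≫ r' = p' := by
  obtain ⟨B₁, r', r'', h₁⟩ := exists_isFibreProd_of_surjective f' q hq
  obtain ⟨s, hs1, hs2⟩ := exists_lift_hom h₁ p' (p'' ≫ p) (by rw [h.w, Category.assoc])
  have e : ∀ b : B, r' (s b) = p' b := fun b => congrArg (fun t : B ⟶ A' => t b) hs1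
  have e2 : ∀ b : B, r'' (s b) = p (p'' b) := fun b => congrArg (fun t : B ⟶ B₀ => t b) hs2
  refine ⟨B₁, r', r'', s, h₁, ⟨hs2, ?_, ?_⟩, hs1⟩
  · intro b₁ b₂ e1 e3
    refine h.inj _ _ ?_ e3
    rw [← e b₁, ← e b₂, e1]
  · intro b₁ c hc
    obtain ⟨b, hb1, hb2⟩ := h.surj (r' b₁) c (by
      rw [h₁.w_apply b₁, hc]
      rfl)
    refine ⟨b, ?_, hb2⟩
    apply h₁.inj
    · rw [e b, hb1]
    · rw [e2 b, hb2, hc]

variable [IsNoetherianRing Λ] [Module.Finite Λ k] (F : Art Λ k ⥤ Type v)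

omit [IsNoetherianRing Λ] [Module.Finite Λ k] in
private lemma iso_aux {A A'' : Art Λ k} (e : A'' ⟶ A) [IsIso e] :
    Function.Injective e ∧ Function.Surjective e ∧ Function.Injective (F.map e) := by
  have h1 : ∀ a : A'', (inv e) (e a) = a := fun a =>
    congrArg (fun t : A'' ⟶ A'' => t a) (IsIso.hom_inv_id e)
  refine ⟨fun a b hab => ?_, fun a => ⟨(inv e) a, congrArg (fun t : A ⟶ A => t a) (IsIso.inv_hom_id e)⟩,
    fun a b hab => ?_⟩
  · rw [← h1 a, ← h1 b, hab]
  · have h2 := congrArg (F.map (inv e)) hab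
    rwa [← Functor.map_comp_apply, ← Functor.map_comp_apply, IsIso.hom_inv_id, Functor.map_id_apply,
      Functor.map_id_apply] at h2

theorem cmp_surj_of_small (hF : Hbar F) : S1 F := by
  let P : ∀ ⦃A A'' : Art Λ k⦄, (A'' ⟶ A) → Prop := fun A A'' f'' =>
    Function.Surjective f'' ∧ ∀ ⦃B A' : Art Λ k⦄ (p' : B ⟶ A') (p'' : B ⟶ A'') (f' : A' ⟶ A)
      (h : IsFibreProd p' p'' f' f''), Function.Surjective (cmp F h)
  have key : ∀ ⦃A A'' : Art Λ k⦄ (f'' : A'' ⟶ A), Function.Surjective f'' → P f'' := by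
    apply surjective_induction P
    · intro A A'' e he
      have := he
      obtain ⟨einj, esurj, hinjF⟩ := iso_aux F e
      refine ⟨esurj, ?_⟩
      intro B A' p' p'' f' h
      have hp'bij : Function.Bijective p' :=
        ⟨fun b₁ b₂ hb => h.inj _ _ hb (einj (by rw [← h.w_apply, ← h.w_apply, hb])),
          Groth.Agent.H15.ArtFunA.IsFibreProd.surjective_fst h esurj⟩
      obtain ⟨g, hg1, hg2⟩ := exists_inv_of_bijective p' hp'bij
      rintro ⟨⟨x', x''⟩, hx⟩
      refine ⟨F.map g x', ?_⟩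
      apply FibProd.ext
      · change F.map p' (F.map g x') = x'
        rw [← Functor.map_comp_apply, hg2, Functor.map_id_apply]
      · change F.map p'' (F.map g x') = x''
        apply hinjF
        have e1 : F.map e (F.map p'' (F.map g x')) = F.map (g ≫ p'' ≫ e) x' := by
          rw [Functor.map_comp_apply, Functor.map_comp_apply]
        have e2 : g ≫ p'' ≫ e = f' := by
          rw [← h.w, ← Category.assoc, hg2, Category.id_comp]
        rw [e1, e2]
        exact hx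
    · intro A A'' p hp
      exact ⟨hp.1, fun B A' p' p'' f' h => hF p' p'' f' p h hp⟩
    · intro A B₀ C p q hp hq
      refine ⟨hq.1.comp hp.1, ?_⟩
      intro B A' p' p'' f' h
      obtain ⟨B₁, r', r'', s, h₁, h₂, hs⟩ := fibre_decomp h hq.1
      rintro ⟨⟨x', x''⟩, hx⟩
      obtain ⟨z₁, hz₁⟩ := hq.2 r' r'' f' h₁ ⟨(x', F.map p x''), by
        change F.map f' x' = F.map q (F.map p x'')
        rw [← Functor.map_comp_apply]
        exact hx⟩
      have hz₁1 : F.map r' z₁ = x' := congrArg (fun z => z.1.1) hz₁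
      have hz₁2 : F.map r'' z₁ = F.map p x'' := congrArg (fun z => z.1.2) hz₁
      obtain ⟨z, hz⟩ := hp.2 s p'' r'' h₂ ⟨(z₁, x''), hz₁2⟩
      have hz1 : F.map s z = z₁ := congrArg (fun z => z.1.1) hz
      have hz2 : F.map p'' z = x'' := congrArg (fun z => z.1.2) hz
      refine ⟨z, ?_⟩
      apply FibProd.ext
      · change F.map p' z = x'
        rw [← hs, Functor.map_comp_apply, hz1, hz₁1]
      · exact hz2
  intro B A A' A'' p' p'' f' f'' h hf''
  exact (key f'' hf'').2 p' p'' f' h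

theorem cmp_inj_of_small
    (hF : ∀ ⦃B A A' A'' : Art Λ k⦄ (p' : B ⟶ A') (p'' : B ⟶ A'') (f' : A' ⟶ A) (f'' : A'' ⟶ A)
      (h : IsFibreProd p' p'' f' f''), IsSmallExt f'' → Function.Injective (cmp F h)) :
    ∀ ⦃B A A' A'' : Art Λ k⦄ (p' : B ⟶ A') (p'' : B ⟶ A'') (f' : A' ⟶ A) (f'' : A'' ⟶ A)
      (h : IsFibreProd p' p'' f' f''), Function.Surjective f'' → Function.Injective (cmp F h) := by
  let P : ∀ ⦃A A'' : Art Λ k⦄, (A'' ⟶ A) → Prop := fun A A'' f'' =>
    Function.Surjective f'' ∧ ∀ ⦃B A' : Art Λ k⦄ (p' : B ⟶ A') (p'' : B ⟶ A'') (f' : A' ⟶ A)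
      (h : IsFibreProd p' p'' f' f''), Function.Injective (cmp F h)
  have key : ∀ ⦃A A'' : Art Λ k⦄ (f'' : A'' ⟶ A), Function.Surjective f'' → P f'' := by
    apply surjective_induction P
    · intro A A'' e he
      have := he
      obtain ⟨einj, esurj, hinjF⟩ := iso_aux F e
      refine ⟨esurj, ?_⟩
      intro B A' p' p'' f' h
      have hp'bij : Function.Bijective p' :=
        ⟨fun b₁ b₂ hb => h.inj _ _ hb (einj (by rw [← h.w_apply, ← h.w_apply, hb])),
          Groth.Agent.H15.ArtFunA.IsFibreProd.surjective_fst h esurj⟩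
      obtain ⟨g, hg1, hg2⟩ := exists_inv_of_bijective p' hp'bij
      intro z₁ z₂ hz
      have h1 : F.map p' z₁ = F.map p' z₂ := congrArg (fun z => z.1.1) hz
      have h2 := congrArg (F.map g) h1
      rwa [← Functor.map_comp_apply, ← Functor.map_comp_apply, hg1, Functor.map_id_apply,
        Functor.map_id_apply] at h2
    · intro A A'' p hp
      exact ⟨hp.1, fun B A' p' p'' f' h => hF p' p'' f' p h hp⟩
    · intro A B₀ C p q hp hq
      refine ⟨hq.1.comp hp.1, ?_⟩
      intro B A' p' p'' f' h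
      obtain ⟨B₁, r', r'', s, h₁, h₂, hs⟩ := fibre_decomp h hq.1
      intro z₁ z₂ hz
      have h1 : F.map p' z₁ = F.map p' z₂ := congrArg (fun z => z.1.1) hz
      have h2 : F.map p'' z₁ = F.map p'' z₂ := congrArg (fun z => z.1.2) hz
      have h3 : F.map s z₁ = F.map s z₂ := by
        apply hq.2 r' r'' f' h₁
        apply FibProd.ext
        · change F.map r' (F.map s z₁) = F.map r' (F.map s z₂)
          rw [← Functor.map_comp_apply, ← Functor.map_comp_apply, hs, h1]
        · change F.map r'' (F.map s z₁) = F.map r'' (F.map s z₂)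
          rw [← Functor.map_comp_apply, ← Functor.map_comp_apply, h₂.w, Functor.map_comp_apply,
            Functor.map_comp_apply, h2]
      apply hp.2 s p'' r'' h₂
      apply FibProd.ext
      · exact h3
      · exact h2
  intro B A A' A'' p' p'' f' f'' h hf''
  exact (key f'' hf'').2 p' p'' f' h

end Decomp

end Groth.Agent.H15.ArtInd
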