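import Mathlib
set_option autoImplicit false
universe u v
namespace Groth.Agent.H15.AdicProj
open AdicCompletion

theorem isAdicComplete_pi {A : Type u} [CommRing A] (I : Ideal A) [IsAdicComplete I A] (n : ℕ) :
    IsAdicComplete I (Fin n → A) := by
  classical
  rw [← AdicCompletion.of_bijective_iff]
  have h : ∀ x : Fin n → A, piEquivOfFintype I (fun _ : Fin n => A) (of I (Fin n → A) x) =
      fun j => of I A (x j) := by
    intro x
    ext1 j
    rw [piEquivOfFintype_apply]
    simp [AdicCompletion.pi, AdicCompletion.map_of]
  have hb : Function.Bijective (fun x : Fin n → A => fun j => of I A (x j)) := by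
    have h1 : Function.Bijective (of I A) := AdicCompletion.of_bijective_iff.mpr inferInstance
    constructor
    · intro x y hxy
      funext j
      exact h1.1 (congrFun hxy j)
    · intro y
      choose x hx using fun j => h1.2 (y j)
      exact ⟨x, funext hx⟩
  have : (fun x : Fin n → A => fun j => of I A (x j)) =
      (piEquivOfFintype I (fun _ : Fin n => A)) ∘ (of I (Fin n → A)) := by
    funext x
    exact (h x).symm
  rw [this] at hb
  exact (Function.Bijective.of_comp_iff' (piEquivOfFintype I (fun _ : Fin n => A)).bijective _).mp hb

theorem isAdicComplete_of_finite_projective {A : Type u} [CommRing A] (I : Ideal A) [IsAdicComplete I A]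
    (M : Type v) [AddCommGroup M] [Module A M] [Module.Finite A M] [Module.Projective A M] :
    IsAdicComplete I M := by
  obtain ⟨n, f, g, -, -, hfg⟩ := Module.Finite.exists_comp_eq_id_of_projective A M
  have hn := isAdicComplete_pi I n
  have h1 : Function.Bijective (of I (Fin n → A)) := AdicCompletion.of_bijective_iff.mpr hn
  rw [← AdicCompletion.of_bijective_iff]
  constructor
  · intro x y hxy
    have : of I (Fin n → A) (g x) = of I (Fin n → A) (g y) := by
      rw [← AdicCompletion.map_of, ← AdicCompletion.map_of, hxy]
    have h2 := h1.1 this
    have := congrArg f h2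
    simpa [← LinearMap.comp_apply, hfg] using this
  · intro y
    obtain ⟨a, ha⟩ := h1.2 (AdicCompletion.map I g y)
    refine ⟨f a, ?_⟩
    rw [← AdicCompletion.map_of, ha, AdicCompletion.map_comp_apply, hfg, AdicCompletion.map_id]
    rfl
end Groth.Agent.H15.AdicProj
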