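import Mathlib
set_option autoImplicit false

namespace Groth.Agent.H15.AltSum

open Finset

theorem alt_choose (k : ℕ) (hk : 2 ≤ k) :
    (∑ i ∈ Finset.Ico 1 k, (-1 : ℚ) ^ (i - 1) * (k.choose i : ℚ)) + (-1 : ℚ) ^ (k - 1) = 1 := by
  have h := Int.alternating_sum_range_choose (n := k)
  rw [if_neg (by omega)] at h
  have hq : (∑ i ∈ range (k + 1), ((-1 : ℚ) ^ i * (k.choose i : ℚ))) = 0 := by
    have := congrArg (fun z : ℤ => (z : ℚ)) h
    simpa using this
  rw [Finset.range_eq_Ico, Finset.sum_Ico_succ_top (by omega), Finset.sum_eq_sum_Ico_succ_bot (by omega)] at hq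
  simp only [pow_zero, Nat.choose_zero_right, Nat.cast_one, mul_one, Nat.choose_self, zero_add] at hq
  have h1 : ∑ i ∈ Finset.Ico 1 k, (-1 : ℚ) ^ (i - 1) * (k.choose i : ℚ) =
      -∑ i ∈ Finset.Ico 1 k, (-1 : ℚ) ^ i * (k.choose i : ℚ) := by
    rw [← Finset.sum_neg_distrib]
    apply Finset.sum_congr rfl
    intro i hi
    have hi1 : 1 ≤ i := (Finset.mem_Ico.mp hi).1
    obtain ⟨j, rfl⟩ : ∃ j, i = j + 1 := ⟨i - 1, by omega⟩
    simp [pow_succ]
  have h2 : (-1 : ℚ) ^ (k - 1) = -(-1 : ℚ) ^ k := by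
    obtain ⟨j, rfl⟩ : ∃ j, k = j + 1 := ⟨k - 1, by omega⟩
    simp [pow_succ]
  rw [h1, h2]
  linarith

theorem altSum (R : Type*) [CommRing R] [Algebra ℚ R] (y : R)
    (c : ℕ → R) (hc : ∀ k : ℕ, c k = ((Nat.factorial k : ℚ)⁻¹) • y ^ k)
    (k : ℕ) (hk : 2 ≤ k) :
    (∑ i ∈ Finset.Ico 1 k, (-1 : R) ^ (i - 1) * c i * c (k - i)) + (-1 : R) ^ (k - 1) * c k = c k := by
  have hterm : ∀ i ∈ Finset.Ico 1 k, (-1 : R) ^ (i - 1) * c i * c (k - i) =
      ((-1 : ℚ) ^ (i - 1) * (k.choose i : ℚ) * (Nat.factorial k : ℚ)⁻¹) • y ^ k := by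
    intro i hi
    have hik : i ≤ k := (Finset.mem_Ico.mp hi).2.le
    rw [hc i, hc (k - i)]
    have hpow : y ^ k = y ^ i * y ^ (k - i) := by rw [← pow_add]; congr 1; omega
    have hch : (k.choose i : ℚ) * (Nat.factorial k : ℚ)⁻¹ =
        (Nat.factorial i : ℚ)⁻¹ * (Nat.factorial (k - i) : ℚ)⁻¹ := by
      have := Nat.choose_mul_factorial_mul_factorial hik
      have h1 : (Nat.factorial i : ℚ) ≠ 0 := by exact_mod_cast Nat.factorial_ne_zero i
      have h2 : (Nat.factorial (k - i) : ℚ) ≠ 0 := by exact_mod_cast Nat.factorial_ne_zero _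
      have h3 : (Nat.factorial k : ℚ) ≠ 0 := by exact_mod_cast Nat.factorial_ne_zero _
      have h4 : (k.choose i : ℚ) * (Nat.factorial i : ℚ) * (Nat.factorial (k - i) : ℚ) =
          (Nat.factorial k : ℚ) := by exact_mod_cast this
      field_simp
      linarith
    rw [mul_assoc ((-1 : ℚ) ^ (i - 1)), hch, hpow]
    simp only [Algebra.smul_def, map_mul, map_pow, map_neg, map_one]
    ring
  rw [Finset.sum_congr rfl hterm, ← Finset.sum_smul, hc k]
  have h2 : (-1 : R) ^ (k - 1) * ((Nat.factorial k : ℚ)⁻¹ • y ^ k) =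
      ((-1 : ℚ) ^ (k - 1) * (Nat.factorial k : ℚ)⁻¹) • y ^ k := by
    simp only [Algebra.smul_def, map_mul, map_pow, map_neg, map_one]
    ring
  rw [h2, ← add_smul]
  congr 1
  have := alt_choose k hk
  rw [← Finset.sum_mul, ← add_mul, this, one_mul]

end Groth.Agent.H15.AltSum
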