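import Mathlib
import Groth.Prelude.Def_W4c2arithlefschetzNode
import Groth.Agent.S15315

set_option autoImplicit false
universe u

open PowerSeries

namespace Groth.Agent.H15.ArLefPS

section

variable {B : Type u} [CommRing B] [IsDomain B] [IsDiscreteValuationRing B] {π : B}

local notation "K" => IsLocalRing.ResidueField B
local notation "φ" => PowerSeries.map (IsLocalRing.residue B)

theorem map_C_pi (hπ : Irreducible π) : φ (C π : B⟦X⟧) = 0 := by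
  rw [PowerSeries.map_C]
  have : IsLocalRing.residue B π = 0 := by
    rw [IsLocalRing.residue_eq_zero_iff]
    exact hπ.not_isUnit
  rw [this, map_zero]

theorem dvd_of_map_eq_zero (hπ : Irreducible π) (r : B⟦X⟧) (h : φ r = 0) : (C π : B⟦X⟧) ∣ r := by
  have h1 : ∀ n, π ∣ coeff n r := by
    intro n
    have h2 : IsLocalRing.residue B (coeff n r) = 0 := by
      have := congrArg (coeff n) h
      rw [PowerSeries.coeff_map, map_zero] at this
      exact this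
    rw [IsLocalRing.residue_eq_zero_iff, hπ.maximalIdeal_eq, Ideal.mem_span_singleton] at h2
    exact h2
  choose c hc using h1
  refine ⟨PowerSeries.mk c, ?_⟩
  ext n
  rw [PowerSeries.coeff_C_mul, PowerSeries.coeff_mk, hc]

theorem map_eq_zero_iff (hπ : Irreducible π) (r : B⟦X⟧) : φ r = 0 ↔ (C π : B⟦X⟧) ∣ r := by
  constructor
  · exact dvd_of_map_eq_zero hπ r
  · rintro ⟨s, rfl⟩
    rw [map_mul, map_C_pi hπ, zero_mul]

theorem prime_C_pi (hπ : Irreducible π) : Prime (C π : B⟦X⟧) := by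
  refine ⟨?_, ?_, ?_⟩
  · intro h
    have : (C π : B⟦X⟧) = C 0 := by rw [h, map_zero]
    exact hπ.ne_zero (PowerSeries.C_injective this)
  · intro h
    have h1 := h.map (φ : B⟦X⟧ →+* K⟦X⟧)
    rw [map_C_pi hπ] at h1
    exact not_isUnit_zero h1
  · intro x y hxy
    rw [← map_eq_zero_iff hπ] at hxy ⊢
    rw [← map_eq_zero_iff hπ]
    rw [map_mul] at hxy
    exact mul_eq_zero.mp hxy

end


section Fix

variable {B : Type u} [CommRing B] [IsDomain B] [IsDiscreteValuationRing B] {π : B}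

local notation "K" => IsLocalRing.ResidueField B
local notation "φ" => PowerSeries.map (IsLocalRing.residue B)

theorem mem_of_forall_mem_sup_pow (I₀ : Ideal B⟦X⟧) (x : B⟦X⟧)
    (h : ∀ N : ℕ, x ∈ I₀ ⊔ IsLocalRing.maximalIdeal B⟦X⟧ ^ N) : x ∈ I₀ := by
  have hkr := Ideal.iInf_pow_smul_eq_bot_of_isLocalRing (M := B⟦X⟧ ⧸ I₀)
    (IsLocalRing.maximalIdeal B⟦X⟧) Ideal.IsPrime.ne_top'
  have hx : Ideal.Quotient.mk I₀ x ∈
      ⨅ i, IsLocalRing.maximalIdeal B⟦X⟧ ^ i • (⊤ : Submodule B⟦X⟧ (B⟦X⟧ ⧸ I₀)) := by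
    rw [Submodule.mem_iInf]
    intro N
    obtain ⟨y, hy, z, hz, hyz⟩ := Submodule.mem_sup.mp (h N)
    have h1 : Ideal.Quotient.mk I₀ x = z • (Ideal.Quotient.mk I₀ 1) := by
      rw [← hyz, map_add, Ideal.Quotient.eq_zero_iff_mem.mpr hy, zero_add]
      change _ = Ideal.Quotient.mk I₀ (z * 1)
      rw [mul_one]
    rw [h1]
    exact Submodule.smul_mem_smul hz trivial
  rw [hkr, Submodule.mem_bot] at hx
  exact Ideal.Quotient.eq_zero_iff_mem.mp hx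

theorem fixIdeal_eq (j i : ℕ) (γ : B) (hγ : IsUnit γ)
    (σ : B⟦X⟧ ≃+* B⟦X⟧)
    (hσB : ∀ b : B, σ (C b) - C b ∈ Ideal.span ({(C (π ^ j) : B⟦X⟧)} : Set B⟦X⟧))
    (hσπ : σ (C π) = C (π + γ * π ^ j))
    (f : B⟦X⟧) (hf : σ X - X = C (π ^ i) * f) :
    ArLef.fixIdeal σ = Ideal.span ({(C π : B⟦X⟧) ^ j, (C π : B⟦X⟧) ^ i * f} : Set B⟦X⟧) := by
  set I₀ : Ideal B⟦X⟧ := Ideal.span ({(C π : B⟦X⟧) ^ j, (C π : B⟦X⟧) ^ i * f} : Set B⟦X⟧) with hI₀
  have hpj : (C π : B⟦X⟧) ^ j ∈ I₀ := Ideal.subset_span (by simp)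
  have hpf : (C π : B⟦X⟧) ^ i * f ∈ I₀ := Ideal.subset_span (by simp)
  apply le_antisymm
  · -- every difference lies in I₀
    rw [ArLef.fixIdeal, Ideal.span_le]
    rintro _ ⟨r, rfl⟩
    change σ r - r ∈ I₀
    apply mem_of_forall_mem_sup_pow
    intro N
    induction N generalizing r with
    | zero => rw [pow_zero, Ideal.one_eq_top, sup_top_eq]; trivial
    | succ N ih =>
      have hX : σ X ∈ IsLocalRing.maximalIdeal B⟦X⟧ := by
        rw [IsLocalRing.mem_maximalIdeal, mem_nonunits_iff]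
        intro hu
        have h1 : IsUnit (σ.symm (σ X)) := hu.map σ.symm
        rw [RingEquiv.symm_apply_apply] at h1
        have := PowerSeries.isUnit_constantCoeff _ h1
        rw [PowerSeries.constantCoeff_X] at this
        exact not_isUnit_zero this
      have hdec := PowerSeries.eq_shift_mul_X_add_const r
      set r' : B⟦X⟧ := PowerSeries.mk fun p => coeff (p + 1) r with hr'
      set c : B := constantCoeff r with hc
      have key : σ r - r = (σ r' - r') * σ X + r' * (σ X - X) + (σ (C c) - C c) := by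
        conv_lhs => rw [hdec]
        rw [map_add, map_mul]
        ring
      rw [key]
      refine Ideal.add_mem _ (Ideal.add_mem _ ?_ ?_) ?_
      · obtain ⟨y, hy, z, hz, hyz⟩ := Submodule.mem_sup.mp (ih r')
        rw [← hyz, add_mul]
        refine Ideal.add_mem _ (Ideal.mem_sup_left (Ideal.mul_mem_right _ _ hy))
          (Ideal.mem_sup_right ?_)
        rw [pow_succ]
        exact Ideal.mul_mem_mul hz hX
      · refine Ideal.mem_sup_left ?_
        rw [hf, map_pow]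
        exact Ideal.mul_mem_left _ _ hpf
      · refine Ideal.mem_sup_left ?_
        obtain ⟨u, hu⟩ := Ideal.mem_span_singleton'.mp (hσB c)
        rw [← hu, map_pow]
        exact Ideal.mul_mem_left _ _ hpj
  · rw [hI₀, Ideal.span_le]
    intro x hx
    rcases hx with rfl | rfl
    · have h1 : σ (C π) - C π ∈ ArLef.fixIdeal σ := Ideal.subset_span ⟨_, rfl⟩
      rw [hσπ, map_add, add_sub_cancel_left, map_mul, map_pow] at h1
      obtain ⟨δ, hδ⟩ := hγ.exists_left_inv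
      have h2 : (C π : B⟦X⟧) ^ j = C δ * (C γ * (C π : B⟦X⟧) ^ j) := by
        rw [← mul_assoc, ← map_mul, hδ, map_one, one_mul]
      change (C π : B⟦X⟧) ^ j ∈ ArLef.fixIdeal σ
      rw [h2]
      exact Ideal.mul_mem_left _ _ h1
    · have h1 : σ X - X ∈ ArLef.fixIdeal σ := Ideal.subset_span ⟨_, rfl⟩
      rw [hf, map_pow] at h1
      exact h1

theorem colon_eq (hπ : Irreducible π) (j i : ℕ) (hij : i ≤ j) (f : B⟦X⟧) :
    (Ideal.span ({(C π : B⟦X⟧) ^ j, (C π : B⟦X⟧) ^ i * f} : Set B⟦X⟧)).colon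
        ({(C π : B⟦X⟧) ^ i} : Set B⟦X⟧) =
      Ideal.span ({(C π : B⟦X⟧) ^ (j - i), f} : Set B⟦X⟧) := by
  have hp0 : (C π : B⟦X⟧) ^ i ≠ 0 := pow_ne_zero _ (prime_C_pi hπ).ne_zero
  ext r
  rw [Submodule.mem_colon_singleton, smul_eq_mul, Ideal.mem_span_pair, Ideal.mem_span_pair]
  constructor
  · rintro ⟨u, v, h⟩
    refine ⟨u, v, ?_⟩
    apply mul_left_cancel₀ hp0
    have hj : (C π : B⟦X⟧) ^ j = (C π : B⟦X⟧) ^ i * (C π : B⟦X⟧) ^ (j - i) := by
      rw [← pow_add, Nat.add_sub_cancel' hij]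
    rw [hj] at h
    linear_combination h
  · rintro ⟨u, v, h⟩
    refine ⟨u, v, ?_⟩
    have hj : (C π : B⟦X⟧) ^ j = (C π : B⟦X⟧) ^ i * (C π : B⟦X⟧) ^ (j - i) := by
      rw [← pow_add, Nat.add_sub_cancel' hij]
    rw [hj, ← h]
    ring

theorem isSMulRegular_quot (hπ : Irreducible π) (f : B⟦X⟧) (hfπ : ¬ ((C π : B⟦X⟧) ∣ f)) :
    IsSMulRegular (B⟦X⟧ ⧸ Ideal.span ({f} : Set B⟦X⟧)) (C π : B⟦X⟧) := by
  rw [isSMulRegular_iff_right_eq_zero_of_smul]
  intro m hm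
  obtain ⟨r, rfl⟩ := Ideal.Quotient.mk_surjective m
  have h1 : (C π : B⟦X⟧) * r ∈ Ideal.span ({f} : Set B⟦X⟧) := by
    rw [← Ideal.Quotient.eq_zero_iff_mem]
    exact hm
  rw [Ideal.mem_span_singleton] at h1
  obtain ⟨v, hv⟩ := h1
  have h2 : (C π : B⟦X⟧) ∣ f * v := ⟨r, hv.symm⟩
  rcases (prime_C_pi hπ).dvd_or_dvd h2 with h3 | ⟨v', rfl⟩
  · exact absurd h3 hfπ
  · rw [Ideal.Quotient.eq_zero_iff_mem, Ideal.mem_span_singleton]
    refine ⟨v', ?_⟩
    apply mul_left_cancel₀ (prime_C_pi hπ).ne_zero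
    rw [hv]
    ring

theorem length_pow (hπ : Irreducible π) (f : B⟦X⟧) (hfπ : ¬ ((C π : B⟦X⟧) ∣ f)) (n : ℕ) :
    Module.length B⟦X⟧ (B⟦X⟧ ⧸ Ideal.span ({(C π : B⟦X⟧) ^ n, f} : Set B⟦X⟧)) =
      (n : ℕ∞) * Module.length B⟦X⟧ (B⟦X⟧ ⧸ Ideal.span ({(C π : B⟦X⟧), f} : Set B⟦X⟧)) := by
  induction n with
  | zero =>
    rw [pow_zero, Nat.cast_zero, zero_mul, Module.length_eq_zero_iff]
    have : Ideal.span ({(1 : B⟦X⟧), f} : Set B⟦X⟧) = ⊤ :=
      Ideal.eq_top_of_isUnit_mem _ (Ideal.subset_span (by simp)) isUnit_one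
    rw [this]
    infer_instance
  | succ n ih =>
    have h := Groth.Agent.S15315.result B⟦X⟧ (C π) f (Ideal.span {(C π : B⟦X⟧) ^ n})
      (isSMulRegular_quot hπ f hfπ)
    have e1 : Ideal.span {(C π : B⟦X⟧)} * Ideal.span {(C π : B⟦X⟧) ^ n} ⊔ Ideal.span {f} =
        Ideal.span ({(C π : B⟦X⟧) ^ (n + 1), f} : Set B⟦X⟧) := by
      rw [Ideal.span_singleton_mul_span_singleton, ← pow_succ', Ideal.span_insert]
    have e2 : Ideal.span {(C π : B⟦X⟧) ^ n} ⊔ Ideal.span {f} =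
        Ideal.span ({(C π : B⟦X⟧) ^ n, f} : Set B⟦X⟧) := by
      rw [Ideal.span_insert]
    rw [e1, e2, ih] at h
    rw [h, Nat.cast_succ, add_mul, one_mul, add_comm]

end Fix


section Len

variable {B : Type u} [CommRing B] [IsDomain B] [IsDiscreteValuationRing B] {π : B}

local notation "K" => IsLocalRing.ResidueField B
local notation "φ" => PowerSeries.map (IsLocalRing.residue B)

theorem length_base (hπ : Irreducible π) (f : B⟦X⟧) :
    Module.length B⟦X⟧ (B⟦X⟧ ⧸ Ideal.span ({(C π : B⟦X⟧), f} : Set B⟦X⟧)) =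
      Module.length K⟦X⟧ (K⟦X⟧ ⧸ Ideal.span ({φ f} : Set K⟦X⟧)) := by
  have hsurj : Function.Surjective (algebraMap B⟦X⟧ K⟦X⟧) :=
    PowerSeries.map_surjective _ IsLocalRing.residue_surjective
  rw [← Module.length_eq_of_surjective (S := B⟦X⟧) (R := K⟦X⟧)
    (M := K⟦X⟧ ⧸ Ideal.span ({φ f} : Set K⟦X⟧)) hsurj]
  let g : B⟦X⟧ →ₗ[B⟦X⟧] K⟦X⟧ ⧸ Ideal.span ({φ f} : Set K⟦X⟧) :=
    ((Ideal.span ({φ f} : Set K⟦X⟧)).mkQ.restrictScalars B⟦X⟧) ∘ₗ (Algebra.linearMap B⟦X⟧ K⟦X⟧)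
  have hg : Function.Surjective g := by
    intro y
    obtain ⟨z, rfl⟩ := Submodule.mkQ_surjective _ y
    obtain ⟨r, rfl⟩ := hsurj z
    exact ⟨r, rfl⟩
  have hker : LinearMap.ker g = Ideal.span ({(C π : B⟦X⟧), f} : Set B⟦X⟧) := by
    ext r
    rw [LinearMap.mem_ker, Ideal.mem_span_pair]
    change Submodule.Quotient.mk (φ r) = 0 ↔ _
    rw [Submodule.Quotient.mk_eq_zero, Ideal.mem_span_singleton]
    constructor
    · rintro ⟨s, hs⟩
      obtain ⟨s', rfl⟩ := hsurj s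
      have h1 : φ (r - f * s') = 0 := by
        rw [map_sub, map_mul, hs]
        exact sub_self _
      obtain ⟨t, ht⟩ := (map_eq_zero_iff hπ _).mp h1
      refine ⟨t, s', ?_⟩
      linear_combination -ht
    · rintro ⟨a, b, rfl⟩
      refine ⟨φ b, ?_⟩
      rw [map_add, map_mul, map_mul, map_C_pi hπ, mul_zero, zero_add, mul_comm]
  have e := g.quotKerEquivOfSurjective hg
  rw [← LinearEquiv.length_eq e]
  exact LinearEquiv.length_eq (Submodule.quotEquivOfEq _ _ hker.symm)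

theorem main_colon (hπ : Irreducible π) (j i : ℕ) (hij : i < j) (γ : B) (hγ : IsUnit γ)
    (σ : B⟦X⟧ ≃+* B⟦X⟧)
    (hσB : ∀ b : B, σ (C b) - C b ∈ Ideal.span ({(C (π ^ j) : B⟦X⟧)} : Set B⟦X⟧))
    (hσπ : σ (C π) = C (π + γ * π ^ j))
    (f : B⟦X⟧) (hf : σ X - X = C (π ^ i) * f) (hfπ : ¬ ((C π : B⟦X⟧) ∣ f)) :
    Module.length B⟦X⟧ (B⟦X⟧ ⧸ (ArLef.fixIdeal σ).colon ({(C (π ^ i) : B⟦X⟧)} : Set B⟦X⟧)) =
      ((j - i : ℕ) : ℕ∞) * Module.length K⟦X⟧ (K⟦X⟧ ⧸ Ideal.span ({φ f} : Set K⟦X⟧)) := by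
  rw [fixIdeal_eq j i γ hγ σ hσB hσπ f hf, map_pow, colon_eq hπ j i hij.le f,
    length_pow hπ f hfπ, length_base hπ f]

theorem main_fix (hπ : Irreducible π) (j : ℕ) (γ : B) (hγ : IsUnit γ)
    (σ : B⟦X⟧ ≃+* B⟦X⟧)
    (hσB : ∀ b : B, σ (C b) - C b ∈ Ideal.span ({(C (π ^ j) : B⟦X⟧)} : Set B⟦X⟧))
    (hσπ : σ (C π) = C (π + γ * π ^ j))
    (h0 : ¬ ((C π : B⟦X⟧) ∣ σ X - X)) :
    Module.length B⟦X⟧ (B⟦X⟧ ⧸ ArLef.fixIdeal σ) =
      (j : ℕ∞) * Module.length K⟦X⟧ (K⟦X⟧ ⧸ Ideal.span ({φ (σ X - X)} : Set K⟦X⟧)) := by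
  have hf : σ X - X = C (π ^ 0) * (σ X - X) := by rw [pow_zero, map_one, one_mul]
  rw [fixIdeal_eq j 0 γ hγ σ hσB hσπ (σ X - X) hf, pow_zero, one_mul,
    length_pow hπ _ h0, length_base hπ]

end Len

end Groth.Agent.H15.ArLefPS
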