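import Mathlib
import Groth.Agent.H15.ArtInd

universe u v

open CategoryTheory

namespace Groth.Agent.H15.ArtHR

open ArtFun ArtFun.Art IsLocalRing Groth.Agent.H15.ArtEps Groth.Agent.H15.ArtSmooth Groth.Agent.H15.ArtInd

variable {Λ : Type u} {k : Type u} [CommRing Λ] [Field k] [Algebra Λ k]

section

variable (R : Type u) [CommRing R] [Algebra Λ R] (resR : R →ₐ[Λ] k)

/-- The point of `h_R(k)`. -/
def basePt : HomSet R resR (base Λ k) := ⟨resR, AlgHom.id_comp _⟩

instance subsingleton_hR_base : Subsingleton ((hR R resR).obj (base Λ k)) := by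
  refine ⟨fun φ₁ φ₂ => ?_⟩
  have h1 : ∀ φ : HomSet R resR (base Λ k), φ.1 = resR := fun φ =>
    (AlgHom.id_comp φ.1).symm.trans φ.2
  exact Subtype.ext ((h1 φ₁).trans (h1 φ₂).symm)

theorem h0_hR : H0 (hR R resR) := ⟨⟨basePt R resR⟩, subsingleton_hR_base R resR⟩

/-- `h_R` is left exact. -/
theorem isLeftExact_hR : IsLeftExact (hR R resR) := by
  intro B A A' A'' p' p'' f' f'' h
  constructor
  · intro z₁ z₂ hz
    have h1 : HomSet.map p' z₁ = HomSet.map p' z₂ := congrArg (fun z => z.1.1) hz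
    have h2 : HomSet.map p'' z₁ = HomSet.map p'' z₂ := congrArg (fun z => z.1.2) hz
    exact Groth.Agent.H15.ArtFunA.IsFibreProd.lift_unique h z₁ z₂ h1 h2
  · rintro ⟨⟨g', g''⟩, hg⟩
    obtain ⟨g, h1, h2⟩ := Groth.Agent.H15.ArtFunA.IsFibreProd.exists_lift h g' g'' hg
    exact ⟨g, FibProd.ext h1 h2⟩

theorem heps_hR : Heps (hR R resR) := fun _ _ p' p'' h => isLeftExact_hR R resR p' p'' _ _ h

end

section Versal

variable {R : Type u} [CommRing R] [Algebra Λ R] {resR : R →ₐ[Λ] k} {F : Art Λ k ⥤ Type v}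

lemma isVersal_iff_lifts (ξ : Family R resR F) :
    IsVersal ξ ↔ ∀ ⦃B A : Art Λ k⦄ (μ : B ⟶ A), Function.Surjective μ →
      Lifts (F := hR R resR) (G := F) ξ.app μ :=
  Iff.rfl

theorem isVersal_of_small (ξ : Family R resR F)
    (h : ∀ ⦃B A : Art Λ k⦄ (μ : B ⟶ A), IsSmallExt μ →
      ∀ (φ : HomSet R resR A) (y : F.obj B), F.map μ y = ξ.app A φ →
        ∃ ψ : HomSet R resR B, HomSet.map μ ψ = φ ∧ ξ.app B ψ = y) :
    IsVersal ξ := by
  intro B A μ hμ
  exact lifts_of_small (F := hR R resR) (G := F) ξ.app (fun f φ => ξ.natural f φ)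
    (fun B A μ hμ => h μ hμ) μ hμ

/-- versality criterion: tangent surjectivity plus liftability of the underlying maps -/
theorem isVersal_of_tangent_of_lift (h1 : S1 F) (h2 : Heps F) (ξ : Family R resR F)
    (hd : Function.Surjective (TangentSpace.ofFamily ξ))
    (hl : ∀ ⦃B A : Art Λ k⦄ (μ : B ⟶ A), IsSmallExt μ →
      ∀ (φ : HomSet R resR A) (y : F.obj B), F.map μ y = ξ.app A φ →
        ∃ ψ : HomSet R resR B, HomSet.map μ ψ = φ) :
    IsVersal ξ := by
  apply isVersal_of_small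
  intro B A μ hμ φ y hy
  obtain ⟨ψ, hψ⟩ := hl μ hμ φ y hy
  obtain ⟨ψ', e1, e2⟩ := adjust (F := hR R resR) (G := F) ξ.app (fun f φ => ξ.natural f φ)
    (subsingleton_hR_base R resR) (heps_hR R resR)
    (fun B A A' A'' p' p'' f' f'' h hsm => h1 p' p'' f' f'' h hsm.1) h2 hd μ hμ ψ y
    (by
      have e : F.map μ (ξ.app B ψ) = ξ.app A (HomSet.map μ ψ) := (ξ.natural μ ψ).symm
      rw [e, hψ]
      exact hy)
  exact ⟨ψ', e2.trans hψ, e1⟩

end Versal

end Groth.Agent.H15.ArtHR
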