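import Mathlib
import Groth.Prelude.Def_ArtFun5
import Groth.Agent.H15.ArtHR

universe u v

open CategoryTheory

namespace Groth.Agent.H15.ArtFormal

open ArtFun ArtFun.Art IsLocalRing Groth.Agent.H15.ArtHR

variable {Λ : Type u} {k : Type u} [CommRing Λ] [Field k] [Algebra Λ k]

lemma truncMap_surjective (R : CRing Λ k) (n : ℕ) : Function.Surjective (R.truncMap n) := by
  intro x
  obtain ⟨a, rfl⟩ := Ideal.Quotient.mk_surjective x
  exact ⟨Ideal.Quotient.mk _ a, rfl⟩

section Versal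

variable {F : Art Λ k ⥤ Type v}

theorem surj_of_versal (h0 : H0 F) {R : Type u} [CommRing R] [Algebra Λ R] {resR : R →ₐ[Λ] k}
    (ξ : Family R resR F) (hξ : IsVersal ξ) (A : Art Λ k) : Function.Surjective (ξ.app A) := by
  intro y
  obtain ⟨ψ, _, hψ⟩ := hξ (toBase A) A.res_surjective (basePt R resR) y
    (@Subsingleton.elim _ h0.2 _ _)
  exact ⟨ψ, hψ⟩

/-- Every formal element is induced from a versal family. -/
theorem exists_along_toFormalElt (h0 : H0 F) (R : CRing Λ k) (ξ : Family R.carrier R.res F)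
    (hξ : IsVersal ξ) (S : CRing Λ k) (η : FormalElt F S) :
    ∃ (g : R.carrier →ₐ[Λ] S.carrier) (hg : S.res.comp g = R.res), (ξ.along g hg).toFormalElt = η := by
  classical
  have hcomp : IsAdicComplete (maximalIdeal S.carrier) S.carrier := S.isAdicComplete
  let L : ℕ → Art Λ k := fun n => S.trunc n
  let U : ∀ n, HomSet S.carrier S.res (L n) := fun n => S.truncHom n
  let τ : ∀ n, L (n + 1) ⟶ L n := fun n => S.truncMap n
  let T : ℕ → Type u := fun n => {ψ : HomSet R.carrier R.res (L n) // ξ.app (L n) ψ = η.elt n}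
  have step : ∀ n (ψ : T n), ∃ ψ' : T (n + 1), HomSet.map (τ n) ψ'.1 = ψ.1 := fun n ψ => by
    obtain ⟨ψ', h1, h2⟩ := hξ (τ n) (truncMap_surjective S n) ψ.1 (η.elt (n + 1))
      (by rw [η.compat, ψ.2])
    exact ⟨⟨ψ', h2⟩, h1⟩
  obtain ⟨ψ0, hψ0⟩ := surj_of_versal h0 ξ hξ (L 0) (η.elt 0)
  choose nxt hnxt using step
  let Ψ : ∀ n, T n := fun n => Nat.rec (motive := T) ⟨ψ0, hψ0⟩ (fun n ψ => nxt n ψ) n
  have hΨ : ∀ n, HomSet.map (τ n) (Ψ (n + 1)).1 = (Ψ n).1 := fun n => hnxt n (Ψ n)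
  let a : ℕ → ℕ := fun n => n + 1
  have ha : StrictMono a := fun _ _ h => Nat.succ_lt_succ h
  let g : ∀ n, R.carrier →+* S.carrier ⧸ maximalIdeal S.carrier ^ a n :=
    fun n => ((show R.carrier →ₐ[Λ] S.carrier ⧸ maximalIdeal S.carrier ^ (n + 1) from (Ψ n).1.1) :
      R.carrier →+* S.carrier ⧸ maximalIdeal S.carrier ^ (n + 1))
  have hg : ∀ {m : ℕ}, (Ideal.Quotient.factorPow (maximalIdeal S.carrier) (ha.monotone m.le_succ)).comp
      (g (m + 1)) = g m := by
    intro m
    apply RingHom.ext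
    intro x
    have h := DFunLike.congr_fun (congrArg Subtype.val (hΨ m)) x
    refine Eq.trans ?_ h
    change Ideal.Quotient.factorPow (maximalIdeal S.carrier) (ha.monotone m.le_succ) (g (m + 1) x) =
      S.truncMap m (g (m + 1) x)
    obtain ⟨b, hb⟩ := Ideal.Quotient.mk_surjective (g (m + 1) x)
    rw [← hb]
    rfl
  let φ₀ : R.carrier →+* S.carrier :=
    IsAdicComplete.StrictMono.liftRingHom (maximalIdeal S.carrier) ha g hg
  have hφ₀ : ∀ (n : ℕ) (x : R.carrier),
      Ideal.Quotient.mk (maximalIdeal S.carrier ^ (n + 1)) (φ₀ x) =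
        (show R.carrier →ₐ[Λ] S.carrier ⧸ maximalIdeal S.carrier ^ (n + 1) from (Ψ n).1.1) x := fun n x =>
    IsAdicComplete.StrictMono.mk_liftRingHom (maximalIdeal S.carrier) ha g hg (n := n) x
  have hcomm : ∀ c : Λ, φ₀ (algebraMap Λ R.carrier c) = algebraMap Λ S.carrier c := by
    have := IsHausdorff.StrictMono.funext' (R := Λ) (maximalIdeal S.carrier) ha
      (f := fun c => φ₀ (algebraMap Λ R.carrier c)) (g := fun c => algebraMap Λ S.carrier c)
      (fun n c => by
        change Ideal.Quotient.mk (maximalIdeal S.carrier ^ (n + 1)) (φ₀ (algebraMap Λ R.carrier c)) = _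
        rw [hφ₀, AlgHom.commutes]
        rfl)
    exact fun c => congrFun this c
  let φ : R.carrier →ₐ[Λ] S.carrier := { φ₀ with commutes' := hcomm }
  have hφmk : ∀ (n : ℕ), (U n).1.comp φ = (Ψ n).1.1 := fun n => AlgHom.ext fun x => hφ₀ n x
  have hφ : S.res.comp φ = R.res := by
    have h1 : (L 0).res.comp (U 0).1 = S.res := (U 0).2
    rw [← h1, AlgHom.comp_assoc, hφmk 0]
    exact (Ψ 0).1.2
  refine ⟨φ, hφ, ?_⟩
  apply FormalElt.ext'
  intro n
  change ξ.app (L n) ⟨(U n).1.comp φ, _⟩ = η.elt n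
  rw [← (Ψ n).2]
  congr 1
  exact Subtype.ext (hφmk n)

end Versal

section Smooth

variable {F G : Art Λ k ⥤ Type v}

/-- A smooth morphism surjective on the base point is surjective on formal elements. -/
theorem surj_formal (η : F ⟶ G) (hη : IsSmooth η)
    (h0 : Function.Surjective (η.app (base Λ k))) (R : CRing Λ k) :
    Function.Surjective (fun u : FormalElt F R => u.map η) := by
  classical
  intro w
  have hall : ∀ A : Art Λ k, Function.Surjective (η.app A) := by
    intro A y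
    obtain ⟨x₀, hx₀⟩ := h0 (G.map (toBase A) y)
    obtain ⟨z, hz⟩ := hη (toBase A) A.res_surjective ⟨(x₀, y), hx₀⟩
    exact ⟨z, congrArg (fun t => t.1.2) hz⟩
  let T : ℕ → Type v := fun n => {u : F.obj (R.trunc n) // η.app _ u = w.elt n}
  have step : ∀ n (u : T n), ∃ u' : T (n + 1), F.map (R.truncMap n) u'.1 = u.1 := fun n u => by
    obtain ⟨z, hz⟩ := hη (R.truncMap n) (truncMap_surjective R n)
      ⟨(u.1, w.elt (n + 1)), by rw [w.compat]; exact u.2⟩
    exact ⟨⟨z, congrArg (fun t => t.1.2) hz⟩, congrArg (fun t => t.1.1) hz⟩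
  obtain ⟨u0, hu0⟩ := hall (R.trunc 0) (w.elt 0)
  choose nxt hnxt using step
  let Ψ : ∀ n, T n := fun n => Nat.rec (motive := T) ⟨u0, hu0⟩ (fun n u => nxt n u) n
  have hΨ : ∀ n, F.map (R.truncMap n) (Ψ (n + 1)).1 = (Ψ n).1 := fun n => hnxt n (Ψ n)
  refine ⟨⟨fun n => (Ψ n).1, hΨ⟩, ?_⟩
  apply FormalElt.ext'
  intro n
  exact (Ψ n).2

end Smooth

end Groth.Agent.H15.ArtFormal
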