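import Mathlib
import Groth.Prelude.Def_ArtFun3

universe u v

open CategoryTheory

namespace Groth.Agent.H15.ArtLvl

open ArtFun ArtFun.Art IsLocalRing

variable {Λ : Type u} {k : Type u} [CommRing Λ] [Field k] [Algebra Λ k]

section

variable {R : Type u} [CommRing R] [Algebra Λ R] [IsLocalRing R]
  (res : R →ₐ[Λ] k) (hres : Function.Surjective res)

include hres in
lemma mem_maximalIdeal_iff' (x : R) : x ∈ maximalIdeal R ↔ res x = 0 := by
  have hmax : (RingHom.ker (res : R →+* k)).IsMaximal :=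
    RingHom.ker_isMaximal_of_surjective (res : R →+* k) hres
  rw [← IsLocalRing.eq_maximalIdeal hmax, RingHom.mem_ker]
  rfl

include hres in
lemma res_eq_zero_of_mem_pow (n : ℕ) {x : R} (hx : x ∈ maximalIdeal R ^ (n + 1)) : res x = 0 :=
  (mem_maximalIdeal_iff' res hres x).1 (Ideal.pow_le_self (Nat.succ_ne_zero n) hx)

lemma pow_succ_ne_top (n : ℕ) : maximalIdeal R ^ (n + 1) ≠ ⊤ := fun h =>
  (maximalIdeal.isMaximal R).ne_top (top_le_iff.1 (h ▸ Ideal.pow_le_self (Nat.succ_ne_zero n)))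

instance (n : ℕ) : Nontrivial (R ⧸ maximalIdeal R ^ (n + 1)) :=
  Ideal.Quotient.nontrivial_iff.2 (pow_succ_ne_top n)

instance (n : ℕ) : IsLocalRing (R ⧸ maximalIdeal R ^ (n + 1)) :=
  IsLocalRing.of_surjective' (Ideal.Quotient.mk _) Ideal.Quotient.mk_surjective

instance [IsNoetherianRing R] (n : ℕ) : IsArtinianRing (R ⧸ maximalIdeal R ^ (n + 1)) := by
  rw [isArtinianRing_iff_isNilpotent_maximalIdeal]
  refine ⟨n + 1, ?_⟩
  rw [← map_maximalIdeal_of_surjective (Ideal.Quotient.mk (maximalIdeal R ^ (n + 1)))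
    Ideal.Quotient.mk_surjective, ← Ideal.map_pow, Ideal.map_quotient_self]
  rfl

variable [IsNoetherianRing R]

/-- The object `R/m^(n+1)`. -/
noncomputable def lvl (n : ℕ) : Art Λ k :=
  { carrier := R ⧸ maximalIdeal R ^ (n + 1)
    res := Ideal.Quotient.liftₐ _ res (fun _ ha => res_eq_zero_of_mem_pow res hres n ha)
    res_surjective := fun c => by
      obtain ⟨a, ha⟩ := hres c
      exact ⟨Ideal.Quotient.mk _ a, ha⟩ }

/-- The projection `R → R/m^(n+1)` as an element of `h_R(R/m^(n+1))`. -/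
noncomputable def toLvl (n : ℕ) : HomSet R res (lvl res hres n) :=
  ⟨Ideal.Quotient.mkₐ Λ _, Ideal.Quotient.liftₐ_comp _ res _⟩

/-- The transition map. -/
noncomputable def trans (n : ℕ) : lvl res hres (n + 1) ⟶ lvl res hres n :=
  ⟨Ideal.Quotient.factorₐ Λ (Ideal.pow_le_pow_right (Nat.le_succ (n + 1))), by
    apply AlgHom.ext
    intro x
    obtain ⟨a, rfl⟩ := Ideal.Quotient.mk_surjective x
    rfl⟩

lemma trans_surjective (n : ℕ) : Function.Surjective (trans res hres n) := by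
  intro x
  obtain ⟨a, rfl⟩ := Ideal.Quotient.mk_surjective x
  exact ⟨Ideal.Quotient.mk _ a, rfl⟩

lemma map_trans_toLvl (n : ℕ) :
    HomSet.map (trans res hres n) (toLvl res hres (n + 1)) = toLvl res hres n :=
  Subtype.ext (AlgHom.ext fun _ => rfl)

/-- Every element of `h_R(A)` factors through some level. -/
theorem exists_factor (A : Art Λ k) (u : HomSet R res A) :
    ∃ (n : ℕ) (ū : lvl res hres n ⟶ A), HomSet.map ū (toLvl res hres n) = u := by
  have hA := IsArtinianRing.isNilpotent_jacobson_bot (R := A)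
  rw [IsLocalRing.jacobson_eq_maximalIdeal _ bot_ne_top] at hA
  obtain ⟨N, hN⟩ := hA
  have hum : (maximalIdeal R).map (u.1 : R →+* A) ≤ maximalIdeal A := by
    rw [Ideal.map_le_iff_le_comap]
    intro x hx
    rw [Ideal.mem_comap, Art.mem_maximalIdeal_iff]
    have h1 : A.res (u.1 x) = res x := DFunLike.congr_fun u.2 x
    exact h1.trans ((mem_maximalIdeal_iff' res hres x).1 hx)
  have hkill : ∀ a ∈ maximalIdeal R ^ (N + 1), u.1 a = 0 := by
    intro a ha
    have h1 : (u.1 : R →+* A) a ∈ (maximalIdeal R ^ (N + 1)).map (u.1 : R →+* A) :=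
      Ideal.mem_map_of_mem _ ha
    rw [Ideal.map_pow] at h1
    have h2 := Ideal.pow_right_mono hum (N + 1) h1
    rw [pow_succ, hN, zero_mul] at h2
    exact h2
  refine ⟨N, ⟨Ideal.Quotient.liftₐ _ u.1 hkill, ?_⟩, ?_⟩
  · apply AlgHom.ext
    intro x
    obtain ⟨a, rfl⟩ := Ideal.Quotient.mk_surjective x
    exact DFunLike.congr_fun u.2 a
  · exact Subtype.ext (AlgHom.ext fun _ => rfl)

end

section Cover

variable {F₁ F₂ : Art Λ k ⥤ Type v} (f : F₁ ⟶ F₂)
  (R₁ : CRing Λ k) (ξ₁ : Family R₁.carrier R₁.res F₁)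
  (R₂ : CRing Λ k) (ξ₂ : Family R₂.carrier R₂.res F₂)

theorem exists_cover (hξ₂ : IsVersal ξ₂) (hsurj : ∀ A : Art Λ k, Function.Surjective (ξ₂.app A)) :
    ∃ (φ : R₂.carrier →ₐ[Λ] R₁.carrier) (hφ : R₁.res.comp φ = R₂.res),
      ∀ (A : Art Λ k) (u : HomSet R₁.carrier R₁.res A),
        (ξ₂.along φ hφ).app A u = f.app A (ξ₁.app A u) := by
  classical
  have hcomp : IsAdicComplete (maximalIdeal R₁.carrier) R₁.carrier := R₁.isAdicComplete
  let L : ℕ → Art Λ k := fun n => lvl R₁.res R₁.res_surjective n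
  let U : ∀ n, HomSet R₁.carrier R₁.res (L n) := fun n => toLvl R₁.res R₁.res_surjective n
  let τ : ∀ n, L (n + 1) ⟶ L n := fun n => trans R₁.res R₁.res_surjective n
  let y : ∀ n, F₂.obj (L n) := fun n => f.app (L n) (ξ₁.app (L n) (U n))
  have hy : ∀ n, F₂.map (τ n) (y (n + 1)) = y n := by
    intro n
    change F₂.map (τ n) (f.app _ (ξ₁.app _ (U (n + 1)))) = f.app _ (ξ₁.app _ (U n))
    rw [← NatTrans.naturality_apply, ← ξ₁.natural]
    exact congrArg (fun t => f.app (L n) (ξ₁.app (L n) t)) (map_trans_toLvl R₁.res R₁.res_surjective n)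
  let S : ℕ → Type u := fun n => {ψ : HomSet R₂.carrier R₂.res (L n) // ξ₂.app (L n) ψ = y n}
  have step : ∀ n (ψ : S n), ∃ ψ' : S (n + 1), HomSet.map (τ n) ψ'.1 = ψ.1 := fun n ψ => by
    obtain ⟨ψ', h1, h2⟩ := hξ₂ (τ n) (trans_surjective R₁.res R₁.res_surjective n) ψ.1 (y (n + 1))
      (by rw [hy, ψ.2])
    exact ⟨⟨ψ', h2⟩, h1⟩
  obtain ⟨ψ0, hψ0⟩ := hsurj (L 0) (y 0)
  choose nxt hnxt using step
  let Ψ : ∀ n, S n := fun n => Nat.rec (motive := S) ⟨ψ0, hψ0⟩ (fun n ψ => nxt n ψ) n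
  have hΨ : ∀ n, HomSet.map (τ n) (Ψ (n + 1)).1 = (Ψ n).1 := fun n => hnxt n (Ψ n)
  let a : ℕ → ℕ := fun n => n + 1
  have ha : StrictMono a := fun _ _ h => Nat.succ_lt_succ h
  let g : ∀ n, R₂.carrier →+* R₁.carrier ⧸ maximalIdeal R₁.carrier ^ a n :=
    fun n => ((show R₂.carrier →ₐ[Λ] R₁.carrier ⧸ maximalIdeal R₁.carrier ^ (n + 1) from (Ψ n).1.1) :
      R₂.carrier →+* R₁.carrier ⧸ maximalIdeal R₁.carrier ^ (n + 1))
  have hg : ∀ {m : ℕ}, (Ideal.Quotient.factorPow (maximalIdeal R₁.carrier) (ha.monotone m.le_succ)).comp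
      (g (m + 1)) = g m := by
    intro m
    apply RingHom.ext
    intro x
    have h := DFunLike.congr_fun (congrArg Subtype.val (hΨ m)) x
    exact h
  let φ₀ : R₂.carrier →+* R₁.carrier :=
    IsAdicComplete.StrictMono.liftRingHom (maximalIdeal R₁.carrier) ha g hg
  have hφ₀ : ∀ (n : ℕ) (x : R₂.carrier),
      Ideal.Quotient.mk (maximalIdeal R₁.carrier ^ (n + 1)) (φ₀ x) =
        (show R₂.carrier →ₐ[Λ] R₁.carrier ⧸ maximalIdeal R₁.carrier ^ (n + 1) from (Ψ n).1.1) x := fun n x =>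
    IsAdicComplete.StrictMono.mk_liftRingHom (maximalIdeal R₁.carrier) ha g hg (n := n) x
  have hcomm : ∀ c : Λ, φ₀ (algebraMap Λ R₂.carrier c) = algebraMap Λ R₁.carrier c := by
    have := IsHausdorff.StrictMono.funext' (R := Λ) (maximalIdeal R₁.carrier) ha
      (f := fun c => φ₀ (algebraMap Λ R₂.carrier c)) (g := fun c => algebraMap Λ R₁.carrier c)
      (fun n c => by
        change Ideal.Quotient.mk (maximalIdeal R₁.carrier ^ (n + 1)) (φ₀ (algebraMap Λ R₂.carrier c)) = _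
        rw [hφ₀, AlgHom.commutes]
        rfl)
    exact fun c => congrFun this c
  let φ : R₂.carrier →ₐ[Λ] R₁.carrier := { φ₀ with commutes' := hcomm }
  have hφmk : ∀ (n : ℕ), (U n).1.comp φ = (Ψ n).1.1 := fun n => AlgHom.ext fun x => hφ₀ n x
  have hφ : R₁.res.comp φ = R₂.res := by
    have h1 : (L 0).res.comp (U 0).1 = R₁.res := (U 0).2
    rw [← h1, AlgHom.comp_assoc, hφmk 0]
    exact (Ψ 0).1.2
  refine ⟨φ, hφ, ?_⟩
  intro A u
  obtain ⟨n, ū, hū⟩ := exists_factor R₁.res R₁.res_surjective A u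
  have e1 : (⟨u.1.comp φ, by rw [← AlgHom.comp_assoc, u.2, hφ]⟩ : HomSet R₂.carrier R₂.res A) =
      HomSet.map ū (Ψ n).1 := by
    apply Subtype.ext
    change u.1.comp φ = ū.toAlgHom.comp (Ψ n).1.1
    rw [← hφmk n, ← AlgHom.comp_assoc]
    exact congrArg (fun t : HomSet R₁.carrier R₁.res A => t.1.comp φ) hū.symm
  change ξ₂.app A ⟨u.1.comp φ, _⟩ = f.app A (ξ₁.app A u)
  rw [e1, ξ₂.natural, (Ψ n).2, ← hū, ξ₁.natural]
  exact (NatTrans.naturality_apply f ū _).symm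

end Cover

end Groth.Agent.H15.ArtLvl
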