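import Mathlib
import Groth.Agent.H15.ArtEps
import Groth.Agent.H15.ArtSmooth
import Groth.Agent.H15.ArtLvl

universe u v

open CategoryTheory

namespace Groth.Agent.H15.ArtEndo

open ArtFun ArtFun.Art IsLocalRing Groth.Agent.H15.ArtEps Groth.Agent.H15.ArtSmooth Groth.Agent.H15.ArtLvl

variable {Λ : Type u} {k : Type u} [CommRing Λ] [Field k] [Algebra Λ k]

theorem ringHom_injective_of_surjective {R : Type*} [CommRing R] [IsNoetherianRing R] (α : R →+* R)
    (hα : Function.Surjective α) : Function.Injective α := by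
  let K : ℕ →o Ideal R :=
    ⟨fun n => RingHom.ker (α ^ n), monotone_nat_of_le_succ fun n x hx => by
      rw [RingHom.mem_ker] at hx ⊢
      rw [pow_succ', RingHom.mul_def, RingHom.comp_apply, hx, map_zero]⟩
  obtain ⟨n, hn⟩ := monotone_stabilizes_iff_noetherian.2 (inferInstance : IsNoetherian R R) K
  have hsurj : Function.Surjective (α ^ n) := by
    rw [RingHom.coe_pow]
    exact hα.iterate n
  rw [injective_iff_map_eq_zero]
  intro x hx
  obtain ⟨y, rfl⟩ := hsurj x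
  have hy : y ∈ K (n + 1) := by
    change y ∈ RingHom.ker (α ^ (n + 1))
    rw [RingHom.mem_ker, pow_succ', RingHom.mul_def, RingHom.comp_apply, hx]
  rw [← hn (n + 1) (Nat.le_succ n)] at hy
  exact hy

section Quot

variable {R : Type u} [CommRing R] [Algebra Λ R] [IsLocalRing R] [IsNoetherianRing R]
  (res : R →ₐ[Λ] k) (hres : Function.Surjective res)

/-- The object `R/𝔠` for an ideal containing a power of the maximal ideal. -/
noncomputable def qobj (𝔠 : Ideal R) (h𝔠 : 𝔠 ≤ maximalIdeal R) (n : ℕ) (hn : maximalIdeal R ^ n ≤ 𝔠) :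
    Art Λ k :=
  haveI : Nontrivial (R ⧸ 𝔠) := Ideal.Quotient.nontrivial_iff.2 (fun h =>
    (maximalIdeal.isMaximal R).ne_top (top_le_iff.1 (h ▸ h𝔠)))
  haveI : IsLocalRing (R ⧸ 𝔠) :=
    IsLocalRing.of_surjective' (Ideal.Quotient.mk 𝔠) Ideal.Quotient.mk_surjective
  haveI : IsArtinianRing (R ⧸ 𝔠) := by
    rw [isArtinianRing_iff_isNilpotent_maximalIdeal]
    refine ⟨n, ?_⟩
    rw [← map_maximalIdeal_of_surjective (Ideal.Quotient.mk 𝔠) Ideal.Quotient.mk_surjective,
      ← Ideal.map_pow]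
    exact (Ideal.map_eq_bot_iff_le_ker _).2 (by rw [Ideal.mk_ker]; exact hn)
  { carrier := R ⧸ 𝔠
    res := Ideal.Quotient.liftₐ 𝔠 res (fun a ha => (mem_maximalIdeal_iff' res hres a).1 (h𝔠 ha))
    res_surjective := fun c => by
      obtain ⟨a, ha⟩ := hres c
      exact ⟨Ideal.Quotient.mk _ a, ha⟩ }

/-- The projection to `R/𝔠` as an element of `h_R`. -/
noncomputable def toQobj (𝔠 : Ideal R) (h𝔠 : 𝔠 ≤ maximalIdeal R) (n : ℕ) (hn : maximalIdeal R ^ n ≤ 𝔠) :
    HomSet R res (qobj res hres 𝔠 h𝔠 n hn) :=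
  ⟨Ideal.Quotient.mkₐ Λ 𝔠, Ideal.Quotient.liftₐ_comp _ res _⟩

end Quot

section Sep

variable {R : Type u} [CommRing R] [Algebra Λ R] [IsLocalRing R] [IsNoetherianRing R]
  (res : R →ₐ[Λ] k) (hres : Function.Surjective res)

include hres in
/-- Tangent vectors separate the points of `m/𝔟`. -/
theorem tangent_sep (hk : Function.Surjective (algebraMap Λ k)) (𝔟 : Ideal R)
    (h2 : maximalIdeal R ^ 2 ≤ 𝔟) (hb : 𝔟 ≤ maximalIdeal R)
    (hΛ : ∀ c : Λ, algebraMap Λ k c = 0 → algebraMap Λ R c ∈ 𝔟)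
    (x : R) (hxm : x ∈ maximalIdeal R) (hxb : x ∉ 𝔟) :
    ∃ t : HomSet R res (dual Λ k), (∀ b ∈ 𝔟, t.1 b = 0) ∧ t.1 x ≠ 0 := by
  classical
  have hne : {𝔠 : Ideal R | 𝔟 ≤ 𝔠 ∧ 𝔠 ≤ maximalIdeal R ∧ x ∉ 𝔠}.Nonempty := ⟨𝔟, le_rfl, hb, hxb⟩
  obtain ⟨𝔠, ⟨hb𝔠, h𝔠m, hx𝔠⟩, hmax⟩ :=
    (wellFounded_gt : WellFounded ((· > ·) : Ideal R → Ideal R → Prop)).has_min _ hne
  have h2𝔠 : maximalIdeal R ^ 2 ≤ 𝔠 := h2.trans hb𝔠
  have hm𝔠 : maximalIdeal R ≤ 𝔠 ⊔ Ideal.span {x} := by
    intro y hy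
    by_cases hy𝔠 : y ∈ 𝔠
    · exact (le_sup_left : 𝔠 ≤ 𝔠 ⊔ Ideal.span {x}) hy𝔠
    have hx' : x ∈ 𝔠 ⊔ Ideal.span {y} := by
      by_contra hx'
      refine hmax (𝔠 ⊔ Ideal.span {y}) ⟨hb𝔠.trans le_sup_left,
        sup_le h𝔠m ((Ideal.span_singleton_le_iff_mem _).2 hy), hx'⟩ ?_
      exact lt_of_le_of_ne le_sup_left (fun h => hy𝔠
        (h ▸ (le_sup_right : Ideal.span {y} ≤ 𝔠 ⊔ Ideal.span {y}) (Ideal.subset_span rfl)))
    obtain ⟨c, hc, s, hs, hcs⟩ := Submodule.mem_sup.1 hx'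
    obtain ⟨r, rfl⟩ := Ideal.mem_span_singleton'.1 hs
    by_cases hr : r ∈ maximalIdeal R
    · exfalso
      apply hx𝔠
      rw [← hcs]
      refine 𝔠.add_mem hc (h2𝔠 ?_)
      rw [pow_two]
      exact Ideal.mul_mem_mul hr hy
    · have hru : IsUnit r := by
        by_contra h
        exact hr ((mem_maximalIdeal r).2 h)
      obtain ⟨u, rfl⟩ := hru
      have hyx : y = ↑u⁻¹ * (x - c) := by
        rw [← hcs, add_sub_cancel_left, ← mul_assoc, Units.inv_mul, one_mul]
      rw [hyx]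
      exact Ideal.mul_mem_left _ _ (Submodule.sub_mem _
        ((le_sup_right : Ideal.span {x} ≤ 𝔠 ⊔ Ideal.span {x}) (Ideal.subset_span rfl))
        ((le_sup_left : 𝔠 ≤ 𝔠 ⊔ Ideal.span {x}) hc))
  -- the object T = R/𝔠
  let T : Art Λ k := qobj res hres 𝔠 h𝔠m 2 h2𝔠
  let q : HomSet R res T := toQobj res hres 𝔠 h𝔠m 2 h2𝔠
  have hq : ∀ a : R, q.1 a = Ideal.Quotient.mk 𝔠 a := fun _ => rfl
  have hqsurj : ∀ a : T, ∃ a' : R, q.1 a' = a := fun a => Ideal.Quotient.mk_surjective a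
  have hqres : ∀ a : R, T.res (q.1 a) = res a := fun a => DFunLike.congr_fun q.2 a
  have hqm : ∀ a : R, q.1 a ∈ maximalIdeal T ↔ a ∈ maximalIdeal R := fun a => by
    rw [Art.mem_maximalIdeal_iff, hqres, mem_maximalIdeal_iff' res hres]
  have hq0 : ∀ a : R, q.1 a = 0 ↔ a ∈ 𝔠 := fun a => Ideal.Quotient.eq_zero_iff_mem
  have hxb0 : q.1 x ≠ 0 := fun h => hx𝔠 ((hq0 x).1 h)
  have hxbm : q.1 x ∈ maximalIdeal T := (hqm x).2 hxm
  have hmul : ∀ a ∈ maximalIdeal T, a * q.1 x = 0 := by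
    intro a ha
    obtain ⟨a', rfl⟩ := hqsurj a
    rw [← map_mul, hq0]
    apply h2𝔠
    rw [pow_two]
    exact Ideal.mul_mem_mul ((hqm a').1 ha) hxm
  have hgen : maximalIdeal T ≤ Ideal.span {q.1 x} := by
    intro a ha
    obtain ⟨a', rfl⟩ := hqsurj a
    obtain ⟨c, hc, s, hs, hcs⟩ := Submodule.mem_sup.1 (hm𝔠 ((hqm a').1 ha))
    obtain ⟨r, rfl⟩ := Ideal.mem_span_singleton'.1 hs
    rw [← hcs, map_add, (hq0 c).2 hc, zero_add, map_mul]
    exact Ideal.mul_mem_left _ _ (Ideal.subset_span rfl)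
  have hT0 : Ideal.span {q.1 x} ≤ maximalIdeal T := (Ideal.span_singleton_le_iff_mem _).2 hxbm
  let π : T ⟶ quot T (Ideal.span {q.1 x}) hT0 := quotMk T (Ideal.span {q.1 x}) hT0
  have hkerπ : RingHom.ker π.toAlgHom = Ideal.span {q.1 x} := by
    ext b
    rw [RingHom.mem_ker]
    change Ideal.Quotient.mk (Ideal.span {q.1 x}) b = 0 ↔ b ∈ Ideal.span {q.1 x}
    exact Ideal.Quotient.eq_zero_iff_mem
  -- the section k → T
  have hkerΛ : RingHom.ker (algebraMap Λ k) ≤ RingHom.ker (algebraMap Λ T) := by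
    intro c hc
    rw [RingHom.mem_ker] at hc ⊢
    have h1 : algebraMap Λ T c = q.1 (algebraMap Λ R c) := (AlgHom.commutes q.1 c).symm
    rw [h1, hq0]
    exact hb𝔠 (hΛ c hc)
  let s₀ : k →+* T := RingHom.liftOfSurjective (algebraMap Λ k) hk ⟨algebraMap Λ T, hkerΛ⟩
  have hs₀ : ∀ c : Λ, s₀ (algebraMap Λ k c) = algebraMap Λ T c := fun c =>
    RingHom.liftOfSurjective_comp_apply (algebraMap Λ k) hk ⟨algebraMap Λ T, hkerΛ⟩ c
  let s : base Λ k ⟶ T := ⟨{ s₀ with commutes' := hs₀ }, by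
    apply AlgHom.ext
    intro y
    obtain ⟨c, rfl⟩ := hk y
    change T.res (s₀ (algebraMap Λ k c)) = algebraMap Λ k c
    rw [hs₀, AlgHom.commutes]⟩
  have hs0 : s (0 : k) = 0 := map_zero s₀
  let e : T ⟶ T := toBase T ≫ s
  have hse : ∀ a : T, T.res (e a) = T.res a := fun a => res_app e a
  have hπe : 𝟙 T ≫ π = e ≫ π := by
    apply hom_ext
    apply AlgHom.ext
    intro a
    change π.toAlgHom a = π.toAlgHom (e a)
    rw [← sub_eq_zero, ← map_sub, ← RingHom.mem_ker, hkerπ]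
    apply hgen
    rw [Art.mem_maximalIdeal_iff, map_sub, hse, sub_self]
  have fp := isFibreProd_σ π (q.1 x) hxbm hmul hxb0 hkerπ
  obtain ⟨χ, hχ1, hχ2⟩ := exists_lift_hom fp (𝟙 T) e hπe
  let τ : T ⟶ dual Λ k := χ ≫ p₂ T
  refine ⟨HomSet.map τ q, ?_, ?_⟩
  · intro b hbb
    change τ.toAlgHom (q.1 b) = 0
    rw [(hq0 b).2 (hb𝔠 hbb), map_zero]
  · intro h0
    change (p₂ T) (χ (q.1 x)) = 0 at h0
    have h1 : TrivSqZeroExt.fst (χ (q.1 x) : E T) = q.1 x := by
      have := congrArg (fun g : T ⟶ T => g (q.1 x)) hχ1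
      exact this
    have h2 : rval T (TrivSqZeroExt.snd (χ (q.1 x) : E T)) = 0 := by
      have := congrArg (fun z : DualNumber k => TrivSqZeroExt.snd z) h0
      exact this
    have h3 : σ (q.1 x) hxbm hmul (χ (q.1 x)) = e (q.1 x) :=
      congrArg (fun g : T ⟶ T => g (q.1 x)) hχ2
    rw [σ_apply, h1, h2, lam_eq hmul (map_zero T.res), zero_mul, add_zero] at h3
    have h4 : e (q.1 x) = 0 := by
      change s (T.res (q.1 x)) = 0
      rw [(Art.mem_maximalIdeal_iff T _).1 hxbm]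
      exact hs0
    exact hxb0 (h3.trans h4)

end Sep

section Endo

theorem endo_bijective (hk : Function.Surjective (algebraMap Λ k)) {F : Art Λ k ⥤ Type v}
    (R : CRing Λ k) (ξ : Family R.carrier R.res F)
    (hinj : Function.Injective (ξ.app (dual Λ k)))
    (α : R.carrier →ₐ[Λ] R.carrier) (hα : R.res.comp α = R.res) (hξ : ξ.along α hα = ξ) :
    Function.Bijective α := by
  have step1 : ∀ t : HomSet R.carrier R.res (dual Λ k), t.1.comp α = t.1 := by
    intro t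
    have h : (ξ.along α hα).app (dual Λ k) t = ξ.app (dual Λ k) t := by rw [hξ]
    exact congrArg Subtype.val (hinj h)
  have hres := R.res_surjective
  have hαm : ∀ x ∈ maximalIdeal R.carrier, α x ∈ maximalIdeal R.carrier := by
    intro x hx
    rw [mem_maximalIdeal_iff' R.res hres] at hx ⊢
    have h1 : R.res (α x) = R.res x := DFunLike.congr_fun hα x
    rw [h1, hx]
  have hmapm : (maximalIdeal R.carrier).map (α : R.carrier →+* R.carrier) ≤ maximalIdeal R.carrier := by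
    rw [Ideal.map_le_iff_le_comap]
    exact fun x hx => hαm x hx
  have step2 : maximalIdeal R.carrier ≤
      (maximalIdeal R.carrier).map (α : R.carrier →+* R.carrier) ⊔ maximalIdeal R.carrier ^ 2 := by
    have hΛ' : ∀ c : Λ, algebraMap Λ k c = 0 → algebraMap Λ R.carrier c ∈
        (maximalIdeal R.carrier).map (α : R.carrier →+* R.carrier) ⊔ maximalIdeal R.carrier ^ 2 := by
      intro c hc
      have hcm : algebraMap Λ R.carrier c ∈ maximalIdeal R.carrier := by
        rw [mem_maximalIdeal_iff' R.res hres, AlgHom.commutes]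
        exact hc
      have h1 : α (algebraMap Λ R.carrier c) = algebraMap Λ R.carrier c := α.commutes c
      rw [← h1]
      exact (le_sup_left : (maximalIdeal R.carrier).map (α : R.carrier →+* R.carrier) ≤ _)
        (Ideal.mem_map_of_mem _ hcm)
    intro x hx
    by_contra hxb
    obtain ⟨t, ht1, ht2⟩ := tangent_sep R.res hres hk _ le_sup_right
      (sup_le hmapm (Ideal.pow_le_self two_ne_zero)) hΛ' x hx hxb
    apply ht2
    have h1 : t.1 (α x) = t.1 x := DFunLike.congr_fun (step1 t) x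
    rw [← h1]
    exact ht1 _ ((le_sup_left : (maximalIdeal R.carrier).map (α : R.carrier →+* R.carrier) ≤ _)
      (Ideal.mem_map_of_mem _ hx))
  have step3 : (maximalIdeal R.carrier).map (α : R.carrier →+* R.carrier) = maximalIdeal R.carrier := by
    apply le_antisymm hmapm
    apply Submodule.le_of_le_smul_of_le_jacobson_bot (IsNoetherian.noetherian _)
      (maximalIdeal_le_jacobson ⊥)
    rw [smul_eq_mul, ← pow_two]
    exact step2
  have hcomp : IsAdicComplete (maximalIdeal R.carrier) R.carrier := R.isAdicComplete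
  have hsurj : Function.Surjective (α : R.carrier →+* R.carrier) := by
    have : IsHausdorff ((maximalIdeal R.carrier).map (α : R.carrier →+* R.carrier)) R.carrier := by
      rw [step3]
      infer_instance
    apply surjective_of_mk_map_comp_surjective (α : R.carrier →+* R.carrier)
      (I := maximalIdeal R.carrier)
    intro ybar
    obtain ⟨y, rfl⟩ := Ideal.Quotient.mk_surjective ybar
    obtain ⟨c, hc⟩ := hk (R.res y)
    refine ⟨algebraMap Λ R.carrier c, ?_⟩
    rw [RingHom.comp_apply]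
    change Ideal.Quotient.mk _ (α (algebraMap Λ R.carrier c)) = _
    rw [α.commutes, Ideal.Quotient.eq, step3, mem_maximalIdeal_iff' R.res hres, map_sub,
      AlgHom.commutes, hc, sub_self]
  exact ⟨ringHom_injective_of_surjective (α : R.carrier →+* R.carrier) hsurj, hsurj⟩

end Endo

end Groth.Agent.H15.ArtEndo
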