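import Mathlib
import Groth.Agent.H15.ArtEndo
import Groth.Agent.H15.ArtHR

universe u v

open CategoryTheory

namespace Groth.Agent.H15.ArtSep

open ArtFun ArtFun.Art IsLocalRing Groth.Agent.H15.ArtEps Groth.Agent.H15.ArtSmooth
  Groth.Agent.H15.ArtLvl Groth.Agent.H15.ArtEndo Groth.Agent.H15.ArtHR

variable {Λ : Type u} {k : Type u} [CommRing Λ] [Field k] [Algebra Λ k]

lemma baseToDual_apply (c : k) :
    (baseToDual : base Λ k ⟶ dual Λ k) c = (TrivSqZeroExt.inl c : DualNumber k) := by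
  change algebraMap k (DualNumber k) c = _
  rw [TrivSqZeroExt.algebraMap_eq_inl]

lemma lam_eq_zero {A : Art Λ k} {t : A} (ht : ∀ a ∈ maximalIdeal A, a * t = 0) (ht0 : t ≠ 0) {c : k}
    (h : lam t c = 0) : c = 0 := by
  by_contra hc
  obtain ⟨a, ha⟩ := A.res_surjective c
  rw [lam_eq ht ha] at h
  have hu : IsUnit a := by
    by_contra hnu
    have h1 : a ∈ maximalIdeal A := (mem_maximalIdeal a).2 hnu
    rw [Art.mem_maximalIdeal_iff, ha] at h1
    exact hc h1
  exact ht0 ((hu.mul_right_eq_zero).1 h)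

/-- A tangent vector out of an object with principal socle-maximal ideal and a section. -/
theorem exists_tangent_of_section (T : Art Λ k) (x : T) (hxm : x ∈ maximalIdeal T)
    (hmul : ∀ a ∈ maximalIdeal T, a * x = 0) (hx0 : x ≠ 0) (hgen : maximalIdeal T ≤ Ideal.span {x})
    (s : base Λ k ⟶ T) :
    ∃ τ : T ⟶ dual Λ k, τ x ≠ 0 ∧ s ≫ τ = baseToDual := by
  have hT0 : Ideal.span {x} ≤ maximalIdeal T := (Ideal.span_singleton_le_iff_mem _).2 hxm
  let π : T ⟶ quot T (Ideal.span {x}) hT0 := quotMk T (Ideal.span {x}) hT0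
  have hkerπ : RingHom.ker π.toAlgHom = Ideal.span {x} := by
    ext b
    rw [RingHom.mem_ker]
    change Ideal.Quotient.mk (Ideal.span {x}) b = 0 ↔ b ∈ Ideal.span {x}
    exact Ideal.Quotient.eq_zero_iff_mem
  let e : T ⟶ T := toBase T ≫ s
  have hse : ∀ a : T, T.res (e a) = T.res a := fun a => res_app e a
  have hs0 : s (0 : k) = 0 := map_zero s.toAlgHom
  have hπe : 𝟙 T ≫ π = e ≫ π := by
    apply hom_ext
    apply AlgHom.ext
    intro a
    change π.toAlgHom a = π.toAlgHom (e a)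
    rw [← sub_eq_zero, ← map_sub, ← RingHom.mem_ker, hkerπ]
    apply hgen
    rw [Art.mem_maximalIdeal_iff, map_sub, hse, sub_self]
  have fp := isFibreProd_σ π x hxm hmul hx0 hkerπ
  obtain ⟨χ, hχ1, hχ2⟩ := exists_lift_hom fp (𝟙 T) e hπe
  refine ⟨χ ≫ p₂ T, ?_, ?_⟩
  · intro h0
    change (p₂ T) (χ x) = 0 at h0
    have h1 : TrivSqZeroExt.fst (χ x : E T) = x := by
      have := congrArg (fun g : T ⟶ T => g x) hχ1
      exact this
    have h2 : rval T (TrivSqZeroExt.snd (χ x : E T)) = 0 := by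
      have := congrArg (fun z : DualNumber k => TrivSqZeroExt.snd z) h0
      exact this
    have h3 : σ x hxm hmul (χ x) = e x :=
      congrArg (fun g : T ⟶ T => g x) hχ2
    rw [σ_apply, h1, h2, lam_eq hmul (map_zero T.res), zero_mul, add_zero] at h3
    have h4 : e x = 0 := by
      change s (T.res x) = 0
      rw [(Art.mem_maximalIdeal_iff T _).1 hxm]
      exact hs0
    exact hx0 (h3.trans h4)
  · have key : ∀ c : k, (p₂ T) (χ (s c)) = (TrivSqZeroExt.inl c : DualNumber k) := by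
      intro c
      have h1 : TrivSqZeroExt.fst (χ (s c) : E T) = s c :=
        congrArg (fun g : T ⟶ T => g (s c)) hχ1
      have h3 : σ x hxm hmul (χ (s c)) = e (s c) := congrArg (fun g : T ⟶ T => g (s c)) hχ2
      have hsc : T.res (s c) = c := res_app s c
      have h4 : e (s c) = s c := by
        change s (T.res (s c)) = s c
        rw [hsc]
      rw [σ_apply, h1, h4] at h3
      have h5 : rval T (TrivSqZeroExt.snd (χ (s c) : E T)) = 0 :=
        lam_eq_zero hmul hx0 (add_eq_left.1 h3)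
      apply TrivSqZeroExt.ext
      · change T.res (TrivSqZeroExt.fst (χ (s c) : E T)) = _
        rw [h1, hsc, TrivSqZeroExt.fst_inl]
      · change rval T (TrivSqZeroExt.snd (χ (s c) : E T)) = _
        rw [h5, TrivSqZeroExt.snd_inl]
    apply hom_ext
    apply AlgHom.ext
    intro c
    exact (key c).trans (baseToDual_apply (Λ := Λ) (k := k) c).symm

section Sep

variable {R : Type u} [CommRing R] [Algebra Λ R] [IsLocalRing R] [IsNoetherianRing R]
  (res : R →ₐ[Λ] k) (hres : Function.Surjective res)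
  {R₀ : Type u} [CommRing R₀] [Algebra Λ R₀] (res₀ : R₀ →ₐ[Λ] k) (hres₀ : Function.Surjective res₀)
  (f : R₀ →ₐ[Λ] R) (hf : res.comp f = res₀)

include hres hres₀ hf in
/-- Tangent vectors trivial on the image of `f` separate the points of `m/𝔟`. -/
theorem tangent_sep_rel (𝔟 : Ideal R) (h2 : maximalIdeal R ^ 2 ≤ 𝔟) (hb : 𝔟 ≤ maximalIdeal R)
    (hf𝔟 : ∀ r : R₀, res₀ r = 0 → f r ∈ 𝔟) (x : R) (hxm : x ∈ maximalIdeal R) (hxb : x ∉ 𝔟) :
    ∃ t : HomSet R res (dual Λ k), (∀ b ∈ 𝔟, t.1 b = 0) ∧ t.1 x ≠ 0 ∧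
      ∀ r : R₀, t.1 (f r) = (TrivSqZeroExt.inl (res₀ r) : DualNumber k) := by
  classical
  have hne : {𝔠 : Ideal R | 𝔟 ≤ 𝔠 ∧ 𝔠 ≤ maximalIdeal R ∧ x ∉ 𝔠}.Nonempty := ⟨𝔟, le_rfl, hb, hxb⟩
  obtain ⟨𝔠, ⟨hb𝔠, h𝔠m, hx𝔠⟩, hmax⟩ :=
    (wellFounded_gt : WellFounded ((· > ·) : Ideal R → Ideal R → Prop)).has_min _ hne
  have h2𝔠 : maximalIdeal R ^ 2 ≤ 𝔠 := h2.trans hb𝔠
  have hm𝔠 : maximalIdeal R ≤ 𝔠 ⊔ Ideal.span {x} := by
    intro y hy
    by_cases hy𝔠 : y ∈ 𝔠
    · exact (le_sup_left : 𝔠 ≤ 𝔠 ⊔ Ideal.span {x}) hy𝔠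
    have hx' : x ∈ 𝔠 ⊔ Ideal.span {y} := by
      by_contra hx'
      refine hmax (𝔠 ⊔ Ideal.span {y}) ⟨hb𝔠.trans le_sup_left,
        sup_le h𝔠m ((Ideal.span_singleton_le_iff_mem _).2 hy), hx'⟩ ?_
      exact lt_of_le_of_ne le_sup_left (fun h => hy𝔠
        (h ▸ (le_sup_right : Ideal.span {y} ≤ 𝔠 ⊔ Ideal.span {y}) (Ideal.subset_span rfl)))
    obtain ⟨c, hc, s, hs, hcs⟩ := Submodule.mem_sup.1 hx'
    obtain ⟨r, rfl⟩ := Ideal.mem_span_singleton'.1 hs
    by_cases hr : r ∈ maximalIdeal R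
    · exfalso
      apply hx𝔠
      rw [← hcs]
      refine 𝔠.add_mem hc (h2𝔠 ?_)
      rw [pow_two]
      exact Ideal.mul_mem_mul hr hy
    · have hru : IsUnit r := by
        by_contra h
        exact hr ((mem_maximalIdeal r).2 h)
      obtain ⟨u, rfl⟩ := hru
      have hyx : y = ↑u⁻¹ * (x - c) := by
        rw [← hcs, add_sub_cancel_left, ← mul_assoc, Units.inv_mul, one_mul]
      rw [hyx]
      exact Ideal.mul_mem_left _ _ (Submodule.sub_mem _
        ((le_sup_right : Ideal.span {x} ≤ 𝔠 ⊔ Ideal.span {x}) (Ideal.subset_span rfl))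
        ((le_sup_left : 𝔠 ≤ 𝔠 ⊔ Ideal.span {x}) hc))
  let T : Art Λ k := qobj res hres 𝔠 h𝔠m 2 h2𝔠
  let q : HomSet R res T := toQobj res hres 𝔠 h𝔠m 2 h2𝔠
  have hq : ∀ a : R, q.1 a = Ideal.Quotient.mk 𝔠 a := fun _ => rfl
  have hqsurj : ∀ a : T, ∃ a' : R, q.1 a' = a := fun a => Ideal.Quotient.mk_surjective a
  have hqres : ∀ a : R, T.res (q.1 a) = res a := fun a => DFunLike.congr_fun q.2 a
  have hqm : ∀ a : R, q.1 a ∈ maximalIdeal T ↔ a ∈ maximalIdeal R := fun a => by
    rw [Art.mem_maximalIdeal_iff, hqres, mem_maximalIdeal_iff' res hres]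
  have hq0 : ∀ a : R, q.1 a = 0 ↔ a ∈ 𝔠 := fun a => Ideal.Quotient.eq_zero_iff_mem
  have hxb0 : q.1 x ≠ 0 := fun h => hx𝔠 ((hq0 x).1 h)
  have hxbm : q.1 x ∈ maximalIdeal T := (hqm x).2 hxm
  have hmul : ∀ a ∈ maximalIdeal T, a * q.1 x = 0 := by
    intro a ha
    obtain ⟨a', rfl⟩ := hqsurj a
    rw [← map_mul, hq0]
    apply h2𝔠
    rw [pow_two]
    exact Ideal.mul_mem_mul ((hqm a').1 ha) hxm
  have hgen : maximalIdeal T ≤ Ideal.span {q.1 x} := by
    intro a ha
    obtain ⟨a', rfl⟩ := hqsurj a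
    obtain ⟨c, hc, s, hs, hcs⟩ := Submodule.mem_sup.1 (hm𝔠 ((hqm a').1 ha))
    obtain ⟨r, rfl⟩ := Ideal.mem_span_singleton'.1 hs
    rw [← hcs, map_add, (hq0 c).2 hc, zero_add, map_mul]
    exact Ideal.mul_mem_left _ _ (Ideal.subset_span rfl)
  -- the section through `R₀`
  have hkerf : RingHom.ker (res₀ : R₀ →+* k) ≤
      RingHom.ker ((q.1 : R →+* T).comp (f : R₀ →+* R)) := by
    intro r hr
    rw [RingHom.mem_ker] at hr ⊢
    change q.1 (f r) = 0
    rw [hq0]
    exact hb𝔠 (hf𝔟 r hr)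
  let s₀ : k →+* T := RingHom.liftOfSurjective (res₀ : R₀ →+* k) hres₀
    ⟨(q.1 : R →+* T).comp (f : R₀ →+* R), hkerf⟩
  have hs₀ : ∀ r : R₀, s₀ (res₀ r) = q.1 (f r) := fun r =>
    RingHom.liftOfSurjective_comp_apply (res₀ : R₀ →+* k) hres₀
      ⟨(q.1 : R →+* T).comp (f : R₀ →+* R), hkerf⟩ r
  have hcomm : ∀ c : Λ, s₀ (algebraMap Λ k c) = algebraMap Λ T c := fun c => by
    have h1 : algebraMap Λ k c = res₀ (algebraMap Λ R₀ c) := (res₀.commutes c).symm
    rw [h1, hs₀, f.commutes, q.1.commutes]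
  let s : base Λ k ⟶ T := ⟨{ s₀ with commutes' := hcomm }, by
    apply AlgHom.ext
    intro y
    obtain ⟨r, rfl⟩ := hres₀ y
    change T.res (s₀ (res₀ r)) = res₀ r
    rw [hs₀, hqres]
    exact DFunLike.congr_fun hf r⟩
  obtain ⟨τ, hτ1, hτ2⟩ := exists_tangent_of_section T (q.1 x) hxbm hmul hxb0 hgen s
  refine ⟨HomSet.map τ q, ?_, hτ1, ?_⟩
  · intro b hbb
    change τ.toAlgHom (q.1 b) = 0
    rw [(hq0 b).2 (hb𝔠 hbb), map_zero]
  · intro r
    change τ (q.1 (f r)) = _
    rw [← hs₀ r]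
    have h3 := congrArg (fun g : base Λ k ⟶ dual Λ k => g (res₀ r)) hτ2
    exact h3.trans (baseToDual_apply _)

end Sep

theorem surjective_of_cot {R S : Type u} [CommRing R] [CommRing S] [IsLocalRing R] [IsLocalRing S]
    [IsNoetherianRing S] [IsPrecomplete (maximalIdeal R) R] (f : R →+* S)
    (hloc : (maximalIdeal R).map f ≤ maximalIdeal S)
    (hres : ∀ s : S, ∃ r : R, s - f r ∈ maximalIdeal S)
    (hcot : maximalIdeal S ≤ (maximalIdeal R).map f ⊔ maximalIdeal S ^ 2) : Function.Surjective f := by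
  have step3 : (maximalIdeal R).map f = maximalIdeal S := by
    apply le_antisymm hloc
    apply Submodule.le_of_le_smul_of_le_jacobson_bot (IsNoetherian.noetherian _)
      (maximalIdeal_le_jacobson ⊥)
    rw [smul_eq_mul, ← pow_two]
    exact hcot
  have : IsHausdorff ((maximalIdeal R).map f) S := by
    rw [step3]
    infer_instance
  apply surjective_of_mk_map_comp_surjective f (I := maximalIdeal R)
  intro ybar
  obtain ⟨y, rfl⟩ := Ideal.Quotient.mk_surjective ybar
  obtain ⟨r, hr⟩ := hres y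
  refine ⟨r, ?_⟩
  rw [RingHom.comp_apply, Ideal.Quotient.eq, step3]
  have h1 := (maximalIdeal S).neg_mem hr
  rwa [neg_sub] at h1

theorem tfae_cot {R S : Type u} [CommRing R] [CommRing S] [Algebra Λ R] [Algebra Λ S] [IsLocalRing R]
    [IsLocalRing S] [IsNoetherianRing S] [IsPrecomplete (maximalIdeal R) R]
    (resR : R →ₐ[Λ] k) (hresR : Function.Surjective resR)
    (resS : S →ₐ[Λ] k) (hresS : Function.Surjective resS) (f : R →ₐ[Λ] S) (hf : resS.comp f = resR) :
    List.TFAE [Function.Surjective f,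
      Ideal.map f (maximalIdeal R) ⊔ maximalIdeal S ^ 2 = maximalIdeal S,
      Ideal.map (algebraMap Λ S) (RingHom.ker (algebraMap Λ k)) ⊔ Ideal.map f (maximalIdeal R) ⊔
        maximalIdeal S ^ 2 = maximalIdeal S] := by
  have hfres : ∀ r, resS (f r) = resR r := fun r => DFunLike.congr_fun hf r
  have hloc : (maximalIdeal R).map f ≤ maximalIdeal S := by
    rw [Ideal.map_le_iff_le_comap]
    intro r hr
    rw [Ideal.mem_comap, mem_maximalIdeal_iff' resS hresS, hfres]
    exact (mem_maximalIdeal_iff' resR hresR r).1 hr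
  have hle : Ideal.map (algebraMap Λ S) (RingHom.ker (algebraMap Λ k)) ≤
      Ideal.map f (maximalIdeal R) := by
    rw [Ideal.map_le_iff_le_comap]
    intro c hc
    rw [RingHom.mem_ker] at hc
    rw [Ideal.mem_comap, ← f.commutes c]
    apply Ideal.mem_map_of_mem
    rw [mem_maximalIdeal_iff' resR hresR, resR.commutes]
    exact hc
  tfae_have 1 → 2 := by
    intro hs
    have h1 := map_maximalIdeal_of_surjective (f : R →+* S) hs
    change Ideal.map (f : R →+* S) (maximalIdeal R) ⊔ maximalIdeal S ^ 2 = maximalIdeal S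
    rw [h1]
    exact sup_eq_left.2 (Ideal.pow_le_self two_ne_zero)
  tfae_have 2 → 3 := by
    intro h
    rw [sup_eq_right.2 hle]
    exact h
  tfae_have 3 → 1 := by
    intro h
    rw [sup_eq_right.2 hle] at h
    apply surjective_of_cot (f : R →+* S) hloc
    · intro s
      obtain ⟨r, hr⟩ := hresR (resS s)
      refine ⟨r, ?_⟩
      rw [mem_maximalIdeal_iff' resS hresS, map_sub]
      change resS s - resS (f r) = 0
      rw [hfres, hr, sub_self]
    · exact h.ge
  tfae_finish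

/-- Injectivity on tangent vectors forces an endomorphism to be bijective. -/
theorem endo_bijective' (R : CRing Λ k) (α : R.carrier →ₐ[Λ] R.carrier) (hα : R.res.comp α = R.res)
    (hinj : ∀ t₁ t₂ : HomSet R.carrier R.res (dual Λ k), t₁.1.comp α = t₂.1.comp α → t₁ = t₂) :
    Function.Bijective α := by
  have hres := R.res_surjective
  have hcomp : IsAdicComplete (maximalIdeal R.carrier) R.carrier := R.isAdicComplete
  have hαres : ∀ r, R.res (α r) = R.res r := fun r => DFunLike.congr_fun hα r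
  have hloc : (maximalIdeal R.carrier).map α ≤ maximalIdeal R.carrier := by
    rw [Ideal.map_le_iff_le_comap]
    intro r hr
    rw [Ideal.mem_comap, mem_maximalIdeal_iff' R.res hres, hαres]
    exact (mem_maximalIdeal_iff' R.res hres r).1 hr
  have hcot : maximalIdeal R.carrier ≤
      (maximalIdeal R.carrier).map α ⊔ maximalIdeal R.carrier ^ 2 := by
    intro x hx
    by_contra hxb
    obtain ⟨t, _, ht2, ht3⟩ := tangent_sep_rel R.res hres R.res hres α hα _ le_sup_right
      (sup_le hloc (Ideal.pow_le_self two_ne_zero))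
      (fun r hr => (le_sup_left : (maximalIdeal R.carrier).map α ≤ _)
        (Ideal.mem_map_of_mem _ ((mem_maximalIdeal_iff' R.res hres r).2 hr))) x hx hxb
    let triv : HomSet R.carrier R.res (dual Λ k) := HomSet.map baseToDual (basePt R.carrier R.res)
    have htriv : ∀ r, triv.1 r = (TrivSqZeroExt.inl (R.res r) : DualNumber k) := fun r =>
      baseToDual_apply (Λ := Λ) (k := k) (R.res r)
    have htt : t = triv := hinj t triv (AlgHom.ext fun r => by
      change t.1 (α r) = triv.1 (α r)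
      rw [ht3, htriv, hαres])
    apply ht2
    rw [htt, htriv, (mem_maximalIdeal_iff' R.res hres x).1 hx]
    exact TrivSqZeroExt.inl_zero _
  have hsurj : Function.Surjective (α : R.carrier →+* R.carrier) :=
    surjective_of_cot _ hloc (fun s => ⟨s, by
      rw [mem_maximalIdeal_iff' R.res hres, map_sub]
      change R.res s - R.res (α s) = 0
      rw [hαres, sub_self]⟩) hcot
  exact ⟨ringHom_injective_of_surjective _ hsurj, hsurj⟩

theorem isVersal_of_isUniversal {F : Art Λ k ⥤ Type v} {R : Type u} [CommRing R] [Algebra Λ R]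
    {resR : R →ₐ[Λ] k} (ξ : Family R resR F) (huniv : IsUniversal ξ) : IsVersal ξ := by
  intro B A μ hμ φ' y hy
  obtain ⟨ψ, hψ⟩ := (huniv B).2 y
  refine ⟨ψ, (huniv A).1 ?_, hψ⟩
  rw [ξ.natural, hψ, hy]

/-- An endomorphism of a prorepresentable functor which is bijective on tangent spaces is bijective. -/
theorem prorep_endo_bijective {U : Art Λ k ⥤ Type v} (hU : IsProrepresentable U) (φ : U ⟶ U)
    (hd : Function.Bijective (TangentSpace.map φ)) (A : Art Λ k) : Function.Bijective (φ.app A) := by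
  obtain ⟨⟨R, ξ, huniv⟩⟩ := hU
  have hvers : IsVersal ξ := isVersal_of_isUniversal ξ huniv
  obtain ⟨α, hα, hαξ⟩ := exists_cover φ R ξ R ξ hvers (fun A => (huniv A).2)
  have hαbij : Function.Bijective α := by
    apply endo_bijective' R α hα
    intro t₁ t₂ h
    apply (huniv _).1
    apply hd.1
    change φ.app _ (ξ.app _ t₁) = φ.app _ (ξ.app _ t₂)
    rw [← hαξ, ← hαξ]
    change ξ.app _ ⟨t₁.1.comp α, _⟩ = ξ.app _ ⟨t₂.1.comp α, _⟩
    congr 1
    exact Subtype.ext h
  let e : R.carrier ≃ₐ[Λ] R.carrier := AlgEquiv.ofBijective α hαbij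
  constructor
  · intro x₁ x₂ hx
    obtain ⟨u₁, rfl⟩ := (huniv A).2 x₁
    obtain ⟨u₂, rfl⟩ := (huniv A).2 x₂
    rw [← hαξ, ← hαξ] at hx
    have h1 := (huniv A).1 hx
    have h2 : u₁.1.comp α = u₂.1.comp α := congrArg Subtype.val h1
    congr 1
    apply Subtype.ext
    apply AlgHom.ext
    intro r
    obtain ⟨r', rfl⟩ := hαbij.2 r
    exact DFunLike.congr_fun h2 r'
  · intro y
    obtain ⟨u, rfl⟩ := (huniv A).2 y
    have hres' : A.res.comp (u.1.comp e.symm.toAlgHom) = R.res := by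
      apply AlgHom.ext
      intro r
      obtain ⟨r', rfl⟩ := hαbij.2 r
      change A.res (u.1 (e.symm (e r'))) = R.res (α r')
      have h7 : R.res (α r') = R.res r' := DFunLike.congr_fun hα r'
      rw [e.symm_apply_apply, h7]
      exact DFunLike.congr_fun u.2 r'
    let u' : HomSet R.carrier R.res A := ⟨u.1.comp e.symm.toAlgHom, hres'⟩
    refine ⟨ξ.app A u', ?_⟩
    rw [← hαξ A u']
    change ξ.app A ⟨(u.1.comp e.symm.toAlgHom).comp α, _⟩ = ξ.app A u
    congr 1
    apply Subtype.ext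
    apply AlgHom.ext
    intro r
    change u.1 (e.symm (e r)) = u.1 r
    rw [e.symm_apply_apply]

section Deriv

variable {S : Type u} [CommRing S] [Algebra Λ S] [Algebra S k] [IsScalarTower Λ S k]

/-- The derivation attached to a tangent vector. -/
noncomputable def derivOfTangent (t : S →ₐ[Λ] DualNumber k)
    (ht : ∀ s, TrivSqZeroExt.fst (t s) = algebraMap S k s) : Derivation Λ S k :=
  Derivation.mk'
    { toFun := fun s => TrivSqZeroExt.snd (t s)
      map_add' := fun a b => by rw [map_add, TrivSqZeroExt.snd_add]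
      map_smul' := fun c a => by
        rw [map_smul, TrivSqZeroExt.snd_smul]
        rfl }
    (fun a b => by
      change TrivSqZeroExt.snd (t (a * b)) = a • TrivSqZeroExt.snd (t b) + b • TrivSqZeroExt.snd (t a)
      rw [map_mul, TrivSqZeroExt.snd_mul, ht, ht, op_smul_eq_smul, smul_eq_mul, smul_eq_mul,
        Algebra.smul_def a, Algebra.smul_def b])

omit [IsScalarTower Λ S k] in
lemma derivOfTangent_apply (t : S →ₐ[Λ] DualNumber k)
    (ht : ∀ s, TrivSqZeroExt.fst (t s) = algebraMap S k s) (s : S) :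
    derivOfTangent t ht s = TrivSqZeroExt.snd (t s) := rfl

end Deriv

/-- If restriction of derivations along `f` is injective, `f` is surjective. -/
theorem surjective_of_deriv_injective (R : CRing Λ k)
    (S : Type u) [CommRing S] [Algebra Λ S] [IsLocalRing S] [IsNoetherianRing S]
    [Algebra S k] [IsScalarTower Λ S k]
    (hres : Function.Surjective (algebraMap S k))
    (f : R.carrier →ₐ[Λ] S) (hf : (IsScalarTower.toAlgHom Λ S k).comp f = R.res)
    (hinj : ∀ D₁ D₂ : Derivation Λ S k, (∀ r : R.carrier, D₁ (f r) = D₂ (f r)) → D₁ = D₂) :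
    Function.Surjective f := by
  have hcomp : IsAdicComplete (maximalIdeal R.carrier) R.carrier := R.isAdicComplete
  have hresS : Function.Surjective (IsScalarTower.toAlgHom Λ S k) := hres
  have h := (tfae_cot R.res R.res_surjective (IsScalarTower.toAlgHom Λ S k) hresS f hf).out 1 0
  apply h.1
  have hfres : ∀ r, algebraMap S k (f r) = R.res r := fun r => DFunLike.congr_fun hf r
  have hloc : (maximalIdeal R.carrier).map f ≤ maximalIdeal S := by
    rw [Ideal.map_le_iff_le_comap]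
    intro r hr
    rw [Ideal.mem_comap, mem_maximalIdeal_iff' (IsScalarTower.toAlgHom Λ S k) hresS]
    change algebraMap S k (f r) = 0
    rw [hfres]
    exact (mem_maximalIdeal_iff' R.res R.res_surjective r).1 hr
  apply le_antisymm (sup_le hloc (Ideal.pow_le_self two_ne_zero))
  intro x hx
  by_contra hxb
  obtain ⟨t, _, ht2, ht3⟩ := tangent_sep_rel (IsScalarTower.toAlgHom Λ S k) hresS R.res R.res_surjective
    f hf _ le_sup_right (sup_le hloc (Ideal.pow_le_self two_ne_zero))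
    (fun r hr => (le_sup_left : (maximalIdeal R.carrier).map f ≤ _)
      (Ideal.mem_map_of_mem _ ((mem_maximalIdeal_iff' R.res R.res_surjective r).2 hr))) x hx hxb
  have htfst : ∀ s, TrivSqZeroExt.fst (t.1 s) = algebraMap S k s := fun s =>
    DFunLike.congr_fun t.2 s
  have hD : derivOfTangent t.1 htfst = 0 := by
    apply hinj
    intro r
    change TrivSqZeroExt.snd (t.1 (f r)) = 0
    rw [ht3, TrivSqZeroExt.snd_inl]
  apply ht2
  apply TrivSqZeroExt.ext
  · rw [htfst]
    exact (mem_maximalIdeal_iff' (IsScalarTower.toAlgHom Λ S k) hresS x).1 hx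
  · have h5 : derivOfTangent t.1 htfst x = 0 := by rw [hD]; rfl
    exact h5

end Groth.Agent.H15.ArtSep
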