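import Mathlib
import Groth.Agent.H15.ArtSep
import Groth.Agent.H15.ArtFormal

universe u v

open CategoryTheory

namespace Groth.Agent.H15.ArtDer

open ArtFun ArtFun.Art IsLocalRing Groth.Agent.H15.ArtEps Groth.Agent.H15.ArtSmooth
  Groth.Agent.H15.ArtLvl Groth.Agent.H15.ArtEndo Groth.Agent.H15.ArtHR Groth.Agent.H15.ArtSep
  Groth.Agent.H15.ArtInd

variable {Λ : Type u} {k : Type u} [CommRing Λ] [Field k] [Algebra Λ k]

section

variable {S : Type u} [CommRing S] [Algebra Λ S] [Algebra S k] [IsScalarTower Λ S k]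

/-- The tangent vector of a derivation. -/
noncomputable def tangentOfDeriv (D : Derivation Λ S k) : S →ₐ[Λ] DualNumber k where
  toFun r := ((algebraMap S k r, D r) : TrivSqZeroExt k k)
  map_one' := TrivSqZeroExt.ext (map_one (algebraMap S k)) D.map_one_eq_zero
  map_mul' a b := TrivSqZeroExt.ext (map_mul (algebraMap S k) a b) (by
    change D (a * b) = algebraMap S k a • D b + MulOpposite.op (algebraMap S k b) • D a
    rw [D.leibniz, op_smul_eq_smul, smul_eq_mul, smul_eq_mul, Algebra.smul_def, Algebra.smul_def])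
  map_zero' := TrivSqZeroExt.ext (map_zero (algebraMap S k)) (map_zero D)
  map_add' a b := TrivSqZeroExt.ext (map_add (algebraMap S k) a b) (map_add D a b)
  commutes' c := by
    rw [TrivSqZeroExt.algebraMap_eq_inl']
    exact TrivSqZeroExt.ext (IsScalarTower.algebraMap_apply Λ S k c).symm (D.map_algebraMap c)

lemma tangentOfDeriv_fst (D : Derivation Λ S k) (r : S) :
    TrivSqZeroExt.fst (tangentOfDeriv D r) = algebraMap S k r := rfl

lemma tangentOfDeriv_snd (D : Derivation Λ S k) (r : S) :
    TrivSqZeroExt.snd (tangentOfDeriv D r) = D r := rfl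

/-- As an element of `h_S(k[ε])`. -/
noncomputable def tangentOfDeriv' (D : Derivation Λ S k) :
    HomSet S (IsScalarTower.toAlgHom Λ S k) (dual Λ k) :=
  ⟨tangentOfDeriv D, AlgHom.ext fun _ => rfl⟩

lemma tangentOfDeriv'_surjective :
    Function.Surjective (tangentOfDeriv' (Λ := Λ) (k := k) (S := S)) := by
  intro t
  have htfst : ∀ s, TrivSqZeroExt.fst (t.1 s) = algebraMap S k s := fun s =>
    DFunLike.congr_fun t.2 s
  refine ⟨derivOfTangent t.1 htfst, ?_⟩
  apply Subtype.ext
  apply AlgHom.ext
  intro r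
  exact TrivSqZeroExt.ext (htfst r).symm rfl

end

section Finite

variable [Module.Finite Λ k]
  {S : Type u} [CommRing S] [Algebra Λ S] [IsLocalRing S] [IsNoetherianRing S]
  [Algebra S k] [IsScalarTower Λ S k]

/-- The `Λ`-derivations `S → k` form a finite-dimensional space. -/
theorem finite_derivation (hres : Function.Surjective (algebraMap S k)) :
    Module.Finite k (Derivation Λ S k) := by
  classical
  let res : S →ₐ[Λ] k := IsScalarTower.toAlgHom Λ S k
  have hres' : Function.Surjective res := hres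
  let Sb : Art Λ k := lvl res hres' 1
  let q : HomSet S res Sb := toLvl res hres' 1
  have hq : ∀ a : S, q.1 a = Ideal.Quotient.mk (maximalIdeal S ^ (1 + 1)) a := fun _ => rfl
  have hfin : Module.Finite Λ Sb := finite_Λ Sb
  obtain ⟨n, s, hs⟩ := Module.Finite.exists_fin (R := Λ) (M := Sb)
  choose st hst using fun i => Ideal.Quotient.mk_surjective (s i)
  let Φ : Derivation Λ S k →ₗ[k] (Fin n → k) :=
    { toFun := fun D i => D (st i)
      map_add' := fun D₁ D₂ => rfl
      map_smul' := fun c D => rfl }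
  have hm2 : ∀ (D : Derivation Λ S k), ∀ y ∈ maximalIdeal S ^ 2, D y = 0 := by
    intro D y hy
    rw [pow_two] at hy
    refine Submodule.mul_induction_on hy ?_ ?_
    · intro a ha b hb
      have ha0 : algebraMap S k a = 0 := (mem_maximalIdeal_iff' res hres' a).1 ha
      have hb0 : algebraMap S k b = 0 := (mem_maximalIdeal_iff' res hres' b).1 hb
      rw [D.leibniz, Algebra.smul_def, Algebra.smul_def, ha0, hb0, zero_mul, zero_mul, add_zero]
    · intro a b ha hb
      rw [map_add, ha, hb, add_zero]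
  have hinj : Function.Injective Φ := by
    rw [injective_iff_map_eq_zero]
    intro D hD
    have hDs : ∀ i, D (st i) = 0 := fun i => congrFun hD i
    let N : Submodule Λ S := LinearMap.ker (D : S →ₗ[Λ] k)
    have hNmap : N.map q.1.toLinearMap = ⊤ := by
      rw [eq_top_iff, ← hs, Submodule.span_le]
      rintro _ ⟨i, rfl⟩
      refine ⟨st i, ?_, hst i⟩
      change (D : S →ₗ[Λ] k) (st i) = 0
      exact hDs i
    ext x
    have h1 : q.1 x ∈ N.map q.1.toLinearMap := hNmap ▸ Submodule.mem_top
    obtain ⟨y, hy, hyx⟩ := h1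
    have hy0 : D y = 0 := hy
    have h2 : x - y ∈ maximalIdeal S ^ 2 := by
      have h3 : q.1 y = q.1 x := hyx
      rw [hq, hq] at h3
      exact Ideal.Quotient.eq.1 h3.symm
    have h4 := hm2 D _ h2
    rw [map_sub, hy0, sub_zero] at h4
    exact h4
  exact Module.Finite.of_injective Φ hinj

end Finite

section Hfin

variable [Module.Finite Λ k]
  {S : Type u} [CommRing S] [Algebra Λ S] [IsLocalRing S] [IsNoetherianRing S]
  [Algebra S k] [IsScalarTower Λ S k]

/-- If the tangent space of `F` is covered by that of `h_S`, it is finite-dimensional. -/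
theorem hfin_of_surjective (hres : Function.Surjective (algebraMap S k))
    (F : Art Λ k ⥤ Type v) [TangentStr F]
    (ξ : Family S (IsScalarTower.toAlgHom Λ S k) F)
    (hsurj : Function.Surjective (ξ.app (dual Λ k))) : Hfin F := by
  have hfinD : Module.Finite k (Derivation Λ S k) := finite_derivation hres
  let res : S →ₐ[Λ] k := IsScalarTower.toAlgHom Λ S k
  have hadd : ∀ D₁ D₂ : Derivation Λ S k,
      TangentSpace.mk (ξ.app (dual Λ k) (tangentOfDeriv' (D₁ + D₂))) =
        TangentSpace.mk (ξ.app (dual Λ k) (tangentOfDeriv' D₁)) +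
          TangentSpace.mk (ξ.app (dual Λ k) (tangentOfDeriv' D₂)) := by
    intro D₁ D₂
    obtain ⟨z, hz1, hz2⟩ := Groth.Agent.H15.ArtFunA.IsFibreProd.exists_lift
      (isFibreProd_dual2 (Λ := Λ) (k := k)) (tangentOfDeriv' D₁) (tangentOfDeriv' D₂)
      (Subsingleton.elim (α := (hR S res).obj (base Λ k)) _ _)
    have e1 : ∀ r, (TrivSqZeroExt.snd (z.1 r)).1 = D₁ r := fun r =>
      congrArg (fun t : HomSet S res (dual Λ k) => TrivSqZeroExt.snd (t.1 r)) hz1
    have e2 : ∀ r, (TrivSqZeroExt.snd (z.1 r)).2 = D₂ r := fun r =>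
      congrArg (fun t : HomSet S res (dual Λ k) => TrivSqZeroExt.snd (t.1 r)) hz2
    have e0 : ∀ r, TrivSqZeroExt.fst (z.1 r) = algebraMap S k r := fun r =>
      congrArg (fun t : HomSet S res (dual Λ k) => TrivSqZeroExt.fst (t.1 r)) hz1
    have e3 : HomSet.map plus z = tangentOfDeriv' (D₁ + D₂) := by
      apply Subtype.ext
      apply AlgHom.ext
      intro r
      apply TrivSqZeroExt.ext
      · exact e0 r
      · change (TrivSqZeroExt.snd (z.1 r)).1 + (TrivSqZeroExt.snd (z.1 r)).2 = D₁ r + D₂ r
        rw [e1, e2]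
    have h := TangentStr.add_eq (F := F) (ξ.app (dual2 Λ k) z)
    rw [← ξ.natural, ← ξ.natural, ← ξ.natural, hz1, hz2, e3] at h
    exact h.symm
  have hsmul : ∀ (c : k) (D : Derivation Λ S k),
      TangentSpace.mk (ξ.app (dual Λ k) (tangentOfDeriv' (c • D))) =
        c • TangentSpace.mk (ξ.app (dual Λ k) (tangentOfDeriv' D)) := by
    intro c D
    have e3 : HomSet.map (scale c) (tangentOfDeriv' D) = tangentOfDeriv' (c • D) := by
      apply Subtype.ext
      apply AlgHom.ext
      intro r
      apply TrivSqZeroExt.ext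
      · rfl
      · rfl
    have h := TangentStr.smul_eq (F := F) c (ξ.app (dual Λ k) (tangentOfDeriv' D))
    rw [← ξ.natural, e3] at h
    exact h.symm
  let Θ : Derivation Λ S k →ₗ[k] TangentSpace F :=
    { toFun := fun D => TangentSpace.mk (ξ.app (dual Λ k) (tangentOfDeriv' D))
      map_add' := hadd
      map_smul' := hsmul }
  have hΘ : Function.Surjective Θ := by
    intro x
    obtain ⟨t, ht⟩ := hsurj x
    obtain ⟨D, rfl⟩ := tangentOfDeriv'_surjective t
    exact ⟨D, ht⟩
  exact Module.Finite.of_surjective Θ hΘ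

end Hfin

/-- A functor with a hull satisfies (S1), (S2) and has a finite-dimensional tangent space. -/
theorem s1_heps_hfin_of_hasHull [Module.Finite Λ k] (F : Art Λ k ⥤ Type v) [TangentStr F]
    (h0 : H0 F) (h : HasHull F) : S1 F ∧ Heps F ∧ Hfin F := by
  obtain ⟨⟨R, ξ, hmini⟩⟩ := h
  have hsurj := Groth.Agent.H15.ArtFormal.surj_of_versal h0 ξ hmini.1
  refine ⟨Groth.Agent.H15.ArtFunA.S1_of_versal ξ hmini.1 hsurj,
    Groth.Agent.H15.ArtFunA.Heps_of_miniversal ξ hmini hsurj, ?_⟩
  letI : Algebra R.carrier k := R.res.toRingHom.toAlgebra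
  haveI : IsScalarTower Λ R.carrier k :=
    IsScalarTower.of_algebraMap_eq (fun c => (R.res.commutes c).symm)
  exact hfin_of_surjective (S := R.carrier) R.res_surjective F ξ (hsurj _)

end Groth.Agent.H15.ArtDer
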