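import Mathlib
import Groth.Agent.H15.ArtSep

universe u v

open CategoryTheory

namespace Groth.Agent.H15.ArtEss

open ArtFun ArtFun.Art IsLocalRing Groth.Agent.H15.ArtEps Groth.Agent.H15.ArtHR Groth.Agent.H15.ArtInd
  Groth.Agent.H15.ArtSep Groth.Agent.H15.ArtSmooth

variable {Λ : Type u} {k : Type u} [CommRing Λ] [Field k] [Algebra Λ k]

lemma map_mem_max {C A : Art Λ k} (g : C ⟶ A) {c : C} (hc : c ∈ maximalIdeal C) :
    g c ∈ maximalIdeal A := by
  rw [Art.mem_maximalIdeal_iff] at hc ⊢
  rw [res_app, hc]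

/-- Surjectivity can be tested after dividing by `m_Λ A + m_A²`. -/
theorem surjective_iff_comp_quot {A A' C : Art Λ k} (qA : A ⟶ A') (hqA : Function.Surjective qA)
    (hkA : RingHom.ker qA.toAlgHom =
      Ideal.map (algebraMap Λ A) (RingHom.ker (algebraMap Λ k)) ⊔ maximalIdeal A ^ 2)
    (g : C ⟶ A) : Function.Surjective g ↔ Function.Surjective (g ≫ qA) := by
  constructor
  · intro hg
    exact hqA.comp hg
  · intro hgq
    have h := (tfae_cot C.res C.res_surjective A.res A.res_surjective g.toAlgHom g.res_comp).out 2 0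
    apply h.1
    have hΛ : Ideal.map (algebraMap Λ A) (RingHom.ker (algebraMap Λ k)) ≤ maximalIdeal A := by
      rw [Ideal.map_le_iff_le_comap]
      intro c hc
      rw [RingHom.mem_ker] at hc
      rw [Ideal.mem_comap, Art.mem_maximalIdeal_iff, AlgHom.commutes]
      exact hc
    have hloc : Ideal.map g.toAlgHom (maximalIdeal C) ≤ maximalIdeal A := by
      rw [Ideal.map_le_iff_le_comap]
      intro c hc
      exact map_mem_max g hc
    apply le_antisymm (sup_le (sup_le hΛ hloc) (Ideal.pow_le_self two_ne_zero))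
    intro b hb
    obtain ⟨c, hc⟩ := hgq (qA b)
    have hker : b - g c ∈ RingHom.ker qA.toAlgHom := by
      rw [RingHom.mem_ker, map_sub, sub_eq_zero]
      exact hc.symm
    have hcm : c ∈ maximalIdeal C := by
      have h1 : b - g c ∈ maximalIdeal A := ker_le_maximalIdeal qA hker
      have h2 := (maximalIdeal A).sub_mem hb h1
      rw [sub_sub_cancel] at h2
      rw [Art.mem_maximalIdeal_iff] at h2 ⊢
      rw [← res_app g c]
      exact h2
    rw [hkA] at hker
    have h3 : g c ∈ Ideal.map g.toAlgHom (maximalIdeal C) := Ideal.mem_map_of_mem _ hcm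
    have h4 : b = (b - g c) + g c := by ring
    rw [h4]
    refine Ideal.add_mem _ ?_ ?_
    · exact (sup_le (le_sup_left.trans le_sup_left) le_sup_right :
        Ideal.map (algebraMap Λ A) (RingHom.ker (algebraMap Λ k)) ⊔ maximalIdeal A ^ 2 ≤ _) hker
    · exact (le_sup_right.trans le_sup_left :
        Ideal.map g.toAlgHom (maximalIdeal C) ≤ _) h3

/-- Essential surjections can be tested on the relative cotangent quotients. -/
theorem essential_iff_quot [IsNoetherianRing Λ] [Module.Finite Λ k]
    {A B A' B' : Art Λ k} (f : B ⟶ A)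
    (qB : B ⟶ B') (hqB : Function.Surjective qB)
    (hkB : RingHom.ker qB.toAlgHom =
      Ideal.map (algebraMap Λ B) (RingHom.ker (algebraMap Λ k)) ⊔ maximalIdeal B ^ 2)
    (qA : A ⟶ A') (hqA : Function.Surjective qA)
    (hkA : RingHom.ker qA.toAlgHom =
      Ideal.map (algebraMap Λ A) (RingHom.ker (algebraMap Λ k)) ⊔ maximalIdeal A ^ 2)
    (f' : B' ⟶ A') (hf' : qB ≫ f' = f ≫ qA) :
    (Function.Surjective f ∧ ∀ (C : Art Λ k) (g : C ⟶ B), Function.Surjective (g ≫ f) →
      Function.Surjective g) ↔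
    (Function.Surjective f' ∧ ∀ (C : Art Λ k) (g : C ⟶ B'), Function.Surjective (g ≫ f') →
      Function.Surjective g) := by
  have hcomp : ∀ b : B, f' (qB b) = qA (f b) := fun b =>
    congrArg (fun t : B ⟶ A' => t b) hf'
  constructor
  · rintro ⟨hf, hess⟩
    constructor
    · intro a'
      obtain ⟨a, rfl⟩ := hqA a'
      obtain ⟨b, rfl⟩ := hf a
      exact ⟨qB b, hcomp b⟩
    · intro C g hg
      obtain ⟨P, p₁, p₂, hP⟩ := exists_isFibreProd_of_surjective g qB hqB
      have hp₁ : Function.Surjective p₁ := Groth.Agent.H15.ArtFunA.IsFibreProd.surjective_fst hP hqB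
      have h1 : Function.Surjective ((p₂ ≫ f) ≫ qA) := by
        have e : (p₂ ≫ f) ≫ qA = p₁ ≫ (g ≫ f') := by
          rw [Category.assoc, ← hf', ← Category.assoc, ← hP.w, Category.assoc]
        rw [e]
        exact hg.comp hp₁
      have h2 : Function.Surjective (p₂ ≫ f) := (surjective_iff_comp_quot qA hqA hkA (p₂ ≫ f)).2 h1
      have h3 : Function.Surjective p₂ := hess P p₂ h2
      intro b'
      obtain ⟨b, rfl⟩ := hqB b'
      obtain ⟨p, rfl⟩ := h3 b
      exact ⟨p₁ p, hP.w_apply p⟩
  · rintro ⟨hf'surj, hess⟩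
    have hfs : Function.Surjective f := by
      apply (surjective_iff_comp_quot qA hqA hkA f).2
      rw [← hf']
      exact hf'surj.comp hqB
    refine ⟨hfs, fun C g hg => ?_⟩
    apply (surjective_iff_comp_quot qB hqB hkB g).2
    apply hess C (g ≫ qB)
    have e : (g ≫ qB) ≫ f' = (g ≫ f) ≫ qA := by
      rw [Category.assoc, hf', ← Category.assoc]
    rw [e]
    exact hqA.comp hg

/-- A small extension is not essential iff it has a section. -/
theorem not_essential_iff_section {A B : Art Λ k} (f : B ⟶ A) (hf : IsSmallExt f) :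
    (∃ (C : Art Λ k) (g : C ⟶ B), Function.Surjective (g ≫ f) ∧ ¬ Function.Surjective g) ↔
      ∃ s : A ⟶ B, s ≫ f = 𝟙 A := by
  obtain ⟨hsurj, hne, hprin, hmk⟩ := hf
  obtain ⟨t, ht⟩ := hprin.principal
  have hker : RingHom.ker f.toAlgHom = Ideal.span {t} := ht
  have htker : t ∈ RingHom.ker f.toAlgHom := hker ▸ Ideal.subset_span rfl
  have htm : ∀ a ∈ maximalIdeal B, a * t = 0 := fun a ha => by
    have h3 : a * t ∈ maximalIdeal B * RingHom.ker f.toAlgHom := Ideal.mul_mem_mul ha htker
    rw [hmk] at h3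
    exact h3
  constructor
  · rintro ⟨C, g, hgf, hng⟩
    have hle : RingHom.ker (g ≫ f).toAlgHom ≤ RingHom.ker g.toAlgHom := by
      intro c hc
      rw [RingHom.mem_ker] at hc ⊢
      by_contra hgc
      apply hng
      have hgck : g c ∈ RingHom.ker f.toAlgHom := RingHom.mem_ker.2 hc
      rw [hker] at hgck
      obtain ⟨a, ha⟩ := Ideal.mem_span_singleton'.1 hgck
      have hau : IsUnit a := by
        by_contra hnu
        apply hgc
        change g c = 0
        rw [← ha]
        exact htm a ((mem_maximalIdeal a).2 hnu)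
      obtain ⟨w, rfl⟩ := hau
      have htw : t = ↑w⁻¹ * g c := by
        rw [← ha, ← mul_assoc, Units.inv_mul, one_mul]
      intro b
      obtain ⟨c₁, hc₁⟩ := hgf (f b)
      have hbk : b - g c₁ ∈ RingHom.ker f.toAlgHom := by
        rw [RingHom.mem_ker, map_sub, sub_eq_zero]
        exact hc₁.symm
      rw [hker] at hbk
      obtain ⟨a', ha'⟩ := Ideal.mem_span_singleton'.1 hbk
      obtain ⟨c₂, hc₂⟩ := C.res_surjective (B.res (a' * ↑w⁻¹))
      have hm : g c₂ - a' * ↑w⁻¹ ∈ maximalIdeal B := by
        rw [Art.mem_maximalIdeal_iff, map_sub, res_app, hc₂, sub_self]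
      have h5 : (g c₂ - a' * ↑w⁻¹) * (↑w * t) = 0 := by
        rw [← mul_assoc]
        exact htm _ (Ideal.mul_mem_right _ _ hm)
      refine ⟨c₁ + c₂ * c, ?_⟩
      have e1 : g (c₁ + c₂ * c) = g c₁ + g c₂ * g c := by
        change g.toAlgHom (c₁ + c₂ * c) = _
        rw [map_add, map_mul]
      have hgc' : g c = ↑w * t := ha.symm
      rw [e1, hgc']
      have h6 : b = g c₁ + a' * t := by rw [ha']; ring
      rw [h6]
      have h7 : a' * t = a' * ↑w⁻¹ * (↑w * t) := by
        rw [mul_assoc, ← mul_assoc (↑w⁻¹ : B), Units.inv_mul, one_mul]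
      rw [h7]
      linear_combination h5
    have hK := ker_le_maximalIdeal (g ≫ f)
    have hbij : Function.Bijective (quotFactor hK (g ≫ f) le_rfl) := by
      constructor
      · intro a b hab
        obtain ⟨a', rfl⟩ := quotMk_surjective C _ hK a
        obtain ⟨b', rfl⟩ := quotMk_surjective C _ hK b
        have h1 : (g ≫ f) a' = (g ≫ f) b' := hab
        refine Ideal.Quotient.eq.2 ?_
        rw [RingHom.mem_ker, map_sub, sub_eq_zero]
        exact h1
      · intro a
        obtain ⟨c, rfl⟩ := hgf a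
        exact ⟨quotMk C _ hK c, rfl⟩
    obtain ⟨ν, hν1, hν2⟩ := exists_inv_of_bijective _ hbij
    refine ⟨ν ≫ quotFactor hK g hle, ?_⟩
    have e : quotFactor hK g hle ≫ f = quotFactor hK (g ≫ f) le_rfl := by
      apply hom_ext
      apply AlgHom.ext
      intro x
      obtain ⟨c, rfl⟩ := quotMk_surjective C _ hK x
      rfl
    rw [Category.assoc, e, hν2]
  · rintro ⟨s, hs⟩
    refine ⟨A, s, ?_, ?_⟩
    · rw [hs]
      exact Function.surjective_id
    · intro hss
      apply hne
      rw [eq_bot_iff]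
      intro b hb
      rw [RingHom.mem_ker] at hb
      obtain ⟨a, rfl⟩ := hss b
      have h1 : f (s a) = a := congrArg (fun t : A ⟶ A => t a) hs
      have h2 : a = 0 := h1.symm.trans hb
      rw [h2, Ideal.mem_bot]
      exact map_zero s.toAlgHom

end Groth.Agent.H15.ArtEss
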