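import Mathlib
import Groth.Agent.H15.ArtHR
import Groth.Agent.H15.ArtFormal

universe u v

open CategoryTheory

namespace Groth.Agent.H15.ArtTrim

open ArtFun ArtFun.Art IsLocalRing Groth.Agent.H15.ArtEps Groth.Agent.H15.ArtSmooth
  Groth.Agent.H15.ArtInd Groth.Agent.H15.ArtHR Groth.Agent.H15.ArtFunA Groth.Agent.H15.ArtFormal

variable {Λ : Type u} {k : Type u} [CommRing Λ] [Field k] [Algebra Λ k]


theorem isPrecomplete_quotient {R : Type u} [CommRing R] (I 𝔞 : Ideal R) [IsPrecomplete I R] :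
    IsPrecomplete (I.map (Ideal.Quotient.mk 𝔞)) (R ⧸ 𝔞) := by
  refine ⟨fun f hf => ?_⟩
  have hsm : ∀ (n : ℕ) (a b : R ⧸ 𝔞),
      a ≡ b [SMOD ((I.map (Ideal.Quotient.mk 𝔞)) ^ n • ⊤ : Submodule (R ⧸ 𝔞) (R ⧸ 𝔞))] ↔
        a - b ∈ (I ^ n).map (Ideal.Quotient.mk 𝔞) := by
    intro n a b
    rw [SModEq.sub_mem, smul_eq_mul, Ideal.mul_top, Ideal.map_pow]
  have hsm' : ∀ (n : ℕ) (a b : R),
      a ≡ b [SMOD (I ^ n • ⊤ : Submodule R R)] ↔ a - b ∈ I ^ n := by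
    intro n a b
    rw [SModEq.sub_mem, smul_eq_mul, Ideal.mul_top]
  have hstep : ∀ n, ∃ δ : R, δ ∈ I ^ n ∧ Ideal.Quotient.mk 𝔞 δ = f (n + 1) - f n := by
    intro n
    have h1 := (hsm n _ _).1 (hf (Nat.le_succ n))
    have h2 := ((I ^ n).map (Ideal.Quotient.mk 𝔞)).neg_mem h1
    rw [neg_sub] at h2
    obtain ⟨δ, hδ, hδ'⟩ := (Ideal.mem_map_iff_of_surjective _ Ideal.Quotient.mk_surjective).1 h2
    exact ⟨δ, hδ, hδ'⟩
  choose δ hδ1 hδ2 using hstep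
  obtain ⟨g₀, hg₀⟩ := Ideal.Quotient.mk_surjective (f 0)
  let g : ℕ → R := fun n => Nat.rec g₀ (fun n gn => gn + δ n) n
  have hg_succ : ∀ n, g (n + 1) = g n + δ n := fun n => rfl
  have hgf : ∀ n, Ideal.Quotient.mk 𝔞 (g n) = f n := by
    intro n
    induction n with
    | zero => exact hg₀
    | succ n ih => rw [hg_succ, map_add, ih, hδ2]; ring
  have hcauchy : ∀ {m n : ℕ}, m ≤ n → g m ≡ g n [SMOD (I ^ m • ⊤ : Submodule R R)] := by
    intro m n hmn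
    rw [hsm']
    induction hmn with
    | refl => rw [sub_self]; exact Ideal.zero_mem _
    | step hmn ih =>
      rename_i n
      rw [hg_succ]
      have : g m - (g n + δ n) = (g m - g n) - δ n := by ring
      rw [this]
      exact Submodule.sub_mem _ ih (Ideal.pow_le_pow_right hmn (hδ1 n))
  obtain ⟨L, hL⟩ := IsPrecomplete.prec ‹IsPrecomplete I R› @hcauchy
  refine ⟨Ideal.Quotient.mk 𝔞 L, fun n => ?_⟩
  rw [hsm, ← hgf n, ← map_sub]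
  exact Ideal.mem_map_of_mem _ ((hsm' n _ _).1 (hL n))

section Act

variable {B : Art Λ k}

lemma lam_add {t : B} (ht : ∀ a ∈ maximalIdeal B, a * t = 0) (c₁ c₂ : k) :
    lam t c₁ + lam t c₂ = lam t (c₁ + c₂) := by
  obtain ⟨a₁, ha₁⟩ := B.res_surjective c₁
  obtain ⟨a₂, ha₂⟩ := B.res_surjective c₂
  have h12 : B.res (a₁ + a₂) = c₁ + c₂ := by rw [map_add, ha₁, ha₂]
  rw [lam_eq ht ha₁, lam_eq ht ha₂, lam_eq ht h12, add_mul]

variable {R : Type u} [CommRing R] [Algebra Λ R] {resR : R →ₐ[Λ] k}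

/-- The second coordinate of a tangent vector. -/
def dcoef (D : HomSet R resR (dual Λ k)) (r : R) : k := TrivSqZeroExt.snd (D.1 r : DualNumber k)

/-- `ψ + E t`. -/
theorem exists_act (t : B) (ht' : t ∈ maximalIdeal B) (ht : ∀ a ∈ maximalIdeal B, a * t = 0)
    (ψ : HomSet R resR B) (D : HomSet R resR (dual Λ k)) :
    ∃ w : HomSet R resR (eps B), HomSet.map (p₁ B) w = ψ ∧ HomSet.map (p₂ B) w = D ∧
      ∀ r, (HomSet.map (σ t ht' ht) w).1 r = ψ.1 r + lam t (dcoef D r) := by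
  have hcompat : HomSet.map (toBase B) ψ = HomSet.map (toBase (dual Λ k)) D :=
    @Subsingleton.elim _ (subsingleton_hR_base R resR) _ _
  obtain ⟨w, hw1, hw2⟩ := IsFibreProd.exists_lift (isFibreProd_eps B) ψ D hcompat
  refine ⟨w, hw1, hw2, fun r => ?_⟩
  change σ t ht' ht (w.1 r) = _
  rw [σ_apply]
  have e1 : TrivSqZeroExt.fst (w.1 r : E B) = ψ.1 r :=
    congrArg (fun z : HomSet R resR B => z.1 r) hw1
  have e2 : rval B (TrivSqZeroExt.snd (w.1 r : E B)) = dcoef D r := by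
    have := congrArg (fun z : HomSet R resR (dual Λ k) => TrivSqZeroExt.snd (z.1 r : DualNumber k)) hw2
    exact this
  rw [e1, e2]

end Act

section Trim

variable {F : Art Λ k ⥤ Type v} {R : Type u} [CommRing R] [Algebra Λ R] {resR : R →ₐ[Λ] k}
  (ξ : Family R resR F)

/-- `φ` kills the ideal `𝔞`. -/
def Kills (𝔞 : Ideal R) {A : Art Λ k} (φ : HomSet R resR A) : Prop := ∀ a ∈ 𝔞, φ.1 a = 0

/-- Versality for maps killing `𝔞`, along small extensions. -/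
def VK (𝔞 : Ideal R) : Prop :=
  ∀ ⦃B A : Art Λ k⦄ (μ : B ⟶ A), IsSmallExt μ → ∀ (φ : HomSet R resR A) (y : F.obj B),
    Kills 𝔞 φ → F.map μ y = ξ.app A φ →
      ∃ ψ : HomSet R resR B, Kills 𝔞 ψ ∧ HomSet.map μ ψ = φ ∧ ξ.app B ψ = y

lemma dcoef_scale (c : k) (D : HomSet R resR (dual Λ k)) (r : R) :
    dcoef (HomSet.map (scale c) D) r = c * dcoef D r := rfl

lemma dcoef_of_kills {𝔞 : Ideal R} {D : HomSet R resR (dual Λ k)} (hD : Kills 𝔞 D) {a : R}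
    (ha : a ∈ 𝔞) : dcoef D a = 0 := by
  unfold dcoef
  rw [hD a ha]
  rfl

variable {ξ}

theorem step (h2 : Heps F) (𝔞 : Ideal R) (hV : VK ξ 𝔞) (D₁ D₂ : HomSet R resR (dual Λ k))
    (hD₁ : Kills 𝔞 D₁) (hD₂ : Kills 𝔞 D₂) (hξ : ξ.app _ D₁ = ξ.app _ D₂) (x : R)
    (hne : dcoef D₁ x ≠ dcoef D₂ x) : VK ξ (𝔞 ⊔ Ideal.span {x}) := by
  intro B A μ hμ φ y hφ hy
  obtain ⟨ψ, hψk, hψφ, hψy⟩ := hV μ hμ φ y (fun a ha => hφ a (Submodule.mem_sup_left ha)) hy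
  obtain ⟨hsurj, hne', hprin, hmk⟩ := hμ
  obtain ⟨t, ht⟩ := hprin.principal
  have hker : RingHom.ker μ.toAlgHom = Ideal.span {t} := ht
  have htker : t ∈ RingHom.ker μ.toAlgHom := hker ▸ Ideal.subset_span rfl
  have ht' : t ∈ maximalIdeal B := ker_le_maximalIdeal μ htker
  have htm : ∀ a ∈ maximalIdeal B, a * t = 0 := fun a ha => by
    have h3 : a * t ∈ maximalIdeal B * RingHom.ker μ.toAlgHom := Ideal.mul_mem_mul ha htker
    rw [hmk] at h3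
    exact h3
  have hμlam : ∀ c : k, μ (lam t c) = 0 := by
    intro c
    obtain ⟨a, ha⟩ := B.res_surjective c
    rw [lam_eq htm ha]
    have : a * t ∈ RingHom.ker μ.toAlgHom := Ideal.mul_mem_left _ _ htker
    exact (RingHom.mem_ker).1 this
  have hlam0 : lam t (0 : k) = 0 := by
    rw [lam_eq htm (map_zero B.res), zero_mul]
  -- ψ x is a multiple of t
  have hψx : ψ.1 x ∈ RingHom.ker μ.toAlgHom := by
    rw [RingHom.mem_ker]
    have h1 : μ (ψ.1 x) = φ.1 x := congrArg (fun z : HomSet R resR A => z.1 x) hψφ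
    exact h1.trans (hφ x (Submodule.mem_sup_right (Ideal.subset_span rfl)))
  rw [hker] at hψx
  obtain ⟨b, hb⟩ := Ideal.mem_span_singleton'.1 hψx
  obtain ⟨c, hc⟩ : ∃ c : k, B.res b = c := ⟨_, rfl⟩
  have hψx' : ψ.1 x = lam t c := by rw [← hb, lam_eq htm hc]
  obtain ⟨δ, hδ⟩ : ∃ δ : k, δ = dcoef D₁ x - dcoef D₂ x := ⟨_, rfl⟩
  have hδ0 : δ ≠ 0 := by rw [hδ]; exact sub_ne_zero.2 hne
  obtain ⟨c', hc'⟩ : ∃ c' : k, c' = -c / δ := ⟨_, rfl⟩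
  have hcc : c + c' * δ = 0 := by rw [hc']; field_simp; ring
  -- the scaled tangent vectors
  let E₁ : HomSet R resR (dual Λ k) := HomSet.map (scale c') D₁
  let E₂ : HomSet R resR (dual Λ k) := HomSet.map (scale c') D₂
  let E₂n : HomSet R resR (dual Λ k) := HomSet.map (scale (-1)) E₂
  have hE : ξ.app _ E₁ = ξ.app _ E₂ := by
    change ξ.app _ (HomSet.map (scale c') D₁) = ξ.app _ (HomSet.map (scale c') D₂)
    rw [ξ.natural, ξ.natural, hξ]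
  obtain ⟨w₀, hw₀1, hw₀2, hw₀σ⟩ := exists_act t ht' htm ψ E₂n
  obtain ⟨ψ₀, hψ₀⟩ : ∃ ψ₀ : HomSet R resR B, ψ₀ = HomSet.map (σ t ht' htm) w₀ := ⟨_, rfl⟩
  obtain ⟨w₁, hw₁1, hw₁2, hw₁σ⟩ := exists_act t ht' htm ψ₀ E₁
  obtain ⟨w₂, hw₂1, hw₂2, hw₂σ⟩ := exists_act t ht' htm ψ₀ E₂
  have hψ₀r : ∀ r, ψ₀.1 r = ψ.1 r + lam t (-(c' * dcoef D₂ r)) := by
    intro r
    rw [hψ₀, hw₀σ r]
    congr 2
    change (-1 : k) * (c' * dcoef D₂ r) = _
    ring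
  have hw₂ψ : HomSet.map (σ t ht' htm) w₂ = ψ := by
    apply Subtype.ext
    apply AlgHom.ext
    intro r
    rw [hw₂σ r, hψ₀r r, add_assoc, lam_add htm]
    change ψ.1 r + lam t (-(c' * dcoef D₂ r) + c' * dcoef D₂ r) = ψ.1 r
    rw [neg_add_cancel, hlam0, add_zero]
  have hww : ξ.app _ w₁ = ξ.app _ w₂ := by
    apply (h2 _ _ (isFibreProd_eps B)).1
    apply FibProd.ext
    · change F.map (p₁ B) (ξ.app _ w₁) = F.map (p₁ B) (ξ.app _ w₂)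
      rw [← ξ.natural, ← ξ.natural, hw₁1, hw₂1]
    · change F.map (p₂ B) (ξ.app _ w₁) = F.map (p₂ B) (ξ.app _ w₂)
      rw [← ξ.natural, ← ξ.natural, hw₁2, hw₂2, hE]
  have hψ'r : ∀ r, (HomSet.map (σ t ht' htm) w₁).1 r =
      ψ.1 r + lam t (c' * (dcoef D₁ r - dcoef D₂ r)) := by
    intro r
    rw [hw₁σ r, hψ₀r r, add_assoc, lam_add htm]
    congr 2
    change -(c' * dcoef D₂ r) + c' * dcoef D₁ r = _
    ring
  refine ⟨HomSet.map (σ t ht' htm) w₁, ?_, ?_, ?_⟩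
  · -- kills
    have hk𝔞 : ∀ a ∈ 𝔞, (HomSet.map (σ t ht' htm) w₁).1 a = 0 := by
      intro a ha
      rw [hψ'r a, hψk a ha, dcoef_of_kills hD₁ ha, dcoef_of_kills hD₂ ha, sub_self, mul_zero, hlam0,
        add_zero]
    have hkx : (HomSet.map (σ t ht' htm) w₁).1 x = 0 := by
      rw [hψ'r x, hψx', lam_add htm, ← hδ, hcc, hlam0]
    intro a ha
    obtain ⟨a₁, ha₁, s, hs, rfl⟩ := Submodule.mem_sup.1 ha
    obtain ⟨r, rfl⟩ := Ideal.mem_span_singleton'.1 hs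
    rw [map_add, map_mul, hk𝔞 a₁ ha₁, hkx, mul_zero, add_zero]
  · apply Subtype.ext
    apply AlgHom.ext
    intro r
    change μ ((HomSet.map (σ t ht' htm) w₁).1 r) = φ.1 r
    rw [hψ'r r]
    rw [map_add]
    have h1 : μ.toAlgHom (lam t (c' * (dcoef D₁ r - dcoef D₂ r))) = 0 := hμlam _
    rw [h1, add_zero]
    exact congrArg (fun z : HomSet R resR A => z.1 r) hψφ
  · rw [ξ.natural, hww, ← ξ.natural, hw₂ψ, hψy]

theorem vk_bot (hξ : IsVersal ξ) : VK ξ ⊥ := by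
  intro B A μ hμ φ y _ hy
  obtain ⟨ψ, h1, h2⟩ := hξ μ hμ.1 φ y hy
  refine ⟨ψ, fun a ha => ?_, h1, h2⟩
  rw [(Ideal.mem_bot).1 ha, map_zero]

theorem exists_trim [IsNoetherianRing R] [IsLocalRing R] (h2 : Heps F) (hξ : IsVersal ξ)
    (hI : ∀ D₁ D₂ : HomSet R resR (dual Λ k), ξ.app _ D₁ = ξ.app _ D₂ →
      (∀ x ∈ maximalIdeal R, dcoef D₁ x = dcoef D₂ x) → D₁ = D₂) :
    ∃ 𝔞 : Ideal R, 𝔞 ≤ maximalIdeal R ∧ VK ξ 𝔞 ∧
      ∀ D₁ D₂ : HomSet R resR (dual Λ k), Kills 𝔞 D₁ → Kills 𝔞 D₂ →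
        ξ.app _ D₁ = ξ.app _ D₂ → D₁ = D₂ := by
  have hne : {𝔞 : Ideal R | 𝔞 ≤ maximalIdeal R ∧ VK ξ 𝔞}.Nonempty := ⟨⊥, bot_le, vk_bot hξ⟩
  obtain ⟨𝔞, ⟨h𝔞m, h𝔞V⟩, hmax⟩ :=
    (wellFounded_gt : WellFounded ((· > ·) : Ideal R → Ideal R → Prop)).has_min _ hne
  refine ⟨𝔞, h𝔞m, h𝔞V, fun D₁ D₂ hD₁ hD₂ hD => ?_⟩
  by_contra hne
  have hex : ∃ x ∈ maximalIdeal R, dcoef D₁ x ≠ dcoef D₂ x := by
    by_contra hall
    push Not at hall
    exact hne (hI D₁ D₂ hD hall)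
  obtain ⟨x, hxm, hx⟩ := hex
  have hx𝔞 : x ∉ 𝔞 := fun h => hx (by rw [dcoef_of_kills hD₁ h, dcoef_of_kills hD₂ h])
  refine hmax (𝔞 ⊔ Ideal.span {x})
    ⟨sup_le h𝔞m ((Ideal.span_singleton_le_iff_mem _).2 hxm), step h2 𝔞 h𝔞V D₁ D₂ hD₁ hD₂ hD x hx⟩ ?_
  exact lt_of_le_of_ne le_sup_left fun h => hx𝔞 (h ▸ Submodule.mem_sup_right (Ideal.subset_span rfl))

end Trim

section Quot

/-- The quotient of a coefficient ring by an ideal. -/
noncomputable def quotCRing (R : CRing Λ k) (𝔞 : Ideal R.carrier)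
    (h : 𝔞 ≤ maximalIdeal R.carrier) : CRing Λ k :=
  haveI : Nontrivial (R.carrier ⧸ 𝔞) := Ideal.Quotient.nontrivial_iff.2
    (fun h' => (maximalIdeal.isMaximal R.carrier).ne_top (top_le_iff.1 (h' ▸ h)))
  haveI hloc : IsLocalRing (R.carrier ⧸ 𝔞) :=
    IsLocalRing.of_surjective' (Ideal.Quotient.mk 𝔞) Ideal.Quotient.mk_surjective
  { carrier := R.carrier ⧸ 𝔞
    isLocalRing := hloc
    res := Ideal.Quotient.liftₐ 𝔞 R.res (fun a ha => (R.mem_maximalIdeal_iff a).1 (h ha))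
    res_surjective := fun c => by
      obtain ⟨a, ha⟩ := R.res_surjective c
      exact ⟨Ideal.Quotient.mk 𝔞 a, ha⟩
    isAdicComplete := by
      have hmap : (maximalIdeal R.carrier).map (Ideal.Quotient.mk 𝔞) =
          maximalIdeal (R.carrier ⧸ 𝔞) :=
        map_maximalIdeal_of_surjective _ Ideal.Quotient.mk_surjective
      have hcomp : IsAdicComplete (maximalIdeal R.carrier) R.carrier := R.isAdicComplete
      have hpre := isPrecomplete_quotient (maximalIdeal R.carrier) 𝔞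
      rw [hmap] at hpre
      exact { toIsHausdorff := inferInstance, toIsPrecomplete := hpre } }

/-- The projection to the quotient. -/
noncomputable def quotCRingMk (R : CRing Λ k) (𝔞 : Ideal R.carrier)
    (h : 𝔞 ≤ maximalIdeal R.carrier) : R.carrier →ₐ[Λ] (quotCRing R 𝔞 h).carrier :=
  Ideal.Quotient.mkₐ Λ 𝔞

lemma quotCRingMk_res (R : CRing Λ k) (𝔞 : Ideal R.carrier) (h : 𝔞 ≤ maximalIdeal R.carrier) :
    (quotCRing R 𝔞 h).res.comp (quotCRingMk R 𝔞 h) = R.res :=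
  AlgHom.ext fun _ => rfl

lemma quotCRingMk_surjective (R : CRing Λ k) (𝔞 : Ideal R.carrier)
    (h : 𝔞 ≤ maximalIdeal R.carrier) : Function.Surjective (quotCRingMk R 𝔞 h) :=
  Ideal.Quotient.mk_surjective

/-- Maps killing `𝔞` descend to the quotient. -/
lemma exists_descend (R : CRing Λ k) (𝔞 : Ideal R.carrier) (h : 𝔞 ≤ maximalIdeal R.carrier)
    {A : Art Λ k} (ψ : HomSet R.carrier R.res A) (hψ : Kills 𝔞 ψ) :
    ∃ ψ' : HomSet (quotCRing R 𝔞 h).carrier (quotCRing R 𝔞 h).res A,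
      ψ'.1.comp (quotCRingMk R 𝔞 h) = ψ.1 := by
  refine ⟨⟨Ideal.Quotient.liftₐ 𝔞 ψ.1 hψ, ?_⟩, ?_⟩
  · apply AlgHom.ext
    intro z
    obtain ⟨a, rfl⟩ := Ideal.Quotient.mk_surjective z
    exact DFunLike.congr_fun ψ.2 a
  · apply AlgHom.ext
    intro a
    rfl

variable {F : Art Λ k ⥤ Type v}

/-- Trimming a versal family to a hull. -/
theorem hasHull_of_versal (h0 : H0 F) (h2 : Heps F) (R : CRing Λ k)
    (ξ : Family R.carrier R.res F) (hξ : IsVersal ξ)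
    (hI : ∀ D₁ D₂ : HomSet R.carrier R.res (dual Λ k), ξ.app _ D₁ = ξ.app _ D₂ →
      (∀ x ∈ maximalIdeal R.carrier, dcoef D₁ x = dcoef D₂ x) → D₁ = D₂) : HasHull F := by
  obtain ⟨𝔞, h𝔞, hV, hT⟩ := exists_trim h2 hξ hI
  let π := quotCRingMk R 𝔞 h𝔞
  have hπ := quotCRingMk_res R 𝔞 h𝔞
  have hπs := quotCRingMk_surjective R 𝔞 h𝔞
  have hkill : ∀ {A : Art Λ k} (φ' : HomSet (quotCRing R 𝔞 h𝔞).carrier (quotCRing R 𝔞 h𝔞).res A),
      Kills 𝔞 (⟨φ'.1.comp π, by rw [← AlgHom.comp_assoc, φ'.2, hπ]⟩ : HomSet R.carrier R.res A) := by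
    intro A φ' a ha
    have hz : (Ideal.Quotient.mk 𝔞 a : R.carrier ⧸ 𝔞) = 0 := Ideal.Quotient.eq_zero_iff_mem.2 ha
    exact (congrArg φ'.1 hz).trans (map_zero _)
  have hvers : IsVersal (ξ.along π hπ) := by
    apply isVersal_of_small
    intro B A μ hμ φ' y hy
    obtain ⟨ψ, hψk, hψφ, hψy⟩ := hV μ hμ ⟨φ'.1.comp π, by rw [← AlgHom.comp_assoc, φ'.2, hπ]⟩ y
      (hkill φ') hy
    obtain ⟨ψ', hψ'⟩ := exists_descend R 𝔞 h𝔞 ψ hψk
    refine ⟨ψ', ?_, ?_⟩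
    · apply Subtype.ext
      apply AlgHom.ext
      intro z
      obtain ⟨a, rfl⟩ := hπs z
      have e1 : ψ'.1 (π a) = ψ.1 a := DFunLike.congr_fun hψ' a
      change μ (ψ'.1 (π a)) = φ'.1 (π a)
      rw [e1]
      exact congrArg (fun w : HomSet R.carrier R.res A => w.1 a) hψφ
    · change ξ.app B ⟨ψ'.1.comp π, _⟩ = y
      rw [← hψy]
      congr 1
      exact Subtype.ext hψ'
  refine ⟨⟨quotCRing R 𝔞 h𝔞, ξ.along π hπ, hvers, ?_, surj_of_versal h0 _ hvers _⟩⟩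
  intro D₁' D₂' hD
  have hD' := hT _ _ (hkill D₁') (hkill D₂') hD
  apply Subtype.ext
  apply AlgHom.ext
  intro z
  obtain ⟨a, rfl⟩ := hπs z
  exact congrArg (fun w : HomSet R.carrier R.res (dual Λ k) => w.1 a) hD'

end Quot


end Groth.Agent.H15.ArtTrim
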