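import Mathlib
import Groth.Agent.H15.ArtInd

universe u v

open CategoryTheory

namespace Groth.Agent.H15.ArtLeast

open ArtFun ArtFun.Art IsLocalRing Groth.Agent.H15.ArtEps Groth.Agent.H15.ArtSmooth
  Groth.Agent.H15.ArtInd

variable {Λ : Type u} {k : Type u} [CommRing Λ] [Field k] [Algebra Λ k]

section

variable {F : Art Λ k ⥤ Type v} {B A : Art Λ k} (p : B ⟶ A) (x : F.obj A)

/-- `x` lifts to `B/J`. -/
def Good (J : Ideal B) : Prop :=
  ∃ (hJ : J ≤ RingHom.ker p.toAlgHom) (hJ' : J ≤ maximalIdeal B),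
    ∃ y : F.obj (quot B J hJ'), F.map (quotFactor hJ' p hJ) y = x

variable {p x}

lemma good_mono {J J' : Ideal B} (h : Good p x J) (hle : J ≤ J')
    (hJ'I : J' ≤ RingHom.ker p.toAlgHom) : Good p x J' := by
  obtain ⟨hJ, hJ', y, hy⟩ := h
  have hJ'm : J' ≤ maximalIdeal B := hJ'I.trans (ker_le_maximalIdeal p)
  have hker : J ≤ RingHom.ker (quotMk B J' hJ'm).toAlgHom := by
    intro b hb
    rw [RingHom.mem_ker]
    change Ideal.Quotient.mk J' b = 0
    exact Ideal.Quotient.eq_zero_iff_mem.2 (hle hb)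
  refine ⟨hJ'I, hJ'm, F.map (quotFactor hJ' (quotMk B J' hJ'm) hker) y, ?_⟩
  have hcomp : quotFactor hJ' (quotMk B J' hJ'm) hker ≫ quotFactor hJ'm p hJ'I =
      quotFactor hJ' p hJ := by
    apply hom_ext
    apply AlgHom.ext
    intro z
    obtain ⟨b, rfl⟩ := Ideal.Quotient.mk_surjective z
    rfl
  rw [← Functor.map_comp_apply, hcomp, hy]

lemma good_ker (hp : Function.Surjective p) : Good p x (RingHom.ker p.toAlgHom) := by
  have hI' : RingHom.ker p.toAlgHom ≤ maximalIdeal B := ker_le_maximalIdeal p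
  have hbij : Function.Bijective (quotFactor hI' p le_rfl) := by
    constructor
    · intro z₁ z₂ h
      obtain ⟨b₁, rfl⟩ := Ideal.Quotient.mk_surjective z₁
      obtain ⟨b₂, rfl⟩ := Ideal.Quotient.mk_surjective z₂
      have h' : p b₁ = p b₂ := h
      refine (Ideal.Quotient.eq).2 ?_
      rw [RingHom.mem_ker, map_sub, sub_eq_zero]
      exact h'
    · intro a
      obtain ⟨b, rfl⟩ := hp a
      exact ⟨Ideal.Quotient.mk _ b, rfl⟩
  obtain ⟨g, hg1, hg2⟩ := exists_inv_of_bijective _ hbij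
  refine ⟨le_rfl, hI', F.map g x, ?_⟩
  rw [← Functor.map_comp_apply, hg2, Functor.map_id_apply]

/-- The square expressing `B/(J ⊓ K)` as a fibre product when `J ⊔ K` is the whole kernel. -/
lemma isFibreProd_inf {J K : Ideal B} (hJ : J ≤ RingHom.ker p.toAlgHom)
    (hK : K ≤ RingHom.ker p.toAlgHom) (hJK : J ⊔ K = RingHom.ker p.toAlgHom)
    (hJ' : J ≤ maximalIdeal B) (hK' : K ≤ maximalIdeal B) (hJK' : J ⊓ K ≤ maximalIdeal B)
    (h1 : J ⊓ K ≤ RingHom.ker (quotMk B J hJ').toAlgHom)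
    (h2 : J ⊓ K ≤ RingHom.ker (quotMk B K hK').toAlgHom) :
    IsFibreProd (quotFactor hJK' (quotMk B J hJ') h1) (quotFactor hJK' (quotMk B K hK') h2)
      (quotFactor hJ' p hJ) (quotFactor hK' p hK) where
  w := by
    apply hom_ext
    apply AlgHom.ext
    intro z
    obtain ⟨b, rfl⟩ := Ideal.Quotient.mk_surjective z
    rfl
  inj := by
    intro z₁ z₂ e1 e2
    obtain ⟨b₁, rfl⟩ := Ideal.Quotient.mk_surjective z₁
    obtain ⟨b₂, rfl⟩ := Ideal.Quotient.mk_surjective z₂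
    have e1' : Ideal.Quotient.mk J b₁ = Ideal.Quotient.mk J b₂ := e1
    have e2' : Ideal.Quotient.mk K b₁ = Ideal.Quotient.mk K b₂ := e2
    rw [Ideal.Quotient.eq] at e1' e2'
    exact (Ideal.Quotient.eq).2 ⟨e1', e2'⟩
  surj := by
    intro a' a'' h
    obtain ⟨b₁, rfl⟩ := Ideal.Quotient.mk_surjective a'
    obtain ⟨b₂, rfl⟩ := Ideal.Quotient.mk_surjective a''
    have h' : p b₁ = p b₂ := h
    have h3 : b₁ - b₂ ∈ J ⊔ K := by
      rw [hJK, RingHom.mem_ker, map_sub, sub_eq_zero]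
      exact h'
    obtain ⟨j, hj, κ, hκ, hjκ⟩ := Submodule.mem_sup.1 h3
    refine ⟨Ideal.Quotient.mk _ (b₁ - j), ?_, ?_⟩
    · refine (Ideal.Quotient.eq (I := J)).2 ?_
      have : b₁ - j - b₁ = -j := by ring
      rw [this]
      exact J.neg_mem hj
    · refine (Ideal.Quotient.eq (I := K)).2 ?_
      have : b₁ - j - b₂ = κ := by linear_combination -hjκ
      rw [this]
      exact hκ

end

/-- Complements inside a module killed by the maximal ideal. -/
lemma exists_compl {B : Type u} [CommRing B] [IsLocalRing B] [IsNoetherianRing B] (I L : Ideal B)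
    (hLI : L ≤ I) (hmI : maximalIdeal B * I = ⊥) :
    ∃ C : Ideal B, C ≤ I ∧ L ⊔ C = I ∧ L ⊓ C = ⊥ := by
  have hne : {C : Ideal B | C ≤ I ∧ L ⊓ C = ⊥}.Nonempty := ⟨⊥, bot_le, inf_bot_eq _⟩
  obtain ⟨C, ⟨hCI, hLC⟩, hmax⟩ :=
    (wellFounded_gt : WellFounded ((· > ·) : Ideal B → Ideal B → Prop)).has_min _ hne
  refine ⟨C, hCI, le_antisymm (sup_le hLI hCI) ?_, hLC⟩
  intro t ht
  by_contra htn
  have hkill : ∀ b ∈ maximalIdeal B, b * t = 0 := fun b hb => by
    have h1 : b * t ∈ maximalIdeal B * I := Ideal.mul_mem_mul hb ht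
    rw [hmI] at h1
    exact h1
  refine hmax (C ⊔ Ideal.span {t}) ⟨sup_le hCI ((Ideal.span_singleton_le_iff_mem _).2 ht), ?_⟩ ?_
  · rw [eq_bot_iff]
    rintro y ⟨hyL, hyC⟩
    obtain ⟨c, hc, s, hs, hcs⟩ := Submodule.mem_sup.1 hyC
    obtain ⟨b, rfl⟩ := Ideal.mem_span_singleton'.1 hs
    by_cases hb : b ∈ maximalIdeal B
    · rw [hkill b hb, add_zero] at hcs
      have : y ∈ L ⊓ C := ⟨hyL, hcs ▸ hc⟩
      rw [hLC] at this
      exact this
    · exfalso
      have hbu : IsUnit b := by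
        by_contra h
        exact hb ((mem_maximalIdeal b).2 h)
      obtain ⟨u, rfl⟩ := hbu
      apply htn
      have : t = ↑u⁻¹ * (y - c) := by
        rw [← hcs, add_sub_cancel_left, ← mul_assoc, Units.inv_mul, one_mul]
      rw [this]
      exact Ideal.mul_mem_left _ _ (Submodule.sub_mem _ (Submodule.mem_sup_left hyL)
        (Submodule.mem_sup_right hc))
  · refine lt_of_le_of_ne le_sup_left fun h => htn ?_
    have : t ∈ C := h ▸ (Submodule.mem_sup_right (Ideal.subset_span rfl))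
    exact Submodule.mem_sup_right this

theorem exists_least [IsNoetherianRing Λ] [Module.Finite Λ k]
    {F : Art Λ k ⥤ Type v} (h1 : S1 F)
    {B A : Art Λ k} (p : B ⟶ A) (hp : IsSemismallExt p) (x : F.obj A) :
    ∃ (J₀ : Ideal B) (hJ₀ : J₀ ≤ RingHom.ker p.toAlgHom) (hJ₀' : J₀ ≤ IsLocalRing.maximalIdeal B),
      (∃ y : F.obj (quot B J₀ hJ₀'), F.map (quotFactor hJ₀' p hJ₀) y = x) ∧
      ∀ (J : Ideal B) (hJ : J ≤ RingHom.ker p.toAlgHom) (hJ' : J ≤ IsLocalRing.maximalIdeal B),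
        (∃ y : F.obj (quot B J hJ'), F.map (quotFactor hJ' p hJ) y = x) → J₀ ≤ J := by
  obtain ⟨hsurj, hmk⟩ := hp
  have hne : {J : Ideal B | Good p x J}.Nonempty := ⟨_, good_ker hsurj⟩
  obtain ⟨J₀, hJ₀good, hmin⟩ :=
    (wellFounded_lt : WellFounded ((· < ·) : Ideal B → Ideal B → Prop)).has_min _ hne
  have hinf : ∀ J K : Ideal B, Good p x J → Good p x K → Good p x (J ⊓ K) := by
    intro J K hJg hKg
    obtain ⟨hJ, hJ', yJ, hyJ⟩ := hJg
    have hKI : K ≤ RingHom.ker p.toAlgHom := hKg.1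
    obtain ⟨C, hCI, hsup, hinf⟩ := exists_compl (RingHom.ker p.toAlgHom) (J ⊔ K) (sup_le hJ hKI) hmk
    have hK'I : K ⊔ C ≤ RingHom.ker p.toAlgHom := sup_le hKI hCI
    obtain ⟨hK₁, hK₁', yK, hyK⟩ := good_mono hKg le_sup_left hK'I
    have hJK : J ⊔ (K ⊔ C) = RingHom.ker p.toAlgHom := by rw [← sup_assoc, hsup]
    have hinter : J ⊓ (K ⊔ C) = J ⊓ K := by
      apply le_antisymm
      · rintro y ⟨hyJ', hyKC⟩
        obtain ⟨κ, hκ, c, hc, hκc⟩ := Submodule.mem_sup.1 hyKC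
        have hcmem : c ∈ (J ⊔ K) ⊓ C := by
          refine ⟨?_, hc⟩
          have : c = y - κ := by rw [← hκc]; ring
          rw [this]
          exact Submodule.sub_mem _ (Submodule.mem_sup_left hyJ') (Submodule.mem_sup_right hκ)
        rw [hinf] at hcmem
        rw [(Ideal.mem_bot).1 hcmem, add_zero] at hκc
        exact ⟨hyJ', hκc ▸ hκ⟩
      · exact inf_le_inf_left _ le_sup_left
    have hJK' : J ⊓ (K ⊔ C) ≤ maximalIdeal B := inf_le_left.trans hJ'
    have e1 : J ⊓ (K ⊔ C) ≤ RingHom.ker (quotMk B J hJ').toAlgHom := by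
      intro b hb
      rw [RingHom.mem_ker]
      exact Ideal.Quotient.eq_zero_iff_mem.2 hb.1
    have e2 : J ⊓ (K ⊔ C) ≤ RingHom.ker (quotMk B (K ⊔ C) hK₁').toAlgHom := by
      intro b hb
      rw [RingHom.mem_ker]
      exact Ideal.Quotient.eq_zero_iff_mem.2 hb.2
    have fp := isFibreProd_inf (p := p) hJ hK₁ hJK hJ' hK₁' hJK' e1 e2
    have hsurjK : Function.Surjective (quotFactor hK₁' p hK₁) := by
      intro a
      obtain ⟨b, rfl⟩ := hsurj a
      exact ⟨Ideal.Quotient.mk _ b, rfl⟩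
    obtain ⟨z, hz⟩ := h1 _ _ _ _ fp hsurjK ⟨(yJ, yK), hyJ.trans hyK.symm⟩
    have hz1 : F.map (quotFactor hJK' (quotMk B J hJ') e1) z = yJ := congrArg (fun w => w.1.1) hz
    rw [← hinter]
    refine ⟨inf_le_left.trans hJ, hJK', z, ?_⟩
    have hcomp : quotFactor hJK' (quotMk B J hJ') e1 ≫ quotFactor hJ' p hJ =
        quotFactor hJK' p (inf_le_left.trans hJ) := by
      apply hom_ext
      apply AlgHom.ext
      intro w
      obtain ⟨b, rfl⟩ := Ideal.Quotient.mk_surjective w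
      rfl
    rw [← hyJ, ← hz1, ← Functor.map_comp_apply, hcomp]
  obtain ⟨hJ₀, hJ₀', y₀, hy₀⟩ := hJ₀good
  refine ⟨J₀, hJ₀, hJ₀', ⟨y₀, hy₀⟩, ?_⟩
  intro J hJ hJ' hy
  have hg : Good p x (J₀ ⊓ J) := hinf J₀ J ⟨hJ₀, hJ₀', y₀, hy₀⟩ ⟨hJ, hJ', hy⟩
  by_contra hnle
  have hlt : J₀ ⊓ J < J₀ := lt_of_le_of_ne inf_le_left fun h => hnle (h ▸ inf_le_right)
  exact hmin _ hg hlt

end Groth.Agent.H15.ArtLeast
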