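import Mathlib

universe u v

namespace Groth.Agent.H15.ArtML

/-- Sections of a surjective tower through a given point. -/
theorem exists_section : ∀ (n : ℕ) {X : ℕ → Type u} (g : ∀ n, X (n + 1) → X n)
    (_ : ∀ n, Function.Surjective (g n)) (a : X n),
    ∃ s : ∀ m, X m, (∀ m, g m (s (m + 1)) = s m) ∧ s n = a := by
  intro n
  induction n with
  | zero =>
    intro X g hg a
    choose lift hlift using hg
    refine ⟨fun m => Nat.rec (motive := X) a (fun m y => lift m y) m, fun m => ?_, rfl⟩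
    exact hlift m _
  | succ n ih =>
    intro X g hg a
    obtain ⟨s, hs, hsn⟩ := ih (X := fun m => X (m + 1)) (fun m => g (m + 1)) (fun m => hg (m + 1)) a
    refine ⟨fun m => match m with
      | 0 => g 0 (s 0)
      | m + 1 => s m, fun m => ?_, hsn⟩
    cases m with
    | zero => rfl
    | succ m => exact hs m

section ML

variable {X : ℕ → Type u} (g : ∀ n, X (n + 1) → X n)

/-- `Img g m n y`: `y : X n` lifts `m` levels up. -/
def Img : ∀ (m n : ℕ), X n → Prop
  | 0, _, _ => True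
  | m + 1, n, y => ∃ z : X (n + 1), g n z = y ∧ Img m (n + 1) z

lemma img_succ {m n : ℕ} {y : X n} : Img g (m + 1) n y ↔ ∃ z : X (n + 1), g n z = y ∧ Img g m (n + 1) z :=
  Iff.rfl

lemma img_mono : ∀ (m n : ℕ) (y : X n), Img g (m + 1) n y → Img g m n y := by
  intro m
  induction m with
  | zero => intro n y _; trivial
  | succ m ih =>
    intro n y h
    obtain ⟨z, hz, hz'⟩ := h
    exact ⟨z, hz, ih _ _ hz'⟩

lemma img_mono' {m m' n : ℕ} (h : m ≤ m') (y : X n) (hy : Img g m' n y) : Img g m n y := by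
  induction h with
  | refl => exact hy
  | step _ ih => exact ih (img_mono g _ _ _ hy)

lemma exists_img [∀ n, Nonempty (X n)] : ∀ (m n : ℕ), ∃ y : X n, Img g m n y := by
  intro m
  induction m with
  | zero => intro n; exact ⟨Classical.arbitrary _, trivial⟩
  | succ m ih =>
    intro n
    obtain ⟨z, hz⟩ := ih (n + 1)
    exact ⟨g n z, z, rfl, hz⟩

/-- Mittag-Leffler: a tower of nonempty sets whose images stabilize has a section. -/
theorem exists_section_of_stable [∀ n, Nonempty (X n)]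
    (hst : ∀ n, ∃ m₀, ∀ y : X n, Img g m₀ n y → ∀ m, Img g m n y) :
    ∃ s : ∀ m, X m, ∀ m, g m (s (m + 1)) = s m := by
  let E : ∀ n, X n → Prop := fun n y => ∀ m, Img g m n y
  have hEne : ∀ n, Nonempty {y : X n // E n y} := by
    intro n
    obtain ⟨m₀, hm₀⟩ := hst n
    obtain ⟨y, hy⟩ := exists_img g m₀ n
    exact ⟨⟨y, hm₀ y hy⟩⟩
  have hmap : ∀ n (z : X (n + 1)), E (n + 1) z → E n (g n z) := by
    intro n z hz m
    cases m with
    | zero => trivial
    | succ m => exact ⟨z, rfl, hz m⟩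
  let g' : ∀ n, {y : X (n + 1) // E (n + 1) y} → {y : X n // E n y} :=
    fun n z => ⟨g n z.1, hmap n z.1 z.2⟩
  have hsurj : ∀ n, Function.Surjective (g' n) := by
    intro n ⟨y, hy⟩
    obtain ⟨m₁, hm₁⟩ := hst (n + 1)
    obtain ⟨z, hz, hz'⟩ := hy (m₁ + 1)
    exact ⟨⟨z, hm₁ z hz'⟩, Subtype.ext hz⟩
  obtain ⟨y₀⟩ := hEne 0
  obtain ⟨s, hs, -⟩ := exists_section 0 (X := fun n => {y : X n // E n y}) g' hsurj y₀
  exact ⟨fun m => (s m).1, fun m => congrArg Subtype.val (hs m)⟩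

end ML

section Affine

variable {R : ℕ → Type u} [∀ n, CommRing (R n)] (φ : ∀ n, R (n + 1) →+* R n)
  (hφ : ∀ n, Function.Surjective (φ n))
  {M : ℕ → Type v} [∀ n, AddCommGroup (M n)] [∀ n, Module (R n) (M n)]
  (T : ∀ n, M (n + 1) →+ M n) (hT : ∀ n (a : R (n + 1)) (z : M (n + 1)), T n (a • z) = φ n a • T n z)

include hφ hT in
/-- The image of a submodule under a semilinear transition map. -/
def imgSub (n : ℕ) (P : Submodule (R (n + 1)) (M (n + 1))) : Submodule (R n) (M n) where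
  carrier := T n '' P
  add_mem' := by
    rintro _ _ ⟨x, hx, rfl⟩ ⟨y, hy, rfl⟩
    exact ⟨x + y, P.add_mem hx hy, map_add _ _ _⟩
  zero_mem' := ⟨0, P.zero_mem, map_zero _⟩
  smul_mem' := by
    rintro a _ ⟨x, hx, rfl⟩
    obtain ⟨a', rfl⟩ := hφ n a
    exact ⟨a' • x, P.smul_mem _ hx, hT n a' x⟩

lemma mem_imgSub {n : ℕ} {P : Submodule (R (n + 1)) (M (n + 1))} {y : M n} :
    y ∈ imgSub φ hφ T hT n P ↔ ∃ x ∈ P, T n x = y := Iff.rfl

lemma imgSub_mono {n : ℕ} {P Q : Submodule (R (n + 1)) (M (n + 1))} (h : P ≤ Q) :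
    imgSub φ hφ T hT n P ≤ imgSub φ hφ T hT n Q := by
  rintro _ ⟨x, hx, rfl⟩
  exact ⟨x, h hx, rfl⟩

variable (N : ∀ n, Submodule (R n) (M n)) (hN : ∀ n z, z ∈ N (n + 1) → T n z ∈ N n)

/-- Iterated images of the homogeneous system. -/
def D : ℕ → ∀ n, Submodule (R n) (M n)
  | 0 => N
  | m + 1 => fun n => imgSub φ hφ T hT n (D m (n + 1))

include hN in
lemma D_anti : ∀ m n, D φ hφ T hT N (m + 1) n ≤ D φ hφ T hT N m n := by
  intro m
  induction m with
  | zero =>
    rintro n _ ⟨x, hx, rfl⟩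
    exact hN n x hx
  | succ m ih =>
    intro n
    exact imgSub_mono φ hφ T hT (ih (n + 1))

include hN in
lemma D_anti' {m m' : ℕ} (h : m ≤ m') (n : ℕ) : D φ hφ T hT N m' n ≤ D φ hφ T hT N m n := by
  induction h with
  | refl => exact le_rfl
  | step _ ih => exact (D_anti φ hφ T hT N hN _ n).trans ih

include hN in
lemma D_le_N (m n : ℕ) : D φ hφ T hT N m n ≤ N n := D_anti' φ hφ T hT N hN (Nat.zero_le m) n

variable (b : ∀ n, M n) (hb : ∀ n, T n (b (n + 1)) - b n ∈ N n)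

/-- The tower of cosets. -/
def Xc (n : ℕ) : Type v := {y : M n // y - b n ∈ N n}

include hN hb in
def gc (n : ℕ) (z : Xc N b (n + 1)) : Xc N b n :=
  ⟨T n z.1, by
    have h1 : T n z.1 - b n = T n (z.1 - b (n + 1)) + (T n (b (n + 1)) - b n) := by
      rw [map_sub]; abel
    rw [h1]
    exact (N n).add_mem (hN n _ z.2) (hb n)⟩

instance (n : ℕ) : Nonempty (Xc N b n) := ⟨⟨b n, by rw [sub_self]; exact (N n).zero_mem⟩⟩

include hN hb in
lemma key : ∀ (m n : ℕ) (y y₀ : Xc N b n), Img (gc T N hN b hb) m n y₀ →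
    (Img (gc T N hN b hb) m n y ↔ y.1 - y₀.1 ∈ D φ hφ T hT N m n) := by
  intro m
  induction m with
  | zero =>
    intro n y y₀ _
    refine ⟨fun _ => ?_, fun _ => trivial⟩
    have h1 : y.1 - y₀.1 = (y.1 - b n) - (y₀.1 - b n) := by abel
    change y.1 - y₀.1 ∈ N n
    rw [h1]
    exact (N n).sub_mem y.2 y₀.2
  | succ m ih =>
    intro n y y₀ h0
    obtain ⟨z₀, hz₀, hz₀'⟩ := h0
    constructor
    · rintro ⟨z, hz, hz'⟩
      refine ⟨z.1 - z₀.1, (ih (n + 1) z z₀ hz₀').1 hz', ?_⟩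
      rw [map_sub]
      have e1 : T n z.1 = y.1 := congrArg Subtype.val hz
      have e2 : T n z₀.1 = y₀.1 := congrArg Subtype.val hz₀
      rw [e1, e2]
    · rintro ⟨e, he, hTe⟩
      have heN : e ∈ N (n + 1) := D_le_N φ hφ T hT N hN m (n + 1) he
      have hzmem : z₀.1 + e - b (n + 1) ∈ N (n + 1) := by
        have h1 : z₀.1 + e - b (n + 1) = (z₀.1 - b (n + 1)) + e := by abel
        rw [h1]
        exact (N (n + 1)).add_mem z₀.2 heN
      refine ⟨⟨z₀.1 + e, hzmem⟩, ?_, ?_⟩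
      · apply Subtype.ext
        change T n (z₀.1 + e) = y.1
        have e2 : T n z₀.1 = y₀.1 := congrArg Subtype.val hz₀
        rw [map_add, e2, hTe]
        abel
      · refine (ih (n + 1) ⟨z₀.1 + e, hzmem⟩ z₀ hz₀').2 ?_
        change z₀.1 + e - z₀.1 ∈ _
        rw [add_sub_cancel_left]
        exact he

include hφ hT hN hb in
/-- Mittag-Leffler for towers of cosets in Artinian modules. -/
theorem exists_compatible [∀ n, IsArtinian (R n) (M n)] :
    ∃ y : ∀ n, M n, (∀ n, T n (y (n + 1)) = y n) ∧ ∀ n, y n - b n ∈ N n := by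
  have hst : ∀ n, ∃ m₀, ∀ y : Xc N b n, Img (gc T N hN b hb) m₀ n y →
      ∀ m, Img (gc T N hN b hb) m n y := by
    intro n
    let F : ℕ →o (Submodule (R n) (M n))ᵒᵈ :=
      ⟨fun m => OrderDual.toDual (D φ hφ T hT N m n), fun m m' h => D_anti' φ hφ T hT N hN h n⟩
    obtain ⟨m₀, hm₀⟩ := IsArtinian.monotone_stabilizes F
    refine ⟨m₀, fun y hy m => ?_⟩
    rcases le_total m m₀ with h | h
    · exact img_mono' _ h y hy
    · obtain ⟨y₀, hy₀⟩ := exists_img (gc T N hN b hb) m n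
      have h1 := (key φ hφ T hT N hN b hb m₀ n y y₀ (img_mono' _ h y₀ hy₀)).1 hy
      have h2 : D φ hφ T hT N m₀ n = D φ hφ T hT N m n := congrArg OrderDual.ofDual (hm₀ m h)
      rw [h2] at h1
      exact (key φ hφ T hT N hN b hb m n y y₀ hy₀).2 h1
  obtain ⟨s, hs⟩ := exists_section_of_stable (gc T N hN b hb) hst
  exact ⟨fun n => (s n).1, fun n => congrArg Subtype.val (hs n), fun n => (s n).2⟩

end Affine

end Groth.Agent.H15.ArtML
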