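import Mathlib
import Groth.Agent.H15.ArtML
import Groth.Agent.H15.ArtEps

universe u v

open CategoryTheory

namespace Groth.Agent.H15.ArtLim

open ArtFun ArtFun.Art IsLocalRing Groth.Agent.H15.ArtEps Groth.Agent.H15.ArtML

variable {Λ : Type u} {k : Type u} [CommRing Λ] [Field k] [Algebra Λ k]


theorem span_eq_maximalIdeal_of_map {A' A : Type u} [CommRing A'] [CommRing A] [IsLocalRing A']
    [IsLocalRing A] [IsNoetherianRing A'] [IsNoetherianRing A] (φ : A' →+* A)
    (hφ : Function.Surjective φ)
    (hr : (maximalIdeal A').spanFinrank ≤ (maximalIdeal A).spanFinrank)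
    (a : Set A') (ha : a ⊆ maximalIdeal A')
    (hgen : Ideal.span (φ '' a) = maximalIdeal A) :
    Ideal.span a = maximalIdeal A' := by
  classical
  have hmap : (maximalIdeal A').map φ = maximalIdeal A := map_maximalIdeal_of_surjective φ hφ
  obtain ⟨a', ha'⟩ : ∃ a' : Set (maximalIdeal A'), a' = Subtype.val ⁻¹' a := ⟨_, rfl⟩
  have hval : Subtype.val '' a' = a := by
    rw [ha']
    ext x
    constructor
    · rintro ⟨y, hy, rfl⟩
      exact hy
    · intro hx
      exact ⟨⟨x, ha hx⟩, hx, rfl⟩
  obtain ⟨U, hUdef⟩ : ∃ U : Submodule (ResidueField A') (CotangentSpace A'),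
    U = Submodule.span (ResidueField A') ((maximalIdeal A').toCotangent '' a') := ⟨_, rfl⟩
  by_cases hU : U = ⊤
  · rw [hUdef, CotangentSpace.span_image_eq_top_iff] at hU
    have h1 := congrArg (Submodule.map (maximalIdeal A').subtype) hU
    rw [Submodule.map_span, Submodule.map_top, Submodule.range_subtype] at h1
    rw [← h1]
    change Ideal.span a = Submodule.span A' (Subtype.val '' a')
    rw [hval]
  · exfalso
    have hlt : U < ⊤ := lt_top_iff_ne_top.2 hU
    have h1 : Module.finrank (ResidueField A') U <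
        Module.finrank (ResidueField A') (CotangentSpace A') := Submodule.finrank_lt hU
    have h2 : Module.finrank (ResidueField A') (CotangentSpace A') =
        (maximalIdeal A').spanFinrank := by
      simp [Module.finrank, Submodule.spanFinrank, rank_cotangentSpace_eq_spanrank_maximalIdeal]
    have h3 : Module.finrank (ResidueField A') U = U.spanFinrank := by
      rw [Module.finrank_eq_spanFinrank_of_free, Submodule.spanFinrank_top]
    have hUfg : U.FG := IsNoetherian.noetherian U
    obtain ⟨s, hsdef⟩ : ∃ s : Set (CotangentSpace A'), s = U.generators := ⟨_, rfl⟩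
    have hsfin : s.Finite := hsdef ▸ Submodule.FG.finite_generators hUfg
    have hsspan : Submodule.span (ResidueField A') s = U := hsdef ▸ Submodule.span_generators U
    have hscard : s.ncard = U.spanFinrank := hsdef ▸ Submodule.FG.generators_ncard hUfg
    obtain ⟨Ys, hYs⟩ : ∃ Ys : Set (maximalIdeal A'),
      Ys = Function.surjInv (maximalIdeal A').toCotangent_surjective '' s := ⟨_, rfl⟩
    have hYsimg : (maximalIdeal A').toCotangent '' Ys = s := by
      rw [hYs, Set.image_image]
      simp only [Function.surjInv_eq]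
      exact Set.image_id' s
    have hYsfin : Ys.Finite := hYs ▸ hsfin.image _
    have hYscard : Ys.ncard ≤ s.ncard := hYs ▸ Set.ncard_image_le hsfin
    obtain ⟨G, hG⟩ : ∃ G : Set A, G = (fun y : maximalIdeal A' => φ y.1) '' Ys := ⟨_, rfl⟩
    have hGfin : G.Finite := hG ▸ hYsfin.image _
    have hGcard : G.ncard ≤ Ys.ncard := hG ▸ Set.ncard_image_le hYsfin
    have hGle : Ideal.span G ≤ maximalIdeal A := by
      rw [Ideal.span_le, hG]
      rintro _ ⟨y, _, rfl⟩
      rw [← hmap]
      exact Ideal.mem_map_of_mem φ y.2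
    have hspanG : ∀ y ∈ Submodule.span A' Ys, φ (y : maximalIdeal A').1 ∈ Ideal.span G := by
      intro y hy
      induction hy using Submodule.span_induction with
      | mem y hy => exact Ideal.subset_span (hG ▸ ⟨y, hy, rfl⟩)
      | zero => simp
      | add x y _ _ hx hy =>
        change φ (x.1 + y.1) ∈ _
        rw [map_add]
        exact (Ideal.span G).add_mem hx hy
      | smul c x _ hx =>
        change φ (c * x.1) ∈ _
        rw [map_mul]
        exact Ideal.mul_mem_left _ _ hx
    have hle : maximalIdeal A ≤ Ideal.span G := by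
      apply Submodule.le_of_le_smul_of_le_jacobson_bot (IsNoetherian.noetherian _)
        (maximalIdeal_le_jacobson ⊥)
      refine le_trans hgen.ge (Ideal.span_le.2 ?_)
      rintro _ ⟨x, hx, rfl⟩
      have hx' : (maximalIdeal A').toCotangent ⟨x, ha hx⟩ ∈ U := by
        rw [hUdef]
        refine Submodule.subset_span ⟨⟨x, ha hx⟩, ?_, rfl⟩
        rw [ha']
        exact hx
      have hrs : (Submodule.span A' ((maximalIdeal A').toCotangent '' Ys) : Set (CotangentSpace A')) =
          (U : Set (CotangentSpace A')) := by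
        rw [hYsimg, ← hsspan]
        exact congrArg SetLike.coe
          (Submodule.restrictScalars_span A' (ResidueField A') Ideal.Quotient.mk_surjective s).symm
      have hx'' : (maximalIdeal A').toCotangent ⟨x, ha hx⟩ ∈
          Submodule.span A' ((maximalIdeal A').toCotangent '' Ys) := by
        have : (maximalIdeal A').toCotangent ⟨x, ha hx⟩ ∈ (U : Set (CotangentSpace A')) := hx'
        rw [← hrs] at this
        exact this
      rw [← Submodule.map_span] at hx''
      obtain ⟨y, hy, hyx⟩ := hx''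
      rw [Ideal.toCotangent_eq] at hyx
      have hxy : φ x = φ y.1 + φ (x - y.1) := by rw [← map_add]; congr 1; ring
      change φ x ∈ _
      rw [hxy]
      refine Submodule.add_mem_sup (hspanG y hy) ?_
      rw [smul_eq_mul, ← pow_two, ← hmap, ← Ideal.map_pow]
      apply Ideal.mem_map_of_mem
      have h5 := (maximalIdeal A' ^ 2).neg_mem hyx
      rwa [neg_sub] at h5
    have heq : Ideal.span G = maximalIdeal A := le_antisymm hGle hle
    have h6 : (maximalIdeal A).spanFinrank ≤ G.ncard := by
      rw [← heq]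
      exact Submodule.spanFinrank_span_le_ncard_of_finite hGfin
    omega

variable (A : ℕ → Art Λ k) (f : ∀ n, A (n + 1) ⟶ A n)

/-- The limit of a tower in `Art Λ k`, as a subalgebra of the product. -/
def limAlg : Subalgebra Λ (∀ n, A n) where
  carrier := {a | ∀ n, f n (a (n + 1)) = a n}
  mul_mem' := by
    intro a b ha hb n
    change (f n).toAlgHom (a (n + 1) * b (n + 1)) = a n * b n
    rw [map_mul]
    exact congrArg₂ (· * ·) (ha n) (hb n)
  add_mem' := by
    intro a b ha hb n
    change (f n).toAlgHom (a (n + 1) + b (n + 1)) = a n + b n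
    rw [map_add]
    exact congrArg₂ (· + ·) (ha n) (hb n)
  algebraMap_mem' := by
    intro r n
    change (f n).toAlgHom (algebraMap Λ (A (n + 1)) r) = algebraMap Λ (A n) r
    exact (f n).toAlgHom.commutes r

/-- The carrier of the limit. -/
abbrev Lim : Type u := ↥(limAlg A f)

/-- The projections. -/
def proj (n : ℕ) : Lim A f →ₐ[Λ] A n :=
  (Pi.evalAlgHom Λ (fun n => (A n).carrier) n).comp (limAlg A f).val

variable {A f}

lemma proj_apply (n : ℕ) (s : Lim A f) : proj A f n s = s.1 n := rfl

lemma proj_compat (n : ℕ) (s : Lim A f) : f n (proj A f (n + 1) s) = proj A f n s := s.2 n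

lemma lim_ext {s t : Lim A f} (h : ∀ n, proj A f n s = proj A f n t) : s = t :=
  Subtype.ext (funext h)

/-- Build an element of the limit from a compatible family. -/
def mkLim (a : ∀ n, A n) (h : ∀ n, f n (a (n + 1)) = a n) : Lim A f := ⟨a, h⟩

@[simp] lemma proj_mkLim (a : ∀ n, A n) (h : ∀ n, f n (a (n + 1)) = a n) (n : ℕ) :
    proj A f n (mkLim a h) = a n := rfl

variable (A f)

/-- The augmentation of the limit. -/
def resLim : Lim A f →ₐ[Λ] k := (A 0).res.comp (proj A f 0)

variable {A f}

lemma res_proj (n : ℕ) (s : Lim A f) : (A n).res (proj A f n s) = resLim A f s := by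
  induction n with
  | zero => rfl
  | succ n ih => rw [← ih, ← proj_compat n s, res_app]

lemma res_comp_proj (n : ℕ) : (A n).res.comp (proj A f n) = resLim A f :=
  AlgHom.ext (res_proj n)

section Surj

variable (hf : ∀ n, Function.Surjective (f n))

include hf in
lemma proj_surjective (n : ℕ) : Function.Surjective (proj A f n) := by
  intro a
  obtain ⟨s, hs, hsn⟩ := exists_section n (X := fun n => (A n).carrier) (fun n => f n) hf a
  exact ⟨mkLim s hs, hsn⟩

include hf in
lemma resLim_surjective : Function.Surjective (resLim A f) := fun c => by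
  obtain ⟨a, ha⟩ := (A 0).res_surjective c
  obtain ⟨s, hs⟩ := proj_surjective hf 0 a
  exact ⟨s, by change (A 0).res (proj A f 0 s) = c; rw [hs, ha]⟩

lemma isUnit_of_res_ne_zero (s : Lim A f) (hs : resLim A f s ≠ 0) : IsUnit s := by
  have hu : ∀ n, IsUnit (proj A f n s) := by
    intro n
    by_contra h
    have h1 : proj A f n s ∈ maximalIdeal (A n) := (mem_maximalIdeal _).2 h
    rw [Art.mem_maximalIdeal_iff, res_proj] at h1
    exact hs h1
  choose t ht using fun n => (hu n).exists_right_inv
  have hcompat : ∀ n, f n (t (n + 1)) = t n := by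
    intro n
    have h1 : proj A f n s * f n (t (n + 1)) = 1 := by
      rw [← proj_compat n s]
      change (f n).toAlgHom _ * (f n).toAlgHom _ = 1
      rw [← map_mul, ht (n + 1), map_one]
    have h2 : proj A f n s * t n = 1 := ht n
    exact (hu n).mul_left_cancel (h1.trans h2.symm)
  refine IsUnit.of_mul_eq_one (mkLim t hcompat) ?_
  apply lim_ext
  intro n
  rw [map_mul, proj_mkLim, ht n, map_one]

include hf in
lemma isLocalRing_lim : IsLocalRing (Lim A f) := by
  have hnt : Nontrivial (Lim A f) := by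
    refine ⟨⟨0, 1, fun h => ?_⟩⟩
    have h1 : resLim A f 0 = resLim A f 1 := congrArg _ h
    rw [map_zero, map_one] at h1
    exact zero_ne_one h1
  refine IsLocalRing.of_nonunits_add ?_
  intro a b ha hb
  have ha' : resLim A f a = 0 := by
    by_contra h
    exact ha (isUnit_of_res_ne_zero a h)
  have hb' : resLim A f b = 0 := by
    by_contra h
    exact hb (isUnit_of_res_ne_zero b h)
  intro hab
  have h1 : resLim A f (a + b) = 0 := by rw [map_add, ha', hb', add_zero]
  have h2 := hab.map (resLim A f)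
  rw [h1] at h2
  exact not_isUnit_zero h2

lemma finrank_cotangent_eq (B : Art Λ k) :
    Module.finrank (ResidueField B) (CotangentSpace B) = (maximalIdeal B).spanFinrank := by
  simp [Module.finrank, Submodule.spanFinrank, rank_cotangentSpace_eq_spanrank_maximalIdeal]

include hf in
lemma map_maximalIdeal (n : ℕ) :
    (maximalIdeal (A (n + 1))).map (f n).toAlgHom = maximalIdeal (A n) :=
  map_maximalIdeal_of_surjective ((f n).toAlgHom : A (n + 1) →+* A n) (hf n)

lemma mem_maximalIdeal_lim [IsLocalRing (Lim A f)] (hres : Function.Surjective (resLim A f))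
    (s : Lim A f) : s ∈ maximalIdeal (Lim A f) ↔ resLim A f s = 0 := by
  have hmax : (RingHom.ker (resLim A f : Lim A f →+* k)).IsMaximal :=
    RingHom.ker_isMaximal_of_surjective (resLim A f : Lim A f →+* k) hres
  rw [← IsLocalRing.eq_maximalIdeal hmax, RingHom.mem_ker]
  rfl

include hf in
/-- Finitely many elements of the limit generating every maximal ideal of the tower. -/
theorem exists_generators (d : ℕ)
    (hd : ∀ n, Module.finrank (ResidueField (A n)) (CotangentSpace (A n)) ≤ d) :
    ∃ x : Finset (Lim A f), (∀ y ∈ x, resLim A f y = 0) ∧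
      ∀ n, Ideal.span (proj A f n '' (x : Set (Lim A f))) = maximalIdeal (A n) := by
  classical
  obtain ⟨c, hcdef⟩ : ∃ c : ℕ → ℕ, c = fun n => (maximalIdeal (A n)).spanFinrank := ⟨_, rfl⟩
  have hc : ∀ n, c n = (maximalIdeal (A n)).spanFinrank := fun n => by rw [hcdef]
  have hcd : ∀ n, c n ≤ d := fun n => by rw [hc, ← finrank_cotangent_eq]; exact hd n
  have hcmono : Monotone c := by
    apply monotone_nat_of_le_succ
    intro n
    rw [hc, hc, ← map_maximalIdeal hf n]
    exact Ideal.spanFinrank_map_le_of_fg _ (IsNoetherian.noetherian _)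
  obtain ⟨n₀, hn₀⟩ : ∃ n₀, ∀ n, n₀ ≤ n → c n = c n₀ := by
    have hP : ∃ n, c n = Nat.findGreatest (fun v => ∃ n, c n = v) d :=
      Nat.findGreatest_spec (P := fun v => ∃ n, c n = v) (hcd 0) ⟨0, rfl⟩
    obtain ⟨n₀, hn₀⟩ := hP
    refine ⟨n₀, fun n hn => le_antisymm ?_ (hcmono hn)⟩
    rw [hn₀]
    exact Nat.le_findGreatest (P := fun v => ∃ n, c n = v) (hcd n) ⟨n, rfl⟩
  obtain ⟨t, ht⟩ : (maximalIdeal (A n₀)).FG := IsNoetherian.noetherian _
  obtain ⟨σ, hσ⟩ : ∃ σ : A n₀ → Lim A f, ∀ a, proj A f n₀ (σ a) = a :=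
    ⟨Function.surjInv (proj_surjective hf n₀), Function.surjInv_eq _⟩
  refine ⟨t.image σ, ?_, ?_⟩
  · intro y hy
    obtain ⟨a, hat, rfl⟩ := Finset.mem_image.1 hy
    rw [← res_proj n₀, hσ, ← Art.mem_maximalIdeal_iff, ← ht]
    exact Ideal.subset_span hat
  · have himg : proj A f n₀ '' ((t.image σ : Finset (Lim A f)) : Set (Lim A f)) = (t : Set (A n₀)) := by
      rw [Finset.coe_image, Set.image_image]
      simp only [hσ]
      exact Set.image_id' _
    have hdown : ∀ n, Ideal.span (proj A f (n + 1) '' ((t.image σ : Finset (Lim A f)) : Set (Lim A f))) =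
        maximalIdeal (A (n + 1)) →
        Ideal.span (proj A f n '' ((t.image σ : Finset (Lim A f)) : Set (Lim A f))) =
          maximalIdeal (A n) := by
      intro n h
      rw [← map_maximalIdeal hf n, ← h, Ideal.map_span, Set.image_image]
      congr 2
      ext y
      exact (proj_compat n y).symm
    have hup : ∀ n, n₀ ≤ n →
        Ideal.span (proj A f n '' ((t.image σ : Finset (Lim A f)) : Set (Lim A f))) =
          maximalIdeal (A n) →
        Ideal.span (proj A f (n + 1) '' ((t.image σ : Finset (Lim A f)) : Set (Lim A f))) =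
          maximalIdeal (A (n + 1)) := by
      intro n hn h
      apply span_eq_maximalIdeal_of_map ((f n).toAlgHom : A (n + 1) →+* A n) (hf n)
      · rw [← hc, ← hc, hn₀ n hn, hn₀ (n + 1) (hn.trans (Nat.le_succ n))]
      · rintro _ ⟨y, hy, rfl⟩
        obtain ⟨a, hat, rfl⟩ := Finset.mem_image.1 (Finset.mem_coe.1 hy)
        change proj A f (n + 1) (σ a) ∈ maximalIdeal (A (n + 1))
        rw [Art.mem_maximalIdeal_iff, res_proj, ← res_proj n₀, hσ, ← Art.mem_maximalIdeal_iff, ← ht]
        exact Ideal.subset_span hat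
      · rw [← h, Set.image_image]
        congr 2
        ext y
        exact proj_compat n y
    intro n
    rcases le_total n₀ n with h | h
    · induction n, h using Nat.le_induction with
      | base => rw [himg]; exact ht
      | succ n hn ih => exact hup n hn ih
    · induction h using Nat.decreasingInduction with
      | self => rw [himg]; exact ht
      | of_succ n _ ih => exact hdown n ih

end Surj

section Closed

variable (hf : ∀ n, Function.Surjective (f n))

include hf in
/-- Finitely generated ideals of the limit are closed. -/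
theorem mem_of_forall_proj_mem (J : Ideal (Lim A f)) (hJ : J.FG) (s : Lim A f)
    (h : ∀ n, proj A f n s ∈ J.map (proj A f n)) : s ∈ J := by
  classical
  obtain ⟨m, u, hu⟩ := Submodule.fg_iff_exists_fin_generating_family.1 hJ
  have hL : ∀ n (c : Fin m → A n) , ∑ i, c i * proj A f n (u i) =
      Fintype.linearCombination (A n) (fun i => proj A f n (u i)) c := by
    intro n c
    rw [Fintype.linearCombination_apply]
    rfl
  -- the transition maps
  let T : ∀ n, (Fin m → A (n + 1)) →+ (Fin m → A n) := fun n =>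
    AddMonoidHom.compLeft ((f n).toAlgHom : A (n + 1) →+ A n) (Fin m)
  have hTapp : ∀ n (z : Fin m → A (n + 1)) i, T n z i = f n (z i) := fun n z i => rfl
  have hT : ∀ n (a : A (n + 1)) (z : Fin m → A (n + 1)),
      T n (a • z) = ((f n).toAlgHom : A (n + 1) →+* A n) a • T n z := by
    intro n a z
    funext i
    change (f n).toAlgHom (a * z i) = (f n).toAlgHom a * (f n).toAlgHom (z i)
    rw [map_mul]
  let N : ∀ n, Submodule (A n) (Fin m → A n) := fun n =>
    LinearMap.ker (Fintype.linearCombination (A n) (fun i => proj A f n (u i)))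
  have hLT : ∀ n (z : Fin m → A (n + 1)),
      Fintype.linearCombination (A n) (fun i => proj A f n (u i)) (T n z) =
        f n (Fintype.linearCombination (A (n + 1)) (fun i => proj A f (n + 1) (u i)) z) := by
    intro n z
    rw [← hL, ← hL]
    change _ = (f n).toAlgHom _
    rw [map_sum]
    refine Finset.sum_congr rfl fun i _ => ?_
    rw [map_mul, hTapp]
    congr 1
    exact (proj_compat n (u i)).symm
  have hN : ∀ n z, z ∈ N (n + 1) → T n z ∈ N n := by
    intro n z hz
    rw [LinearMap.mem_ker] at hz ⊢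
    rw [hLT, hz]
    exact map_zero (f n).toAlgHom
  have hex : ∀ n, ∃ b : Fin m → A n,
      Fintype.linearCombination (A n) (fun i => proj A f n (u i)) b = proj A f n s := by
    intro n
    have h1 := h n
    rw [← hu] at h1
    change proj A f n s ∈ Ideal.map (proj A f n) (Ideal.span (Set.range u)) at h1
    rw [Ideal.map_span, ← Set.range_comp] at h1
    obtain ⟨c, hc⟩ := (Submodule.mem_span_range_iff_exists_fun (A n)).1 h1
    refine ⟨c, ?_⟩
    rw [Fintype.linearCombination_apply]
    exact hc
  choose b hb using hex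
  have hb' : ∀ n, T n (b (n + 1)) - b n ∈ N n := by
    intro n
    rw [LinearMap.mem_ker, map_sub, hLT, hb, hb, proj_compat, sub_self]
  obtain ⟨y, hy1, hy2⟩ := exists_compatible (R := fun n => (A n).carrier)
    (fun n => ((f n).toAlgHom : A (n + 1) →+* A n)) hf T hT N hN b hb'
  have hy3 : ∀ n, Fintype.linearCombination (A n) (fun i => proj A f n (u i)) (y n) =
      proj A f n s := by
    intro n
    have h1 := hy2 n
    rw [LinearMap.mem_ker, map_sub, hb, sub_eq_zero] at h1
    exact h1
  have hcompat : ∀ i n, f n (y (n + 1) i) = y n i := fun i n => congrFun (hy1 n) i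
  have hs : s = ∑ i, mkLim (fun n => y n i) (hcompat i) * u i := by
    apply lim_ext
    intro n
    rw [map_sum, ← hy3 n, ← hL]
    refine Finset.sum_congr rfl fun i _ => ?_
    rw [map_mul, proj_mkLim]
  rw [hs, ← hu]
  exact Submodule.sum_mem _ fun i _ => Ideal.mul_mem_left _ _ (Ideal.subset_span ⟨i, rfl⟩)

include hf in
lemma map_proj_maximalIdeal [IsLocalRing (Lim A f)] (n : ℕ) :
    (maximalIdeal (Lim A f)).map (proj A f n) = maximalIdeal (A n) :=
  map_maximalIdeal_of_surjective ((proj A f n : Lim A f →ₐ[Λ] A n) : Lim A f →+* A n)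
    (proj_surjective hf n)

include hf in
theorem maximalIdeal_fg [IsLocalRing (Lim A f)] (d : ℕ)
    (hd : ∀ n, Module.finrank (ResidueField (A n)) (CotangentSpace (A n)) ≤ d) :
    (maximalIdeal (Lim A f)).FG := by
  obtain ⟨x, hx1, hx2⟩ := exists_generators hf d hd
  refine ⟨x, le_antisymm ?_ ?_⟩
  · rw [Ideal.span_le]
    intro y hy
    exact (mem_maximalIdeal_lim (resLim_surjective hf) y).2 (hx1 y hy)
  · intro s hs
    apply mem_of_forall_proj_mem hf _ ⟨x, rfl⟩ s
    intro n
    rw [Ideal.map_span, hx2 n, ← map_proj_maximalIdeal hf n]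
    exact Ideal.mem_map_of_mem _ hs

include hf in
theorem mem_pow_of_forall [IsLocalRing (Lim A f)] (hfg : (maximalIdeal (Lim A f)).FG) (j : ℕ)
    (s : Lim A f) (h : ∀ n, proj A f n s ∈ maximalIdeal (A n) ^ j) :
    s ∈ maximalIdeal (Lim A f) ^ j := by
  apply mem_of_forall_proj_mem hf _ hfg.pow s
  intro n
  rw [Ideal.map_pow, map_proj_maximalIdeal hf n]
  exact h n

include hf in
lemma proj_mem_pow [IsLocalRing (Lim A f)] (j : ℕ) (s : Lim A f)
    (hs : s ∈ maximalIdeal (Lim A f) ^ j) (n : ℕ) : proj A f n s ∈ maximalIdeal (A n) ^ j := by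
  rw [← map_proj_maximalIdeal hf n, ← Ideal.map_pow]
  exact Ideal.mem_map_of_mem _ hs

include hf in
theorem exists_pow_le_ker [IsLocalRing (Lim A f)] (n : ℕ) :
    ∃ N, maximalIdeal (Lim A f) ^ N ≤ RingHom.ker (proj A f n) := by
  obtain ⟨N, hN⟩ := maximalIdeal_nilpotent (A n)
  refine ⟨N, fun s hs => ?_⟩
  have h1 := proj_mem_pow hf N s hs n
  rw [hN] at h1
  exact h1

lemma ker_proj_anti {n n' : ℕ} (h : n ≤ n') :
    RingHom.ker (proj A f n') ≤ RingHom.ker (proj A f n) := by
  induction h with
  | refl => exact le_rfl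
  | step _ ih =>
    refine le_trans ?_ ih
    intro s hs
    rw [RingHom.mem_ker] at hs ⊢
    rw [← proj_compat, hs]
    exact map_zero (f _).toAlgHom

end Closed

theorem isArtinianRing_quot_pow {S : Type u} [CommRing S] [IsLocalRing S]
    (hfg : (maximalIdeal S).FG) (j : ℕ) : IsArtinianRing (S ⧸ maximalIdeal S ^ (j + 1)) := by
  have hne : maximalIdeal S ^ (j + 1) ≠ ⊤ := fun h =>
    (maximalIdeal.isMaximal S).ne_top (top_le_iff.1 (h ▸ Ideal.pow_le_self (Nat.succ_ne_zero j)))
  have : Nontrivial (S ⧸ maximalIdeal S ^ (j + 1)) := Ideal.Quotient.nontrivial_iff.2 hne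
  have : IsLocalRing (S ⧸ maximalIdeal S ^ (j + 1)) :=
    IsLocalRing.of_surjective' (Ideal.Quotient.mk _) Ideal.Quotient.mk_surjective
  have hmax : (maximalIdeal S).map (Ideal.Quotient.mk (maximalIdeal S ^ (j + 1))) =
      maximalIdeal (S ⧸ maximalIdeal S ^ (j + 1)) :=
    map_maximalIdeal_of_surjective _ Ideal.Quotient.mk_surjective
  have hnil : maximalIdeal (S ⧸ maximalIdeal S ^ (j + 1)) ^ (j + 1) = ⊥ := by
    rw [← hmax, ← Ideal.map_pow, Ideal.map_quotient_self]
  have hnoeth : IsNoetherianRing (S ⧸ maximalIdeal S ^ (j + 1)) := by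
    apply IsNoetherianRing.of_prime
    intro P hP
    have hle : maximalIdeal (S ⧸ maximalIdeal S ^ (j + 1)) ≤ P := by
      intro y hy
      apply hP.mem_of_pow_mem (j + 1)
      have : y ^ (j + 1) ∈ maximalIdeal (S ⧸ maximalIdeal S ^ (j + 1)) ^ (j + 1) :=
        Ideal.pow_mem_pow hy _
      rw [hnil] at this
      rw [(Ideal.mem_bot).1 this]
      exact P.zero_mem
    have hPeq : P = maximalIdeal (S ⧸ maximalIdeal S ^ (j + 1)) :=
      ((maximalIdeal.isMaximal _).eq_of_le hP.ne_top hle).symm
    rw [hPeq, ← hmax]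
    exact hfg.map _
  rw [isArtinianRing_iff_isNilpotent_maximalIdeal]
  exact ⟨j + 1, hnil⟩

section Closed2

variable (hf : ∀ n, Function.Surjective (f n))

include hf in
theorem exists_ker_le_pow [IsLocalRing (Lim A f)] (hfg : (maximalIdeal (Lim A f)).FG) (j : ℕ) :
    ∃ N, RingHom.ker (proj A f N) ≤ maximalIdeal (Lim A f) ^ j := by
  cases j with
  | zero => exact ⟨0, by rw [pow_zero, Ideal.one_eq_top]; exact le_top⟩
  | succ j =>
    have hart := isArtinianRing_quot_pow hfg j
    let G : ℕ →o (Ideal (Lim A f ⧸ maximalIdeal (Lim A f) ^ (j + 1)))ᵒᵈ :=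
      ⟨fun n => OrderDual.toDual ((RingHom.ker (proj A f n)).map (Ideal.Quotient.mk _)),
        fun n n' h => Ideal.map_mono (ker_proj_anti h)⟩
    obtain ⟨N, hN⟩ := IsArtinian.monotone_stabilizes G
    refine ⟨N, fun s hs => ?_⟩
    apply mem_pow_of_forall hf hfg
    intro n
    rcases le_total n N with h | h
    · have h1 := ker_proj_anti h hs
      rw [RingHom.mem_ker] at h1
      rw [h1]
      exact Ideal.zero_mem _
    · have h1 : (RingHom.ker (proj A f N)).map (Ideal.Quotient.mk (maximalIdeal (Lim A f) ^ (j + 1))) =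
          (RingHom.ker (proj A f n)).map (Ideal.Quotient.mk _) := congrArg OrderDual.ofDual (hN n h)
      have h2 : Ideal.Quotient.mk (maximalIdeal (Lim A f) ^ (j + 1)) s ∈
          (RingHom.ker (proj A f n)).map (Ideal.Quotient.mk _) := by
        rw [← h1]
        exact Ideal.mem_map_of_mem _ hs
      rw [Ideal.mem_map_iff_of_surjective _ Ideal.Quotient.mk_surjective] at h2
      obtain ⟨κ, hκ, hκs⟩ := h2
      rw [Ideal.Quotient.eq] at hκs
      have h3 : proj A f n s = proj A f n (s - κ) := by
        rw [map_sub, (RingHom.mem_ker).1 hκ, sub_zero]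
      rw [h3]
      apply proj_mem_pow hf
      have h4 := (maximalIdeal (Lim A f) ^ (j + 1)).neg_mem hκs
      rwa [neg_sub] at h4

end Closed2


theorem isNoetherianRing_of_complete {S : Type u} [CommRing S] [IsLocalRing S]
    (hfg : (maximalIdeal S).FG) [IsAdicComplete (maximalIdeal S) S]
    (W : Type u) [CommRing W] [IsNoetherianRing W] (φ : W →+* S)
    (hφ : ∀ s : S, ∃ w : W, s - φ w ∈ maximalIdeal S) : IsNoetherianRing S := by
  classical
  obtain ⟨r, x, hx⟩ := Submodule.fg_iff_exists_fin_generating_family.1 hfg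
  obtain ⟨g, hg⟩ : ∃ g : MvPolynomial (Fin r) W →+* S, g = MvPolynomial.eval₂Hom φ x := ⟨_, rfl⟩
  have hgX : ∀ i, g (MvPolynomial.X i) = x i := fun i => by rw [hg]; simp
  have hgC : ∀ w, g (MvPolynomial.C w) = φ w := fun w => by rw [hg]; simp
  have hmapg : (MvPolynomial.idealOfVars (Fin r) W).map g = maximalIdeal S := by
    rw [MvPolynomial.idealOfVars, Ideal.map_span, ← Set.range_comp]
    have : (g ∘ MvPolynomial.X : Fin r → S) = x := funext hgX
    rw [this]
    exact hx
  have hle : ∀ n, (MvPolynomial.idealOfVars (Fin r) W) ^ n ≤ (maximalIdeal S ^ n).comap g := by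
    intro n
    rw [← Ideal.map_le_iff_le_comap, Ideal.map_pow, hmapg]
  let h : ∀ n, AdicCompletion (MvPolynomial.idealOfVars (Fin r) W) (MvPolynomial (Fin r) W) →+*
      S ⧸ maximalIdeal S ^ n := fun n =>
    (Ideal.quotientMap (maximalIdeal S ^ n) g (hle n)).comp
      (AdicCompletion.evalₐ (MvPolynomial.idealOfVars (Fin r) W) n : _ →+* _)
  have hcompat : ∀ {m n : ℕ} (hmn : m ≤ n),
      (Ideal.Quotient.factorPow (maximalIdeal S) hmn).comp (h n) = h m := by
    intro m n hmn
    ext y
    induction y using AdicCompletion.induction_on with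
    | _ a =>
      change Ideal.Quotient.factorPow (maximalIdeal S) hmn
        (Ideal.quotientMap (maximalIdeal S ^ n) g (hle n)
          (AdicCompletion.evalₐ _ n (AdicCompletion.mk _ _ a))) =
        Ideal.quotientMap (maximalIdeal S ^ m) g (hle m)
          (AdicCompletion.evalₐ _ m (AdicCompletion.mk _ _ a))
      rw [AdicCompletion.evalₐ_mk, AdicCompletion.evalₐ_mk, Ideal.quotientMap_mk,
        Ideal.quotientMap_mk]
      change Ideal.Quotient.mk (maximalIdeal S ^ m) (g (a.1 n)) = _
      rw [Ideal.Quotient.eq, ← map_sub]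
      apply hle m
      have h1 := a.2 hmn
      rw [SModEq.sub_mem, smul_eq_mul, Ideal.mul_top] at h1
      have h2 := (MvPolynomial.idealOfVars (Fin r) W ^ m).neg_mem h1
      rwa [neg_sub] at h2
  obtain ⟨ψ, hψ⟩ : ∃ ψ : AdicCompletion (MvPolynomial.idealOfVars (Fin r) W)
      (MvPolynomial (Fin r) W) →+* S, ψ = IsAdicComplete.liftRingHom (maximalIdeal S) h hcompat :=
    ⟨_, rfl⟩
  have hψof : ∀ q, ψ (AdicCompletion.of _ _ q) = g q := by
    intro q
    rw [← sub_eq_zero]
    apply IsHausdorff.haus (inferInstance : IsHausdorff (maximalIdeal S) S)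
    intro n
    rw [SModEq.sub_mem, sub_zero, smul_eq_mul, Ideal.mul_top, ← Ideal.Quotient.eq, hψ,
      IsAdicComplete.mk_liftRingHom]
    change Ideal.quotientMap (maximalIdeal S ^ n) g (hle n)
      (AdicCompletion.evalₐ _ n (AdicCompletion.of _ _ q)) = _
    rw [AdicCompletion.evalₐ_of, Ideal.quotientMap_mk]
  have hnoeth : IsNoetherianRing (AdicCompletion (MvPolynomial.idealOfVars (Fin r) W)
      (MvPolynomial (Fin r) W)) :=
    isNoetherianRing_of_ringEquiv (MvPowerSeries (Fin r) W)
      (MvPowerSeries.toAdicCompletionAlgEquiv (Fin r) W).toRingEquiv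
  have hcomplete := AdicCompletion.isAdicComplete_self (MvPolynomial.idealOfVars (Fin r) W)
    (MvPolynomial.idealOfVars_fg (Fin r) W)
  have hJmap : ((MvPolynomial.idealOfVars (Fin r) W).map (algebraMap (MvPolynomial (Fin r) W)
      (AdicCompletion (MvPolynomial.idealOfVars (Fin r) W) (MvPolynomial (Fin r) W)))).map ψ =
      maximalIdeal S := by
    rw [Ideal.map_map, ← hmapg]
    congr 1
    exact RingHom.ext fun q => hψof q
  have hhaus : IsHausdorff (((MvPolynomial.idealOfVars (Fin r) W).map
      (algebraMap (MvPolynomial (Fin r) W)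
      (AdicCompletion (MvPolynomial.idealOfVars (Fin r) W) (MvPolynomial (Fin r) W)))).map ψ) S := by
    rw [hJmap]
    infer_instance
  have hsurj : Function.Surjective ψ := by
    apply surjective_of_mk_map_comp_surjective ψ
      (I := (MvPolynomial.idealOfVars (Fin r) W).map (algebraMap (MvPolynomial (Fin r) W)
      (AdicCompletion (MvPolynomial.idealOfVars (Fin r) W) (MvPolynomial (Fin r) W))))
    intro ybar
    obtain ⟨y, rfl⟩ := Ideal.Quotient.mk_surjective ybar
    obtain ⟨w, hw⟩ := hφ y
    refine ⟨AdicCompletion.of _ _ (MvPolynomial.C w), ?_⟩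
    rw [RingHom.comp_apply, hψof, hgC, Ideal.Quotient.eq, hJmap]
    have h2 := (maximalIdeal S).neg_mem hw
    rwa [neg_sub] at h2
  exact isNoetherianRing_of_surjective _ _ ψ hsurj

section Complete

variable (hf : ∀ n, Function.Surjective (f n))

include hf in
theorem isAdicComplete_lim [IsLocalRing (Lim A f)] (hfg : (maximalIdeal (Lim A f)).FG) :
    IsAdicComplete (maximalIdeal (Lim A f)) (Lim A f) := by
  choose e he using fun l => maximalIdeal_nilpotent (A l)
  have hzero : ∀ l (s : Lim A f), s ∈ maximalIdeal (Lim A f) ^ (e l) → proj A f l s = 0 := by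
    intro l s hs
    have h1 := proj_mem_pow hf (e l) s hs l
    rw [he l] at h1
    exact h1
  have hsm : ∀ (n : ℕ) (a b : Lim A f),
      a ≡ b [SMOD (maximalIdeal (Lim A f) ^ n • ⊤ : Submodule (Lim A f) (Lim A f))] ↔
        a - b ∈ maximalIdeal (Lim A f) ^ n := by
    intro n a b
    rw [SModEq.sub_mem, smul_eq_mul, Ideal.mul_top]
  refine { haus' := ?_, prec' := ?_ }
  · intro s hs
    apply lim_ext
    intro l
    rw [map_zero]
    apply hzero l
    have h1 := (hsm (e l) s 0).1 (hs (e l))
    rwa [sub_zero] at h1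
  · intro F hF
    have hF' : ∀ {m n : ℕ}, m ≤ n → F m - F n ∈ maximalIdeal (Lim A f) ^ m :=
      fun h => (hsm _ _ _).1 (hF h)
    have hconst : ∀ l a b, e l ≤ a → e l ≤ b → proj A f l (F a) = proj A f l (F b) := by
      intro l a b ha hb
      have key : ∀ c, e l ≤ c → proj A f l (F (e l)) = proj A f l (F c) := by
        intro c hc
        rw [← sub_eq_zero, ← map_sub]
        exact hzero l _ (hF' hc)
      rw [← key a ha, ← key b hb]
    have hcompat : ∀ l, f l (proj A f (l + 1) (F (e (l + 1)))) = proj A f l (F (e l)) := by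
      intro l
      rw [hconst (l + 1) (e (l + 1)) (max (e l) (e (l + 1))) le_rfl (le_max_right _ _), proj_compat]
      exact hconst l _ _ (le_max_left _ _) le_rfl
    refine ⟨mkLim (fun l => proj A f l (F (e l))) hcompat, fun n => ?_⟩
    rw [hsm]
    apply mem_pow_of_forall hf hfg
    intro l
    rw [map_sub, proj_mkLim, ← map_sub]
    rcases le_total n (e l) with h | h
    · exact proj_mem_pow hf n _ (hF' h) l
    · rw [map_sub, hconst l n (e l) h le_rfl, sub_self]
      exact Ideal.zero_mem _

include hf in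
theorem isNoetherianRing_lim [Module.Finite Λ k] [IsNoetherianRing Λ] [IsLocalRing (Lim A f)]
    (hfg : (maximalIdeal (Lim A f)).FG) : IsNoetherianRing (Lim A f) := by
  have hcomp := isAdicComplete_lim hf hfg
  obtain ⟨t, w, hw⟩ := Module.Finite.exists_fin (R := Λ) (M := k)
  choose y hy using fun j => resLim_surjective hf (w j)
  apply isNoetherianRing_of_complete hfg (MvPolynomial (Fin t) Λ)
    ((MvPolynomial.aeval y : MvPolynomial (Fin t) Λ →ₐ[Λ] Lim A f) : _ →+* _)
  intro s
  have h1 : resLim A f s ∈ Submodule.span Λ (Set.range w) := hw ▸ Submodule.mem_top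
  obtain ⟨c, hc⟩ := (Submodule.mem_span_range_iff_exists_fun Λ).1 h1
  refine ⟨∑ j, c j • MvPolynomial.X j, ?_⟩
  rw [mem_maximalIdeal_lim (resLim_surjective hf), map_sub, sub_eq_zero, ← hc]
  change _ = resLim A f (MvPolynomial.aeval y (∑ j, c j • MvPolynomial.X j))
  rw [map_sum, map_sum]
  refine Finset.sum_congr rfl fun j _ => ?_
  rw [map_smul, MvPolynomial.aeval_X, map_smul, hy]

end Complete

section Factor

variable (hf : ∀ n, Function.Surjective (f n))

include hf in
/-- Every map from the limit to an Artinian object factors through all sufficiently high levels. -/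
theorem exists_factor_level (d : ℕ)
    (hd : ∀ n, Module.finrank (ResidueField (A n)) (CotangentSpace (A n)) ≤ d)
    (B : Art Λ k) (φ : Lim A f →ₐ[Λ] B) (hφ : B.res.comp φ = resLim A f) :
    ∃ N₀, ∀ N, N₀ ≤ N → ∃ φN : A N ⟶ B, φN.toAlgHom.comp (proj A f N) = φ := by
  have hloc : IsLocalRing (Lim A f) := isLocalRing_lim hf
  have hfg := maximalIdeal_fg hf d hd
  obtain ⟨e, he⟩ := maximalIdeal_nilpotent B
  have hφm : ∀ s ∈ maximalIdeal (Lim A f), φ s ∈ maximalIdeal B := by
    intro s hs
    rw [Art.mem_maximalIdeal_iff]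
    have h1 : B.res (φ s) = resLim A f s := DFunLike.congr_fun hφ s
    rw [h1]
    exact (mem_maximalIdeal_lim (resLim_surjective hf) s).1 hs
  have hpow : ∀ s ∈ maximalIdeal (Lim A f) ^ e, φ s = 0 := by
    intro s hs
    have h1 : (φ : Lim A f →+* B) s ∈ (maximalIdeal (Lim A f) ^ e).map (φ : Lim A f →+* B) :=
      Ideal.mem_map_of_mem _ hs
    rw [Ideal.map_pow] at h1
    have h2 := Ideal.pow_right_mono (Ideal.map_le_iff_le_comap.2
      (fun x hx => Ideal.mem_comap.2 (hφm x hx))) e h1
    rw [he] at h2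
    exact h2
  obtain ⟨N₀, hN₀⟩ := exists_ker_le_pow hf hfg e
  refine ⟨N₀, fun N hN => ?_⟩
  have hker : RingHom.ker ((proj A f N : Lim A f →ₐ[Λ] A N) : Lim A f →+* A N) ≤
      RingHom.ker (φ : Lim A f →+* B) := by
    intro s hs
    rw [RingHom.mem_ker]
    exact hpow s (hN₀ (ker_proj_anti hN hs))
  let φ₀ : A N →+* B := RingHom.liftOfSurjective
    ((proj A f N : Lim A f →ₐ[Λ] A N) : Lim A f →+* A N) (proj_surjective hf N)
    ⟨(φ : Lim A f →+* B), hker⟩
  have hφ₀ : ∀ s, φ₀ (proj A f N s) = φ s := fun s =>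
    RingHom.liftOfSurjective_comp_apply
      ((proj A f N : Lim A f →ₐ[Λ] A N) : Lim A f →+* A N) (proj_surjective hf N)
      ⟨(φ : Lim A f →+* B), hker⟩ s
  have hcomm : ∀ c : Λ, φ₀ (algebraMap Λ (A N) c) = algebraMap Λ B c := fun c => by
    have h1 : algebraMap Λ (A N) c = proj A f N (algebraMap Λ (Lim A f) c) :=
      ((proj A f N).commutes c).symm
    rw [h1, hφ₀, φ.commutes]
  refine ⟨⟨{ φ₀ with commutes' := hcomm }, ?_⟩, ?_⟩
  · apply AlgHom.ext
    intro a
    obtain ⟨s, rfl⟩ := proj_surjective hf N a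
    change B.res (φ₀ (proj A f N s)) = (A N).res (proj A f N s)
    rw [hφ₀, res_proj]
    exact DFunLike.congr_fun hφ s
  · apply AlgHom.ext
    intro s
    exact hφ₀ s

/-- Iterated transition maps. -/
def tr (A : ℕ → Art Λ k) (f : ∀ n, A (n + 1) ⟶ A n) (N : ℕ) : ∀ d, A (N + d) ⟶ A N
  | 0 => 𝟙 (A N)
  | d + 1 => f (N + d) ≫ tr A f N d

lemma tr_proj (N : ℕ) : ∀ d (s : Lim A f), tr A f N d (proj A f (N + d) s) = proj A f N s
  | 0, _ => rfl
  | d + 1, s => by
    change tr A f N d (f (N + d) (proj A f (N + d + 1) s)) = _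
    rw [proj_compat]
    exact tr_proj N d s

lemma map_tr {F : Art Λ k ⥤ Type v} (ξ : ∀ n, F.obj (A n))
    (hξ : ∀ n, F.map (f n) (ξ (n + 1)) = ξ n) (N : ℕ) :
    ∀ d, F.map (tr A f N d) (ξ (N + d)) = ξ N
  | 0 => by
    change F.map (𝟙 (A N)) (ξ N) = ξ N
    rw [Functor.map_id_apply]
  | d + 1 => by
    change F.map (f (N + d) ≫ tr A f N d) (ξ (N + d + 1)) = ξ N
    rw [Functor.map_comp_apply, hξ]
    exact map_tr ξ hξ N d

include hf in
lemma factor_unique {F : Art Λ k ⥤ Type v} (ξ : ∀ n, F.obj (A n))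
    (hξ : ∀ n, F.map (f n) (ξ (n + 1)) = ξ n) {B : Art Λ k} {N N' : ℕ}
    (φN : A N ⟶ B) (φN' : A N' ⟶ B)
    (h : φN.toAlgHom.comp (proj A f N) = φN'.toAlgHom.comp (proj A f N')) :
    F.map φN (ξ N) = F.map φN' (ξ N') := by
  have key : ∀ (N d : ℕ) (φ₁ : A N ⟶ B) (φ₂ : A (N + d) ⟶ B),
      φ₁.toAlgHom.comp (proj A f N) = φ₂.toAlgHom.comp (proj A f (N + d)) →
      F.map φ₁ (ξ N) = F.map φ₂ (ξ (N + d)) := by
    intro N d φ₁ φ₂ h
    have h1 : tr A f N d ≫ φ₁ = φ₂ := by
      apply hom_ext
      apply AlgHom.ext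
      intro a
      obtain ⟨s, rfl⟩ := proj_surjective hf (N + d) a
      change φ₁ (tr A f N d (proj A f (N + d) s)) = φ₂ (proj A f (N + d) s)
      rw [tr_proj]
      exact DFunLike.congr_fun h s
    rw [← h1, Functor.map_comp_apply, map_tr ξ hξ]
  rcases le_total N N' with h' | h'
  · obtain ⟨d, rfl⟩ := Nat.exists_eq_add_of_le h'
    exact key N d φN φN' h
  · obtain ⟨d, rfl⟩ := Nat.exists_eq_add_of_le h'
    exact (key N' d φN' φN h.symm).symm

/-- The family over the limit attached to a compatible system of elements. -/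
noncomputable def familyOfTower (d : ℕ)
    (hd : ∀ n, Module.finrank (ResidueField (A n)) (CotangentSpace (A n)) ≤ d)
    {F : Art Λ k ⥤ Type v} (ξ : ∀ n, F.obj (A n))
    (hξ : ∀ n, F.map (f n) (ξ (n + 1)) = ξ n) : Family (Lim A f) (resLim A f) F where
  app B φ :=
    F.map (Classical.choose ((Classical.choose_spec (exists_factor_level hf d hd B φ.1 φ.2)) _ le_rfl))
      (ξ (Classical.choose (exists_factor_level hf d hd B φ.1 φ.2)))
  natural := by
    intro B B' g φ
    have h1 := Classical.choose_spec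
      ((Classical.choose_spec (exists_factor_level hf d hd B φ.1 φ.2)) _ le_rfl)
    have h2 := Classical.choose_spec
      ((Classical.choose_spec (exists_factor_level hf d hd B' (HomSet.map g φ).1 (HomSet.map g φ).2)) _
        le_rfl)
    rw [← Functor.map_comp_apply]
    apply factor_unique hf ξ hξ
    rw [h2]
    change _ = (g.toAlgHom.comp _).comp _
    rw [AlgHom.comp_assoc, h1]
    rfl

include hf in
lemma familyOfTower_app (d : ℕ)
    (hd : ∀ n, Module.finrank (ResidueField (A n)) (CotangentSpace (A n)) ≤ d)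
    {F : Art Λ k ⥤ Type v} (ξ : ∀ n, F.obj (A n))
    (hξ : ∀ n, F.map (f n) (ξ (n + 1)) = ξ n) {B : Art Λ k}
    (φ : HomSet (Lim A f) (resLim A f) B) (N : ℕ) (φN : A N ⟶ B)
    (h : φN.toAlgHom.comp (proj A f N) = φ.1) :
    (familyOfTower hf d hd ξ hξ).app B φ = F.map φN (ξ N) := by
  have h1 := Classical.choose_spec
    ((Classical.choose_spec (exists_factor_level hf d hd B φ.1 φ.2)) _ le_rfl)
  apply factor_unique hf ξ hξ
  rw [h1, h]

end Factor

/-- The limit of a surjective tower with bounded embedding dimension, as an object of `CRing`. -/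
noncomputable def limCRing [IsNoetherianRing Λ] [Module.Finite Λ k]
    (A : ℕ → ArtFun.Art Λ k) (f : ∀ n, A (n + 1) ⟶ A n) (hf : ∀ n, Function.Surjective (f n))
    (d : ℕ) (hd : ∀ n, Module.finrank (IsLocalRing.ResidueField (A n))
      (IsLocalRing.CotangentSpace (A n)) ≤ d) : CRing Λ k :=
  haveI hloc : IsLocalRing (Lim A f) := isLocalRing_lim hf
  { carrier := Lim A f
    isLocalRing := hloc
    isNoetherianRing := isNoetherianRing_lim hf (maximalIdeal_fg hf d hd)
    res := resLim A f
    res_surjective := resLim_surjective hf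
    isAdicComplete := isAdicComplete_lim hf (maximalIdeal_fg hf d hd) }

/-- The limit of a surjective tower with bounded embedding dimension. -/
theorem exists_limit [IsNoetherianRing Λ] [Module.Finite Λ k]
    (A : ℕ → ArtFun.Art Λ k) (f : ∀ n, A (n + 1) ⟶ A n) (hf : ∀ n, Function.Surjective (f n))
    (d : ℕ) (hd : ∀ n, Module.finrank (IsLocalRing.ResidueField (A n))
      (IsLocalRing.CotangentSpace (A n)) ≤ d) :
    ∃ (S : ArtFun.CRing Λ k) (π : ∀ n, ArtFun.HomSet S.carrier S.res (A n)),
      (∀ n, ArtFun.HomSet.map (f n) (π (n + 1)) = π n) ∧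
      (∀ n, Function.Surjective (π n).1) ∧
      (∀ a : ∀ n, A n, (∀ n, f n (a (n + 1)) = a n) → ∃! s : S.carrier, ∀ n, (π n).1 s = a n) ∧
      (∀ n, ∃ N, RingHom.ker (π N).1 ≤ IsLocalRing.maximalIdeal S.carrier ^ n) ∧
      (∀ n, ∃ N, IsLocalRing.maximalIdeal S.carrier ^ N ≤ RingHom.ker (π n).1) := by
  have hloc : IsLocalRing (Lim A f) := isLocalRing_lim hf
  have hfg := maximalIdeal_fg hf d hd
  have hnoeth : IsNoetherianRing (Lim A f) := isNoetherianRing_lim hf hfg
  let S : CRing Λ k :=
    { carrier := Lim A f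
      res := resLim A f
      res_surjective := resLim_surjective hf
      isAdicComplete := isAdicComplete_lim hf hfg }
  refine ⟨S, fun n => ⟨proj A f n, res_comp_proj n⟩, ?_, ?_, ?_, ?_, ?_⟩
  · intro n
    apply Subtype.ext
    apply AlgHom.ext
    intro s
    exact proj_compat n s
  · intro n
    exact proj_surjective hf n
  · intro a ha
    refine ⟨mkLim a ha, fun n => rfl, fun s hs => ?_⟩
    apply lim_ext
    intro n
    exact hs n
  · intro n
    exact exists_ker_le_pow hf hfg n
  · intro n
    exact exists_pow_le_ker hf n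

end Groth.Agent.H15.ArtLim
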