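import Mathlib
import Groth.Agent.H15.ArtLim

universe u v

open CategoryTheory

namespace Groth.Agent.H15.ArtPoly

open ArtFun ArtFun.Art IsLocalRing Groth.Agent.H15.ArtEps Groth.Agent.H15.ArtLim

variable {Λ : Type u} {k : Type u} [CommRing Λ] [Field k] [Algebra Λ k]

section Quot

variable {P : Type u} [CommRing P] [Algebra Λ P] [IsNoetherianRing P]
  (resP : P →ₐ[Λ] k) (hres : Function.Surjective resP)

/-- The kernel of the augmentation. -/
abbrev mP : Ideal P := RingHom.ker (resP : P →+* k)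

/-- The induced augmentation of a quotient. -/
def resQ (𝔍 : Ideal P) (h1 : 𝔍 ≤ mP resP) : (P ⧸ 𝔍) →ₐ[Λ] k :=
  Ideal.Quotient.liftₐ 𝔍 resP (fun a ha => h1 ha)

lemma resQ_mk (𝔍 : Ideal P) (h1 : 𝔍 ≤ mP resP) (a : P) :
    resQ resP 𝔍 h1 (Ideal.Quotient.mk 𝔍 a) = resP a := rfl

include hres in
lemma isUnit_mk_of_res_ne_zero (𝔍 : Ideal P) (n : ℕ) (h2 : mP resP ^ n ≤ 𝔍) (a : P)
    (ha : resP a ≠ 0) : IsUnit (Ideal.Quotient.mk 𝔍 a) := by
  obtain ⟨b, hb⟩ := hres (resP a)⁻¹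
  have h3 : a * b - 1 ∈ mP resP := by
    rw [RingHom.mem_ker]
    change resP (a * b - 1) = 0
    rw [map_sub, map_mul, hb, map_one, mul_inv_cancel₀ ha, sub_self]
  have h4 : IsNilpotent (Ideal.Quotient.mk 𝔍 (a * b - 1)) := by
    refine ⟨n, ?_⟩
    rw [← map_pow, Ideal.Quotient.eq_zero_iff_mem]
    exact h2 (Ideal.pow_mem_pow h3 n)
  have h5 : IsUnit (Ideal.Quotient.mk 𝔍 (a * b)) := by
    have : Ideal.Quotient.mk 𝔍 (a * b) = 1 + Ideal.Quotient.mk 𝔍 (a * b - 1) := by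
      rw [map_sub, map_one]; ring
    rw [this]
    exact IsNilpotent.isUnit_one_add h4
  rw [map_mul] at h5
  exact isUnit_of_mul_isUnit_left h5

include hres in
theorem isLocalRing_quot (𝔍 : Ideal P) (h1 : 𝔍 ≤ mP resP) (n : ℕ) (h2 : mP resP ^ n ≤ 𝔍) :
    IsLocalRing (P ⧸ 𝔍) := by
  have hne : 𝔍 ≠ ⊤ := by
    intro h
    have h3 : (1 : P) ∈ mP resP := h1 (h ▸ Submodule.mem_top)
    rw [RingHom.mem_ker] at h3
    change resP 1 = 0 at h3
    rw [map_one] at h3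
    exact one_ne_zero h3
  have : Nontrivial (P ⧸ 𝔍) := Ideal.Quotient.nontrivial_iff.2 hne
  refine IsLocalRing.of_nonunits_add ?_
  have key : ∀ x : P ⧸ 𝔍, x ∈ nonunits (P ⧸ 𝔍) → resQ resP 𝔍 h1 x = 0 := by
    intro x hx
    obtain ⟨a, rfl⟩ := Ideal.Quotient.mk_surjective x
    by_contra h
    exact hx (isUnit_mk_of_res_ne_zero resP hres 𝔍 n h2 a h)
  intro x y hx hy hxy
  have h3 : resQ resP 𝔍 h1 (x + y) = 0 := by rw [map_add, key x hx, key y hy, add_zero]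
  have h4 := hxy.map (resQ resP 𝔍 h1)
  rw [h3] at h4
  exact not_isUnit_zero h4

include hres in
theorem isArtinianRing_quot (𝔍 : Ideal P) (h1 : 𝔍 ≤ mP resP) (n : ℕ) (h2 : mP resP ^ n ≤ 𝔍) :
    IsArtinianRing (P ⧸ 𝔍) := by
  have hloc := isLocalRing_quot resP hres 𝔍 h1 n h2
  rw [isArtinianRing_iff_isNilpotent_maximalIdeal]
  refine ⟨n, ?_⟩
  rw [Ideal.zero_eq_bot, eq_bot_iff]
  have hle : maximalIdeal (P ⧸ 𝔍) ≤ (mP resP).map (Ideal.Quotient.mk 𝔍) := by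
    intro x hx
    obtain ⟨a, rfl⟩ := Ideal.Quotient.mk_surjective x
    apply Ideal.mem_map_of_mem
    rw [RingHom.mem_ker]
    by_contra h
    exact (mem_maximalIdeal _).1 hx (isUnit_mk_of_res_ne_zero resP hres 𝔍 n h2 a h)
  refine (Ideal.pow_right_mono hle n).trans ?_
  rw [← Ideal.map_pow]
  refine (Ideal.map_mono h2).trans ?_
  rw [Ideal.map_quotient_self]

/-- The Artinian quotient `P/𝔍` as an object. -/
noncomputable def quotObj (𝔍 : Ideal P) (h1 : 𝔍 ≤ mP resP) (n : ℕ) (h2 : mP resP ^ n ≤ 𝔍) : Art Λ k :=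
  { carrier := P ⧸ 𝔍
    isLocalRing := isLocalRing_quot resP hres 𝔍 h1 n h2
    isArtinianRing := isArtinianRing_quot resP hres 𝔍 h1 n h2
    res := resQ resP 𝔍 h1
    res_surjective := fun c => by
      obtain ⟨a, ha⟩ := hres c
      exact ⟨Ideal.Quotient.mk 𝔍 a, ha⟩ }

/-- The quotient map, as an algebra map. -/
noncomputable def quotMk (𝔍 : Ideal P) (h1 : 𝔍 ≤ mP resP) (n : ℕ) (h2 : mP resP ^ n ≤ 𝔍) :
    P →ₐ[Λ] quotObj resP hres 𝔍 h1 n h2 := Ideal.Quotient.mkₐ Λ 𝔍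

lemma quotMk_surjective (𝔍 : Ideal P) (h1 : 𝔍 ≤ mP resP) (n : ℕ) (h2 : mP resP ^ n ≤ 𝔍) :
    Function.Surjective (quotMk resP hres 𝔍 h1 n h2) := Ideal.Quotient.mk_surjective

lemma res_quotMk (𝔍 : Ideal P) (h1 : 𝔍 ≤ mP resP) (n : ℕ) (h2 : mP resP ^ n ≤ 𝔍) (a : P) :
    (quotObj resP hres 𝔍 h1 n h2).res (quotMk resP hres 𝔍 h1 n h2 a) = resP a := rfl

lemma quotMk_eq_zero_iff (𝔍 : Ideal P) (h1 : 𝔍 ≤ mP resP) (n : ℕ) (h2 : mP resP ^ n ≤ 𝔍) (a : P) :
    quotMk resP hres 𝔍 h1 n h2 a = 0 ↔ a ∈ 𝔍 := Ideal.Quotient.eq_zero_iff_mem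

/-- Maps out of a quotient object. -/
noncomputable def quotLift (𝔍 : Ideal P) (h1 : 𝔍 ≤ mP resP) (n : ℕ) (h2 : mP resP ^ n ≤ 𝔍)
    (B : Art Λ k) (g : P →ₐ[Λ] B) (hg : B.res.comp g = resP) (hker : ∀ a ∈ 𝔍, g a = 0) :
    quotObj resP hres 𝔍 h1 n h2 ⟶ B :=
  ⟨Ideal.Quotient.liftₐ 𝔍 g hker, by
    apply AlgHom.ext
    intro x
    obtain ⟨a, rfl⟩ := Ideal.Quotient.mk_surjective x
    exact DFunLike.congr_fun hg a⟩

lemma quotLift_mk (𝔍 : Ideal P) (h1 : 𝔍 ≤ mP resP) (n : ℕ) (h2 : mP resP ^ n ≤ 𝔍)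
    (B : Art Λ k) (g : P →ₐ[Λ] B) (hg : B.res.comp g = resP) (hker : ∀ a ∈ 𝔍, g a = 0) (a : P) :
    quotLift resP hres 𝔍 h1 n h2 B g hg hker (quotMk resP hres 𝔍 h1 n h2 a) = g a := rfl

include hres in
lemma map_mem_maximalIdeal (B : Art Λ k) (g : P →ₐ[Λ] B) (hg : B.res.comp g = resP) (a : P)
    (ha : a ∈ mP resP) : g a ∈ maximalIdeal B := by
  rw [Art.mem_maximalIdeal_iff]
  have h1 : B.res (g a) = resP a := DFunLike.congr_fun hg a
  rw [h1]
  exact ha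

include hres in
lemma map_pow_eq_zero (B : Art Λ k) (g : P →ₐ[Λ] B) (hg : B.res.comp g = resP) (e : ℕ)
    (he : maximalIdeal B ^ e = ⊥) (a : P) (ha : a ∈ mP resP ^ e) : g a = 0 := by
  have h1 : (g : P →+* B) a ∈ (mP resP ^ e).map (g : P →+* B) := Ideal.mem_map_of_mem _ ha
  rw [Ideal.map_pow] at h1
  have h2 := Ideal.pow_right_mono (Ideal.map_le_iff_le_comap.2
    (fun x hx => Ideal.mem_comap.2 (map_mem_maximalIdeal resP hres B g hg x hx))) e h1
  rw [he] at h2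
  exact h2

include hres in
lemma maximalIdeal_quotObj (𝔍 : Ideal P) (h1 : 𝔍 ≤ mP resP) (n : ℕ) (h2 : mP resP ^ n ≤ 𝔍) :
    maximalIdeal (quotObj resP hres 𝔍 h1 n h2) =
      (mP resP).map ((quotMk resP hres 𝔍 h1 n h2 : P →ₐ[Λ] quotObj resP hres 𝔍 h1 n h2) :
        P →+* quotObj resP hres 𝔍 h1 n h2) := by
  apply le_antisymm
  · intro x hx
    obtain ⟨a, rfl⟩ := quotMk_surjective resP hres 𝔍 h1 n h2 x
    apply Ideal.mem_map_of_mem
    rw [RingHom.mem_ker]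
    exact (Art.mem_maximalIdeal_iff (quotObj resP hres 𝔍 h1 n h2) _).1 hx
  · rw [Ideal.map_le_iff_le_comap]
    intro a ha
    rw [Ideal.mem_comap]
    exact (Art.mem_maximalIdeal_iff (quotObj resP hres 𝔍 h1 n h2) _).2 ha

include hres in
lemma finrank_cotangent_quotObj_le (𝔍 : Ideal P) (h1 : 𝔍 ≤ mP resP) (n : ℕ) (h2 : mP resP ^ n ≤ 𝔍) :
    Module.finrank (ResidueField (quotObj resP hres 𝔍 h1 n h2))
      (CotangentSpace (quotObj resP hres 𝔍 h1 n h2)) ≤ (mP resP).spanFinrank := by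
  rw [finrank_cotangent_eq, maximalIdeal_quotObj resP hres]
  exact Ideal.spanFinrank_map_le_of_fg _ (IsNoetherian.noetherian _)

section Tower

variable (𝔍 : ℕ → Ideal P) (h1 : ∀ q, 𝔍 q ≤ mP resP) (e : ℕ → ℕ) (h2 : ∀ q, mP resP ^ e q ≤ 𝔍 q)
  (hanti : ∀ q, 𝔍 (q + 1) ≤ 𝔍 q)

/-- The tower of quotients attached to a decreasing sequence of open ideals. -/
noncomputable abbrev towerObj (q : ℕ) : Art Λ k := quotObj resP hres (𝔍 q) (h1 q) (e q) (h2 q)

/-- The transition maps of the tower. -/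
noncomputable def towerMap (q : ℕ) :
    towerObj resP hres 𝔍 h1 e h2 (q + 1) ⟶ towerObj resP hres 𝔍 h1 e h2 q :=
  quotLift resP hres (𝔍 (q + 1)) (h1 (q + 1)) (e (q + 1)) (h2 (q + 1)) _
    (quotMk resP hres (𝔍 q) (h1 q) (e q) (h2 q)) rfl
    (fun a ha => (quotMk_eq_zero_iff resP hres _ _ _ _ a).2 (hanti q ha))

lemma towerMap_mk (q : ℕ) (a : P) :
    towerMap resP hres 𝔍 h1 e h2 hanti q
      (quotMk resP hres (𝔍 (q + 1)) (h1 (q + 1)) (e (q + 1)) (h2 (q + 1)) a) =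
      quotMk resP hres (𝔍 q) (h1 q) (e q) (h2 q) a := rfl

lemma towerMap_surjective (q : ℕ) :
    Function.Surjective (towerMap resP hres 𝔍 h1 e h2 hanti q) := by
  intro x
  obtain ⟨a, rfl⟩ := quotMk_surjective resP hres (𝔍 q) (h1 q) (e q) (h2 q) x
  exact ⟨quotMk resP hres (𝔍 (q + 1)) (h1 (q + 1)) (e (q + 1)) (h2 (q + 1)) a, rfl⟩

lemma tower_finrank_le (q : ℕ) :
    Module.finrank (ResidueField (towerObj resP hres 𝔍 h1 e h2 q))
      (CotangentSpace (towerObj resP hres 𝔍 h1 e h2 q)) ≤ (mP resP).spanFinrank :=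
  finrank_cotangent_quotObj_le resP hres _ _ _ _

/-- The canonical map from `P` to the limit of the tower. -/
noncomputable def toLim :
    P →ₐ[Λ] Lim (towerObj resP hres 𝔍 h1 e h2) (towerMap resP hres 𝔍 h1 e h2 hanti) where
  toFun a := mkLim (fun q => quotMk resP hres (𝔍 q) (h1 q) (e q) (h2 q) a) (fun q => rfl)
  map_one' := lim_ext fun q => map_one (quotMk resP hres (𝔍 q) (h1 q) (e q) (h2 q))
  map_mul' a b := lim_ext fun q => map_mul (quotMk resP hres (𝔍 q) (h1 q) (e q) (h2 q)) a b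
  map_zero' := lim_ext fun q => map_zero (quotMk resP hres (𝔍 q) (h1 q) (e q) (h2 q))
  map_add' a b := lim_ext fun q => map_add (quotMk resP hres (𝔍 q) (h1 q) (e q) (h2 q)) a b
  commutes' c := lim_ext fun q => (quotMk resP hres (𝔍 q) (h1 q) (e q) (h2 q)).commutes c

lemma proj_toLim (q : ℕ) (a : P) :
    proj _ _ q (toLim resP hres 𝔍 h1 e h2 hanti a) =
      quotMk resP hres (𝔍 q) (h1 q) (e q) (h2 q) a := rfl

include hres in
/-- Extension of a map killing some `𝔍 q` to the limit. -/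
theorem exists_extension (B : Art Λ k) (g : P →ₐ[Λ] B) (hg : B.res.comp g = resP) (q : ℕ)
    (hker : ∀ a ∈ 𝔍 q, g a = 0) :
    ∃ φ : HomSet (Lim (towerObj resP hres 𝔍 h1 e h2) (towerMap resP hres 𝔍 h1 e h2 hanti))
        (resLim _ _) B, φ.1.comp (toLim resP hres 𝔍 h1 e h2 hanti) = g := by
  let φq : towerObj resP hres 𝔍 h1 e h2 q ⟶ B :=
    quotLift resP hres (𝔍 q) (h1 q) (e q) (h2 q) B g hg hker
  refine ⟨⟨φq.toAlgHom.comp (proj _ _ q), ?_⟩, ?_⟩
  · rw [← AlgHom.comp_assoc, φq.res_comp]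
    exact res_comp_proj q
  · apply AlgHom.ext
    intro a
    rfl

/-- Density of the image of `P` in the limit. -/
theorem hom_ext_of_toLim (B : Art Λ k)
    (φ₁ φ₂ : HomSet (Lim (towerObj resP hres 𝔍 h1 e h2) (towerMap resP hres 𝔍 h1 e h2 hanti))
        (resLim _ _) B)
    (h : φ₁.1.comp (toLim resP hres 𝔍 h1 e h2 hanti) = φ₂.1.comp (toLim resP hres 𝔍 h1 e h2 hanti)) :
    φ₁ = φ₂ := by
  have hf := towerMap_surjective resP hres 𝔍 h1 e h2 hanti
  have hd := tower_finrank_le resP hres 𝔍 h1 e h2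
  obtain ⟨N₁, hN₁⟩ := exists_factor_level hf _ hd B φ₁.1 φ₁.2
  obtain ⟨N₂, hN₂⟩ := exists_factor_level hf _ hd B φ₂.1 φ₂.2
  obtain ⟨ψ₁, hψ₁⟩ := hN₁ (max N₁ N₂) (le_max_left _ _)
  obtain ⟨ψ₂, hψ₂⟩ := hN₂ (max N₁ N₂) (le_max_right _ _)
  have hψ : ψ₁ = ψ₂ := by
    apply hom_ext
    apply AlgHom.ext
    intro x
    obtain ⟨a, rfl⟩ := quotMk_surjective resP hres _ _ _ _ x
    have e1 : ψ₁.toAlgHom (quotMk resP hres _ _ _ _ a) =
        φ₁.1 (toLim resP hres 𝔍 h1 e h2 hanti a) := by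
      rw [← hψ₁]; rfl
    have e2 : ψ₂.toAlgHom (quotMk resP hres _ _ _ _ a) =
        φ₂.1 (toLim resP hres 𝔍 h1 e h2 hanti a) := by
      rw [← hψ₂]; rfl
    rw [e1, e2]
    exact DFunLike.congr_fun h a
  apply Subtype.ext
  rw [← hψ₁, ← hψ₂, hψ]

end Tower

end Quot

section Smooth

variable [IsNoetherianRing Λ] {σ : Type u} [Finite σ]
  (resP : MvPolynomial σ Λ →ₐ[Λ] k) (hres : Function.Surjective resP)

/-- the powers of the augmentation ideal -/
noncomputable abbrev powI (q : ℕ) : Ideal (MvPolynomial σ Λ) := mP resP ^ (q + 1)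

lemma powI_le (q : ℕ) : powI resP q ≤ mP resP := Ideal.pow_le_self (Nat.succ_ne_zero q)

lemma le_powI (q : ℕ) : mP resP ^ (q + 1) ≤ powI resP q := le_rfl

lemma powI_anti (q : ℕ) : powI resP (q + 1) ≤ powI resP q :=
  Ideal.pow_le_pow_right (Nat.le_succ (q + 1))

/-- the tower of powers -/
noncomputable abbrev powObj (q : ℕ) : Art Λ k :=
  towerObj resP hres (powI resP) (powI_le resP) (fun q => q + 1) (le_powI resP) q

noncomputable abbrev powMap (q : ℕ) : powObj resP hres (q + 1) ⟶ powObj resP hres q :=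
  towerMap resP hres (powI resP) (powI_le resP) (fun q => q + 1) (le_powI resP) (powI_anti resP) q

noncomputable abbrev powToLim :
    MvPolynomial σ Λ →ₐ[Λ] Lim (powObj resP hres) (powMap resP hres) :=
  toLim resP hres (powI resP) (powI_le resP) (fun q => q + 1) (le_powI resP) (powI_anti resP)

theorem smooth_pow {B B' : Art Λ k} (μ : B ⟶ B') (hμ : Function.Surjective μ)
    (φ' : HomSet (Lim (powObj resP hres) (powMap resP hres)) (resLim _ _) B') :
    ∃ φ : HomSet (Lim (powObj resP hres) (powMap resP hres)) (resLim _ _) B,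
      HomSet.map μ φ = φ' := by
  obtain ⟨g', hg'⟩ : ∃ g' : MvPolynomial σ Λ →ₐ[Λ] B', g' = φ'.1.comp (powToLim resP hres) :=
    ⟨_, rfl⟩
  choose lift hlift using hμ
  obtain ⟨g, hgdef⟩ : ∃ g : MvPolynomial σ Λ →ₐ[Λ] B,
    g = MvPolynomial.aeval (fun i => lift (g' (MvPolynomial.X i))) := ⟨_, rfl⟩
  have hμg : μ.toAlgHom.comp g = g' := by
    apply MvPolynomial.algHom_ext
    intro i
    change μ (g (MvPolynomial.X i)) = g' (MvPolynomial.X i)
    rw [hgdef, MvPolynomial.aeval_X, hlift]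
  have hg'res : B'.res.comp g' = resP := by
    rw [hg', ← AlgHom.comp_assoc, φ'.2]
    apply AlgHom.ext
    intro a
    rfl
  have hgres : B.res.comp g = resP := by
    rw [← hg'res, ← hμg, ← AlgHom.comp_assoc, μ.res_comp]
  obtain ⟨N, hN⟩ := maximalIdeal_nilpotent B
  obtain ⟨φ, hφ⟩ := exists_extension resP hres (powI resP) (powI_le resP) (fun q => q + 1)
      (le_powI resP) (powI_anti resP) B g hgres N
      (fun a ha => map_pow_eq_zero resP hres B g hgres N hN a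
        (Ideal.pow_le_pow_right (Nat.le_succ N) ha))
  refine ⟨φ, ?_⟩
  apply hom_ext_of_toLim resP hres
  change (μ.toAlgHom.comp φ.1).comp _ = _
  rw [AlgHom.comp_assoc, hφ, hμg, hg']

/-- The completion of a polynomial ring at the kernel of an augmentation. -/
noncomputable def polyCRing [Module.Finite Λ k] : CRing Λ k :=
  limCRing (powObj resP hres) (powMap resP hres)
    (towerMap_surjective resP hres (powI resP) (powI_le resP) (fun q => q + 1) (le_powI resP)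
      (powI_anti resP)) _
    (tower_finrank_le resP hres (powI resP) (powI_le resP) (fun q => q + 1) (le_powI resP))

theorem isSmoothFunctor_polyCRing [Module.Finite Λ k] :
    IsSmoothFunctor (hR (polyCRing resP hres).carrier (polyCRing resP hres).res) := by
  intro B B' μ hμ φ'
  exact smooth_pow resP hres μ hμ φ'

end Smooth

/-- A polynomial ring over `Λ` in finitely many variables surjecting onto `k`. -/
theorem exists_poly_surjective [Module.Finite Λ k] (r : ℕ) :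
    ∃ (t : ℕ) (resP : MvPolynomial (ULift.{u} (Fin t ⊕ Fin r)) Λ →ₐ[Λ] k),
      Function.Surjective resP ∧ (∀ i : Fin r, resP (MvPolynomial.X ⟨Sum.inr i⟩) = 0) ∧
      ∀ c : k, ∃ p : MvPolynomial (ULift.{u} (Fin t ⊕ Fin r)) Λ, resP p = c ∧
        p ∈ Algebra.adjoin Λ (Set.range fun j : Fin t =>
          (MvPolynomial.X ⟨Sum.inl j⟩ : MvPolynomial (ULift.{u} (Fin t ⊕ Fin r)) Λ)) := by
  obtain ⟨t, w, hw⟩ := Module.Finite.exists_fin (R := Λ) (M := k)
  let resP : MvPolynomial (ULift.{u} (Fin t ⊕ Fin r)) Λ →ₐ[Λ] k :=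
    MvPolynomial.aeval (fun i => Sum.elim w (fun _ => 0) i.down)
  have key : ∀ c : k, ∃ p : MvPolynomial (ULift.{u} (Fin t ⊕ Fin r)) Λ, resP p = c ∧
        p ∈ Algebra.adjoin Λ (Set.range fun j : Fin t =>
          (MvPolynomial.X ⟨Sum.inl j⟩ : MvPolynomial (ULift.{u} (Fin t ⊕ Fin r)) Λ)) := by
    intro c
    have h1 : c ∈ Submodule.span Λ (Set.range w) := hw ▸ Submodule.mem_top
    obtain ⟨a, ha⟩ := (Submodule.mem_span_range_iff_exists_fun Λ).1 h1
    refine ⟨∑ j, a j • (MvPolynomial.X (ULift.up (Sum.inl j)) :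
      MvPolynomial (ULift.{u} (Fin t ⊕ Fin r)) Λ), ?_, ?_⟩
    · rw [← ha, map_sum]
      refine Finset.sum_congr rfl fun j _ => ?_
      rw [map_smul]
      congr 1
      exact MvPolynomial.aeval_X _ _
    · exact Subalgebra.sum_mem _ fun j _ => Subalgebra.smul_mem _
        (Algebra.subset_adjoin (Set.mem_range_self j)) _
  refine ⟨t, resP, fun c => ?_, fun i => ?_, key⟩
  · obtain ⟨p, hp, -⟩ := key c
    exact ⟨p, hp⟩
  · exact MvPolynomial.aeval_X _ _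

theorem exists_smooth [IsNoetherianRing Λ] [Module.Finite Λ k] :
    ∃ R : CRing Λ k, IsSmoothFunctor (hR R.carrier R.res) := by
  obtain ⟨t, resP, hres, -, -⟩ := exists_poly_surjective (Λ := Λ) (k := k) 0
  exact ⟨polyCRing resP hres, isSmoothFunctor_polyCRing resP hres⟩

end Groth.Agent.H15.ArtPoly
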