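import Mathlib
import Groth.Agent.H15.ArtPoly
import Groth.Agent.H15.ArtLeast
import Groth.Agent.H15.ArtHR
import Groth.Agent.H15.ArtEss

universe u v

open CategoryTheory

namespace Groth.Agent.H15.ArtVersal

open ArtFun ArtFun.Art IsLocalRing Groth.Agent.H15.ArtEps Groth.Agent.H15.ArtSmooth
  Groth.Agent.H15.ArtInd Groth.Agent.H15.ArtLim Groth.Agent.H15.ArtPoly Groth.Agent.H15.ArtLeast
  Groth.Agent.H15.ArtHR Groth.Agent.H15.ArtEss

variable {Λ : Type u} {k : Type u} [CommRing Λ] [Field k] [Algebra Λ k]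

section Tangent

variable {F : Art Λ k ⥤ Type v} [T : TangentStr F]

/-- The tangent vectors reached from an element `η ∈ F(E)`. -/
def reach (E : Art Λ k) (η : F.obj E) : Submodule k (TangentSpace F) where
  carrier := {v | ∃ φ : E ⟶ dual Λ k, F.map φ η = v}
  add_mem' := by
    rintro _ _ ⟨a, rfl⟩ ⟨b, rfl⟩
    have hab : a ≫ toBase (dual Λ k) = b ≫ toBase (dual Λ k) := by
      rw [eq_toBase (a ≫ toBase _), eq_toBase (b ≫ toBase _)]
    obtain ⟨u, hu1, hu2⟩ := exists_lift_hom isFibreProd_dual2 a b hab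
    refine ⟨u ≫ plus, ?_⟩
    have h := T.add_eq (F.map u η)
    rw [← Functor.map_comp_apply, ← Functor.map_comp_apply, ← Functor.map_comp_apply, hu1, hu2] at h
    exact h.symm
  zero_mem' := by
    refine ⟨(toBase E ≫ baseToDual) ≫ scale 0, ?_⟩
    rw [Functor.map_comp_apply]
    have h := T.smul_eq 0 (F.map (toBase E ≫ baseToDual) η)
    exact h.symm.trans (zero_smul k (TangentSpace.mk (F.map (toBase E ≫ baseToDual) η)))
  smul_mem' := by
    rintro c _ ⟨a, rfl⟩
    refine ⟨a ≫ scale c, ?_⟩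
    rw [Functor.map_comp_apply]
    exact (T.smul_eq c _).symm

lemma mem_reach {E : Art Λ k} {η : F.obj E} {v : TangentSpace F} :
    v ∈ reach E η ↔ ∃ φ : E ⟶ dual Λ k, F.map φ η = v := Iff.rfl

theorem exists_reach_top (h0 : H0 F) (h2 : Heps F) (h3 : Hfin F) :
    ∃ (E : Art Λ k) (η : F.obj E), reach E η = ⊤ := by
  classical
  have hfin : Module.Finite k (TangentSpace F) := h3
  obtain ⟨s, hs⟩ := hfin.fg_top
  have key : ∀ s : Finset (TangentSpace F), ∃ (E : Art Λ k) (η : F.obj E),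
      ∀ v ∈ s, v ∈ reach E η := by
    intro s
    induction s using Finset.induction_on with
    | empty =>
      obtain ⟨η⟩ := h0.1
      exact ⟨base Λ k, η, fun v hv => absurd hv (Finset.notMem_empty v)⟩
    | insert v s _ ih =>
      obtain ⟨E, η, hE⟩ := ih
      have hsub : Subsingleton (F.obj (base Λ k)) := h0.2
      obtain ⟨η', hη'⟩ := (h2 _ _ (isFibreProd_eps E)).2
        ⟨(η, (v : F.obj (dual Λ k))), Subsingleton.elim _ _⟩
      have hη1 : F.map (p₁ E) η' = η := congrArg (fun z => z.1.1) hη'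
      have hη2 : F.map (p₂ E) η' = v := congrArg (fun z => z.1.2) hη'
      refine ⟨eps E, η', fun w hw => ?_⟩
      rcases Finset.mem_insert.1 hw with rfl | hw
      · exact ⟨p₂ E, hη2⟩
      · obtain ⟨φ, hφ⟩ := hE w hw
        exact ⟨p₁ E ≫ φ, by rw [Functor.map_comp_apply, hη1, hφ]⟩
  obtain ⟨E, η, hE⟩ := key s
  refine ⟨E, η, ?_⟩
  rw [eq_top_iff, ← hs, Submodule.span_le]
  exact fun v hv => hE v hv

end Tangent

section Stages

variable [IsNoetherianRing Λ] [Module.Finite Λ k]
  {P : Type u} [CommRing P] [Algebra Λ P] [IsNoetherianRing P]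
  (resP : P →ₐ[Λ] k) (hres : Function.Surjective resP) (F : Art Λ k ⥤ Type v)

/-- A stage of the construction: an Artinian quotient of `P` with an element of `F` over it. -/
structure Stage where
  R : Art Λ k
  g : P →ₐ[Λ] R
  hg : R.res.comp g = resP
  surj : Function.Surjective g
  ξ : F.obj R

variable {resP F}

lemma Stage.ker_le (s : Stage resP F) : RingHom.ker (s.g : P →+* s.R) ≤ mP resP := by
  intro a ha
  rw [RingHom.mem_ker] at ha ⊢
  have h1 : s.R.res (s.g a) = resP a := DFunLike.congr_fun s.hg a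
  change resP a = 0
  rw [← h1]
  have ha' : s.g a = 0 := ha
  rw [ha', map_zero]

include hres in
lemma Stage.finrank_le (s : Stage resP F) :
    Module.finrank (ResidueField s.R) (CotangentSpace s.R) ≤ (mP resP).spanFinrank := by
  rw [finrank_cotangent_eq]
  have h1 : maximalIdeal s.R = (mP resP).map (s.g : P →+* s.R) := by
    apply le_antisymm
    · intro x hx
      obtain ⟨a, rfl⟩ := s.surj x
      apply Ideal.mem_map_of_mem
      rw [RingHom.mem_ker]
      have h1 : s.R.res (s.g a) = resP a := DFunLike.congr_fun s.hg a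
      change resP a = 0
      rw [← h1]
      exact (Art.mem_maximalIdeal_iff s.R _).1 hx
    · rw [Ideal.map_le_iff_le_comap]
      intro a ha
      exact map_mem_maximalIdeal resP hres s.R s.g s.hg a ha
  rw [h1]
  exact Ideal.spanFinrank_map_le_of_fg _ (IsNoetherian.noetherian _)

include hres in
/-- The next stage: the least quotient of `P/(m·ker g)` to which `ξ` lifts. -/
theorem step_spec (h1 : S1 F) (s : Stage resP F) :
    ∃ (s' : Stage resP F) (f : s'.R ⟶ s.R), f.toAlgHom.comp s'.g = s.g ∧ F.map f s'.ξ = s.ξ ∧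
      ∀ (C : Art Λ k) (c : C ⟶ s.R) (_ : IsSemismallExt c) (w : P →ₐ[Λ] C)
        (_ : Function.Surjective w) (_ : c.toAlgHom.comp w = s.g) (ζ : F.obj C),
        F.map c ζ = s.ξ → ∃ χ : s'.R ⟶ C, χ.toAlgHom.comp s'.g = w := by
  obtain ⟨n, hn⟩ := maximalIdeal_nilpotent s.R
  obtain ⟨𝔍, h𝔍⟩ : ∃ 𝔍 : Ideal P, 𝔍 = RingHom.ker (s.g : P →+* s.R) := ⟨_, rfl⟩
  have h𝔍mem : ∀ a, a ∈ 𝔍 ↔ s.g a = 0 := fun a => by rw [h𝔍, RingHom.mem_ker]; rfl
  have h𝔍le : 𝔍 ≤ mP resP := h𝔍 ▸ s.ker_le
  have hpow : mP resP ^ n ≤ 𝔍 := fun a ha =>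
    (h𝔍mem a).2 (map_pow_eq_zero resP hres s.R s.g s.hg n hn a ha)
  have h1' : mP resP * 𝔍 ≤ mP resP := Ideal.mul_le_left
  have h2' : mP resP ^ (n + 1) ≤ mP resP * 𝔍 := by
    rw [pow_succ']
    exact Ideal.mul_mono_right hpow
  let B : Art Λ k := quotObj resP hres (mP resP * 𝔍) h1' (n + 1) h2'
  let mk : P →ₐ[Λ] B := quotMk resP hres (mP resP * 𝔍) h1' (n + 1) h2'
  have hmk : Function.Surjective mk := quotMk_surjective resP hres _ _ _ _
  have hkill : ∀ a ∈ mP resP * 𝔍, s.g a = 0 := fun a ha => (h𝔍mem a).1 (Ideal.mul_le_right ha)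
  let p : B ⟶ s.R := quotLift resP hres (mP resP * 𝔍) h1' (n + 1) h2' s.R s.g s.hg hkill
  have hpmk : ∀ a, p (mk a) = s.g a := fun a => rfl
  have hmk0 : ∀ a, mk a = 0 ↔ a ∈ mP resP * 𝔍 := fun a => quotMk_eq_zero_iff resP hres _ _ _ _ a
  have hsemi : IsSemismallExt p := by
    refine ⟨fun x => ?_, ?_⟩
    · obtain ⟨a, rfl⟩ := s.surj x
      exact ⟨mk a, rfl⟩
    · rw [eq_bot_iff, Ideal.mul_le]
      intro x hx y hy
      obtain ⟨a, rfl⟩ := hmk x
      obtain ⟨b, rfl⟩ := hmk y
      rw [Ideal.mem_bot, ← map_mul, hmk0]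
      refine Ideal.mul_mem_mul ?_ ?_
      · rw [RingHom.mem_ker]
        exact (Art.mem_maximalIdeal_iff B _).1 hx
      · rw [h𝔍mem, ← hpmk]
        exact (RingHom.mem_ker).1 hy
  obtain ⟨J₀, hJ₀, hJ₀', ⟨y, hy⟩, hleast⟩ := exists_least h1 p hsemi s.ξ
  refine ⟨⟨quot B J₀ hJ₀', (quotMk B J₀ hJ₀').toAlgHom.comp mk, ?_, ?_, y⟩,
    quotFactor hJ₀' p hJ₀, ?_, hy, ?_⟩
  · apply AlgHom.ext
    intro a
    rfl
  · exact (Art.quotMk_surjective B J₀ hJ₀').comp hmk
  · apply AlgHom.ext
    intro a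
    rfl
  · intro C c hc w hw hcw ζ hζ
    have hwres : C.res.comp w = resP := by
      rw [← s.hg, ← hcw, ← AlgHom.comp_assoc, c.res_comp]
    have hwkill : ∀ a ∈ mP resP * 𝔍, w a = 0 := by
      intro a ha
      refine Submodule.mul_induction_on ha (fun x hx y hy => ?_) (fun x y hx hy => ?_)
      · have h3 : w x * w y ∈ maximalIdeal C * RingHom.ker c.toAlgHom := by
          refine Ideal.mul_mem_mul (map_mem_maximalIdeal resP hres C w hwres x hx) ?_
          rw [RingHom.mem_ker]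
          have : c.toAlgHom (w y) = s.g y := DFunLike.congr_fun hcw y
          rw [this]
          exact (h𝔍mem y).1 hy
        rw [hc.2] at h3
        rw [map_mul]
        exact h3
      · rw [map_add, hx, hy, add_zero]
    let wb : B ⟶ C := quotLift resP hres (mP resP * 𝔍) h1' (n + 1) h2' C w hwres hwkill
    have hwbmk : ∀ a, wb (mk a) = w a := fun a => rfl
    have hwbp : wb ≫ c = p := by
      apply hom_ext
      apply AlgHom.ext
      intro x
      obtain ⟨a, rfl⟩ := hmk x
      exact DFunLike.congr_fun hcw a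
    have hJle : RingHom.ker wb.toAlgHom ≤ RingHom.ker p.toAlgHom := by
      intro x hx
      rw [RingHom.mem_ker] at hx ⊢
      rw [← hwbp]
      change c (wb x) = 0
      have hx' : wb x = 0 := hx
      rw [hx']
      exact map_zero c.toAlgHom
    have hJ' : RingHom.ker wb.toAlgHom ≤ maximalIdeal B := ker_le_maximalIdeal wb
    have hbij : Function.Bijective (quotFactor hJ' wb le_rfl) := by
      constructor
      · intro z₁ z₂ h
        obtain ⟨b₁, rfl⟩ := Ideal.Quotient.mk_surjective z₁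
        obtain ⟨b₂, rfl⟩ := Ideal.Quotient.mk_surjective z₂
        have h' : wb b₁ = wb b₂ := h
        refine (Ideal.Quotient.eq).2 ?_
        rw [RingHom.mem_ker, map_sub, sub_eq_zero]
        exact h'
      · intro x
        obtain ⟨a, rfl⟩ := hw x
        exact ⟨Ideal.Quotient.mk _ (mk a), rfl⟩
    obtain ⟨ginv, hg1, hg2⟩ := exists_inv_of_bijective _ hbij
    have hfac : quotFactor hJ' wb le_rfl ≫ c = quotFactor hJ' p hJle := by
      apply hom_ext
      apply AlgHom.ext
      intro z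
      obtain ⟨b, rfl⟩ := Ideal.Quotient.mk_surjective z
      change c (wb b) = p b
      rw [← hwbp]
      rfl
    have hle := hleast (RingHom.ker wb.toAlgHom) hJle hJ' ⟨F.map ginv ζ, by
      rw [← hfac, Functor.map_comp_apply, ← Functor.map_comp_apply F ginv, hg2,
        Functor.map_id_apply, hζ]⟩
    refine ⟨quotFactor hJ₀' wb hle, ?_⟩
    apply AlgHom.ext
    intro a
    rfl

variable (h1 : S1 F)

/-- The next stage. -/
noncomputable def next (s : Stage resP F) : Stage resP F := Classical.choose (step_spec hres h1 s)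

/-- The transition map from the next stage. -/
noncomputable def nextMap (s : Stage resP F) : (next hres h1 s).R ⟶ s.R :=
  Classical.choose (Classical.choose_spec (step_spec hres h1 s))

lemma nextMap_comp (s : Stage resP F) :
    (nextMap hres h1 s).toAlgHom.comp (next hres h1 s).g = s.g :=
  (Classical.choose_spec (Classical.choose_spec (step_spec hres h1 s))).1

lemma nextMap_ξ (s : Stage resP F) : F.map (nextMap hres h1 s) (next hres h1 s).ξ = s.ξ :=
  (Classical.choose_spec (Classical.choose_spec (step_spec hres h1 s))).2.1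

lemma next_univ (s : Stage resP F) (C : Art Λ k) (c : C ⟶ s.R) (hc : IsSemismallExt c)
    (w : P →ₐ[Λ] C) (hw : Function.Surjective w) (hcw : c.toAlgHom.comp w = s.g) (ζ : F.obj C)
    (hζ : F.map c ζ = s.ξ) : ∃ χ : (next hres h1 s).R ⟶ C, χ.toAlgHom.comp (next hres h1 s).g = w :=
  (Classical.choose_spec (Classical.choose_spec (step_spec hres h1 s))).2.2 C c hc w hw hcw ζ hζ

variable (s₀ : Stage resP F)

/-- The sequence of stages. -/
noncomputable def stages : ℕ → Stage resP F
  | 0 => s₀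
  | q + 1 => next hres h1 (stages q)

/-- The tower of the construction. -/
noncomputable abbrev twObj (q : ℕ) : Art Λ k := (stages hres h1 s₀ q).R

noncomputable abbrev twMap (q : ℕ) : twObj hres h1 s₀ (q + 1) ⟶ twObj hres h1 s₀ q :=
  nextMap hres h1 (stages hres h1 s₀ q)

lemma twMap_g (q : ℕ) (a : P) :
    twMap hres h1 s₀ q ((stages hres h1 s₀ (q + 1)).g a) = (stages hres h1 s₀ q).g a :=
  DFunLike.congr_fun (nextMap_comp hres h1 (stages hres h1 s₀ q)) a

lemma twMap_surjective (q : ℕ) : Function.Surjective (twMap hres h1 s₀ q) := by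
  intro x
  obtain ⟨a, rfl⟩ := (stages hres h1 s₀ q).surj x
  exact ⟨(stages hres h1 s₀ (q + 1)).g a, twMap_g hres h1 s₀ q a⟩

lemma tw_finrank_le (q : ℕ) :
    Module.finrank (ResidueField (twObj hres h1 s₀ q)) (CotangentSpace (twObj hres h1 s₀ q)) ≤
      (mP resP).spanFinrank :=
  (stages hres h1 s₀ q).finrank_le hres

lemma tw_ξ (q : ℕ) :
    F.map (twMap hres h1 s₀ q) (stages hres h1 s₀ (q + 1)).ξ = (stages hres h1 s₀ q).ξ :=
  nextMap_ξ hres h1 (stages hres h1 s₀ q)

/-- The versal ring. -/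
noncomputable def vRing : CRing Λ k :=
  limCRing (twObj hres h1 s₀) (twMap hres h1 s₀) (twMap_surjective hres h1 s₀) _
    (tw_finrank_le hres h1 s₀)

/-- The versal family. -/
noncomputable def vFamily : Family (vRing hres h1 s₀).carrier (vRing hres h1 s₀).res F :=
  familyOfTower (twMap_surjective hres h1 s₀) _ (tw_finrank_le hres h1 s₀)
    (fun q => (stages hres h1 s₀ q).ξ) (tw_ξ hres h1 s₀)

end Stages

section Versal

variable [IsNoetherianRing Λ] [Module.Finite Λ k] {σ : Type u} [Finite σ]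
  {resP : MvPolynomial σ Λ →ₐ[Λ] k} (hres : Function.Surjective resP)
  {F : Art Λ k ⥤ Type v} (h1 : S1 F) (h2 : Heps F) (s₀ : Stage resP F)

include h2 in
theorem isVersal_family [TangentStr F] (hreach : reach s₀.R s₀.ξ = ⊤) :
    IsVersal (familyOfTower (twMap_surjective hres h1 s₀) _ (tw_finrank_le hres h1 s₀)
      (fun q => (stages hres h1 s₀ q).ξ) (tw_ξ hres h1 s₀)) := by
  have hf := twMap_surjective hres h1 s₀
  have hd := tw_finrank_le hres h1 s₀
  have happ := @familyOfTower_app Λ k _ _ _ (twObj hres h1 s₀) (twMap hres h1 s₀) hf _ hd F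
    (fun q => (stages hres h1 s₀ q).ξ) (tw_ξ hres h1 s₀)
  apply isVersal_of_tangent_of_lift h1 h2
  · intro v
    have hreach' : reach (twObj hres h1 s₀ 0) (stages hres h1 s₀ 0).ξ = ⊤ := hreach
    have hv : (v : TangentSpace F) ∈ reach (twObj hres h1 s₀ 0) (stages hres h1 s₀ 0).ξ :=
      hreach' ▸ Submodule.mem_top
    obtain ⟨φ₀, hφ₀⟩ : ∃ φ₀ : twObj hres h1 s₀ 0 ⟶ dual Λ k,
      F.map φ₀ (stages hres h1 s₀ 0).ξ = v := hv
    let φ : HomSet (Lim (twObj hres h1 s₀) (twMap hres h1 s₀)) (resLim _ _) (dual Λ k) :=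
      ⟨φ₀.toAlgHom.comp (proj _ _ 0), by
        rw [← AlgHom.comp_assoc, φ₀.res_comp]; exact res_comp_proj 0⟩
    refine ⟨φ, ?_⟩
    change (familyOfTower hf _ hd _ _).app (dual Λ k) φ = v
    rw [happ φ 0 φ₀ rfl]
    exact hφ₀
  · intro B' A' μ hμ φ y hy
    obtain ⟨q, hq⟩ := exists_factor_level hf _ hd A' φ.1 φ.2
    obtain ⟨φq, hφq⟩ := hq q le_rfl
    have hξφ := happ φ q φq hφq
    obtain ⟨C, p₁, p₂, fp⟩ := exists_isFibreProd_of_surjective φq μ hμ.1
    have hp₁ : IsSmallExt p₁ := isSmallExt_fst fp hμ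
    obtain ⟨ζ, hζ⟩ := h1 _ _ _ _ fp hμ.1 ⟨((stages hres h1 s₀ q).ξ, y), by
      change F.map φq (stages hres h1 s₀ q).ξ = F.map μ y
      rw [hy, hξφ]⟩
    have hζ1 : F.map p₁ ζ = (stages hres h1 s₀ q).ξ := congrArg (fun z => z.1.1) hζ
    choose lift hlift using hp₁.1
    obtain ⟨w, hwdef⟩ : ∃ w : MvPolynomial σ Λ →ₐ[Λ] C,
      w = MvPolynomial.aeval (fun i => lift ((stages hres h1 s₀ q).g (MvPolynomial.X i))) :=
      ⟨_, rfl⟩
    have hp₁w : p₁.toAlgHom.comp w = (stages hres h1 s₀ q).g := by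
      apply MvPolynomial.algHom_ext
      intro i
      change p₁ (w (MvPolynomial.X i)) = _
      rw [hwdef, MvPolynomial.aeval_X, hlift]
    have hwres : C.res.comp w = resP := by
      rw [← (stages hres h1 s₀ q).hg, ← hp₁w, ← AlgHom.comp_assoc, p₁.res_comp]
    by_cases hw : Function.Surjective w
    · obtain ⟨χ, hχ⟩ : ∃ χ : twObj hres h1 s₀ (q + 1) ⟶ C,
          χ.toAlgHom.comp (stages hres h1 s₀ (q + 1)).g = w :=
        next_univ hres h1 (stages hres h1 s₀ q) C p₁ hp₁.isSemismallExt w hw hp₁w ζ hζ1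
      have hχp₁ : χ ≫ p₁ = twMap hres h1 s₀ q := by
        apply hom_ext
        apply AlgHom.ext
        intro x
        obtain ⟨a, rfl⟩ := (stages hres h1 s₀ (q + 1)).surj x
        have e1 : χ ((stages hres h1 s₀ (q + 1)).g a) = w a := DFunLike.congr_fun hχ a
        change p₁ (χ ((stages hres h1 s₀ (q + 1)).g a)) = _
        rw [e1, twMap_g]
        exact DFunLike.congr_fun hp₁w a
      refine ⟨⟨(χ ≫ p₂).toAlgHom.comp (proj _ _ (q + 1)), by
        rw [← AlgHom.comp_assoc, (χ ≫ p₂).res_comp]; exact res_comp_proj (q + 1)⟩, ?_⟩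
      apply Subtype.ext
      rw [← hφq]
      apply AlgHom.ext
      intro x
      change μ (p₂ (χ (proj _ _ (q + 1) x))) = φq (proj _ _ q x)
      rw [← fp.w_apply, ← proj_compat q x]
      congr 1
      exact DFunLike.congr_fun (congrArg Hom.toAlgHom hχp₁) _
    · -- `p₁` is not essential, so it has a section
      obtain ⟨e, he⟩ := maximalIdeal_nilpotent C
      let D : Art Λ k := quotObj resP hres (mP resP ^ (e + 1))
        (Ideal.pow_le_self (Nat.succ_ne_zero e)) (e + 1) le_rfl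
      let wt : D ⟶ C := quotLift resP hres _ _ _ _ C w hwres (fun a ha =>
        map_pow_eq_zero resP hres C w hwres e he a (Ideal.pow_le_pow_right (Nat.le_succ e) ha))
      have hwt : ∀ a, wt (quotMk resP hres _ _ _ _ a) = w a := fun a => rfl
      have hsec : ∃ s : twObj hres h1 s₀ q ⟶ C, s ≫ p₁ = 𝟙 _ := by
        rw [← not_essential_iff_section p₁ hp₁]
        refine ⟨D, wt, ?_, ?_⟩
        · intro x
          obtain ⟨a, rfl⟩ := (stages hres h1 s₀ q).surj x
          refine ⟨quotMk resP hres _ _ _ _ a, ?_⟩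
          change p₁ (wt (quotMk resP hres _ _ _ _ a)) = _
          rw [hwt]
          exact DFunLike.congr_fun hp₁w a
        · intro hsurj
          apply hw
          intro c
          obtain ⟨d, rfl⟩ := hsurj c
          obtain ⟨a, rfl⟩ := quotMk_surjective resP hres _ _ _ _ d
          exact ⟨a, rfl⟩
      obtain ⟨sec, hsec⟩ := hsec
      refine ⟨⟨(sec ≫ p₂).toAlgHom.comp (proj _ _ q), by
        rw [← AlgHom.comp_assoc, (sec ≫ p₂).res_comp]; exact res_comp_proj q⟩, ?_⟩
      apply Subtype.ext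
      rw [← hφq]
      apply AlgHom.ext
      intro x
      change μ (p₂ (sec (proj _ _ q x))) = φq (proj _ _ q x)
      rw [← fp.w_apply]
      congr 1
      exact DFunLike.congr_fun (congrArg Hom.toAlgHom hsec) _

end Versal

/-- Existence of a versal family (Schlessinger / the Stacks project construction). -/
theorem hasVersal [IsNoetherianRing Λ] [Module.Finite Λ k]
    (F : Art Λ k ⥤ Type v) [TangentStr F]
    (h0 : H0 F) (h1 : S1 F) (h2 : Heps F) (h3 : Hfin F) : HasVersal F := by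
  obtain ⟨E, η, hE⟩ := exists_reach_top h0 h2 h3
  have hfinE := finite_Λ E
  obtain ⟨N, e, he⟩ := Module.Finite.exists_fin (R := Λ) (M := E)
  obtain ⟨g₀, hg₀def⟩ : ∃ g₀ : MvPolynomial (ULift.{u} (Fin N)) Λ →ₐ[Λ] E,
    g₀ = MvPolynomial.aeval (fun i => e i.down) := ⟨_, rfl⟩
  have hg₀ : Function.Surjective g₀ := by
    intro x
    have hx : x ∈ Submodule.span Λ (Set.range e) := he ▸ Submodule.mem_top
    obtain ⟨c, hc⟩ := (Submodule.mem_span_range_iff_exists_fun Λ).1 hx
    refine ⟨∑ i, c i • (MvPolynomial.X (ULift.up i) : MvPolynomial (ULift.{u} (Fin N)) Λ), ?_⟩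
    rw [← hc, map_sum]
    refine Finset.sum_congr rfl fun i _ => ?_
    rw [map_smul, hg₀def, MvPolynomial.aeval_X]
  have hres : Function.Surjective (E.res.comp g₀) := E.res_surjective.comp hg₀
  let s₀ : Stage (E.res.comp g₀) F := ⟨E, g₀, rfl, hg₀, η⟩
  exact ⟨⟨vRing hres h1 s₀, vFamily hres h1 s₀, isVersal_family hres h1 h2 s₀ hE⟩⟩

end Groth.Agent.H15.ArtVersal
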