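import Mathlib
import Groth.Agent.H15.ArtTrim
import Groth.Agent.H15.ArtVersal

universe u v

open CategoryTheory

namespace Groth.Agent.H15.ArtHullK

open ArtFun ArtFun.Art IsLocalRing Groth.Agent.H15.ArtEps Groth.Agent.H15.ArtSmooth
  Groth.Agent.H15.ArtInd Groth.Agent.H15.ArtHR Groth.Agent.H15.ArtFunA Groth.Agent.H15.ArtFormal
  Groth.Agent.H15.ArtTrim

variable {Λ : Type u} {k : Type u} [CommRing Λ] [Field k] [Algebra Λ k]

section

variable {R : Type u} [CommRing R] [Algebra Λ R] {resR : R →ₐ[Λ] k}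

lemma fst_apply (D : HomSet R resR (dual Λ k)) (r : R) :
    TrivSqZeroExt.fst (D.1 r : DualNumber k) = resR r :=
  DFunLike.congr_fun D.2 r

lemma dcoef_add (D : HomSet R resR (dual Λ k)) (r s : R) :
    dcoef D (r + s) = dcoef D r + dcoef D s := by
  unfold dcoef
  rw [map_add]
  rfl

lemma dcoef_sub (D : HomSet R resR (dual Λ k)) (r s : R) :
    dcoef D (r - s) = dcoef D r - dcoef D s := by
  unfold dcoef
  rw [map_sub]
  rfl

lemma dcoef_smul (D : HomSet R resR (dual Λ k)) (c : Λ) (r : R) :
    dcoef D (c • r) = c • dcoef D r := by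
  unfold dcoef
  rw [map_smul]
  rfl

lemma dcoef_one (D : HomSet R resR (dual Λ k)) : dcoef D 1 = 0 := by
  unfold dcoef
  rw [map_one]
  rfl

lemma dcoef_mul (D : HomSet R resR (dual Λ k)) (r s : R) :
    dcoef D (r * s) = resR r * dcoef D s + resR s * dcoef D r := by
  unfold dcoef
  rw [map_mul]
  have e := TrivSqZeroExt.snd_mul (D.1 r : DualNumber k) (D.1 s : DualNumber k)
  rw [fst_apply, fst_apply] at e
  refine e.trans ?_
  simp [mul_comm]

/-- If `k` has no nonzero `Λ`-derivations, a tangent vector is determined by its coefficients on the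
kernel of the augmentation. -/
theorem eq_of_dcoef_eq (hk : Subsingleton (Derivation Λ k k)) (hs : Function.Surjective resR)
    (D₁ D₂ : HomSet R resR (dual Λ k))
    (h : ∀ x, resR x = 0 → dcoef D₁ x = dcoef D₂ x) : D₁ = D₂ := by
  choose s hs' using hs
  have hd0 : ∀ r r' : R, resR r = resR r' → dcoef D₁ r - dcoef D₂ r = dcoef D₁ r' - dcoef D₂ r' := by
    intro r r' hr
    have h0 : resR (r - r') = 0 := by rw [map_sub, hr, sub_self]
    have := h _ h0
    rw [dcoef_sub, dcoef_sub] at this
    linear_combination this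
  let δ : Derivation Λ k k :=
    { toFun := fun c => dcoef D₁ (s c) - dcoef D₂ (s c)
      map_add' := fun a b => by
        have e : resR (s (a + b)) = resR (s a + s b) := by rw [map_add, hs', hs', hs']
        change dcoef D₁ (s (a + b)) - dcoef D₂ (s (a + b)) = _
        rw [hd0 _ _ e, dcoef_add, dcoef_add]
        ring
      map_smul' := fun c a => by
        have e : resR (s (c • a)) = resR (c • s a) := by rw [map_smul, hs', hs']
        change dcoef D₁ (s (c • a)) - dcoef D₂ (s (c • a)) = _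
        rw [hd0 _ _ e, dcoef_smul, dcoef_smul, smul_sub]
        rfl
      map_one_eq_zero' := by
        have e : resR (s 1) = resR 1 := by rw [map_one, hs']
        change dcoef D₁ (s 1) - dcoef D₂ (s 1) = 0
        rw [hd0 _ _ e, dcoef_one, dcoef_one, sub_zero]
      leibniz' := fun a b => by
        have e : resR (s (a * b)) = resR (s a * s b) := by rw [map_mul, hs', hs', hs']
        change dcoef D₁ (s (a * b)) - dcoef D₂ (s (a * b)) = _
        rw [hd0 _ _ e, dcoef_mul, dcoef_mul, hs', hs']
        change _ = a * (dcoef D₁ (s b) - dcoef D₂ (s b)) + b * (dcoef D₁ (s a) - dcoef D₂ (s a))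
        ring }
  have hδ : δ = 0 := Subsingleton.elim _ _
  have hd : ∀ r, dcoef D₁ r = dcoef D₂ r := by
    intro r
    have e : resR (s (resR r)) = resR r := hs' _
    have h1 : δ (resR r) = 0 := by rw [hδ]; rfl
    have h2 : dcoef D₁ (s (resR r)) - dcoef D₂ (s (resR r)) = 0 := h1
    rw [hd0 _ _ e] at h2
    exact sub_eq_zero.1 h2
  apply Subtype.ext
  apply AlgHom.ext
  intro r
  refine TrivSqZeroExt.ext ?_ (hd r)
  exact (fst_apply D₁ r).trans (fst_apply D₂ r).symm

end

/-- (3) ⇒ (1) when `k` has no nonzero `Λ`-derivations. -/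
theorem hasHull_of_derivation_subsingleton [IsNoetherianRing Λ] [Module.Finite Λ k]
    (hk : Subsingleton (Derivation Λ k k))
    (F : Art Λ k ⥤ Type v) [TangentStr F]
    (h0 : H0 F) (h1 : S1 F) (h2 : Heps F) (h3 : Hfin F) : HasHull F := by
  obtain ⟨⟨R, ξ, hξ⟩⟩ := ArtVersal.hasVersal F h0 h1 h2 h3
  refine hasHull_of_versal h0 h2 R ξ hξ fun D₁ D₂ _ hD => ?_
  exact eq_of_dcoef_eq hk R.res_surjective D₁ D₂
    fun x hx => hD x ((R.mem_maximalIdeal_iff x).2 hx)

end Groth.Agent.H15.ArtHullK
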