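import Mathlib
import Groth.Agent.H15.ArtSep

universe u v

open CategoryTheory
open scoped TensorProduct

namespace Groth.Agent.H15.ArtKae

open ArtFun ArtFun.Art IsLocalRing Groth.Agent.H15.ArtEps Groth.Agent.H15.ArtSmooth
  Groth.Agent.H15.ArtLvl Groth.Agent.H15.ArtEndo Groth.Agent.H15.ArtHR Groth.Agent.H15.ArtSep

variable {Λ : Type u} {k : Type u} [CommRing Λ] [Field k] [Algebra Λ k]

theorem surj_iff_kaehler [IsNoetherianRing Λ] [Module.Finite Λ k]
    {A B : ArtFun.Art Λ k} (f : B ⟶ A) :
    letI : Algebra B A := f.toAlgHom.toRingHom.toAlgebra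
    letI : Algebra A k := A.res.toRingHom.toAlgebra
    Function.Surjective f ↔ Subsingleton (k ⊗[A] Ω[A⁄B]) := by
  letI : Algebra B A := f.toAlgHom.toRingHom.toAlgebra
  letI : Algebra A k := A.res.toRingHom.toAlgebra
  letI : Algebra B k := (A.res.toRingHom.comp f.toAlgHom.toRingHom).toAlgebra
  have : IsScalarTower B A k := IsScalarTower.of_algebraMap_eq (fun _ => rfl)
  constructor
  · intro hs
    have h1 : Function.Surjective (algebraMap B A) := hs
    have : Subsingleton (Ω[A⁄B]) := KaehlerDifferential.subsingleton_of_surjective B A h1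
    infer_instance
  · intro hsub
    by_contra hns
    have hfc : A.res.comp f.toAlgHom = B.res := f.res_comp
    have h := (tfae_cot B.res B.res_surjective A.res A.res_surjective f.toAlgHom hfc).out 1 0
    have hfres : ∀ r, A.res (f r) = B.res r := fun r => res_app f r
    have hloc : (maximalIdeal B).map f.toAlgHom ≤ maximalIdeal A := by
      rw [Ideal.map_le_iff_le_comap]
      intro r hr
      rw [Ideal.mem_comap, Art.mem_maximalIdeal_iff]
      change A.res (f r) = 0
      rw [hfres]
      exact (Art.mem_maximalIdeal_iff B r).1 hr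
    apply hns
    apply h.1
    apply le_antisymm (sup_le hloc (Ideal.pow_le_self two_ne_zero))
    intro x hx
    by_contra hxb
    obtain ⟨t, _, ht2, ht3⟩ := tangent_sep_rel A.res A.res_surjective B.res B.res_surjective
      f.toAlgHom hfc _ le_sup_right (sup_le hloc (Ideal.pow_le_self two_ne_zero))
      (fun r hr => (le_sup_left : (maximalIdeal B).map f.toAlgHom ≤ _)
        (Ideal.mem_map_of_mem _ ((Art.mem_maximalIdeal_iff B r).2 hr))) x hx hxb
    obtain ⟨t', ht'⟩ : ∃ t' : A →ₐ[Λ] DualNumber k, t' = t.1 := ⟨_, rfl⟩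
    have htfst : ∀ s, TrivSqZeroExt.fst (t' s) = A.res s := fun s => by
      rw [ht']
      exact DFunLike.congr_fun t.2 s
    have ht3' : ∀ r : B, t' (f r) = (TrivSqZeroExt.inl (B.res r) : DualNumber k) := fun r => by
      rw [ht']; exact ht3 r
    have ht2' : t' x ≠ 0 := by rw [ht']; exact ht2
    let D : Derivation B A k := Derivation.mk'
      { toFun := fun s => TrivSqZeroExt.snd (t' s)
        map_add' := fun a b => by rw [map_add, TrivSqZeroExt.snd_add]
        map_smul' := fun c a => by
          change TrivSqZeroExt.snd (t' (f c * a)) = A.res (f c) * TrivSqZeroExt.snd (t' a)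
          rw [map_mul, TrivSqZeroExt.snd_mul, ht3', TrivSqZeroExt.snd_inl, htfst, hfres]
          simp }
      (fun a b => by
        change TrivSqZeroExt.snd (t' (a * b)) =
          A.res a * TrivSqZeroExt.snd (t' b) + A.res b * TrivSqZeroExt.snd (t' a)
        rw [map_mul, TrivSqZeroExt.snd_mul, htfst, htfst, op_smul_eq_smul, smul_eq_mul, smul_eq_mul])
    have hD : ∀ s, D s = TrivSqZeroExt.snd (t' s) := fun s => rfl
    let ℓ : Ω[A⁄B] →ₗ[A] k := D.liftKaehlerDifferential
    have hℓ : ∀ s, ℓ (KaehlerDifferential.D B A s) = D s := fun s =>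
      Derivation.liftKaehlerDifferential_comp_D D s
    let Φ : k ⊗[A] Ω[A⁄B] →ₗ[A] k := TensorProduct.lift ((LinearMap.mul A k).compl₂ ℓ)
    have hΦ : Φ ((1 : k) ⊗ₜ[A] KaehlerDifferential.D B A x) = TrivSqZeroExt.snd (t' x) := by
      change (1 : k) * ℓ (KaehlerDifferential.D B A x) = _
      rw [hℓ, hD, one_mul]
    have h0 : (1 : k) ⊗ₜ[A] KaehlerDifferential.D B A x = 0 := Subsingleton.elim _ _
    rw [h0, map_zero] at hΦ
    apply ht2'
    apply TrivSqZeroExt.ext
    · rw [htfst, (Art.mem_maximalIdeal_iff A x).1 hx]; rfl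
    · rw [← hΦ]; rfl

end Groth.Agent.H15.ArtKae
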