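import Mathlib
import Groth.Agent.H15.ArtKae
import Groth.Agent.H15.ArtDer
import Groth.Agent.H15.ArtHullK

universe u v

open CategoryTheory
open scoped TensorProduct

namespace Groth.Agent.H15.ArtEssK

open ArtFun ArtFun.Art IsLocalRing Groth.Agent.H15.ArtEps Groth.Agent.H15.ArtSmooth
  Groth.Agent.H15.ArtLvl Groth.Agent.H15.ArtEndo Groth.Agent.H15.ArtHR Groth.Agent.H15.ArtSep
  Groth.Agent.H15.ArtInd Groth.Agent.H15.ArtTrim Groth.Agent.H15.ArtHullK

variable {Λ : Type u} {k : Type u} [CommRing Λ] [Field k] [Algebra Λ k]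

section Dual

variable {S : Type u} [CommRing S] [Algebra Λ S] [Algebra S k] [IsScalarTower Λ S k]

/-- The dual of `k ⊗ Ω` is the space of derivations into `k`. -/
noncomputable def dualEquivDer (hres : Function.Surjective (algebraMap S k)) :
    Module.Dual k (k ⊗[S] Ω[S⁄Λ]) ≃ₗ[k] Derivation Λ S k :=
  let e₂ : (Ω[S⁄Λ] →ₗ[S] k) ≃ₗ[k] (k ⊗[S] Ω[S⁄Λ] →ₗ[k] k) := LinearMap.liftBaseChangeEquiv k
  let e₁ : (Ω[S⁄Λ] →ₗ[S] k) ≃ₗ[S] Derivation Λ S k :=
    KaehlerDifferential.linearMapEquivDerivation Λ S
  { toFun := fun ℓ => e₁ (e₂.symm ℓ)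
    map_add' := fun a b => by rw [map_add, map_add]
    map_smul' := fun c ℓ => by
      obtain ⟨s, rfl⟩ := hres c
      rw [RingHom.id_apply, map_smul, algebraMap_smul, map_smul, algebraMap_smul]
    invFun := fun D => e₂ (e₁.symm D)
    left_inv := fun ℓ => by simp
    right_inv := fun D => by simp }

theorem finrank_kaehler (hres : Function.Surjective (algebraMap S k)) :
    Module.finrank k (k ⊗[S] Ω[S⁄Λ]) = Module.finrank k (Derivation Λ S k) := by
  rw [← Subspace.dual_finrank_eq]
  exact LinearEquiv.finrank_eq (dualEquivDer hres)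

end Dual

section Sub

/-- A `Λ`-subalgebra of an object whose augmentation is still surjective is an object. -/
theorem exists_sub_art [IsNoetherianRing Λ] [Module.Finite Λ k] (B : Art Λ k)
    (C : Subalgebra Λ B.carrier) (hC : ∀ c : k, ∃ x ∈ C, B.res x = c) :
    ∃ (C' : Art Λ k) (j : C' ⟶ B), ∀ b : B, b ∈ C ↔ ∃ c, j c = b := by
  have hfinB : Module.Finite Λ B := finite_Λ B
  obtain ⟨N, hN⟩ := maximalIdeal_nilpotent B
  have hunit : ∀ a : C, IsUnit (a : B.carrier) → IsUnit a := by
    intro a ha
    have hra : B.res (a : B.carrier) ≠ 0 := fun h0 =>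
      ((Art.mem_maximalIdeal_iff B _).2 h0) ha
    obtain ⟨c, hcC, hc⟩ := hC (B.res (a : B.carrier))⁻¹
    obtain ⟨n, hn⟩ : ∃ n : C, n = a * ⟨c, hcC⟩ - 1 := ⟨_, rfl⟩
    have hnm : (n : B.carrier) ∈ maximalIdeal B.carrier := by
      rw [Art.mem_maximalIdeal_iff, hn]
      change B.res ((a : B.carrier) * c - 1) = 0
      rw [map_sub, map_mul, hc, map_one, mul_inv_cancel₀ hra, sub_self]
    have hnil : IsNilpotent n := by
      refine ⟨N, Subtype.ext ?_⟩
      have h1 : (n : B.carrier) ^ N ∈ maximalIdeal B.carrier ^ N := Ideal.pow_mem_pow hnm N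
      rw [hN] at h1
      exact h1
    have h2 : IsUnit (1 + n) := hnil.isUnit_one_add
    have h3 : 1 + n = a * ⟨c, hcC⟩ := by rw [hn]; ring
    rw [h3] at h2
    exact isUnit_of_mul_isUnit_left h2
  have hloc : IsLocalHom (C.val : C →+* B.carrier) := ⟨fun a ha => hunit a ha⟩
  have hlocC : IsLocalRing C := RingHom.domain_isLocalRing (C.val : C →+* B.carrier)
  have hNoethB : IsNoetherian Λ B.carrier := isNoetherian_of_isNoetherianRing_of_finite Λ B.carrier
  have hfinC : Module.Finite Λ C :=
    Module.Finite.of_injective C.val.toLinearMap Subtype.val_injective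
  have hNC : IsNoetherianRing C := Algebra.FiniteType.isNoetherianRing Λ C
  have hmC : ∀ x ∈ maximalIdeal C, (x : B.carrier) ∈ maximalIdeal B.carrier := by
    intro x hx
    rw [mem_maximalIdeal, mem_nonunits_iff] at hx ⊢
    exact fun h => hx (hunit x h)
  have hpow : ∀ x ∈ maximalIdeal C ^ N, x = 0 := by
    intro x hx
    have h3 : (C.val : C →+* B.carrier) x ∈ (maximalIdeal C ^ N).map (C.val : C →+* B.carrier) :=
      Ideal.mem_map_of_mem _ hx
    rw [Ideal.map_pow] at h3
    have h4 := Ideal.pow_right_mono (Ideal.map_le_iff_le_comap.2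
      (fun x hx => Ideal.mem_comap.2 (hmC x hx))) N h3
    rw [hN] at h4
    exact Subtype.ext h4
  have hnil : IsNilpotent (maximalIdeal C) := by
    refine ⟨N, ?_⟩
    rw [Ideal.zero_eq_bot, eq_bot_iff]
    intro x hx
    exact hpow x hx
  have hartC : IsArtinianRing C := (isArtinianRing_iff_isNilpotent_maximalIdeal C).2 hnil
  have hresC : Function.Surjective (B.res.comp C.val) := fun y => by
    obtain ⟨x, hxC, hx⟩ := hC y
    exact ⟨⟨x, hxC⟩, hx⟩
  refine ⟨Art.of C (B.res.comp C.val) hresC, ⟨C.val, rfl⟩, fun b => ⟨fun hb => ⟨⟨b, hb⟩, rfl⟩, ?_⟩⟩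
  rintro ⟨c, rfl⟩
  exact c.2

end Sub

section Ess

variable [IsNoetherianRing Λ] [Module.Finite Λ k]

/-- A surjection is essential iff every tangent vector of the source factors through it. -/
theorem essential_iff_tangent {A B : Art Λ k} (f : B ⟶ A) (hf : Function.Surjective f) :
    (∀ (C : Art Λ k) (g : C ⟶ B), Function.Surjective (g ≫ f) → Function.Surjective g) ↔
      ∀ t : HomSet B.carrier B.res (dual Λ k),
        ∃ t' : HomSet A.carrier A.res (dual Λ k), t'.1.comp f.toAlgHom = t.1 := by
  constructor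
  · intro hess t
    by_cases hker : ∀ x ∈ RingHom.ker f.toAlgHom, t.1 x = 0
    · let e := Ideal.quotientKerAlgEquivOfSurjective (f := f.toAlgHom) hf
      let t₀ : (B.carrier ⧸ RingHom.ker f.toAlgHom) →ₐ[Λ] DualNumber k :=
        Ideal.Quotient.liftₐ (RingHom.ker f.toAlgHom) t.1 hker
      have he : ∀ b : B, e.symm (f b) = Ideal.Quotient.mk _ b := fun b =>
        e.injective (by rw [e.apply_symm_apply]; rfl)
      have ht₀ : ∀ b : B, (t₀.comp e.symm.toAlgHom) (f b) = t.1 b := fun b => by
        change t₀ (e.symm (f b)) = t.1 b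
        rw [he]
        rfl
      refine ⟨⟨t₀.comp e.symm.toAlgHom, ?_⟩, ?_⟩
      · apply AlgHom.ext
        intro a
        obtain ⟨b, rfl⟩ := hf a
        change TrivSqZeroExt.fst ((t₀.comp e.symm.toAlgHom) (f b)) = A.res (f b)
        rw [ht₀, res_app f b]
        exact fst_apply t b
      · apply AlgHom.ext
        intro b
        exact ht₀ b
    · exfalso
      push Not at hker
      obtain ⟨x, hxk, hx⟩ := hker
      have hfx : f x = 0 := hxk
      have hrx : B.res x = 0 := by rw [← res_app f x, hfx, map_zero]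
      have hdx : dcoef t x ≠ 0 := by
        intro h0
        apply hx
        exact TrivSqZeroExt.ext ((fst_apply t x).trans hrx) h0
      let ι : k →ₐ[Λ] DualNumber k := (baseToDual (Λ := Λ) (k := k)).toAlgHom
      have hι : ∀ c : k, ι c = (TrivSqZeroExt.inl c : DualNumber k) := fun c =>
        baseToDual_apply (Λ := Λ) (k := k) c
      obtain ⟨τ, hτ⟩ : ∃ τ : B.carrier →ₐ[Λ] DualNumber k, τ = t.1 := ⟨_, rfl⟩
      obtain ⟨C, hCdef⟩ : ∃ C : Subalgebra Λ B.carrier, C = AlgHom.equalizer τ (ι.comp B.res) :=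
        ⟨_, rfl⟩
      have hmemC : ∀ b : B, b ∈ C ↔ dcoef t b = 0 := by
        intro b
        have h1 : b ∈ C ↔ τ b = (ι.comp B.res) b := by
          rw [hCdef]
          exact AlgHom.mem_equalizer _ _ _
        rw [h1, hτ]
        change t.1 b = ι (B.res b) ↔ _
        rw [hι]
        constructor
        · intro h
          unfold dcoef
          rw [h]
          rfl
        · intro h
          exact TrivSqZeroExt.ext (fst_apply t b) h
      have hadj : ∀ b : B, ∃ b' ∈ C, f b' = f b ∧ B.res b' = B.res b := by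
        intro b
        obtain ⟨s, hs⟩ := B.res_surjective (dcoef t b / dcoef t x)
        refine ⟨b - s * x, ?_, ?_, ?_⟩
        · rw [hmemC, dcoef_sub, dcoef_mul, hs, hrx]
          field_simp
          ring
        · change f.toAlgHom (b - s * x) = f.toAlgHom b
          rw [map_sub, map_mul]
          change f b - f s * f x = f b
          rw [hfx, mul_zero, sub_zero]
        · rw [map_sub, map_mul, hrx, mul_zero, sub_zero]
      have hC : ∀ c : k, ∃ y ∈ C, B.res y = c := by
        intro c
        obtain ⟨b, hb⟩ := B.res_surjective c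
        obtain ⟨b', hb'C, _, hb'⟩ := hadj b
        exact ⟨b', hb'C, hb'.trans hb⟩
      obtain ⟨C', j, hj⟩ := exists_sub_art B C hC
      have hjf : Function.Surjective (j ≫ f) := by
        intro a
        obtain ⟨b, hb⟩ := hf a
        obtain ⟨b', hb'C, hb', _⟩ := hadj b
        obtain ⟨c, hc⟩ := (hj b').1 hb'C
        refine ⟨c, ?_⟩
        change f (j c) = a
        rw [hc, hb', hb]
      obtain ⟨c, hc⟩ := hess C' j hjf x
      have hxC : x ∈ C := (hj x).2 ⟨c, hc⟩
      exact hdx ((hmemC x).1 hxC)
  · intro H C g hgf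
    have hgc : B.res.comp g.toAlgHom = C.res := g.res_comp
    have h := (tfae_cot C.res C.res_surjective B.res B.res_surjective g.toAlgHom hgc).out 1 0
    apply h.1
    have hloc : (maximalIdeal C).map g.toAlgHom ≤ maximalIdeal B := by
      rw [Ideal.map_le_iff_le_comap]
      intro r hr
      rw [Ideal.mem_comap, Art.mem_maximalIdeal_iff]
      change B.res (g r) = 0
      rw [res_app g r]
      exact (Art.mem_maximalIdeal_iff C r).1 hr
    apply le_antisymm (sup_le hloc (Ideal.pow_le_self two_ne_zero))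
    intro x hx
    by_contra hxb
    obtain ⟨t, _, ht2, ht3⟩ := tangent_sep_rel B.res B.res_surjective C.res C.res_surjective
      g.toAlgHom hgc _ le_sup_right (sup_le hloc (Ideal.pow_le_self two_ne_zero))
      (fun r hr => (le_sup_left : (maximalIdeal C).map g.toAlgHom ≤ _)
        (Ideal.mem_map_of_mem _ ((Art.mem_maximalIdeal_iff C r).2 hr))) x hx hxb
    obtain ⟨t', ht'⟩ := H t
    have htt : ∀ b : B, t'.1 (f b) = t.1 b := fun b => DFunLike.congr_fun ht' b
    have h5 : ∀ a : A, t'.1 a = (TrivSqZeroExt.inl (A.res a) : DualNumber k) := by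
      intro a
      obtain ⟨c, rfl⟩ := hgf a
      change t'.1 (f (g c)) = TrivSqZeroExt.inl (A.res (f (g c)))
      rw [htt, res_app f, res_app g]
      exact ht3 c
    apply ht2
    rw [← htt, h5, res_app f x, (Art.mem_maximalIdeal_iff B x).1 hx]
    rfl

end Ess

section Pull

variable {S S' : Type u} [CommRing S] [CommRing S'] [Algebra Λ S] [Algebra Λ S']
  [Algebra S k] [Algebra S' k] [IsScalarTower Λ S k] [IsScalarTower Λ S' k]
  (φ : S →ₐ[Λ] S') (hφ : ∀ s, algebraMap S' k (φ s) = algebraMap S k s)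

/-- Restriction of derivations along an algebra map. -/
noncomputable def pullDer : Derivation Λ S' k →ₗ[k] Derivation Λ S k where
  toFun D := Derivation.mk'
    { toFun := fun s => D (φ s)
      map_add' := fun a b => by rw [map_add, map_add]
      map_smul' := fun c a => by
        have h1 : φ (c • a) = c • φ a := map_smul φ c a
        rw [h1, Derivation.map_smul]
        rfl }
    (fun a b => by
      change D (φ (a * b)) = a • D (φ b) + b • D (φ a)
      rw [map_mul, D.leibniz, Algebra.smul_def, Algebra.smul_def, Algebra.smul_def, Algebra.smul_def,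
        hφ, hφ])
  map_add' := fun D₁ D₂ => by ext; rfl
  map_smul' := fun c D => by ext; rfl

omit [IsScalarTower Λ S k] [IsScalarTower Λ S' k] in
lemma pullDer_apply (D : Derivation Λ S' k) (s : S) : pullDer φ hφ D s = D (φ s) := rfl

lemma pullDer_injective (hs : Function.Surjective φ) : Function.Injective (pullDer φ hφ) := by
  intro D₁ D₂ h
  ext s'
  obtain ⟨s, rfl⟩ := hs s'
  exact DFunLike.congr_fun h s

/-- Surjectivity of restriction in terms of tangent vectors. -/
theorem pullDer_surjective_iff :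
    Function.Surjective (pullDer φ hφ) ↔
      ∀ t : HomSet S (IsScalarTower.toAlgHom Λ S k) (dual Λ k),
        ∃ t' : HomSet S' (IsScalarTower.toAlgHom Λ S' k) (dual Λ k), t'.1.comp φ = t.1 := by
  constructor
  · intro h t
    obtain ⟨D, rfl⟩ := ArtDer.tangentOfDeriv'_surjective t
    obtain ⟨D', rfl⟩ := h D
    refine ⟨ArtDer.tangentOfDeriv' D', ?_⟩
    apply AlgHom.ext
    intro s
    exact TrivSqZeroExt.ext (hφ s) rfl
  · intro h D
    obtain ⟨t', ht'⟩ := h (ArtDer.tangentOfDeriv' D)
    obtain ⟨D', rfl⟩ := ArtDer.tangentOfDeriv'_surjective t'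
    refine ⟨D', ?_⟩
    ext s
    exact congrArg TrivSqZeroExt.snd (DFunLike.congr_fun ht' s)

end Pull

/-- Essential surjections and Kähler differentials. -/
theorem essential_iff_kaehler [IsNoetherianRing Λ] [Module.Finite Λ k]
    {A B : ArtFun.Art Λ k} (f : B ⟶ A) :
    letI : Algebra B A := f.toAlgHom.toRingHom.toAlgebra
    letI : Algebra A k := A.res.toRingHom.toAlgebra
    letI : Algebra B k := B.res.toRingHom.toAlgebra
    (Function.Surjective f ∧ ∀ (C : ArtFun.Art Λ k) (g : C ⟶ B), Function.Surjective (g ≫ f) → Function.Surjective g) ↔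
      (Subsingleton (k ⊗[A] Ω[A⁄B]) ∧
        Module.finrank k (k ⊗[B] Ω[B⁄Λ]) = Module.finrank k (k ⊗[A] Ω[A⁄Λ])) := by
  letI : Algebra B A := f.toAlgHom.toRingHom.toAlgebra
  letI : Algebra A k := A.res.toRingHom.toAlgebra
  letI : Algebra B k := B.res.toRingHom.toAlgebra
  have : IsScalarTower Λ A k := IsScalarTower.of_algebraMap_eq (fun c => (A.res.commutes c).symm)
  have : IsScalarTower Λ B k := IsScalarTower.of_algebraMap_eq (fun c => (B.res.commutes c).symm)
  have hsurj := ArtKae.surj_iff_kaehler f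
  have hresA : Function.Surjective (algebraMap A k) := A.res_surjective
  have hresB : Function.Surjective (algebraMap B k) := B.res_surjective
  have hφ : ∀ s : B, algebraMap A k (f.toAlgHom s) = algebraMap B k s := fun s => res_app f s
  have hfinA : Module.Finite k (Derivation Λ A k) := ArtDer.finite_derivation hresA
  have hfinB : Module.Finite k (Derivation Λ B k) := ArtDer.finite_derivation hresB
  rw [finrank_kaehler hresA, finrank_kaehler hresB]
  have key : Function.Surjective f →
      ((∀ (C : ArtFun.Art Λ k) (g : C ⟶ B), Function.Surjective (g ≫ f) → Function.Surjective g) ↔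
        Module.finrank k (Derivation Λ B k) = Module.finrank k (Derivation Λ A k)) := by
    intro hf
    rw [essential_iff_tangent f hf]
    have h1 := pullDer_surjective_iff (Λ := Λ) (k := k) f.toAlgHom hφ
    have hinj := pullDer_injective (Λ := Λ) (k := k) f.toAlgHom hφ hf
    constructor
    · intro H
      have hs : Function.Surjective (pullDer f.toAlgHom hφ) := h1.2 H
      exact (LinearEquiv.finrank_eq (LinearEquiv.ofBijective _ ⟨hinj, hs⟩)).symm
    · intro H
      exact h1.1 ((LinearMap.injective_iff_surjective_of_finrank_eq_finrank H.symm).1 hinj)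
  constructor
  · rintro ⟨hf, hess⟩
    exact ⟨hsurj.1 hf, (key hf).1 hess⟩
  · rintro ⟨hsub, hfr⟩
    have hf := hsurj.2 hsub
    exact ⟨hf, (key hf).2 hfr⟩

end Groth.Agent.H15.ArtEssK
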