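import Mathlib
import Groth.Agent.H15.ArtInd

universe u v

open CategoryTheory Polynomial

namespace Groth.Agent.H15.ArtSec

open ArtFun ArtFun.Art IsLocalRing Groth.Agent.H15.ArtEps Groth.Agent.H15.ArtInd

variable {Λ : Type u} {k : Type u} [CommRing Λ] [Field k] [Algebra Λ k]

/-- The image of `Λ` in `k` is a field when `k` is finite over `Λ`. -/
theorem isField_range [Module.Finite Λ k] : IsField (↥(algebraMap Λ k).range) := by
  have hint : Algebra.IsIntegral Λ k := inferInstance
  have : Algebra.IsIntegral (↥(algebraMap Λ k).range) k := by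
    refine ⟨fun x => ?_⟩
    obtain ⟨p, hpm, hp⟩ := hint.isIntegral x
    refine ⟨p.map (algebraMap Λ k).rangeRestrict, hpm.map _, ?_⟩
    rw [Polynomial.eval₂_map]
    exact hp
  exact isField_of_isIntegral_of_isField (R := ↥(algebraMap Λ k).range) (S := k)
    Subtype.val_injective (Field.toIsField k)

/-- An object killed by the kernel of `Λ → k` has a section, when `k` is separable over the image
of `Λ`. -/
theorem exists_section [Module.Finite Λ k] [Algebra.IsSeparable (↥(algebraMap Λ k).range) k]
    (E : Art Λ k) (hE : ∀ c : Λ, algebraMap Λ k c = 0 → algebraMap Λ E c = 0) :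
    Nonempty (base Λ k ⟶ E) := by
  letI : Field (↥(algebraMap Λ k).range) := (isField_range (Λ := Λ) (k := k)).toField
  have hsurj : Function.Surjective (algebraMap Λ k).rangeRestrict :=
    (algebraMap Λ k).rangeRestrict_surjective
  have hker : RingHom.ker (algebraMap Λ k).rangeRestrict ≤ RingHom.ker (algebraMap Λ E) := by
    intro c hc
    rw [RingHom.mem_ker] at hc ⊢
    apply hE
    exact congrArg Subtype.val hc
  let ψ : ↥(algebraMap Λ k).range →+* E.carrier :=
    RingHom.liftOfSurjective (algebraMap Λ k).rangeRestrict hsurj ⟨algebraMap Λ E, hker⟩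
  have hψ : ∀ c : Λ, ψ ((algebraMap Λ k).rangeRestrict c) = algebraMap Λ E c := fun c =>
    RingHom.liftOfRightInverse_comp_apply _ _ _ _ c
  letI : Algebra (↥(algebraMap Λ k).range) E.carrier := ψ.toAlgebra
  let resK : E.carrier →ₐ[↥(algebraMap Λ k).range] k :=
    { E.res.toRingHom with
      commutes' := fun y => by
        obtain ⟨c, rfl⟩ := hsurj y
        change E.res (ψ ((algebraMap Λ k).rangeRestrict c)) = _
        rw [hψ, E.res.commutes]
        rfl }
  have hresK : Function.Surjective resK := E.res_surjective
  have hnil : IsNilpotent (RingHom.ker (resK : E.carrier →+* k)) := by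
    obtain ⟨N, hN⟩ := maximalIdeal_nilpotent E
    refine ⟨N, ?_⟩
    rw [Ideal.zero_eq_bot, eq_bot_iff, ← hN]
    apply Ideal.pow_right_mono
    intro x hx
    exact (Art.mem_maximalIdeal_iff E x).2 hx
  have het : Algebra.FormallyEtale (↥(algebraMap Λ k).range) k :=
    Algebra.FormallyEtale.of_isSeparable (↥(algebraMap Λ k).range) k
  have hsm : Algebra.FormallySmooth (↥(algebraMap Λ k).range) k := inferInstance
  let σK : k →ₐ[↥(algebraMap Λ k).range] E.carrier :=
    Algebra.FormallySmooth.liftOfSurjective (AlgHom.id _ k) resK hresK hnil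
  have hσK : ∀ c : k, E.res (σK c) = c := fun c =>
    Algebra.FormallySmooth.liftOfSurjective_apply (AlgHom.id _ k) resK hresK hnil c
  let σ : k →ₐ[Λ] E.carrier :=
    { σK.toRingHom with
      commutes' := fun c => by
        change σK (algebraMap Λ k c) = algebraMap Λ E c
        have h1 : algebraMap Λ k c =
            algebraMap (↥(algebraMap Λ k).range) k ((algebraMap Λ k).rangeRestrict c) := rfl
        rw [h1, σK.commutes]
        exact hψ c }
  exact ⟨⟨σ, AlgHom.ext fun c => hσK c⟩⟩

end Groth.Agent.H15.ArtSec
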