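import Mathlib
import Groth.Agent.H15.ArtEssK
import Groth.Agent.H15.ArtSec

universe u v

open CategoryTheory

namespace Groth.Agent.H15.ArtEssSep

open ArtFun ArtFun.Art IsLocalRing Groth.Agent.H15.ArtEps Groth.Agent.H15.ArtSmooth
  Groth.Agent.H15.ArtLvl Groth.Agent.H15.ArtEndo Groth.Agent.H15.ArtHR Groth.Agent.H15.ArtSep
  Groth.Agent.H15.ArtInd Groth.Agent.H15.ArtTrim Groth.Agent.H15.ArtHullK Groth.Agent.H15.ArtEssK

variable {Λ : Type u} {k : Type u} [CommRing Λ] [Field k] [Algebra Λ k]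

/-- A tangent vector killing the kernel of a surjection factors through it. -/
theorem exists_factor_tangent {A B : Art Λ k} (f : B ⟶ A) (hf : Function.Surjective f)
    (t : HomSet B.carrier B.res (dual Λ k)) (hker : ∀ x ∈ RingHom.ker f.toAlgHom, t.1 x = 0) :
    ∃ t' : HomSet A.carrier A.res (dual Λ k), t'.1.comp f.toAlgHom = t.1 := by
  let e := Ideal.quotientKerAlgEquivOfSurjective (f := f.toAlgHom) hf
  let t₀ : (B.carrier ⧸ RingHom.ker f.toAlgHom) →ₐ[Λ] DualNumber k :=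
    Ideal.Quotient.liftₐ (RingHom.ker f.toAlgHom) t.1 hker
  have he : ∀ b : B, e.symm (f b) = Ideal.Quotient.mk _ b := fun b =>
    e.injective (by rw [e.apply_symm_apply]; rfl)
  have ht₀ : ∀ b : B, (t₀.comp e.symm.toAlgHom) (f b) = t.1 b := fun b => by
    change t₀ (e.symm (f b)) = t.1 b
    rw [he]
    rfl
  refine ⟨⟨t₀.comp e.symm.toAlgHom, ?_⟩, ?_⟩
  · apply AlgHom.ext
    intro a
    obtain ⟨b, rfl⟩ := hf a
    change TrivSqZeroExt.fst ((t₀.comp e.symm.toAlgHom) (f b)) = A.res (f b)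
    rw [ht₀, res_app f b]
    exact fst_apply t b
  · apply AlgHom.ext
    intro b
    exact ht₀ b

/-- Tangent vectors vanish on `m_Λ B + m_B²`. -/
theorem tangent_vanish {B : Art Λ k} (t : HomSet B.carrier B.res (dual Λ k)) (x : B)
    (hx : x ∈ Ideal.map (algebraMap Λ B) (RingHom.ker (algebraMap Λ k)) ⊔ maximalIdeal B ^ 2) :
    t.1 x = 0 := by
  obtain ⟨τ, hτ⟩ : ∃ τ : B.carrier →ₐ[Λ] DualNumber k, τ = t.1 := ⟨_, rfl⟩
  have hfst : ∀ b : B, TrivSqZeroExt.fst (τ b) = B.res b := fun b => hτ ▸ fst_apply t b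
  have hle : Ideal.map (algebraMap Λ B) (RingHom.ker (algebraMap Λ k)) ⊔ maximalIdeal B ^ 2 ≤
      RingHom.ker (τ : B.carrier →+* DualNumber k) := by
    apply sup_le
    · rw [Ideal.map_le_iff_le_comap]
      intro c hc
      rw [RingHom.mem_ker] at hc
      rw [Ideal.mem_comap, RingHom.mem_ker]
      change τ (algebraMap Λ B c) = 0
      rw [τ.commutes, TrivSqZeroExt.algebraMap_eq_inl', hc]
      rfl
    · rw [pow_two, Ideal.mul_le]
      intro a ha b hb
      rw [RingHom.mem_ker]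
      change τ (a * b) = 0
      rw [map_mul]
      apply dual_mul_eq_zero
      · rw [hfst]; exact (Art.mem_maximalIdeal_iff B a).1 ha
      · rw [hfst]; exact (Art.mem_maximalIdeal_iff B b).1 hb
  have := hle hx
  rw [RingHom.mem_ker] at this
  rw [← hτ]
  exact this

/-- Essential surjections and relative cotangent spaces, for separable residue field. -/
theorem essential_iff_cotangent [IsNoetherianRing Λ] [Module.Finite Λ k]
    [Algebra.IsSeparable (↥(algebraMap Λ k).range) k]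
    {A B : ArtFun.Art Λ k} (f : B ⟶ A) :
    (Function.Surjective f ∧ ∀ (C : ArtFun.Art Λ k) (g : C ⟶ B), Function.Surjective (g ≫ f) → Function.Surjective g) ↔
      (Ideal.map (algebraMap Λ A) (RingHom.ker (algebraMap Λ k)) ⊔ Ideal.map f.toAlgHom (IsLocalRing.maximalIdeal B) ⊔ IsLocalRing.maximalIdeal A ^ 2 =
          IsLocalRing.maximalIdeal A ∧
        ∀ b ∈ IsLocalRing.maximalIdeal B, f b ∈ Ideal.map (algebraMap Λ A) (RingHom.ker (algebraMap Λ k)) ⊔ IsLocalRing.maximalIdeal A ^ 2 →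
          b ∈ Ideal.map (algebraMap Λ B) (RingHom.ker (algebraMap Λ k)) ⊔ IsLocalRing.maximalIdeal B ^ 2) := by
  have hsurj := (tfae_cot B.res B.res_surjective A.res A.res_surjective f.toAlgHom f.res_comp).out 0 2
  have key : Function.Surjective f →
      ((∀ (C : ArtFun.Art Λ k) (g : C ⟶ B), Function.Surjective (g ≫ f) → Function.Surjective g) ↔
        ∀ b ∈ IsLocalRing.maximalIdeal B, f b ∈ Ideal.map (algebraMap Λ A) (RingHom.ker (algebraMap Λ k)) ⊔ IsLocalRing.maximalIdeal A ^ 2 →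
          b ∈ Ideal.map (algebraMap Λ B) (RingHom.ker (algebraMap Λ k)) ⊔ IsLocalRing.maximalIdeal B ^ 2) := by
    intro hf
    rw [essential_iff_tangent f hf]
    constructor
    · intro H b hbm hfb
      by_contra hb
      obtain ⟨𝔟, h𝔟def⟩ : ∃ 𝔟 : Ideal B.carrier, 𝔟 =
          Ideal.map (algebraMap Λ B) (RingHom.ker (algebraMap Λ k)) ⊔ maximalIdeal B ^ 2 := ⟨_, rfl⟩
      rw [← h𝔟def] at hb
      have hm𝔟 : Ideal.map (algebraMap Λ B) (RingHom.ker (algebraMap Λ k)) ≤ maximalIdeal B := by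
        rw [Ideal.map_le_iff_le_comap]
        intro c hc
        rw [RingHom.mem_ker] at hc
        rw [Ideal.mem_comap, Art.mem_maximalIdeal_iff, B.res.commutes]
        exact hc
      have h𝔟m : 𝔟 ≤ maximalIdeal B := h𝔟def ▸ sup_le hm𝔟 (Ideal.pow_le_self two_ne_zero)
      have hq𝔟 : ∀ y : B, quotMk B 𝔟 h𝔟m y = 0 ↔ y ∈ 𝔟 := fun y => Ideal.Quotient.eq_zero_iff_mem
      have hE : ∀ c : Λ, algebraMap Λ k c = 0 → algebraMap Λ (quot B 𝔟 h𝔟m) c = 0 := by
        intro c hc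
        have h1 : algebraMap Λ (quot B 𝔟 h𝔟m) c = quotMk B 𝔟 h𝔟m (algebraMap Λ B c) :=
          ((quotMk B 𝔟 h𝔟m).toAlgHom.commutes c).symm
        rw [h1, hq𝔟, h𝔟def]
        exact Submodule.mem_sup_left (Ideal.mem_map_of_mem _ (RingHom.mem_ker.2 hc))
      obtain ⟨σ⟩ := ArtSec.exists_section (quot B 𝔟 h𝔟m) hE
      have hqs := quotMk_surjective B 𝔟 h𝔟m
      have hxm : quotMk B 𝔟 h𝔟m b ∈ maximalIdeal (quot B 𝔟 h𝔟m) := by
        rw [Art.mem_maximalIdeal_iff, res_app]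
        exact (Art.mem_maximalIdeal_iff B b).1 hbm
      have hxb : quotMk B 𝔟 h𝔟m b ∉ maximalIdeal (quot B 𝔟 h𝔟m) ^ 2 := by
        intro h1
        have h2 : maximalIdeal (quot B 𝔟 h𝔟m) =
            (maximalIdeal B).map ((quotMk B 𝔟 h𝔟m).toAlgHom : B.carrier →+* (quot B 𝔟 h𝔟m).carrier) :=
          (map_maximalIdeal_of_surjective _ hqs).symm
        rw [h2, ← Ideal.map_pow] at h1
        obtain ⟨y, hy, hyb⟩ := (Ideal.mem_map_iff_of_surjective _ hqs).1 h1
        have h3 : quotMk B 𝔟 h𝔟m (b - y) = 0 := by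
          change (quotMk B 𝔟 h𝔟m).toAlgHom (b - y) = 0
          rw [map_sub]
          exact sub_eq_zero.2 hyb.symm
        have h4 := (hq𝔟 _).1 h3
        have h5 : y ∈ 𝔟 := h𝔟def ▸ Submodule.mem_sup_right hy
        have := 𝔟.add_mem h4 h5
        rw [sub_add_cancel] at this
        exact hb this
      obtain ⟨tb, _, htb, _⟩ := tangent_sep_rel (quot B 𝔟 h𝔟m).res (quot B 𝔟 h𝔟m).res_surjective
        (base Λ k).res (base Λ k).res_surjective σ.toAlgHom σ.res_comp
        (maximalIdeal (quot B 𝔟 h𝔟m) ^ 2) le_rfl (Ideal.pow_le_self two_ne_zero)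
        (fun r hr => by
          have hr0 : r = 0 := hr
          rw [hr0, map_zero]
          exact Ideal.zero_mem _) _ hxm hxb
      obtain ⟨t, ht⟩ : ∃ t : HomSet B.carrier B.res (dual Λ k),
          t.1 = tb.1.comp (quotMk B 𝔟 h𝔟m).toAlgHom :=
        ⟨⟨tb.1.comp (quotMk B 𝔟 h𝔟m).toAlgHom, by
          rw [← AlgHom.comp_assoc, tb.2, (quotMk B 𝔟 h𝔟m).res_comp]⟩, rfl⟩
      obtain ⟨t', ht'⟩ := H t
      apply htb
      have h6 : tb.1 (quotMk B 𝔟 h𝔟m b) = t.1 b := by rw [ht]; rfl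
      have h7 : t.1 b = t'.1 (f b) := (DFunLike.congr_fun ht' b).symm
      rw [h6, h7]
      exact tangent_vanish t' (f b) hfb
    · intro H t
      apply exists_factor_tangent f hf t
      intro x hx
      have hfx : f x = 0 := hx
      apply tangent_vanish t x
      apply H x
      · rw [Art.mem_maximalIdeal_iff, ← res_app f x, hfx, map_zero]
      · rw [hfx]
        exact Ideal.zero_mem _
  constructor
  · rintro ⟨hf, hess⟩
    exact ⟨hsurj.1 hf, (key hf).1 hess⟩
  · rintro ⟨h1, h2⟩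
    have hf := hsurj.2 h1
    exact ⟨hf, (key hf).2 h2⟩

end Groth.Agent.H15.ArtEssSep
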