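import Mathlib
import Groth.Prelude.Def_CAlgX
import Groth.Agent.H15.ArtFormal

universe u v

open CategoryTheory

namespace Groth.Agent.H15.ArtFS

open ArtFun ArtFun.Art IsLocalRing Groth.Agent.H15.ArtEps Groth.Agent.H15.ArtHR Groth.Agent.H15.ArtInd

variable {Λ : Type u} {k : Type u} [CommRing Λ] [Field k] [Algebra Λ k]

theorem smooth_of_afs (R : CRing Λ k)
    (h : CAlgX.IsAdicFormallySmooth Λ R.carrier (maximalIdeal R.carrier)) :
    IsSmoothFunctor (hR R.carrier R.res) := by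
  intro B A μ hμ
  refine surjective_induction
    (fun A B μ => Function.Surjective ((hR R.carrier R.res).map μ)) ?_ ?_ ?_ μ hμ
  · intro A B e he φ
    have := he
    refine ⟨(hR R.carrier R.res).map (inv e) φ, ?_⟩
    rw [← Functor.map_comp_apply, IsIso.inv_hom_id, Functor.map_id_apply]
  · intro A B μ hμ φ
    obtain ⟨hsurj, _, _, hmk⟩ := hμ
    have hJ2 : RingHom.ker μ.toAlgHom ^ 2 = ⊥ := by
      rw [eq_bot_iff, pow_two]
      exact (Ideal.mul_mono_left (ker_le_maximalIdeal μ)).trans hmk.le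
    let e : (B ⧸ RingHom.ker μ.toAlgHom) ≃ₐ[Λ] A := Ideal.quotientKerAlgEquivOfSurjective hsurj
    let ψ : R.carrier →ₐ[Λ] B ⧸ RingHom.ker μ.toAlgHom := e.symm.toAlgHom.comp φ.1
    obtain ⟨N, hN⟩ := maximalIdeal_nilpotent A
    have hum : (maximalIdeal R.carrier).map (φ.1 : R.carrier →+* A) ≤ maximalIdeal A := by
      rw [Ideal.map_le_iff_le_comap]
      intro x hx
      rw [Ideal.mem_comap, Art.mem_maximalIdeal_iff]
      have h1 : A.res (φ.1 x) = R.res x := DFunLike.congr_fun φ.2 x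
      exact h1.trans ((CRing.mem_maximalIdeal_iff R x).1 hx)
    have hkill : ∃ n : ℕ, ∀ x ∈ maximalIdeal R.carrier ^ n, ψ x = 0 := by
      refine ⟨N, fun x hx => ?_⟩
      have h1 : (φ.1 : R.carrier →+* A) x ∈ (maximalIdeal R.carrier ^ N).map (φ.1 : R.carrier →+* A) :=
        Ideal.mem_map_of_mem _ hx
      rw [Ideal.map_pow] at h1
      have h2 := Ideal.pow_right_mono hum N h1
      rw [hN] at h2
      have h3 : φ.1 x = 0 := h2
      change e.symm (φ.1 x) = 0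
      rw [h3, map_zero]
    obtain ⟨χ, hχ⟩ := h (B : Type u) (RingHom.ker μ.toAlgHom) hJ2 ψ hkill
    have hμχ : μ.toAlgHom.comp χ = φ.1 := by
      apply AlgHom.ext
      intro r
      have h1 : Ideal.Quotient.mk (RingHom.ker μ.toAlgHom) (χ r) = e.symm (φ.1 r) :=
        DFunLike.congr_fun hχ r
      have h2 := congrArg e h1
      rw [e.apply_symm_apply] at h2
      exact h2
    refine ⟨⟨χ, ?_⟩, Subtype.ext hμχ⟩
    rw [← μ.res_comp, AlgHom.comp_assoc, hμχ, φ.2]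
  · intro A B C p q hp hq φ
    obtain ⟨ψ, hψ⟩ := hq φ
    obtain ⟨χ, hχ⟩ := hp ψ
    exact ⟨χ, by rw [Functor.map_comp_apply, hχ, hψ]⟩

/-- An Artinian local subalgebra of a square-zero thickening covering an object. -/
theorem exists_artin_sub [IsNoetherianRing Λ] [Module.Finite Λ k] (T : Art Λ k)
    (C : Type u) [CommRing C] [Algebra Λ C] (pr₁ : C →ₐ[Λ] T.carrier) (hpr₁ : Function.Surjective pr₁)
    (hsq : ∀ x y : C, pr₁ x = 0 → pr₁ y = 0 → x * y = 0) :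
    ∃ (Bo : Art Λ k) (πh : Bo ⟶ T) (j : Bo.carrier →ₐ[Λ] C), Function.Surjective πh ∧
      ∀ b, pr₁ (j b) = πh b := by
  classical
  have hfinT : Module.Finite Λ T := finite_Λ T
  obtain ⟨m, t, ht⟩ := Module.Finite.exists_fin (R := Λ) (M := T)
  choose c hc using fun i => hpr₁ (t i)
  obtain ⟨B, hB⟩ : ∃ B : Subalgebra Λ C, B = Algebra.adjoin Λ (Set.range c) := ⟨_, rfl⟩
  have hcB : ∀ i, c i ∈ B := fun i => hB ▸ Algebra.subset_adjoin ⟨i, rfl⟩
  obtain ⟨π, hπdef⟩ : ∃ π : B →ₐ[Λ] T.carrier, π = pr₁.comp B.val := ⟨_, rfl⟩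
  have hπapp : ∀ b : B, π b = pr₁ (b : C) := fun b => by rw [hπdef]; rfl
  have hπ : Function.Surjective π := by
    intro x
    have h1 : Subalgebra.toSubmodule π.range = ⊤ := by
      rw [eq_top_iff, ← ht, Submodule.span_le]
      rintro _ ⟨i, rfl⟩
      exact ⟨⟨c i, hcB i⟩, (hπapp _).trans (hc i)⟩
    have h2 : x ∈ Subalgebra.toSubmodule π.range := h1 ▸ Submodule.mem_top
    exact (AlgHom.mem_range π).1 ((Subalgebra.mem_toSubmodule π.range).1 h2)
  have hBN : IsNoetherianRing B :=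
    isNoetherianRing_of_fg (Subalgebra.fg_def.2 ⟨Set.range c, Set.finite_range c, hB.symm⟩)
  have hsqB : ∀ x y : B, π x = 0 → π y = 0 → x * y = 0 := fun x y hx hy =>
    Subtype.ext (hsq x y ((hπapp x).symm.trans hx) ((hπapp y).symm.trans hy))
  have hloc : IsLocalHom (π : B →+* T.carrier) := by
    refine ⟨fun a ha => ?_⟩
    obtain ⟨w, hw⟩ := ha
    obtain ⟨b, hb⟩ := hπ (↑w⁻¹ : T.carrier)
    have hκ : π (a * b - 1) = 0 := by
      have hw' : π a = ↑w := hw.symm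
      have e1 : π (a * b - 1) = π a * π b - 1 := by
        rw [map_sub π, map_mul π, map_one π]
      rw [e1, hb, hw', Units.mul_inv, sub_self]
    have hκ2 : (a * b - 1) * (a * b - 1) = 0 := hsqB _ _ hκ hκ
    refine IsUnit.of_mul_eq_one (b * (1 - (a * b - 1))) ?_
    linear_combination (-1 : B) * hκ2
  have hlocB : IsLocalRing B := RingHom.domain_isLocalRing (π : B →+* T.carrier)
  have hmB : ∀ x ∈ maximalIdeal B, π x ∈ maximalIdeal T.carrier := by
    intro x hx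
    rw [mem_maximalIdeal, mem_nonunits_iff] at hx ⊢
    exact fun h => hx (hloc.map_nonunit x h)
  obtain ⟨N, hN⟩ := maximalIdeal_nilpotent T
  have hpow : ∀ x ∈ maximalIdeal B ^ N, π x = 0 := by
    intro x hx
    have h3 : (π : B →+* T.carrier) x ∈ (maximalIdeal B ^ N).map (π : B →+* T.carrier) :=
      Ideal.mem_map_of_mem _ hx
    rw [Ideal.map_pow] at h3
    have h4 := Ideal.pow_right_mono (Ideal.map_le_iff_le_comap.2
      (fun x hx => Ideal.mem_comap.2 (hmB x hx))) N h3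
    rw [hN] at h4
    exact h4
  have hnil : IsNilpotent (maximalIdeal B) := by
    refine ⟨N + N, ?_⟩
    rw [Ideal.zero_eq_bot, eq_bot_iff, pow_add, Ideal.mul_le]
    intro x hx y hy
    rw [Ideal.mem_bot]
    exact hsqB _ _ (hpow x hx) (hpow y hy)
  have hartB : IsArtinianRing B := (isArtinianRing_iff_isNilpotent_maximalIdeal B).2 hnil
  have hresB : Function.Surjective (T.res.comp π) := fun y => by
    obtain ⟨t', ht'⟩ := T.res_surjective y
    obtain ⟨b, hb⟩ := hπ t'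
    exact ⟨b, by change T.res (π b) = y; rw [hb, ht']⟩
  exact ⟨Art.of B (T.res.comp π) hresB, ⟨π, rfl⟩, B.val, hπ, fun b => (hπapp b).symm⟩

theorem afs_of_smooth [IsNoetherianRing Λ] [Module.Finite Λ k] (R : CRing Λ k)
    (hsm : IsSmoothFunctor (hR R.carrier R.res)) :
    CAlgX.IsAdicFormallySmooth Λ R.carrier (maximalIdeal R.carrier) := by
  intro A _ _ J hJ ψ hex
  classical
  obtain ⟨n₀, hn₀⟩ := hex
  have hk : ∀ x ∈ maximalIdeal R.carrier ^ (n₀ + 1), ψ x = 0 := fun x hx =>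
    hn₀ x (Ideal.pow_le_pow_right (Nat.le_succ n₀) hx)
  obtain ⟨ψb, hψb⟩ : ∃ ψb : (R.trunc n₀).carrier →ₐ[Λ] A ⧸ J,
      ∀ r, ψb (Ideal.Quotient.mk _ r) = ψ r :=
    ⟨Ideal.Quotient.liftₐ (CRing.mpow R n₀) ψ hk, fun r => rfl⟩
  obtain ⟨mkJ, hmkJdef⟩ : ∃ mkJ : A →ₐ[Λ] A ⧸ J, ∀ a, mkJ a = Ideal.Quotient.mk J a :=
    ⟨Ideal.Quotient.mkₐ Λ J, fun a => rfl⟩
  have hmkJ : Function.Surjective mkJ := fun y => by
    obtain ⟨a, rfl⟩ := Ideal.Quotient.mk_surjective y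
    exact ⟨a, hmkJdef a⟩
  have hpr₁ : Function.Surjective (AlgHom.pullbackFst ψb mkJ) :=
    AlgHom.surjective_pullbackFst_of_surjective ψb mkJ hmkJ
  have hcond : ∀ c : AlgHom.pullback ψb mkJ,
      ψb (AlgHom.pullbackFst ψb mkJ c) = mkJ (AlgHom.pullbackSnd ψb mkJ c) := fun c => c.2
  have hsq : ∀ x y : AlgHom.pullback ψb mkJ, AlgHom.pullbackFst ψb mkJ x = 0 →
      AlgHom.pullbackFst ψb mkJ y = 0 → x * y = 0 := by
    intro x y hx hy
    have hx2 : AlgHom.pullbackSnd ψb mkJ x ∈ J := by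
      rw [← Ideal.Quotient.eq_zero_iff_mem, ← hmkJdef, ← hcond, hx, map_zero]
    have hy2 : AlgHom.pullbackSnd ψb mkJ y ∈ J := by
      rw [← Ideal.Quotient.eq_zero_iff_mem, ← hmkJdef, ← hcond, hy, map_zero]
    have h2 : AlgHom.pullbackSnd ψb mkJ x * AlgHom.pullbackSnd ψb mkJ y = 0 := by
      have h3 : AlgHom.pullbackSnd ψb mkJ x * AlgHom.pullbackSnd ψb mkJ y ∈ J ^ 2 := by
        rw [pow_two]
        exact Ideal.mul_mem_mul hx2 hy2
      rw [hJ] at h3
      exact h3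
    apply Subtype.ext
    apply Prod.ext
    · change AlgHom.pullbackFst ψb mkJ (x * y) = 0
      rw [map_mul, hx, zero_mul]
    · change AlgHom.pullbackSnd ψb mkJ (x * y) = 0
      rw [map_mul, h2]
  obtain ⟨Bo, πh, j, hπh, hj⟩ := exists_artin_sub (R.trunc n₀) (AlgHom.pullback ψb mkJ)
    (AlgHom.pullbackFst ψb mkJ) hpr₁ hsq
  obtain ⟨ψ', hψ'⟩ := hsm πh hπh (R.truncHom n₀)
  have hψ'' : ∀ r, πh ((ψ' : HomSet R.carrier R.res Bo).1 r) = Ideal.Quotient.mk _ r := fun r =>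
    congrArg (fun t : HomSet R.carrier R.res (R.trunc n₀) => t.1 r) hψ'
  refine ⟨(AlgHom.pullbackSnd ψb mkJ).comp (j.comp (ψ' : HomSet R.carrier R.res Bo).1), ?_⟩
  apply AlgHom.ext
  intro r
  change Ideal.Quotient.mk J (AlgHom.pullbackSnd ψb mkJ (j ((ψ' : HomSet R.carrier R.res Bo).1 r))) = ψ r
  rw [← hmkJdef, ← hcond, hj, hψ'', hψb]

theorem smoothFunctor_iff_of_versal {F : Art Λ k ⥤ Type v} (h0 : H0 F) (R : CRing Λ k)
    (ξ : Family R.carrier R.res F) (hξ : IsVersal ξ) :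
    IsSmoothFunctor F ↔ IsSmoothFunctor (hR R.carrier R.res) := by
  constructor
  · intro hF B A μ hμ φ
    obtain ⟨y, hy⟩ := hF μ hμ (ξ.app A φ)
    obtain ⟨ψ, h1, _⟩ := hξ μ hμ φ y hy
    exact ⟨ψ, h1⟩
  · intro hR' B A μ hμ x
    obtain ⟨φ, rfl⟩ := Groth.Agent.H15.ArtFormal.surj_of_versal h0 ξ hξ A x
    obtain ⟨ψ, hψ⟩ := hR' μ hμ φ
    have hψ' : HomSet.map μ (ψ : HomSet R.carrier R.res B) = φ := hψ
    refine ⟨ξ.app B (ψ : HomSet R.carrier R.res B), ?_⟩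
    rw [← hψ']
    exact (ξ.natural μ (ψ : HomSet R.carrier R.res B)).symm

end Groth.Agent.H15.ArtFS
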