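import Mathlib

universe u v

namespace Groth.Agent.H15.LenTower

open IsLocalRing LinearMap Module Submodule

variable {Λ : Type u} {k : Type u} [CommRing Λ] [Field k] [Algebra Λ k]
  {A : Type u} [CommRing A] [Algebra Λ A] [IsLocalRing A] [Algebra A k] [IsScalarTower Λ A k]
  {M : Type v} [AddCommGroup M] [Module A M] [Module Λ M] [IsScalarTower Λ A M]

theorem covBy_length (hres : Function.Surjective (algebraMap A k)) {p q : Submodule A M}
    (h : p ⋖ q) : Module.length Λ q = Module.length Λ p + Module.length Λ k := by
  let f : p →ₗ[A] q := inclusion h.le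
  have key : IsSimpleModule A (q ⧸ LinearMap.range f) := by
    rwa [range_inclusion, ← covBy_iff_quot_is_simple h.le]
  obtain ⟨m, hm, ⟨e⟩⟩ := isSimpleModule_iff_quot_maximal.mp key
  rw [eq_maximalIdeal hm] at e
  have hker : RingHom.ker (Algebra.ofId A k) = maximalIdeal A := by
    have hmax : (RingHom.ker (Algebra.ofId A k)).IsMaximal :=
      RingHom.ker_isMaximal_of_surjective (Algebra.ofId A k) hres
    exact eq_maximalIdeal hmax
  let e₁ : (A ⧸ RingHom.ker (Algebra.ofId A k)) ≃ₗ[A] k :=
    (Ideal.quotientKerAlgEquivOfSurjective (f := Algebra.ofId A k) hres).toLinearEquiv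
  let e₂ : (A ⧸ maximalIdeal A) ≃ₗ[A] (A ⧸ RingHom.ker (Algebra.ofId A k)) :=
    Submodule.quotEquivOfEq _ _ hker.symm
  let e' : (q ⧸ LinearMap.range f) ≃ₗ[A] k := e.trans (e₂.trans e₁)
  let g : q →ₗ[A] k := e'.toLinearMap.comp (LinearMap.range f).mkQ
  have hf : Function.Injective f := inclusion_injective _
  have hg : Function.Surjective g := e'.surjective.comp (LinearMap.range f).mkQ_surjective
  have hex : Function.Exact f g :=
    LinearMap.exact_iff.mpr ((e'.ker_comp (LinearMap.range f).mkQ).trans (LinearMap.range f).ker_mkQ)
  exact Module.length_eq_add_of_exact (f.restrictScalars Λ) (g.restrictScalars Λ)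
    (by simpa using hf) (by simpa using hg) (by simpa using hex)

theorem length_tower [Module.Finite Λ k] (hres : Function.Surjective (algebraMap A k)) :
    Module.length Λ k * Module.length A M = Module.length Λ M := by
  by_cases h : IsFiniteLength A M
  · obtain ⟨s, hs_bot, hs_top⟩ := isFiniteLength_iff_exists_compositionSeries.mp h
    rw [← Module.length_compositionSeries s hs_bot hs_top]
    suffices ∀ i, Module.length Λ (s i) = Module.length Λ k * i by
      rw [← Fin.val_last s.length, ← this, ← RelSeries.last, hs_top]
      exact (Module.length_top (R := Λ) (M := M))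
    intro i
    induction i using Fin.induction with
    | zero => rw [← RelSeries.head, hs_bot]; simp
    | succ i hi =>
      have := covBy_length (Λ := Λ) hres (s.step i)
      rw [this, hi]
      simp [mul_add]
  · have hΛ : ¬ IsFiniteLength Λ M := by
      contrapose! h
      rw [isFiniteLength_iff_isNoetherian_isArtinian] at h ⊢
      exact h.imp (isNoetherian_of_tower Λ) (isArtinian_of_tower Λ)
    rw [← Module.length_ne_top_iff, not_ne_iff] at h hΛ
    have ne : Module.length Λ k ≠ 0 := by
      simpa [pos_iff_ne_zero] using (Module.length_pos (R := Λ) (M := k))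
    rw [h, hΛ, ENat.mul_top ne]

end Groth.Agent.H15.LenTower
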