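import Mathlib
import Groth.Prelude.Def_W4sfdMinVersal
import Groth.Agent.H15.LenTower
import Groth.Agent.H15.ArtInd

universe u v

open CategoryTheory

namespace Groth.Agent.H15.ArtFit

open ArtFun ArtFun.Art IsLocalRing

variable {Λ : Type u} {k : Type u} [CommRing Λ] [Field k] [Algebra Λ k]

section Length

variable [IsNoetherianRing Λ] [Module.Finite Λ k]

variable (Λ k) in
theorem ker_isMaximal : (RingHom.ker (algebraMap Λ k)).IsMaximal := by
  haveI : Algebra.IsIntegral Λ k := Algebra.IsIntegral.of_finite Λ k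
  have := Ideal.isMaximal_comap_of_isIntegral_of_isMaximal (R := Λ) (⊥ : Ideal k)
  rwa [← RingHom.ker_eq_comap_bot] at this

variable (Λ k) in
theorem isArtinian_k : IsArtinian Λ k := by
  haveI := ker_isMaximal Λ k
  letI : Algebra (Λ ⧸ RingHom.ker (algebraMap Λ k)) k :=
    (Ideal.Quotient.lift (RingHom.ker (algebraMap Λ k)) (algebraMap Λ k) (fun a ha => ha)).toAlgebra
  haveI : IsScalarTower Λ (Λ ⧸ RingHom.ker (algebraMap Λ k)) k :=
    IsScalarTower.of_algebraMap_eq (fun a => rfl)
  haveI : Module.Finite (Λ ⧸ RingHom.ker (algebraMap Λ k)) k :=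
    Module.Finite.of_restrictScalars_finite Λ _ _
  letI := Ideal.Quotient.field (RingHom.ker (algebraMap Λ k))
  haveI : IsArtinian (Λ ⧸ RingHom.ker (algebraMap Λ k)) k := inferInstance
  exact isArtinian_of_surjective_algebraMap (S := Λ) (R := Λ ⧸ RingHom.ker (algebraMap Λ k))
    Ideal.Quotient.mk_surjective

theorem isArtinian_Λ (A : Art Λ k) : IsArtinian Λ A := by
  letI : Algebra A k := A.res.toRingHom.toAlgebra
  haveI : IsScalarTower Λ A k := IsScalarTower.of_algebraMap_eq (fun l => (A.res.commutes l).symm)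
  have h := Groth.Agent.H15.LenTower.length_tower (Λ := Λ) (k := k) (A := A) (M := A)
    A.res_surjective
  haveI := isArtinian_k Λ k
  have h1 : Module.length Λ k ≠ ⊤ := Module.length_ne_top_iff.2
    (isFiniteLength_iff_isNoetherian_isArtinian.2 ⟨inferInstance, inferInstance⟩)
  have h2 : Module.length A A ≠ ⊤ := Module.length_ne_top_iff.2
    ((isArtinianRing_iff_isFiniteLength A).1 inferInstance)
  have h3 : Module.length Λ A ≠ ⊤ := by
    rw [← h]
    exact WithTop.mul_ne_top h1 h2
  exact (isFiniteLength_iff_isNoetherian_isArtinian.1 (Module.length_ne_top_iff.1 h3)).2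

theorem isNoetherian_Λ (A : Art Λ k) : IsNoetherian Λ A := by
  have := Groth.Agent.H15.ArtInd.finite_Λ A
  infer_instance

end Length

section Fitting

variable [IsNoetherianRing Λ] [Module.Finite Λ k] {A : Art Λ k} (f : A ⟶ A)

/-- The underlying linear endomorphism. -/
def fl : A →ₗ[Λ] A := f.toAlgHom.toLinearMap

lemma fl_pow_apply (n : ℕ) (a : A) : (fl f ^ n) a = (f : A → A)^[n] a := by
  rw [Module.End.pow_apply]
  rfl

lemma iter_res (n : ℕ) (a : A) : A.res ((f : A → A)^[n] a) = A.res a := by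
  induction n with
  | zero => rfl
  | succ n ih => rw [Function.iterate_succ_apply', Art.res_app, ih]

lemma iter_mul (n : ℕ) (a b : A) :
    (f : A → A)^[n] (a * b) = (f : A → A)^[n] a * (f : A → A)^[n] b :=
  iterate_map_mul f.toAlgHom n a b

lemma iter_zero (n : ℕ) : (f : A → A)^[n] 0 = 0 := iterate_map_zero f.toAlgHom n

lemma iter_algebraMap (n : ℕ) (l : Λ) : (f : A → A)^[n] (algebraMap Λ A l) = algebraMap Λ A l :=
  Function.iterate_fixed (f.toAlgHom.commutes l) n

lemma iter_comm (n : ℕ) (a : A) : (f : A → A)^[n] (f a) = f ((f : A → A)^[n] a) := by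
  rw [← Function.iterate_succ_apply, Function.iterate_succ_apply']

/-- The stable kernel. -/
def K : Submodule Λ A := ⨆ n, LinearMap.ker (fl f ^ n)

/-- The stable image. -/
def I : Submodule Λ A := ⨅ n, LinearMap.range (fl f ^ n)

lemma mem_K {a : A} : a ∈ K f ↔ ∃ n, (f : A → A)^[n] a = 0 := by
  have := Submodule.mem_iSup_of_chain (fl f).iterateKer a
  rw [K]
  refine this.trans ?_
  refine exists_congr fun n => ?_
  change a ∈ LinearMap.ker (fl f ^ n) ↔ _
  rw [LinearMap.mem_ker, fl_pow_apply]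

lemma mem_I {a : A} : a ∈ I f ↔ ∀ n, ∃ b, (f : A → A)^[n] b = a := by
  rw [I, Submodule.mem_iInf]
  refine forall_congr' fun n => ?_
  rw [LinearMap.mem_range]
  refine exists_congr fun b => ?_
  rw [fl_pow_apply]

theorem isCompl_K_I : IsCompl (K f) (I f) := by
  haveI := isArtinian_Λ A
  haveI := isNoetherian_Λ A
  exact LinearMap.isCompl_iSup_ker_pow_iInf_range_pow (fl f)

lemma mul_mem_K {a : A} (c : A) (ha : a ∈ K f) : c * a ∈ K f := by
  obtain ⟨n, hn⟩ := (mem_K f).1 ha
  exact (mem_K f).2 ⟨n, by rw [iter_mul, hn, mul_zero]⟩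

lemma mul_mem_I {a b : A} (ha : a ∈ I f) (hb : b ∈ I f) : a * b ∈ I f := by
  rw [mem_I] at ha hb ⊢
  intro n
  obtain ⟨a', ha'⟩ := ha n
  obtain ⟨b', hb'⟩ := hb n
  exact ⟨a' * b', by rw [iter_mul, ha', hb']⟩

lemma algebraMap_mem_I (l : Λ) : algebraMap Λ A l ∈ I f :=
  (mem_I f).2 fun n => ⟨algebraMap Λ A l, iter_algebraMap f n l⟩

lemma map_mem_I {a : A} (ha : a ∈ I f) : f a ∈ I f := by
  rw [mem_I] at ha ⊢
  intro n
  obtain ⟨a', ha'⟩ := ha n
  exact ⟨f a', by rw [iter_comm, ha']⟩

lemma map_mem_K {a : A} (ha : a ∈ K f) : f a ∈ K f := by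
  obtain ⟨n, hn⟩ := (mem_K f).1 ha
  exact (mem_K f).2 ⟨n, by rw [iter_comm, hn]; exact map_zero f.toAlgHom⟩

theorem exists_decomp (a : A) : ∃ z, z ∈ I f ∧ a - z ∈ K f := by
  have h : a ∈ K f ⊔ I f := by
    rw [(isCompl_K_I f).sup_eq_top]
    exact Submodule.mem_top
  obtain ⟨y, hy, z, hz, hyz⟩ := Submodule.mem_sup.1 h
  exact ⟨z, hz, by rw [← hyz, add_sub_cancel_right]; exact hy⟩

/-- The projection onto the stable image. -/
noncomputable def eFun (a : A) : A := Classical.choose (exists_decomp f a)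

lemma eFun_mem (a : A) : eFun f a ∈ I f := (Classical.choose_spec (exists_decomp f a)).1

lemma sub_eFun_mem (a : A) : a - eFun f a ∈ K f := (Classical.choose_spec (exists_decomp f a)).2

theorem eFun_eq {a b : A} (hb : b ∈ I f) (hab : a - b ∈ K f) : eFun f a = b := by
  have h1 : eFun f a - b ∈ I f := (I f).sub_mem (eFun_mem f a) hb
  have h2 : eFun f a - b ∈ K f := by
    have : eFun f a - b = (a - b) - (a - eFun f a) := by ring
    rw [this]
    exact (K f).sub_mem hab (sub_eFun_mem f a)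
  have h3 : eFun f a - b ∈ K f ⊓ I f := ⟨h2, h1⟩
  rw [(isCompl_K_I f).inf_eq_bot, Submodule.mem_bot] at h3
  exact sub_eq_zero.1 h3

/-- The Fitting idempotent, as a morphism. -/
noncomputable def eHom : A ⟶ A :=
  ⟨{ toFun := eFun f
     map_one' := eFun_eq f (by simpa using algebraMap_mem_I f 1) (by rw [sub_self]; exact (K f).zero_mem)
     map_mul' := fun a b => eFun_eq f (mul_mem_I f (eFun_mem f a) (eFun_mem f b)) (by
       have : a * b - eFun f a * eFun f b = a * (b - eFun f b) + eFun f b * (a - eFun f a) := by ring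
       rw [this]
       exact (K f).add_mem (mul_mem_K f _ (sub_eFun_mem f b)) (mul_mem_K f _ (sub_eFun_mem f a)))
     map_zero' := eFun_eq f (I f).zero_mem (by rw [sub_self]; exact (K f).zero_mem)
     map_add' := fun a b => eFun_eq f ((I f).add_mem (eFun_mem f a) (eFun_mem f b)) (by
       have : a + b - (eFun f a + eFun f b) = (a - eFun f a) + (b - eFun f b) := by ring
       rw [this]
       exact (K f).add_mem (sub_eFun_mem f a) (sub_eFun_mem f b))
     commutes' := fun l => eFun_eq f (algebraMap_mem_I f l)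
       (by rw [sub_self]; exact (K f).zero_mem) }, by
    apply AlgHom.ext
    intro a
    change A.res (eFun f a) = A.res a
    obtain ⟨n, hn⟩ := (mem_K f).1 (sub_eFun_mem f a)
    have := iter_res f n (a - eFun f a)
    rw [hn, map_zero, map_sub] at this
    exact (sub_eq_zero.1 this.symm).symm⟩

lemma eHom_apply (a : A) : eHom f a = eFun f a := rfl

theorem eHom_idem (a : A) : eHom f (eHom f a) = eHom f a :=
  eFun_eq f (eFun_mem f a) (by rw [sub_self]; exact (K f).zero_mem)

theorem eHom_comm (a : A) : eHom f (f a) = f (eHom f a) :=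
  eFun_eq f (map_mem_I f (eFun_mem f a)) (by
    have : f a - f (eFun f a) = f (a - eFun f a) := (map_sub f.toAlgHom _ _).symm
    rw [eHom_apply, this]
    exact map_mem_K f (sub_eFun_mem f a))

theorem eHom_eq_zero_of_ker {a : A} (ha : f a = 0) : eHom f a = 0 :=
  eFun_eq f (I f).zero_mem (by rw [sub_zero]; exact (mem_K f).2 ⟨1, ha⟩)

theorem eHom_mem_range (a : A) : ∃ b, f b = eHom f a := by
  obtain ⟨b, hb⟩ := (mem_I f).1 (eFun_mem f a) 1
  exact ⟨b, hb⟩

/-- For large `N`, `f^N ∘ e = f^N = e ∘ f^N`. -/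
theorem exists_iter_eHom : ∃ N : ℕ, ∀ a : A,
    (f : A → A)^[N] (eHom f a) = (f : A → A)^[N] a ∧ eHom f ((f : A → A)^[N] a) = (f : A → A)^[N] a := by
  haveI := isNoetherian_Λ A
  obtain ⟨N, hN⟩ := monotone_stabilizes_iff_noetherian.mpr inferInstance (fl f).iterateKer
  have hK : ∀ x ∈ K f, (f : A → A)^[N] x = 0 := by
    intro x hx
    obtain ⟨n, hn⟩ := (mem_K f).1 hx
    have h1 : x ∈ (fl f).iterateKer (max n N) := by
      have : x ∈ (fl f).iterateKer n := by
        change x ∈ LinearMap.ker (fl f ^ n)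
        rw [LinearMap.mem_ker, fl_pow_apply, hn]
      exact (fl f).iterateKer.monotone (le_max_left n N) this
    rw [← hN (max n N) (le_max_right n N)] at h1
    change x ∈ LinearMap.ker (fl f ^ N) at h1
    rwa [LinearMap.mem_ker, fl_pow_apply] at h1
  have h1 : ∀ a : A, (f : A → A)^[N] (eHom f a) = (f : A → A)^[N] a := by
    intro a
    have := hK _ (sub_eFun_mem f a)
    rw [iterate_map_sub f.toAlgHom, sub_eq_zero] at this
    exact this.symm
  refine ⟨N, fun a => ⟨h1 a, ?_⟩⟩
  have hcomm : ∀ n : ℕ, eHom f ((f : A → A)^[n] a) = (f : A → A)^[n] (eHom f a) := by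
    intro n
    induction n with
    | zero => rfl
    | succ n ih => rw [Function.iterate_succ_apply', eHom_comm, ih, Function.iterate_succ_apply']
  rw [hcomm, h1]

/-- Functoriality of the Fitting idempotent. -/
theorem eHom_natural {B : Art Λ k} (g : B ⟶ B) (t : A ⟶ B) (h : ∀ a, t (f a) = g (t a)) (a : A) :
    t (eHom f a) = eHom g (t a) := by
  have hiter : ∀ (n : ℕ) (x : A), t ((f : A → A)^[n] x) = (g : B → B)^[n] (t x) := by
    intro n
    induction n with
    | zero => intro x; rfl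
    | succ n ih =>
      intro x
      rw [Function.iterate_succ_apply', h, ih, Function.iterate_succ_apply']
  symm
  apply eFun_eq
  · rw [mem_I]
    intro n
    obtain ⟨b, hb⟩ := (mem_I f).1 (eFun_mem f a) n
    exact ⟨t b, by rw [← hiter, hb]; rfl⟩
  · obtain ⟨n, hn⟩ := (mem_K f).1 (sub_eFun_mem f a)
    rw [mem_K]
    refine ⟨n, ?_⟩
    have : t a - t (eHom f a) = t (a - eFun f a) := (map_sub t.toAlgHom _ _).symm
    rw [this, ← hiter, hn]
    exact map_zero t.toAlgHom

end Fitting

end Groth.Agent.H15.ArtFit
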