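import Mathlib
import Groth.Prelude.Def_W4sfdMinVersal
import Groth.Agent.H15.ArtFormal
import Groth.Agent.H15.ArtInd
import Groth.Agent.H15.ArtSmooth

universe u v

open CategoryTheory

namespace Groth.Agent.H15.ArtFormal2

open ArtFun ArtFun.Art IsLocalRing Groth.Agent.H15.ArtHR Groth.Agent.H15.ArtFormal
  Groth.Agent.H15.ArtInd Groth.Agent.H15.ArtSmooth Groth.Agent.H15.ArtFunA

variable {Λ : Type u} {k : Type u} [CommRing Λ] [Field k] [Algebra Λ k]

section Limit

variable {R : Type u} [CommRing R] [Algebra Λ R] {resR : R →ₐ[Λ] k}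

/-- A compatible system of maps to the truncations of a complete ring comes from a map. -/
theorem exists_limit_hom (S : CRing Λ k) (Ψ : ∀ n, HomSet R resR (S.trunc n))
    (hΨ : ∀ n, HomSet.map (S.truncMap n) (Ψ (n + 1)) = Ψ n) :
    ∃ (φ : R →ₐ[Λ] S.carrier) (_ : S.res.comp φ = resR), ∀ n, (S.truncHom n).1.comp φ = (Ψ n).1 := by
  classical
  have hcomp : IsAdicComplete (maximalIdeal S.carrier) S.carrier := S.isAdicComplete
  let a : ℕ → ℕ := fun n => n + 1
  have ha : StrictMono a := fun _ _ h => Nat.succ_lt_succ h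
  let g : ∀ n, R →+* S.carrier ⧸ maximalIdeal S.carrier ^ a n :=
    fun n => ((show R →ₐ[Λ] S.carrier ⧸ maximalIdeal S.carrier ^ (n + 1) from (Ψ n).1) :
      R →+* S.carrier ⧸ maximalIdeal S.carrier ^ (n + 1))
  have hg : ∀ {m : ℕ}, (Ideal.Quotient.factorPow (maximalIdeal S.carrier) (ha.monotone m.le_succ)).comp
      (g (m + 1)) = g m := by
    intro m
    apply RingHom.ext
    intro x
    have h := DFunLike.congr_fun (congrArg Subtype.val (hΨ m)) x
    refine Eq.trans ?_ h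
    change Ideal.Quotient.factorPow (maximalIdeal S.carrier) (ha.monotone m.le_succ) (g (m + 1) x) =
      S.truncMap m (g (m + 1) x)
    obtain ⟨b, hb⟩ := Ideal.Quotient.mk_surjective (g (m + 1) x)
    rw [← hb]
    rfl
  let φ₀ : R →+* S.carrier :=
    IsAdicComplete.StrictMono.liftRingHom (maximalIdeal S.carrier) ha g hg
  have hφ₀ : ∀ (n : ℕ) (x : R),
      Ideal.Quotient.mk (maximalIdeal S.carrier ^ (n + 1)) (φ₀ x) =
        (show R →ₐ[Λ] S.carrier ⧸ maximalIdeal S.carrier ^ (n + 1) from (Ψ n).1) x := fun n x =>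
    IsAdicComplete.StrictMono.mk_liftRingHom (maximalIdeal S.carrier) ha g hg (n := n) x
  have hcomm : ∀ c : Λ, φ₀ (algebraMap Λ R c) = algebraMap Λ S.carrier c := by
    have := IsHausdorff.StrictMono.funext' (R := Λ) (maximalIdeal S.carrier) ha
      (f := fun c => φ₀ (algebraMap Λ R c)) (g := fun c => algebraMap Λ S.carrier c)
      (fun n c => by
        change Ideal.Quotient.mk (maximalIdeal S.carrier ^ (n + 1)) (φ₀ (algebraMap Λ R c)) = _
        rw [hφ₀, AlgHom.commutes]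
        rfl)
    exact fun c => congrFun this c
  let φ : R →ₐ[Λ] S.carrier := { φ₀ with commutes' := hcomm }
  have hφmk : ∀ (n : ℕ), (S.truncHom n).1.comp φ = (Ψ n).1 := fun n => AlgHom.ext fun x => hφ₀ n x
  have hφ : S.res.comp φ = resR := by
    have h1 : (S.trunc 0).res.comp (S.truncHom 0).1 = S.res := (S.truncHom 0).2
    rw [← h1, AlgHom.comp_assoc, hφmk 0]
    exact (Ψ 0).2
  exact ⟨φ, hφ, hφmk⟩

/-- Maps to a complete ring agreeing on all truncations are equal. -/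
theorem hom_ext_levels (S : CRing Λ k) (φ₁ φ₂ : R →ₐ[Λ] S.carrier)
    (h : ∀ n, (S.truncHom n).1.comp φ₁ = (S.truncHom n).1.comp φ₂) : φ₁ = φ₂ := by
  have hcomp : IsAdicComplete (maximalIdeal S.carrier) S.carrier := S.isAdicComplete
  apply AlgHom.ext
  intro x
  rw [← sub_eq_zero]
  apply IsHausdorff.haus' (I := maximalIdeal S.carrier)
  intro n
  rw [SModEq.zero, smul_eq_mul, Ideal.mul_top]
  have h1 : Ideal.Quotient.mk (maximalIdeal S.carrier ^ (n + 1)) (φ₁ x) =
      Ideal.Quotient.mk (maximalIdeal S.carrier ^ (n + 1)) (φ₂ x) := DFunLike.congr_fun (h n) x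
  exact Ideal.pow_le_pow_right (Nat.le_succ n) (Ideal.Quotient.eq.1 h1)

end Limit

section Step

variable [IsNoetherianRing Λ] [Module.Finite Λ k] {F : Art Λ k ⥤ Type v}
  {R : Type u} [CommRing R] [Algebra Λ R] {resR : R →ₐ[Λ] k}

/-- One step of lifting along a square of surjections. -/
theorem step_lift
    (hRS : ∀ ⦃B A A₁ A₂ : Art Λ k⦄ (p₁ : B ⟶ A₁) (p₂ : B ⟶ A₂) (f₁ : A₁ ⟶ A) (f₂ : A₂ ⟶ A)
        (h : IsFibreProd p₁ p₂ f₁ f₂), Function.Surjective f₂ → Function.Bijective (cmp F h))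
    (ξ : Family R resR F) (hξ : IsVersal ξ)
    {P' P Q' Q : Art Λ k} (τ' : P' ⟶ P) (τ : Q' ⟶ Q) (γ' : P' ⟶ Q') (γ : P ⟶ Q)
    (hsq : τ' ≫ γ = γ' ≫ τ) (hτ : Function.Surjective τ)
    (hK : ∀ (x : P) (y : Q'), γ x = τ y → ∃ a' : P', τ' a' = x ∧ γ' a' = y)
    (ψ : HomSet R resR P) (φ' : HomSet R resR Q') (hψφ : HomSet.map γ ψ = HomSet.map τ φ')
    (y' : F.obj P') (h1 : F.map τ' y' = ξ.app P ψ) (h2 : F.map γ' y' = ξ.app Q' φ') :
    ∃ ψ' : HomSet R resR P', HomSet.map τ' ψ' = ψ ∧ HomSet.map γ' ψ' = φ' ∧ ξ.app P' ψ' = y' := by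
  obtain ⟨B, p₁, p₂, hB⟩ := exists_isFibreProd_of_surjective γ τ hτ
  obtain ⟨c, hc1, hc2⟩ := exists_lift_hom hB τ' γ' hsq
  have hcs : Function.Surjective c := by
    intro b
    obtain ⟨a', ha1, ha2⟩ := hK (p₁ b) (p₂ b) (hB.w_apply b)
    refine ⟨a', hB.inj _ _ ?_ ?_⟩
    · have := congrArg (fun t : P' ⟶ P => t a') hc1
      exact this.trans ha1
    · have := congrArg (fun t : P' ⟶ Q' => t a') hc2
      exact this.trans ha2
  obtain ⟨w, hw1, hw2⟩ := IsFibreProd.exists_lift hB ψ φ' hψφ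
  have hbij := hRS p₁ p₂ γ τ hB hτ
  have hcw : F.map c y' = ξ.app B w := by
    apply hbij.1
    apply FibProd.ext
    · change F.map p₁ (F.map c y') = F.map p₁ (ξ.app B w)
      rw [← Functor.map_comp_apply, hc1, h1, ← ξ.natural, hw1]
    · change F.map p₂ (F.map c y') = F.map p₂ (ξ.app B w)
      rw [← Functor.map_comp_apply, hc2, h2, ← ξ.natural, hw2]
  obtain ⟨ψ', hψ'1, hψ'2⟩ := hξ c hcs w y' hcw
  refine ⟨ψ', ?_, ?_, hψ'2⟩
  · rw [← hw1, ← hψ'1, ← hc1]
    rfl
  · rw [← hw2, ← hψ'1, ← hc2]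
    rfl

end Step

section Main

variable [IsNoetherianRing Λ] [Module.Finite Λ k] {F : Art Λ k ⥤ Type v}

lemma trunc_zero_res_injective (A : CRing Λ k) : Function.Injective (A.trunc 0).res := by
  intro x y hxy
  obtain ⟨a, rfl⟩ := Ideal.Quotient.mk_surjective x
  obtain ⟨b, rfl⟩ := Ideal.Quotient.mk_surjective y
  have h1 : A.res a = A.res b := hxy
  refine Ideal.Quotient.eq.2 ?_
  change a - b ∈ maximalIdeal A.carrier ^ (0 + 1)
  rw [zero_add, pow_one, CRing.mem_maximalIdeal_iff, map_sub, h1, sub_self]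

/-- Versality along surjections of complete rings. -/
theorem lift_along_surjection
    (hRS : ∀ ⦃B A A₁ A₂ : Art Λ k⦄ (p₁ : B ⟶ A₁) (p₂ : B ⟶ A₂) (f₁ : A₁ ⟶ A) (f₂ : A₂ ⟶ A)
        (h : IsFibreProd p₁ p₂ f₁ f₂), Function.Surjective f₂ → Function.Bijective (cmp F h))
    (R : CRing Λ k) (ξ : Family R.carrier R.res F) (hξ : IsVersal ξ)
    (A' A : CRing Λ k) (g : A'.carrier →ₐ[Λ] A.carrier) (hg : A.res.comp g = A'.res)
    (hgs : Function.Surjective g) (η' : FormalElt F A')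
    (φ : R.carrier →ₐ[Λ] A.carrier) (hφ : A.res.comp φ = R.res)
    (hsq : (ξ.along φ hφ).toFormalElt = η'.push g hg) :
    ∃ (ψ : R.carrier →ₐ[Λ] A'.carrier) (hψ : A'.res.comp ψ = R.res),
      g.comp ψ = φ ∧ (ξ.along ψ hψ).toFormalElt = η' := by
  classical
  let G : ∀ n, A'.trunc n ⟶ A.trunc n := fun n => CRing.truncMapOfHom g hg n
  let Φ : ∀ n, HomSet R.carrier R.res (A.trunc n) := fun n =>
    ⟨(A.truncHom n).1.comp φ, by rw [← AlgHom.comp_assoc, (A.truncHom n).2, hφ]⟩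
  have hΦ : ∀ n, HomSet.map (A.truncMap n) (Φ (n + 1)) = Φ n := fun n => by
    apply Subtype.ext
    apply AlgHom.ext
    intro r
    rfl
  have hsqn : ∀ n, ξ.app _ (Φ n) = F.map (G n) (η'.elt n) := fun n =>
    congrArg (fun e : FormalElt F A => e.elt n) hsq
  have hGmk : ∀ n (a : A'.carrier), G n (Ideal.Quotient.mk _ a) = Ideal.Quotient.mk _ (g a) :=
    fun n a => rfl
  have hmap : (maximalIdeal A'.carrier).map (g : A'.carrier →+* A.carrier) = maximalIdeal A.carrier :=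
    map_maximalIdeal_of_surjective _ hgs
  let T : ℕ → Type u := fun n => {ψ : HomSet R.carrier R.res (A'.trunc n) //
    HomSet.map (G n) ψ = Φ n ∧ ξ.app _ ψ = η'.elt n}
  -- the step
  have step : ∀ n (ψ : T n), ∃ ψ' : T (n + 1), HomSet.map (A'.truncMap n) ψ'.1 = ψ.1 := by
    intro n ψ
    obtain ⟨ψ', e1, e2, e3⟩ := step_lift hRS ξ hξ (A'.truncMap n) (A.truncMap n) (G (n + 1)) (G n)
      (CRing.truncMapOfHom_truncMap g hg n).symm (truncMap_surjective A n)
      (by
        intro x y hxy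
        obtain ⟨xt, rfl⟩ := Ideal.Quotient.mk_surjective x
        obtain ⟨yt, rfl⟩ := Ideal.Quotient.mk_surjective y
        have h1 : (Ideal.Quotient.mk (maximalIdeal A.carrier ^ (n + 1)) (g xt)) =
            Ideal.Quotient.mk (maximalIdeal A.carrier ^ (n + 1)) yt := hxy
        have h2 : g xt - yt ∈ maximalIdeal A.carrier ^ (n + 1) := Ideal.Quotient.eq.1 h1
        rw [← hmap, ← Ideal.map_pow] at h2
        obtain ⟨z, hz, hzg⟩ := (Ideal.mem_map_iff_of_surjective _ hgs).1 h2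
        refine ⟨Ideal.Quotient.mk _ (xt - z), ?_, ?_⟩
        · change Ideal.Quotient.mk (maximalIdeal A'.carrier ^ (n + 1)) (xt - z) =
            Ideal.Quotient.mk (maximalIdeal A'.carrier ^ (n + 1)) xt
          refine Ideal.Quotient.eq.2 ?_
          have : xt - z - xt = -z := by ring
          rw [this]
          exact (Ideal.neg_mem_iff _).2 hz
        · rw [hGmk]
          refine Ideal.Quotient.eq.2 ?_
          have hzg' : g z = g xt - yt := hzg
          rw [map_sub, hzg']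
          have : g xt - (g xt - yt) - yt = 0 := by ring
          rw [this]
          exact Ideal.zero_mem _)
      ψ.1 (Φ (n + 1)) (by rw [ψ.2.1, hΦ]) (η'.elt (n + 1))
      (by rw [η'.compat, ψ.2.2]) (hsqn (n + 1)).symm
    exact ⟨⟨ψ', e2, e3⟩, e1⟩
  -- the base
  have base : Nonempty (T 0) := by
    obtain ⟨ψ', _, e2, e3⟩ := step_lift hRS ξ hξ (toBase (A'.trunc 0)) (toBase (A.trunc 0)) (G 0)
      (𝟙 (base Λ k)) (by rw [eq_toBase (G 0 ≫ toBase _)]; exact Category.comp_id _)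
      (A.trunc 0).res_surjective
      (by
        intro x y hxy
        obtain ⟨a', ha'⟩ := (A'.trunc 0).res_surjective x
        refine ⟨a', ha', ?_⟩
        apply trunc_zero_res_injective A
        rw [res_app (G 0) a', ha']
        exact hxy)
      (basePt R.carrier R.res) (Φ 0)
      (@Subsingleton.elim _ (subsingleton_hR_base R.carrier R.res) _ _) (η'.elt 0)
      (by
        have h3 := congrArg (F.map (toBase (A.trunc 0))) (hsqn 0)
        rw [← ξ.natural, ← Functor.map_comp_apply, eq_toBase (G 0 ≫ toBase _)] at h3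
        rw [← h3]
        congr 1
        exact @Subsingleton.elim _ (subsingleton_hR_base R.carrier R.res) _ _)
      (hsqn 0).symm
    exact ⟨⟨ψ', e2, e3⟩⟩
  obtain ⟨ψ0⟩ := base
  choose nxt hnxt using step
  let Ψ : ∀ n, T n := fun n => Nat.rec (motive := T) ψ0 (fun n ψ => nxt n ψ) n
  have hΨ : ∀ n, HomSet.map (A'.truncMap n) (Ψ (n + 1)).1 = (Ψ n).1 := fun n => hnxt n (Ψ n)
  obtain ⟨ψ, hψ, hψn⟩ := exists_limit_hom A' (fun n => (Ψ n).1) hΨ
  refine ⟨ψ, hψ, ?_, ?_⟩
  · apply hom_ext_levels A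
    intro n
    have e1 : (A.truncHom n).1.comp (g.comp ψ) = (G n).toAlgHom.comp ((A'.truncHom n).1.comp ψ) :=
      AlgHom.ext fun r => rfl
    rw [e1, hψn n]
    exact congrArg Subtype.val (Ψ n).2.1
  · apply FormalElt.ext'
    intro n
    change ξ.app _ ⟨(A'.truncHom n).1.comp ψ, _⟩ = η'.elt n
    rw [← (Ψ n).2.2]
    congr 1
    exact Subtype.ext (hψn n)

end Main

end Groth.Agent.H15.ArtFormal2
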