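import Mathlib

universe u v

namespace Groth.Agent.H15.PSEval

open MvPowerSeries Finsupp

variable {σ : Type*} [Finite σ] {R : Type*} [CommRing R]

lemma algebraMap_poly (a : MvPolynomial σ R) :
    algebraMap (MvPolynomial σ R) (MvPowerSeries σ R) a = (a : MvPowerSeries σ R) := by
  rw [MvPowerSeries.algebraMap_apply']
  simp

lemma map_idealOfVars_le :
    Ideal.map (algebraMap (MvPolynomial σ R) (MvPowerSeries σ R)) (MvPolynomial.idealOfVars σ R) ≤
      Ideal.span (Set.range (X : σ → MvPowerSeries σ R)) := by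
  rw [Ideal.map_span, Ideal.span_le]
  rintro _ ⟨_, ⟨i, rfl⟩, rfl⟩
  rw [algebraMap_poly, MvPolynomial.coe_X]
  exact Ideal.subset_span ⟨i, rfl⟩

/-- A power series without terms of degree `< N` lies in the `N`-th power of the ideal of variables. -/
theorem mem_pow_of_coeff (N : ℕ) (p : MvPowerSeries σ R)
    (hp : ∀ d : σ →₀ ℕ, d.degree < N → coeff d p = 0) :
    p ∈ (Ideal.span (Set.range (X : σ → MvPowerSeries σ R))) ^ N := by
  classical
  have h1 : truncTotal N p = 0 := by
    ext d
    rw [coeff_truncTotal_eq_ite]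
    split_ifs with h
    · rw [hp d h]; simp
    · simp
  have h2 : toAdicCompletionAlgEquiv σ R p ∈
      LinearMap.ker (AdicCompletion.eval (MvPolynomial.idealOfVars σ R) (MvPolynomial σ R) N) := by
    rw [LinearMap.mem_ker, AdicCompletion.eval_apply, toAdicCompletionAlgEquiv_apply,
      toAdicCompletion_apply_eq_mk_truncTotal, h1]
    rfl
  rw [← AdicCompletion.pow_smul_top_eq_ker_eval (MvPolynomial.idealOfVars_fg σ R)] at h2
  have key : ∀ y ∈ (MvPolynomial.idealOfVars σ R ^ N • ⊤ :
      Submodule (MvPolynomial σ R) (AdicCompletion (MvPolynomial.idealOfVars σ R) (MvPolynomial σ R))),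
      (toAdicCompletionAlgEquiv σ R).symm y ∈
        (Ideal.span (Set.range (X : σ → MvPowerSeries σ R))) ^ N := by
    intro y hy
    refine Submodule.smul_induction_on hy ?_ ?_
    · intro a ha y _
      rw [map_smul, Algebra.smul_def]
      refine Ideal.mul_mem_right _ _ ?_
      have := Ideal.mem_map_of_mem (algebraMap (MvPolynomial σ R) (MvPowerSeries σ R)) ha
      rw [Ideal.map_pow] at this
      exact Ideal.pow_right_mono map_idealOfVars_le N this
    · intro x y hx hy
      rw [map_add]
      exact Ideal.add_mem _ hx hy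
  have := key _ h2
  rwa [AlgEquiv.symm_apply_apply] at this

theorem sub_truncTotal_mem (N : ℕ) (p : MvPowerSeries σ R) :
    p - ((truncTotal N p : MvPolynomial σ R) : MvPowerSeries σ R) ∈
      (Ideal.span (Set.range (X : σ → MvPowerSeries σ R))) ^ N := by
  apply mem_pow_of_coeff
  intro d hd
  rw [map_sub, MvPolynomial.coeff_coe, coeff_truncTotal _ hd, sub_self]

/-- Ring homs out of a power series ring agreeing on constants and variables, the latter being sent
to a nilpotent ideal, are equal. -/
theorem ringHom_ext_nilp {B : Type*} [CommRing B] (f g : MvPowerSeries σ R →+* B)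
    (hC : ∀ a, f (C a) = g (C a)) (hX : ∀ i, f (X i) = g (X i))
    (N : ℕ) (hN : (Ideal.span (Set.range fun i => f (X i))) ^ N = ⊥) : f = g := by
  have hker : ∀ (h : MvPowerSeries σ R →+* B), (∀ i, h (X i) = f (X i)) →
      ∀ p ∈ (Ideal.span (Set.range (X : σ → MvPowerSeries σ R))) ^ N, h p = 0 := by
    intro h hh p hp
    have h1 := Ideal.mem_map_of_mem h hp
    rw [Ideal.map_pow, Ideal.map_span] at h1
    have h2 : (h '' Set.range (X : σ → MvPowerSeries σ R)) = Set.range fun i => f (X i) := by
      ext b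
      constructor
      · rintro ⟨_, ⟨i, rfl⟩, rfl⟩
        exact ⟨i, (hh i).symm⟩
      · rintro ⟨i, rfl⟩
        exact ⟨_, ⟨i, rfl⟩, hh i⟩
    rw [h2, hN] at h1
    exact h1
  have hpoly : ∀ q : MvPolynomial σ R, f (q : MvPowerSeries σ R) = g (q : MvPowerSeries σ R) := by
    intro q
    have : (f.comp (MvPolynomial.coeToMvPowerSeries.ringHom)) =
        (g.comp (MvPolynomial.coeToMvPowerSeries.ringHom)) := by
      apply MvPolynomial.ringHom_ext
      · intro a
        simp only [RingHom.comp_apply, MvPolynomial.coeToMvPowerSeries.ringHom_apply,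
          MvPolynomial.coe_C]
        exact hC a
      · intro i
        simp only [RingHom.comp_apply, MvPolynomial.coeToMvPowerSeries.ringHom_apply,
          MvPolynomial.coe_X]
        exact hX i
    exact DFunLike.congr_fun this q
  apply RingHom.ext
  intro p
  have e : p = (p - ((truncTotal N p : MvPolynomial σ R) : MvPowerSeries σ R)) +
      ((truncTotal N p : MvPolynomial σ R) : MvPowerSeries σ R) := by ring
  rw [e, map_add, map_add, hker f (fun _ => rfl) _ (sub_truncTotal_mem N p),
    hker g (fun i => (hX i).symm) _ (sub_truncTotal_mem N p), hpoly]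

/-- Evaluation of power series at a nilpotent family. -/
theorem exists_eval {B : Type*} [CommRing B] (ψ : R →+* B) (b : σ → B)
    (N : ℕ) (hN : (Ideal.span (Set.range b)) ^ N = ⊥) :
    ∃ f : MvPowerSeries σ R →+* B, (∀ a, f (C a) = ψ a) ∧ ∀ i, f (X i) = b i := by
  classical
  have hle : ∀ q ∈ MvPolynomial.idealOfVars σ R ^ N, MvPolynomial.eval₂Hom ψ b q = 0 := by
    intro q hq
    have h1 := Ideal.mem_map_of_mem (MvPolynomial.eval₂Hom ψ b) hq
    rw [Ideal.map_pow, Ideal.map_span] at h1
    have h2 : (MvPolynomial.eval₂Hom ψ b) '' Set.range (MvPolynomial.X : σ → MvPolynomial σ R) =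
        Set.range b := by
      ext c
      constructor
      · rintro ⟨_, ⟨i, rfl⟩, rfl⟩
        exact ⟨i, by simp⟩
      · rintro ⟨i, rfl⟩
        exact ⟨_, ⟨i, rfl⟩, by simp⟩
    rw [h2, hN] at h1
    exact h1
  let L : MvPolynomial σ R ⧸ MvPolynomial.idealOfVars σ R ^ N →+* B :=
    Ideal.Quotient.lift _ (MvPolynomial.eval₂Hom ψ b) hle
  have hcomm : ∀ q : MvPolynomial σ R,
      L ((truncTotalAlgHom σ R N) ((q : MvPolynomial σ R) : MvPowerSeries σ R)) =
        MvPolynomial.eval₂Hom ψ b q := by
    intro q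
    have h3 := (truncTotalAlgHom σ R N).commutes q
    rw [algebraMap_poly] at h3
    rw [h3]
    exact Ideal.Quotient.lift_mk _ _ _
  refine ⟨L.comp (truncTotalAlgHom σ R N : MvPowerSeries σ R →+* _), ?_, ?_⟩
  · intro a
    rw [RingHom.comp_apply, ← MvPolynomial.coe_C]
    exact (hcomm _).trans (by simp)
  · intro i
    rw [RingHom.comp_apply, ← MvPolynomial.coe_X]
    exact (hcomm _).trans (by simp)

end Groth.Agent.H15.PSEval
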