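import Mathlib

universe u v

namespace Groth.Agent.H15.PSSurj

open MvPowerSeries IsLocalRing

variable {R' : Type u} {S : Type v} [CommRing R'] [CommRing S]

/-- A map from a power series ring onto the generators of the kernel of a retraction is
surjective. -/
theorem surjective_of_retraction [IsNoetherianRing S] [IsLocalRing S] {r : ℕ}
    (ι : R' →+* S) (ρ : S →+* R') (hρι : ∀ a, ρ (ι a) = a)
    (x : Fin r → S) (hx : ∀ i, ρ (x i) = 0) (hI : RingHom.ker ρ ≤ Ideal.span (Set.range x))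
    (u : MvPowerSeries (Fin r) R' →+* S) (huC : ∀ a, u (C a) = ι a) (huX : ∀ i, u (X i) = x i) :
    Function.Surjective u := by
  classical
  obtain ⟨I, hIdef⟩ : ∃ I : Ideal S, I = RingHom.ker ρ := ⟨_, rfl⟩
  obtain ⟨J, hJdef⟩ : ∃ J : Ideal (MvPowerSeries (Fin r) R'),
      J = Ideal.span (Set.range (X : Fin r → MvPowerSeries (Fin r) R')) := ⟨_, rfl⟩
  have hcompl : IsAdicComplete J (MvPowerSeries (Fin r) R') := hJdef ▸ inferInstance
  have hmapJ : Ideal.map u J = I := by
    apply le_antisymm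
    · rw [hJdef, Ideal.map_span, Ideal.span_le]
      rintro _ ⟨_, ⟨i, rfl⟩, rfl⟩
      rw [huX, hIdef]
      exact RingHom.mem_ker.2 (hx i)
    · rw [hIdef]
      refine hI.trans ?_
      rw [Ideal.span_le]
      rintro _ ⟨i, rfl⟩
      rw [← huX]
      exact Ideal.mem_map_of_mem _ (hJdef ▸ Ideal.subset_span ⟨i, rfl⟩)
  have hmapJN : ∀ N, Ideal.map u (J ^ N) = I ^ N := fun N => by rw [Ideal.map_pow, hmapJ]
  have hsub : ∀ σ : S, σ - ι (ρ σ) ∈ I := fun σ => by
    rw [hIdef, RingHom.mem_ker, map_sub, hρι, sub_self]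
  -- the approximation step
  have step : ∀ N, ∀ i ∈ I ^ N, ∃ p ∈ J ^ N, i - u p ∈ I ^ (N + 1) := by
    intro N i hi
    rw [← hmapJN N] at hi
    refine Submodule.span_induction (p := fun i _ => ∃ p ∈ J ^ N, i - u p ∈ I ^ (N + 1))
      ?_ ?_ ?_ ?_ hi
    · rintro _ ⟨p₀, hp₀, rfl⟩
      exact ⟨p₀, hp₀, by rw [sub_self]; exact Ideal.zero_mem _⟩
    · exact ⟨0, Ideal.zero_mem _, by rw [map_zero, sub_self]; exact Ideal.zero_mem _⟩
    · rintro a b _ _ ⟨p, hp, hpa⟩ ⟨q, hq, hqb⟩
      refine ⟨p + q, Ideal.add_mem _ hp hq, ?_⟩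
      have : a + b - u (p + q) = (a - u p) + (b - u q) := by rw [map_add]; ring
      rw [this]
      exact Ideal.add_mem _ hpa hqb
    · rintro σ a _ ⟨p, hp, hpa⟩
      refine ⟨C (ρ σ) * p, Ideal.mul_mem_left _ _ hp, ?_⟩
      have h1 : σ • a - u (C (ρ σ) * p) = σ * (a - u p) + (σ - ι (ρ σ)) * u p := by
        rw [map_mul, huC, smul_eq_mul]; ring
      rw [h1]
      refine Ideal.add_mem _ (Ideal.mul_mem_left _ _ hpa) ?_
      rw [pow_succ']
      refine Ideal.mul_mem_mul (hsub σ) ?_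
      rw [← hmapJN N]
      exact Ideal.mem_map_of_mem _ hp
  intro s
  choose! nxt hnxt1 hnxt2 using step
  -- the approximating sequence
  let f : ℕ → MvPowerSeries (Fin r) R' := fun N =>
    Nat.rec (motive := fun _ => MvPowerSeries (Fin r) R') 0 (fun N fN => fN + nxt N (s - u fN)) N
  have hf_succ : ∀ N, f (N + 1) = f N + nxt N (s - u (f N)) := fun N => rfl
  have hfs : ∀ N, s - u (f N) ∈ I ^ N := by
    intro N
    induction N with
    | zero => rw [pow_zero, Ideal.one_eq_top]; exact Submodule.mem_top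
    | succ N ih =>
      have := hnxt2 N _ ih
      have e : s - u (f (N + 1)) = s - u (f N) - u (nxt N (s - u (f N))) := by
        rw [hf_succ, map_add]; ring
      rw [e]
      exact this
  have hfJ : ∀ N, f (N + 1) - f N ∈ J ^ N := fun N => by
    rw [hf_succ, add_sub_cancel_left]
    exact hnxt1 N _ (hfs N)
  have hfmn : ∀ {m n : ℕ}, m ≤ n → f m ≡ f n [SMOD (J ^ m • ⊤ : Submodule (MvPowerSeries (Fin r) R') (MvPowerSeries (Fin r) R'))] := by
    intro m n hmn
    rw [SModEq.sub_mem, smul_eq_mul, Ideal.mul_top]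
    induction n, hmn using Nat.le_induction with
    | base => rw [sub_self]; exact Ideal.zero_mem _
    | succ n hmn ih =>
      have e : f m - f (n + 1) = (f m - f n) - (f (n + 1) - f n) := by ring
      rw [e]
      exact Ideal.sub_mem _ ih (Ideal.pow_le_pow_right hmn (hfJ n))
  obtain ⟨L, hL⟩ := hcompl.toIsPrecomplete.prec' f hfmn
  refine ⟨L, ?_⟩
  have hIne : I ≠ ⊤ := by
    haveI : Nontrivial R' := ι.domain_nontrivial
    rw [hIdef]
    exact RingHom.ker_ne_top ρ
  have hbot := Ideal.iInf_pow_eq_bot_of_isLocalRing I hIne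
  have hmem : s - u L ∈ ⨅ i, I ^ i := by
    rw [Ideal.mem_iInf]
    intro N
    have h1 := hL N
    rw [SModEq.sub_mem, smul_eq_mul, Ideal.mul_top] at h1
    have h2 : u (f N - L) ∈ I ^ N := by
      rw [← hmapJN N]
      exact Ideal.mem_map_of_mem _ h1
    have e : s - u L = (s - u (f N)) + u (f N - L) := by rw [map_sub]; ring
    rw [e]
    exact Ideal.add_mem _ (hfs N) h2
  rw [hbot, Ideal.mem_bot] at hmem
  exact (sub_eq_zero.1 hmem).symm

end Groth.Agent.H15.PSSurj
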