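import Mathlib
import Groth.Prelude.Def_W4sfdMinVersal
import Groth.Agent.H15.PSEval
import Groth.Agent.H15.PSSurj
import Groth.Agent.H15.ArtFormal2
import Groth.Agent.H15.ArtPoly

universe u v

open CategoryTheory

namespace Groth.Agent.H15.PSArt

open ArtFun ArtFun.Art IsLocalRing MvPowerSeries Groth.Agent.H15.ArtHR Groth.Agent.H15.ArtFormal
  Groth.Agent.H15.ArtFormal2 Groth.Agent.H15.PSEval

variable {Λ : Type u} {k : Type u} [CommRing Λ] [Field k] [Algebra Λ k]

section Basic

variable (R : Type u) [CommRing R] [Algebra Λ R] (resR : R →ₐ[Λ] k) (n : ℕ)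

example : IsScalarTower Λ R (MvPowerSeries (Fin n) R) := inferInstance

/-- The constant coefficient as an algebra map. -/
noncomputable def ccAlg : MvPowerSeries (Fin n) R →ₐ[Λ] R :=
  { (constantCoeff (σ := Fin n) (R := R)) with
    commutes' := fun l => by
      change constantCoeff (algebraMap Λ (MvPowerSeries (Fin n) R) l) = _
      rw [MvPowerSeries.algebraMap_apply, constantCoeff_C] }

lemma ccAlg_apply (p : MvPowerSeries (Fin n) R) : ccAlg (Λ := Λ) R n p = constantCoeff p := rfl

/-- The augmentation of the power series ring. -/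
noncomputable def resT : MvPowerSeries (Fin n) R →ₐ[Λ] k := resR.comp (ccAlg R n)

lemma resT_apply (p : MvPowerSeries (Fin n) R) : resT R resR n p = resR (constantCoeff p) := rfl

lemma resT_C (a : R) : resT R resR n (C a) = resR a := by rw [resT_apply, constantCoeff_C]

lemma resT_X (i : Fin n) : resT R resR n (X i) = 0 := by rw [resT_apply, constantCoeff_X, map_zero]

/-- The constants as an algebra map. -/
noncomputable def CAlg : R →ₐ[Λ] MvPowerSeries (Fin n) R :=
  IsScalarTower.toAlgHom Λ R (MvPowerSeries (Fin n) R)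

lemma CAlg_apply (a : R) : CAlg (Λ := Λ) R n a = C a := by
  change algebraMap R (MvPowerSeries (Fin n) R) a = C a
  rw [MvPowerSeries.algebraMap_apply]
  rfl

lemma resT_comp_CAlg : (resT R resR n).comp (CAlg R n) = resR := by
  apply AlgHom.ext
  intro a
  rw [AlgHom.comp_apply, CAlg_apply, resT_C]

variable {R resR n}

/-- Extensionality for points of the power series ring. -/
theorem homSet_ext {B : Art Λ k} (f g : HomSet (MvPowerSeries (Fin n) R) (resT R resR n) B)
    (hC : ∀ a, f.1 (C a) = g.1 (C a)) (hX : ∀ i, f.1 (X i) = g.1 (X i)) : f = g := by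
  obtain ⟨N, hN⟩ := Groth.Agent.H15.ArtEps.maximalIdeal_nilpotent B
  have hm : ∀ i, f.1 (X i) ∈ maximalIdeal B := fun i => by
    rw [Art.mem_maximalIdeal_iff]
    have h1 : B.res (f.1 (X i)) = resT R resR n (X i) := DFunLike.congr_fun f.2 (X i)
    rw [h1, resT_X]
  have hle : Ideal.span (Set.range fun i => (f.1 : MvPowerSeries (Fin n) R →+* B) (X i)) ≤
      maximalIdeal B := by
    rw [Ideal.span_le]
    rintro _ ⟨i, rfl⟩
    exact hm i
  have hN' : Ideal.span (Set.range fun i => (f.1 : MvPowerSeries (Fin n) R →+* B) (X i)) ^ N = ⊥ := by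
    rw [eq_bot_iff, ← hN]
    exact Ideal.pow_right_mono hle N
  have := ringHom_ext_nilp (f.1 : MvPowerSeries (Fin n) R →+* B) (g.1 : MvPowerSeries (Fin n) R →+* B)
    hC hX N hN'
  apply Subtype.ext
  apply AlgHom.ext
  intro p
  exact DFunLike.congr_fun this p

/-- Points of the power series ring with prescribed values on constants and variables. -/
theorem exists_homSet {B : Art Λ k} (y : HomSet R resR B) (b : Fin n → B)
    (hb : ∀ i, b i ∈ maximalIdeal B) :
    ∃ f : HomSet (MvPowerSeries (Fin n) R) (resT R resR n) B,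
      (∀ a, f.1 (C a) = y.1 a) ∧ ∀ i, f.1 (X i) = b i := by
  obtain ⟨N, hN⟩ := Groth.Agent.H15.ArtEps.maximalIdeal_nilpotent B
  have hN' : Ideal.span (Set.range b) ^ N = ⊥ := by
    rw [eq_bot_iff, ← hN]
    refine Ideal.pow_right_mono ?_ N
    rw [Ideal.span_le]
    rintro _ ⟨i, rfl⟩
    exact hb i
  obtain ⟨f₀, hf₀C, hf₀X⟩ := exists_eval (y.1 : R →+* B) b N hN'
  let f : MvPowerSeries (Fin n) R →ₐ[Λ] B :=
    { f₀ with
      commutes' := fun l => by
        change f₀ (algebraMap Λ (MvPowerSeries (Fin n) R) l) = _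
        rw [MvPowerSeries.algebraMap_apply, hf₀C]
        exact y.1.commutes l }
  have hfC : ∀ a, f (C a) = y.1 a := hf₀C
  have hfX : ∀ i, f (X i) = b i := hf₀X
  have hres : B.res.comp f = resT R resR n := by
    have : ((B.res.comp f : MvPowerSeries (Fin n) R →ₐ[Λ] k) : MvPowerSeries (Fin n) R →+* k) =
        ((resT R resR n : MvPowerSeries (Fin n) R →ₐ[Λ] k) : MvPowerSeries (Fin n) R →+* k) := by
      refine ringHom_ext_nilp _ _ ?_ ?_ 1 ?_
      · intro a
        change B.res (f (C a)) = resT R resR n (C a)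
        rw [hfC, resT_C]
        exact DFunLike.congr_fun y.2 a
      · intro i
        change B.res (f (X i)) = resT R resR n (X i)
        rw [hfX, resT_X]
        exact (Art.mem_maximalIdeal_iff _ _).1 (hb i)
      · rw [pow_one, eq_bot_iff, Ideal.span_le]
        rintro _ ⟨i, rfl⟩
        change B.res (f (X i)) ∈ _
        rw [hfX, (Art.mem_maximalIdeal_iff _ _).1 (hb i)]
        exact Ideal.zero_mem _
    apply AlgHom.ext
    intro p
    exact DFunLike.congr_fun this p
  exact ⟨⟨f, hres⟩, hfC, hfX⟩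

end Basic

section ToCRing

variable {R : Type u} [CommRing R] [Algebra Λ R] {resR : R →ₐ[Λ] k} {n : ℕ}

lemma elt_ext_levels (S : CRing Λ k) (a b : S.carrier)
    (h : ∀ j, (S.truncHom j).1 a = (S.truncHom j).1 b) : a = b := by
  have hcomp : IsAdicComplete (maximalIdeal S.carrier) S.carrier := S.isAdicComplete
  rw [← sub_eq_zero]
  apply IsHausdorff.haus' (I := maximalIdeal S.carrier)
  intro j
  rw [SModEq.zero, smul_eq_mul, Ideal.mul_top]
  have h1 : Ideal.Quotient.mk (maximalIdeal S.carrier ^ (j + 1)) a =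
      Ideal.Quotient.mk (maximalIdeal S.carrier ^ (j + 1)) b := h j
  exact Ideal.pow_le_pow_right (Nat.le_succ j) (Ideal.Quotient.eq.1 h1)

/-- Maps from a power series ring to a complete local ring. -/
theorem exists_hom_CRing (S : CRing Λ k) (g : R →ₐ[Λ] S.carrier) (hg : S.res.comp g = resR)
    (x : Fin n → S.carrier) (hx : ∀ i, x i ∈ maximalIdeal S.carrier) :
    ∃ (u : MvPowerSeries (Fin n) R →ₐ[Λ] S.carrier) (_ : S.res.comp u = resT R resR n),
      (∀ a, u (C a) = g a) ∧ ∀ i, u (X i) = x i := by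
  classical
  have hy : ∀ j, (S.trunc j).res.comp ((S.truncHom j).1.comp g) = resR := fun j => by
    rw [← AlgHom.comp_assoc, (S.truncHom j).2, hg]
  have hb : ∀ j i, (S.truncHom j).1 (x i) ∈ maximalIdeal (S.trunc j) := fun j i => by
    rw [Art.mem_maximalIdeal_iff]
    have h1 : (S.trunc j).res ((S.truncHom j).1 (x i)) = S.res (x i) :=
      DFunLike.congr_fun (S.truncHom j).2 (x i)
    rw [h1]
    exact (CRing.mem_maximalIdeal_iff _ _).1 (hx i)
  choose Ψ hΨC hΨX using fun j => exists_homSet
    (⟨(S.truncHom j).1.comp g, hy j⟩ : HomSet R resR (S.trunc j))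
    (fun i => (S.truncHom j).1 (x i)) (hb j)
  have hcompat : ∀ j, HomSet.map (S.truncMap j) (Ψ (j + 1)) = Ψ j := fun j => by
    apply homSet_ext
    · intro a
      change S.truncMap j ((Ψ (j + 1)).1 (C a)) = (Ψ j).1 (C a)
      rw [hΨC, hΨC]
      rfl
    · intro i
      change S.truncMap j ((Ψ (j + 1)).1 (X i)) = (Ψ j).1 (X i)
      rw [hΨX, hΨX]
      rfl
  obtain ⟨u, hu, hul⟩ := exists_limit_hom S Ψ hcompat
  refine ⟨u, hu, ?_, ?_⟩
  · intro a
    apply elt_ext_levels
    intro j
    have := DFunLike.congr_fun (hul j) (C a)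
    change (S.truncHom j).1 (u (C a)) = _ at this
    rw [this, hΨC]
    rfl
  · intro i
    apply elt_ext_levels
    intro j
    have := DFunLike.congr_fun (hul j) (X i)
    change (S.truncHom j).1 (u (X i)) = _ at this
    rw [this, hΨX]

end ToCRing

section Versal

variable (R S : CRing Λ k) [Algebra R.carrier S.carrier] [IsScalarTower Λ R.carrier S.carrier]
  (hRS : S.res.comp (IsScalarTower.toAlgHom Λ R.carrier S.carrier) = R.res) (n : ℕ)
  (e : S.carrier ≃ₐ[R.carrier] MvPowerSeries (Fin n) R.carrier)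

include hRS in
lemma res_symm_X (i : Fin n) : S.res (e.symm (X i)) = 0 := by
  rw [← CRing.mem_maximalIdeal_iff, IsLocalRing.mem_maximalIdeal, mem_nonunits_iff]
  intro hu
  have h1 : IsUnit (e (e.symm (X i))) := hu.map e
  rw [e.apply_symm_apply] at h1
  have h2 := MvPowerSeries.isUnit_iff_constantCoeff.1 h1
  rw [constantCoeff_X] at h2
  exact not_isUnit_zero h2

include hRS in
lemma res_comp_symm :
    S.res.comp ((e.restrictScalars Λ).symm : MvPowerSeries (Fin n) R.carrier →ₐ[Λ] S.carrier) =
      resT R.carrier R.res n := by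
  have : ((S.res.comp ((e.restrictScalars Λ).symm : MvPowerSeries (Fin n) R.carrier →ₐ[Λ] S.carrier) :
      MvPowerSeries (Fin n) R.carrier →ₐ[Λ] k) : MvPowerSeries (Fin n) R.carrier →+* k) =
      ((resT R.carrier R.res n : MvPowerSeries (Fin n) R.carrier →ₐ[Λ] k) :
        MvPowerSeries (Fin n) R.carrier →+* k) := by
    refine ringHom_ext_nilp _ _ ?_ ?_ 1 ?_
    · intro a
      change S.res (e.symm (C a)) = resT R.carrier R.res n (C a)
      rw [resT_C, c_eq_algebraMap, e.symm.commutes]
      exact DFunLike.congr_fun hRS a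
    · intro i
      change S.res (e.symm (X i)) = resT R.carrier R.res n (X i)
      rw [resT_X, res_symm_X R S hRS n e]
    · rw [pow_one, eq_bot_iff, Ideal.span_le]
      rintro _ ⟨i, rfl⟩
      change S.res (e.symm (X i)) ∈ _
      rw [res_symm_X R S hRS n e]
      exact Ideal.zero_mem _
  apply AlgHom.ext
  intro p
  exact DFunLike.congr_fun this p

include hRS in
lemma resT_comp_e :
    (resT R.carrier R.res n).comp ((e.restrictScalars Λ) : S.carrier →ₐ[Λ] MvPowerSeries (Fin n) R.carrier) =
      S.res := by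
  rw [← res_comp_symm R S hRS n e]
  apply AlgHom.ext
  intro s
  change S.res (e.symm (e s)) = S.res s
  rw [e.symm_apply_apply]

include e in
/-- A power series extension gives a smooth morphism of functors. -/
theorem versal_of_equiv :
    IsVersal ((Family.self R.carrier R.res).along
      (IsScalarTower.toAlgHom Λ R.carrier S.carrier) hRS) := by
  intro B A μ hμ φ y hy
  have ha : ∀ i, φ.1 (e.symm (X i)) ∈ maximalIdeal A := fun i => by
    rw [Art.mem_maximalIdeal_iff]
    have h1 : A.res (φ.1 (e.symm (X i))) = S.res (e.symm (X i)) := DFunLike.congr_fun φ.2 _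
    rw [h1, res_symm_X R S hRS n e]
  choose b hb using fun i => hμ (φ.1 (e.symm (X i)))
  have hbm : ∀ i, b i ∈ maximalIdeal B := fun i => by
    rw [Art.mem_maximalIdeal_iff, ← Art.res_app μ, hb]
    exact (Art.mem_maximalIdeal_iff _ _).1 (ha i)
  obtain ⟨ψ', hψ'C, hψ'X⟩ := exists_homSet (R := R.carrier) (resR := R.res) y b hbm
  let φ' : HomSet (MvPowerSeries (Fin n) R.carrier) (resT R.carrier R.res n) A :=
    ⟨φ.1.comp ((e.restrictScalars Λ).symm : MvPowerSeries (Fin n) R.carrier →ₐ[Λ] S.carrier), by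
      rw [← AlgHom.comp_assoc, φ.2, res_comp_symm R S hRS n e]⟩
  have hy' : ∀ a : R.carrier, μ (y.1 a) = φ.1 (algebraMap R.carrier S.carrier a) := fun a => by
    have := congrArg (fun t : HomSet R.carrier R.res A => t.1 a) hy
    exact this
  have hmap : HomSet.map μ ψ' = φ' := by
    apply homSet_ext
    · intro a
      change μ (ψ'.1 (C a)) = φ.1 (e.symm (C a))
      rw [hψ'C, c_eq_algebraMap, e.symm.commutes, hy']
    · intro i
      change μ (ψ'.1 (X i)) = φ.1 (e.symm (X i))
      rw [hψ'X, hb]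
  refine ⟨⟨ψ'.1.comp ((e.restrictScalars Λ) : S.carrier →ₐ[Λ] MvPowerSeries (Fin n) R.carrier), by
    rw [← AlgHom.comp_assoc, ψ'.2, resT_comp_e R S hRS n e]⟩, ?_, ?_⟩
  · apply Subtype.ext
    apply AlgHom.ext
    intro s
    have := congrArg (fun t : HomSet (MvPowerSeries (Fin n) R.carrier) (resT R.carrier R.res n) A =>
      t.1 (e s)) hmap
    change μ (ψ'.1 (e s)) = φ.1 (e.symm (e s)) at this
    rw [e.symm_apply_apply] at this
    exact this
  · apply Subtype.ext
    apply AlgHom.ext
    intro a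
    change ψ'.1 (e (algebraMap R.carrier S.carrier a)) = y.1 a
    rw [e.commutes, ← c_eq_algebraMap, hψ'C]

end Versal

end Groth.Agent.H15.PSArt
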