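import Mathlib
import Groth.Agent.H15.PSArt
import Groth.Agent.S12743
import Groth.Agent.S12733

universe u v

open CategoryTheory

namespace Groth.Agent.H15.PSArt2

open ArtFun ArtFun.Art IsLocalRing MvPowerSeries Groth.Agent.H15.ArtHR Groth.Agent.H15.ArtFormal
  Groth.Agent.H15.ArtFormal2 Groth.Agent.H15.PSEval Groth.Agent.H15.PSArt

section MinGen

/-- Minimal generators of an ideal of a local ring. -/
theorem exists_min_generators {S : Type*} [CommRing S] [IsLocalRing S] (I : Ideal S) (hI : I.FG) :
    ∃ (n : ℕ) (x : Fin n → S), Ideal.span (Set.range x) = I ∧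
      ∀ c : Fin n → S, (∑ i, c i * x i) ∈ maximalIdeal S * I → ∀ i, c i ∈ maximalIdeal S := by
  classical
  have hex : ∃ n : ℕ, ∃ x : Fin n → S, Ideal.span (Set.range x) = I :=
    Submodule.fg_iff_exists_fin_generating_family.1 hI
  obtain ⟨x, hx⟩ := Nat.find_spec hex
  have hmin : ∀ m, m < Nat.find hex → ∀ x' : Fin m → S, Ideal.span (Set.range x') ≠ I :=
    fun m hm x' h => Nat.find_min hex hm ⟨x', h⟩
  generalize Nat.find hex = n at x hx hmin
  refine ⟨n, x, hx, ?_⟩
  intro c hc a
  by_contra hca
  have hu : IsUnit (c a) := by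
    by_contra h
    exact hca ((mem_maximalIdeal _).2 h)
  cases n with
  | zero => exact a.elim0
  | succ m =>
    apply hmin m (Nat.lt_succ_self m) (fun j => x (a.succAbove j))
    apply le_antisymm
    · rw [Ideal.span_le]
      rintro _ ⟨j, rfl⟩
      rw [← hx]
      exact Ideal.subset_span ⟨_, rfl⟩
    · refine Submodule.le_of_le_smul_of_le_jacobson_bot (I := maximalIdeal S) hI
        (maximalIdeal_le_jacobson _) ?_
      rw [smul_eq_mul]
      nth_rw 1 [← hx]
      rw [Ideal.span_le]
      rintro _ ⟨i, rfl⟩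
      by_cases hia : i = a
      · subst hia
        obtain ⟨v, hv⟩ := hu.exists_left_inv
        have hsum := Fin.sum_univ_succAbove (fun j => c j * x j) i
        have e : x i = v * (∑ j, c j * x j) -
            v * ∑ j, c (i.succAbove j) * x (i.succAbove j) := by
          rw [hsum, mul_add, ← mul_assoc, hv, one_mul, add_sub_cancel_right]
        rw [e]
        exact Ideal.sub_mem _ (Ideal.mem_sup_right (Ideal.mul_mem_left _ _ hc))
          (Ideal.mem_sup_left (Ideal.mul_mem_left _ _ (Ideal.sum_mem _ fun j _ =>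
            Ideal.mul_mem_left _ _ (Ideal.subset_span ⟨j, rfl⟩))))
      · obtain ⟨j, rfl⟩ := Fin.exists_succAbove_eq hia
        exact Ideal.mem_sup_left (Ideal.subset_span ⟨j, rfl⟩)

end MinGen

section SubC

variable {σ : Type*} [Finite σ] {R : Type*} [CommRing R]

lemma sub_C_mem (f : MvPowerSeries σ R) :
    f - C (constantCoeff f) ∈ Ideal.span (Set.range (X : σ → MvPowerSeries σ R)) := by
  have := mem_pow_of_coeff 1 (f - C (constantCoeff f)) (fun d hd => by
    have hd0 : d = 0 := by
      rw [Nat.lt_one_iff] at hd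
      exact (Finsupp.degree_eq_zero_iff d).1 hd
    subst hd0
    rw [map_sub, coeff_zero_eq_constantCoeff_apply, coeff_zero_eq_constantCoeff_apply,
      constantCoeff_C, sub_self])
  rwa [pow_one] at this

end SubC

variable {Λ : Type u} {k : Type u} [CommRing Λ] [Field k] [Algebra Λ k]

section Main

variable [IsNoetherianRing Λ] [Module.Finite Λ k]

/-- A smooth morphism `h_S → h_R` makes `S` a power series ring over `R`. -/
theorem equiv_of_versal (R S : CRing Λ k) [Algebra R.carrier S.carrier]
    [IsScalarTower Λ R.carrier S.carrier]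
    (hRS : S.res.comp (IsScalarTower.toAlgHom Λ R.carrier S.carrier) = R.res)
    (hv : IsVersal ((Family.self R.carrier R.res).along
      (IsScalarTower.toAlgHom Λ R.carrier S.carrier) hRS)) :
    ∃ n : ℕ, Nonempty (S.carrier ≃ₐ[R.carrier] MvPowerSeries (Fin n) R.carrier) := by
  classical
  -- (a) the retraction
  obtain ⟨ρ, hρ, hρf⟩ := exists_along_toFormalElt (h0_hR R.carrier R.res) S _ hv R
    (Family.self R.carrier R.res).toFormalElt
  have hρι : ∀ a, ρ (algebraMap R.carrier S.carrier a) = a := by
    have h1 : ρ.comp (IsScalarTower.toAlgHom Λ R.carrier S.carrier) = AlgHom.id Λ R.carrier := by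
      apply hom_ext_levels R
      intro j
      have h2 := congrArg (fun η : FormalElt (hR R.carrier R.res) R => (η.elt j).1) hρf
      apply AlgHom.ext
      intro a
      exact DFunLike.congr_fun h2 a
    exact fun a => DFunLike.congr_fun h1 a
  have hρres : ∀ s, R.res (ρ s) = S.res s := fun s => DFunLike.congr_fun hρ s
  -- (b) minimal generators
  obtain ⟨n, x, hxI, hli⟩ := exists_min_generators (RingHom.ker (ρ : S.carrier →+* R.carrier))
    (IsNoetherian.noetherian _)
  have hxρ : ∀ i, ρ (x i) = 0 := fun i => by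
    have : x i ∈ RingHom.ker (ρ : S.carrier →+* R.carrier) := by
      rw [← hxI]
      exact Ideal.subset_span ⟨i, rfl⟩
    exact this
  have hxm : ∀ i, x i ∈ maximalIdeal S.carrier := fun i => by
    rw [CRing.mem_maximalIdeal_iff, ← hρres, hxρ, map_zero]
  -- (c) the map
  obtain ⟨u, hu, huC, huX⟩ := exists_hom_CRing (R := R.carrier) (resR := R.res) (n := n) S
    (IsScalarTower.toAlgHom Λ R.carrier S.carrier) hRS x hxm
  have huC' : ∀ a, u (C a) = algebraMap R.carrier S.carrier a := huC
  have hures : ∀ p, S.res (u p) = resT R.carrier R.res n p := fun p => DFunLike.congr_fun hu p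
  -- (d) surjectivity
  have husurj : Function.Surjective u :=
    Groth.Agent.H15.PSSurj.surjective_of_retraction (algebraMap R.carrier S.carrier)
      (ρ : S.carrier →+* R.carrier) hρι x hxρ (le_of_eq hxI.symm)
      (u : MvPowerSeries (Fin n) R.carrier →+* S.carrier) huC' huX
  -- (e) tangent vectors kill the kernel
  have hkill : ∀ (τ : MvPowerSeries (Fin n) R.carrier →ₐ[Λ] DualNumber k),
      (∀ p, (τ p).fst = resT R.carrier R.res n p) → ∀ f, u f = 0 → τ f = 0 := by
    intro τ hτ f hf
    obtain ⟨g, hg⟩ := (Ideal.mem_span_range_iff_exists_fun).1 (sub_C_mem f)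
    have hf' : f = C (constantCoeff f) + ∑ i, g i * X i := by rw [hg]; ring
    have h1 : u f = algebraMap R.carrier S.carrier (constantCoeff f) + ∑ i, u (g i) * x i := by
      conv_lhs => rw [hf']
      rw [map_add, huC', map_sum]
      congr 1
      refine Finset.sum_congr rfl fun i _ => ?_
      rw [map_mul, huX]
    have h2 : constantCoeff f = 0 := by
      have := congrArg ρ h1
      rw [hf, map_zero, map_add, hρι, map_sum] at this
      rw [this, left_eq_add]
      refine Finset.sum_eq_zero fun i _ => ?_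
      rw [map_mul, hxρ, mul_zero]
    have h3 : ∑ i, u (g i) * x i = 0 := by
      rw [hf, h2, map_zero, zero_add] at h1
      exact h1.symm
    have h4 : ∀ i, resT R.carrier R.res n (g i) = 0 := fun i => by
      have := hli (fun i => u (g i)) (by rw [h3]; exact Ideal.zero_mem _) i
      rw [← hures]
      exact (CRing.mem_maximalIdeal_iff _ _).1 this
    rw [hf', h2, map_zero, zero_add, map_sum]
    refine Finset.sum_eq_zero fun i _ => ?_
    rw [map_mul]
    exact Groth.Agent.H15.ArtSmooth.dual_mul_eq_zero _ _ ((hτ _).trans (h4 i))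
      ((hτ _).trans (resT_X _ _ _ i))
  -- the morphisms of functors
  let φu : hR S.carrier S.res ⟶ hR (MvPowerSeries (Fin n) R.carrier) (resT R.carrier R.res n) :=
    ((Family.self (MvPowerSeries (Fin n) R.carrier) (resT R.carrier R.res n)).along u hu).toNatTrans
  let ψC : hR (MvPowerSeries (Fin n) R.carrier) (resT R.carrier R.res n) ⟶ hR R.carrier R.res :=
    ((Family.self R.carrier R.res).along (CAlg R.carrier n)
      (resT_comp_CAlg R.carrier R.res n)).toNatTrans
  have happ : ∀ (A : Art Λ k) (t : HomSet S.carrier S.res A),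
      (φu ≫ ψC).app A t = ((Family.self R.carrier R.res).along
        (IsScalarTower.toAlgHom Λ R.carrier S.carrier) hRS).app A t := by
    intro A t
    apply Subtype.ext
    apply AlgHom.ext
    intro a
    change t.1 (u (CAlg (Λ := Λ) R.carrier n a)) = t.1 (algebraMap R.carrier S.carrier a)
    rw [CAlg_apply, huC']
  have hs : IsSmooth (φu ≫ ψC) := by
    intro B A μ hμ
    rintro ⟨⟨t, τ⟩, h⟩
    obtain ⟨ψ, hψ1, hψ2⟩ := hv μ hμ t τ (h.symm.trans (happ A t))
    refine ⟨ψ, ?_⟩
    apply Subtype.ext
    apply Prod.ext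
    · exact hψ1
    · change (φu ≫ ψC).app B ψ = τ
      rw [happ]
      exact hψ2
  have hd : Function.Bijective (TangentSpace.map φu) := by
    constructor
    · intro t₁ t₂ h12
      apply Subtype.ext
      apply AlgHom.ext
      intro s
      obtain ⟨p, rfl⟩ := husurj s
      have := congrArg (fun t : HomSet (MvPowerSeries (Fin n) R.carrier)
        (resT R.carrier R.res n) (dual Λ k) => t.1 p) h12
      exact this
    · intro τ
      obtain ⟨τ', hτ'⟩ : ∃ τ' : MvPowerSeries (Fin n) R.carrier →ₐ[Λ] DualNumber k,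
        τ' = (τ : HomSet _ _ (dual Λ k)).1 := ⟨_, rfl⟩
      have hτres : ∀ p, (τ' p).fst = resT R.carrier R.res n p := fun p => by
        rw [hτ']
        exact DFunLike.congr_fun (τ : HomSet _ _ (dual Λ k)).2 p
      let t : S.carrier →ₐ[Λ] DualNumber k :=
        AlgHom.liftOfSurjective u husurj τ' (fun f hf => hkill τ' hτres f hf)
      have ht : ∀ p, t (u p) = τ' p := fun p => AlgHom.liftOfSurjective_apply u husurj τ' _ p
      refine ⟨(⟨t, ?_⟩ : HomSet S.carrier S.res (dual Λ k)), ?_⟩
      · apply AlgHom.ext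
        intro s
        obtain ⟨p, rfl⟩ := husurj s
        change (t (u p)).fst = S.res (u p)
        rw [ht, hures]
        exact hτres p
      · apply Subtype.ext
        apply AlgHom.ext
        intro p
        change t (u p) = _
        rw [ht, hτ']
        rfl
  have hRSS : ∀ (P : Type u) [CommRing P] [Algebra Λ P] (resP : P →ₐ[Λ] k),
      (∀ ⦃B A A' A'' : Art Λ k⦄ (p' : B ⟶ A') (p'' : B ⟶ A'') (f' : A' ⟶ A) (f'' : A'' ⟶ A)
        (h : IsFibreProd p' p'' f' f''), Function.Surjective f'' →
          Function.Bijective (cmp (hR P resP) h)) :=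
    fun P _ _ resP _ _ _ _ p' p'' f' f'' h _ => isLeftExact_hR P resP p' p'' f' f'' h
  have hsm : IsSmooth φu := Groth.Agent.S12743.result (h0_hR _ _) (hRSS _ _) (h0_hR _ _)
    (hRSS _ _) φu ψC hd.2 hs
  have hbij : ∀ A, Function.Bijective (φu.app A) := Groth.Agent.S12733.result (h0_hR _ _)
    (hRSS _ _) (h0_hR _ _) (hRSS _ _) φu hsm hd
  -- (i) injectivity
  have hresT : Function.Surjective (resT R.carrier R.res n) := fun c => by
    obtain ⟨a, ha⟩ := R.res_surjective c
    exact ⟨C a, by rw [resT_C, ha]⟩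
  have huinj : Function.Injective u := by
    rw [injective_iff_map_eq_zero]
    intro f hf
    have hmem : ∀ j : ℕ, f ∈ Groth.Agent.H15.ArtPoly.mP (resT R.carrier R.res n) ^ (j + 1) := by
      intro j
      have h1 : Groth.Agent.H15.ArtPoly.mP (resT R.carrier R.res n) ^ (j + 1) ≤
          Groth.Agent.H15.ArtPoly.mP (resT R.carrier R.res n) :=
        Ideal.pow_le_self (Nat.succ_ne_zero j)
      let q : HomSet (MvPowerSeries (Fin n) R.carrier) (resT R.carrier R.res n)
          (Groth.Agent.H15.ArtPoly.quotObj (resT R.carrier R.res n) hresT _ h1 (j + 1) le_rfl) :=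
        ⟨Groth.Agent.H15.ArtPoly.quotMk (resT R.carrier R.res n) hresT _ h1 (j + 1) le_rfl,
          AlgHom.ext fun a => Groth.Agent.H15.ArtPoly.res_quotMk _ hresT _ h1 (j + 1) le_rfl a⟩
      obtain ⟨t, ht⟩ := (hbij _).2 q
      have h2 : q.1 f = t.1 (u f) :=
        (congrArg (fun z : HomSet (MvPowerSeries (Fin n) R.carrier) (resT R.carrier R.res n)
          (Groth.Agent.H15.ArtPoly.quotObj (resT R.carrier R.res n) hresT _ h1 (j + 1) le_rfl) =>
            z.1 f) ht).symm
      rw [hf, map_zero] at h2
      exact (Groth.Agent.H15.ArtPoly.quotMk_eq_zero_iff _ hresT _ h1 (j + 1) le_rfl f).1 h2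
    have hmax : Groth.Agent.H15.ArtPoly.mP (resT R.carrier R.res n) =
        maximalIdeal (MvPowerSeries (Fin n) R.carrier) := by
      have : (RingHom.ker ((resT R.carrier R.res n : MvPowerSeries (Fin n) R.carrier →ₐ[Λ] k) :
          MvPowerSeries (Fin n) R.carrier →+* k)).IsMaximal :=
        RingHom.ker_isMaximal_of_surjective _ hresT
      exact IsLocalRing.eq_maximalIdeal this
    have hinf : f ∈ ⨅ i, maximalIdeal (MvPowerSeries (Fin n) R.carrier) ^ i := by
      rw [Ideal.mem_iInf]
      intro i
      exact Ideal.pow_le_pow_right (Nat.le_succ i) (hmax ▸ hmem i)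
    rw [Ideal.iInf_pow_eq_bot_of_isLocalRing _ (maximalIdeal.isMaximal _).ne_top] at hinf
    exact hinf
  let uR : MvPowerSeries (Fin n) R.carrier →ₐ[R.carrier] S.carrier :=
    { (u : MvPowerSeries (Fin n) R.carrier →+* S.carrier) with commutes' := fun a => huC' a }
  exact ⟨n, ⟨(AlgEquiv.ofBijective uR ⟨huinj, husurj⟩).symm⟩⟩

end Main

end Groth.Agent.H15.PSArt2
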