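import Mathlib
import Groth.Agent.H15.PSArt2

universe u v

open CategoryTheory

namespace Groth.Agent.H15.PSArt3

open ArtFun ArtFun.Art IsLocalRing MvPowerSeries Groth.Agent.H15.ArtHR Groth.Agent.H15.ArtFormal
  Groth.Agent.H15.ArtFormal2 Groth.Agent.H15.PSEval Groth.Agent.H15.PSArt Groth.Agent.H15.PSArt2

variable {Λ : Type u} {k : Type u} [CommRing Λ] [Field k] [Algebra Λ k]

/-- The coefficient ring `Λ` itself. -/
noncomputable def baseCRing [IsLocalRing Λ] [IsNoetherianRing Λ]
    [IsAdicComplete (maximalIdeal Λ) Λ] (hk : Function.Surjective (algebraMap Λ k)) : CRing Λ k :=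
  { carrier := Λ
    res := Algebra.ofId Λ k
    res_surjective := hk
    isAdicComplete := inferInstance }

instance subsingleton_homSet_base (A : Art Λ k) : Subsingleton (HomSet Λ (Algebra.ofId Λ k) A) :=
  ⟨fun a b => Subtype.ext (Subsingleton.elim _ _)⟩

variable [IsNoetherianRing Λ] [Module.Finite Λ k] [IsLocalRing Λ] [IsAdicComplete (maximalIdeal Λ) Λ]

/-- The algebra structure over the base. -/
@[reducible] noncomputable def algBase (hk : Function.Surjective (algebraMap Λ k)) (R : CRing Λ k) :
    Algebra (baseCRing hk).carrier R.carrier := R.algebra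

lemma towerBase (hk : Function.Surjective (algebraMap Λ k)) (R : CRing Λ k) :
    @IsScalarTower Λ (baseCRing hk).carrier R.carrier _ (algBase hk R).toSMul _ :=
  (IsScalarTower.left Λ : IsScalarTower Λ Λ R.carrier)

theorem smooth_iff_ps (hk : Function.Surjective (algebraMap Λ k)) (R : CRing Λ k) :
    IsSmoothFunctor (hR R.carrier R.res) ↔
      ∃ n : ℕ, Nonempty (R.carrier ≃ₐ[Λ] MvPowerSeries (Fin n) Λ) := by
  letI := algBase hk R
  haveI := towerBase hk R
  have h : R.res.comp (IsScalarTower.toAlgHom Λ (baseCRing hk).carrier R.carrier) =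
      (baseCRing hk).res := by
    apply AlgHom.ext
    intro l
    exact (R.res.commutes l)
  have h1 : IsSmoothFunctor (hR R.carrier R.res) ↔
      IsVersal ((Family.self (baseCRing hk).carrier (baseCRing hk).res).along
        (IsScalarTower.toAlgHom Λ (baseCRing hk).carrier R.carrier) h) := by
    constructor
    · intro hsm B A μ hμ φ y hy
      obtain ⟨ψ, hψ⟩ := hsm μ hμ φ
      exact ⟨ψ, hψ, @Subsingleton.elim _ (subsingleton_homSet_base B) _ _⟩
    · intro hv B A μ hμ φ
      obtain ⟨ψ, h1, _⟩ := hv μ hμ φ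
        (⟨Algebra.ofId Λ B, Subsingleton.elim _ _⟩ : HomSet Λ (Algebra.ofId Λ k) B)
        (@Subsingleton.elim _ (subsingleton_homSet_base A) _ _)
      exact ⟨ψ, h1⟩
  rw [h1]
  constructor
  · intro hv
    exact equiv_of_versal (baseCRing hk) R h hv
  · rintro ⟨n, ⟨e⟩⟩
    exact versal_of_equiv (baseCRing hk) R h n e

end Groth.Agent.H15.PSArt3
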