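import Mathlib
import Groth.Agent.H15.PSArt3

universe u v

open CategoryTheory

namespace Groth.Agent.H15.PSArt4

open ArtFun ArtFun.Art IsLocalRing MvPowerSeries Groth.Agent.H15.ArtHR Groth.Agent.H15.ArtFormal
  Groth.Agent.H15.ArtFormal2 Groth.Agent.H15.PSArt3 Groth.Agent.H15.ArtFunA

variable {Λ : Type u} {k : Type u} [CommRing Λ] [Field k] [Algebra Λ k]

section General

variable {F : Art Λ k ⥤ Type v}

theorem h0_of_miniversal {R : Type u} [CommRing R] [Algebra Λ R] {resR : R →ₐ[Λ] k}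
    (η : Family R resR F) (hη : IsMiniversal η) : H0 F := by
  apply H0_of_surj η
  intro y
  obtain ⟨t, ht⟩ := hη.2.2 (F.map baseToDual y)
  refine ⟨HomSet.map (toBase (dual Λ k)) t, ?_⟩
  rw [η.natural, ht, ← FunctorToTypes.map_comp_apply]
  have : (baseToDual ≫ toBase (dual Λ k) : base Λ k ⟶ base Λ k) = 𝟙 _ := by
    rw [eq_toBase (baseToDual ≫ toBase _), eq_toBase (𝟙 _)]
  rw [this, FunctorToTypes.map_id_apply]

/-- Every point of a complete ring factors through a truncation. -/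
theorem exists_factor_trunc (R : CRing Λ k) (A : Art Λ k) (t : HomSet R.carrier R.res A) :
    ∃ (N : ℕ) (ū : R.trunc N ⟶ A), HomSet.map ū (R.truncHom N) = t := by
  obtain ⟨N, hN⟩ := Groth.Agent.H15.ArtEps.maximalIdeal_nilpotent A
  have hum : (maximalIdeal R.carrier).map (t.1 : R.carrier →+* A) ≤ maximalIdeal A := by
    rw [Ideal.map_le_iff_le_comap]
    intro x hx
    rw [Ideal.mem_comap, Art.mem_maximalIdeal_iff]
    have h1 : A.res (t.1 x) = R.res x := DFunLike.congr_fun t.2 x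
    exact h1.trans ((CRing.mem_maximalIdeal_iff R x).1 hx)
  have hkill : ∀ a ∈ CRing.mpow R N, t.1 a = 0 := by
    intro a ha
    have h1 : (t.1 : R.carrier →+* A) a ∈
        (maximalIdeal R.carrier ^ (N + 1)).map (t.1 : R.carrier →+* A) :=
      Ideal.mem_map_of_mem _ ha
    rw [Ideal.map_pow] at h1
    have h2 := Ideal.pow_right_mono hum (N + 1) h1
    rw [pow_succ, hN, Ideal.bot_mul] at h2
    exact h2
  refine ⟨N, ⟨Ideal.Quotient.liftₐ _ t.1 hkill, ?_⟩, ?_⟩
  · apply AlgHom.ext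
    intro x
    obtain ⟨a, rfl⟩ := Ideal.Quotient.mk_surjective x
    exact DFunLike.congr_fun t.2 a
  · exact Subtype.ext (AlgHom.ext fun _ => rfl)

/-- Families over a complete ring are determined by their formal elements. -/
theorem family_ext_of_formal (R : CRing Λ k) (ξ₁ ξ₂ : Family R.carrier R.res F)
    (h : ξ₁.toFormalElt = ξ₂.toFormalElt) (A : Art Λ k) (t : HomSet R.carrier R.res A) :
    ξ₁.app A t = ξ₂.app A t := by
  obtain ⟨N, ū, rfl⟩ := exists_factor_trunc R A t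
  rw [ξ₁.natural, ξ₂.natural]
  have := congrArg (fun η : FormalElt F R => η.elt N) h
  exact congrArg (F.map ū) this

end General

section Main

variable [IsNoetherianRing Λ] [Module.Finite Λ k] [IsLocalRing Λ] [IsAdicComplete (maximalIdeal Λ) Λ]
  {F : Art Λ k ⥤ Type v}

theorem miniversal_of_ps (hk : Function.Surjective (algebraMap Λ k)) (hF : HasHull F)
    (R : CRing Λ k) (n : ℕ) (e : R.carrier ≃ₐ[Λ] MvPowerSeries (Fin n) Λ)
    (ξ : Family R.carrier R.res F)
    (hξ : Function.Bijective (TangentSpace.ofFamily ξ)) : IsMiniversal ξ := by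
  obtain ⟨⟨H, η, hη⟩⟩ := hF
  have h0 : H0 F := h0_of_miniversal η hη
  obtain ⟨g, hg, hgf⟩ := exists_along_toFormalElt h0 H η hη.1 R ξ.toFormalElt
  have hξη : ∀ (A : Art Λ k) (t : HomSet R.carrier R.res A),
      ξ.app A t = (η.along g hg).app A t := family_ext_of_formal R ξ (η.along g hg) hgf.symm
  let φg : hR R.carrier R.res ⟶ hR H.carrier H.res :=
    ((Family.self H.carrier H.res).along g hg).toNatTrans
  have hsmR : IsSmoothFunctor (hR R.carrier R.res) := (smooth_iff_ps hk R).2 ⟨n, ⟨e⟩⟩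
  have hresΛ : (H.res).comp (Algebra.ofId Λ H.carrier) = Algebra.ofId Λ k := Subsingleton.elim _ _
  let ψ : hR H.carrier H.res ⟶ hR Λ (Algebra.ofId Λ k) :=
    ((Family.self Λ (Algebra.ofId Λ k)).along (Algebra.ofId Λ H.carrier) hresΛ).toNatTrans
  have hs : IsSmooth (φg ≫ ψ) := by
    intro B A μ hμ
    rintro ⟨⟨t, y⟩, h⟩
    obtain ⟨ψ', hψ'⟩ := hsmR μ hμ t
    refine ⟨ψ', ?_⟩
    apply Subtype.ext
    apply Prod.ext
    · exact hψ'
    · exact @Subsingleton.elim _ (subsingleton_homSet_base B) _ _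
  have hd : Function.Surjective (TangentSpace.map φg) := by
    intro τ
    obtain ⟨t, ht⟩ := hξ.2 (η.app (dual Λ k) τ)
    refine ⟨t, ?_⟩
    apply hη.2.1
    change (η.along g hg).app (dual Λ k) t = _
    exact (hξη _ t).symm.trans ht
  have hRSS : ∀ (P : Type u) [CommRing P] [Algebra Λ P] (resP : P →ₐ[Λ] k),
      (∀ ⦃B A A' A'' : Art Λ k⦄ (p' : B ⟶ A') (p'' : B ⟶ A'') (f' : A' ⟶ A) (f'' : A'' ⟶ A)
        (h : IsFibreProd p' p'' f' f''), Function.Surjective f'' →
          Function.Bijective (cmp (hR P resP) h)) :=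
    fun P _ _ resP _ _ _ _ p' p'' f' f'' h _ => isLeftExact_hR P resP p' p'' f' f'' h
  have hsm : IsSmooth φg := Groth.Agent.S12743.result (h0_hR _ _) (hRSS _ _) (h0_hR _ _)
    (hRSS _ _) φg ψ hd hs
  refine ⟨?_, hξ⟩
  intro B A μ hμ t y hy
  obtain ⟨ψH, hψH1, hψH2⟩ := hη.1 μ hμ ((φg.app A t : HomSet H.carrier H.res A)) y
    (hy.trans (hξη A t))
  obtain ⟨ψ', hψ'⟩ := hsm μ hμ ⟨(t, ψH), hψH1.symm⟩
  have h1 : HomSet.map μ ψ' = t := congrArg (fun z => z.1.1) hψ'
  have h2 : (φg.app B ψ' : HomSet H.carrier H.res B) = ψH := congrArg (fun z => z.1.2) hψ'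
  refine ⟨ψ', h1, ?_⟩
  rw [hξη B ψ']
  change η.app B (φg.app B ψ') = y
  rw [h2, hψH2]

end Main

end Groth.Agent.H15.PSArt4
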