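import Mathlib
import Groth.Agent.H15.ArtFit
import Groth.Agent.H15.PSArt4

universe u v

open CategoryTheory

namespace Groth.Agent.H15.ArtFit2

open ArtFun ArtFun.Art IsLocalRing Groth.Agent.H15.ArtFit Groth.Agent.H15.ArtFormal2
  Groth.Agent.H15.PSArt

variable {Λ : Type u} {k : Type u} [CommRing Λ] [Field k] [Algebra Λ k]

section SurjSq

/-- An augmentation-compatible endomorphism of a complete local ring which is surjective modulo the square of the
maximal ideal is surjective. -/
theorem surjective_of_surjective_mod_sq (R : CRing Λ k) (φ : R.carrier →ₐ[Λ] R.carrier)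
    (hφ : R.res.comp φ = R.res)
    (h : ∀ a, ∃ b, a - φ b ∈ maximalIdeal R.carrier ^ 2) : Function.Surjective φ := by
  have hres : ∀ a, R.res (φ a) = R.res a := fun a => DFunLike.congr_fun hφ a
  have hmap_le : (maximalIdeal R.carrier).map (φ : R.carrier →+* R.carrier) ≤ maximalIdeal R.carrier := by
    rw [Ideal.map_le_iff_le_comap]
    intro a ha
    rw [Ideal.mem_comap, CRing.mem_maximalIdeal_iff]
    change R.res (φ a) = 0
    rw [hres]
    exact (CRing.mem_maximalIdeal_iff R a).1 ha
  have h1 : maximalIdeal R.carrier ≤ (maximalIdeal R.carrier).map (φ : R.carrier →+* R.carrier) ⊔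
      maximalIdeal R.carrier • maximalIdeal R.carrier := by
    intro a ha
    obtain ⟨b, hb⟩ := h a
    have hbm : b ∈ maximalIdeal R.carrier := by
      rw [CRing.mem_maximalIdeal_iff, ← hres]
      have h2 : R.res (a - φ b) = 0 := (CRing.mem_maximalIdeal_iff R _).1
        (Ideal.pow_le_self two_ne_zero hb)
      rw [map_sub, (CRing.mem_maximalIdeal_iff R a).1 ha, zero_sub, neg_eq_zero] at h2
      exact h2
    have e : a = φ b + (a - φ b) := by ring
    rw [e]
    refine Submodule.add_mem_sup (Ideal.mem_map_of_mem _ hbm) ?_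
    rw [smul_eq_mul, ← pow_two]
    exact hb
  have h2 : maximalIdeal R.carrier ≤ (maximalIdeal R.carrier).map (φ : R.carrier →+* R.carrier) :=
    Submodule.le_of_le_smul_of_le_jacobson_bot (IsNoetherian.noetherian _)
      (maximalIdeal_le_jacobson _) h1
  have hcomp : IsAdicComplete (maximalIdeal R.carrier) R.carrier := R.isAdicComplete
  have hne : (maximalIdeal R.carrier).map (φ : R.carrier →+* R.carrier) ≠ ⊤ := fun ht =>
    (maximalIdeal.isMaximal R.carrier).ne_top (top_le_iff.1 (ht ▸ hmap_le))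
  haveI : IsHausdorff ((maximalIdeal R.carrier).map (φ : R.carrier →+* R.carrier)) R.carrier :=
    IsHausdorff.of_isLocalRing _ _ hne
  have := surjective_of_mk_map_comp_surjective (I := maximalIdeal R.carrier)
    (φ : R.carrier →+* R.carrier) (by
      intro y
      obtain ⟨a, rfl⟩ := Ideal.Quotient.mk_surjective y
      refine ⟨a, ?_⟩
      rw [RingHom.comp_apply]
      refine Ideal.Quotient.eq.2 (h2 ?_)
      rw [CRing.mem_maximalIdeal_iff, map_sub]
      change R.res (φ a) - R.res a = 0
      rw [hres, sub_self])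
  exact this

end SurjSq

section Limit

variable [IsNoetherianRing Λ] [Module.Finite Λ k] (R : CRing Λ k)
  (φ : R.carrier →ₐ[Λ] R.carrier) (hφ : R.res.comp φ = R.res)

/-- The endomorphism induced on a truncation. -/
noncomputable def lv (j : ℕ) : R.trunc j ⟶ R.trunc j := CRing.truncMapOfHom φ hφ j

lemma lv_mk (j : ℕ) (a : R.carrier) :
    lv R φ hφ j ((R.truncHom j).1 a) = (R.truncHom j).1 (φ a) := rfl

lemma lv_iter (j n : ℕ) (a : R.carrier) :
    ((lv R φ hφ j : R.trunc j → R.trunc j))^[n] ((R.truncHom j).1 a) = (R.truncHom j).1 ((φ : R.carrier → R.carrier)^[n] a) := by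
  induction n with
  | zero => rfl
  | succ n ih => rw [Function.iterate_succ_apply', ih, lv_mk, Function.iterate_succ_apply']

/-- The Fitting idempotent of an endomorphism of a complete local ring. -/
theorem exists_fitting :
    ∃ (e : R.carrier →ₐ[Λ] R.carrier) (_ : R.res.comp e = R.res),
      ∀ j a, (R.truncHom j).1 (e a) = eHom (lv R φ hφ j) ((R.truncHom j).1 a) := by
  let Ψ : ∀ j, HomSet R.carrier R.res (R.trunc j) := fun j =>
    HomSet.map (eHom (lv R φ hφ j)) (R.truncHom j)
  have hΨ : ∀ j, HomSet.map (R.truncMap j) (Ψ (j + 1)) = Ψ j := by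
    intro j
    apply Subtype.ext
    apply AlgHom.ext
    intro a
    change R.truncMap j (eHom (lv R φ hφ (j + 1)) ((R.truncHom (j + 1)).1 a)) =
      eHom (lv R φ hφ j) ((R.truncHom j).1 a)
    rw [eHom_natural (lv R φ hφ (j + 1)) (lv R φ hφ j) (R.truncMap j) ?_]
    · rfl
    · intro x
      have := congrArg (fun g : R.trunc (j + 1) ⟶ R.trunc j => g x)
        (CRing.truncMapOfHom_truncMap φ hφ j)
      exact this
  obtain ⟨e, he, hel⟩ := exists_limit_hom R Ψ hΨ
  exact ⟨e, he, fun j a => DFunLike.congr_fun (hel j) a⟩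

include hφ in
lemma res_iter (n : ℕ) (a : R.carrier) : R.res ((φ : R.carrier → R.carrier)^[n] a) = R.res a := by
  induction n with
  | zero => rfl
  | succ n ih =>
    rw [Function.iterate_succ_apply', ← ih]
    exact DFunLike.congr_fun hφ _

include hφ in
/-- The Fitting idempotent with its properties. -/
theorem exists_fitting_idem {F : Art Λ k ⥤ Type v} (ξ : Family R.carrier R.res F)
    (hinv : ∀ (A : Art Λ k) (χ χ' : HomSet R.carrier R.res A),
      (∀ a, χ'.1 a = χ.1 (φ a)) → ξ.app A χ' = ξ.app A χ) :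
    ∃ (e : R.carrier →ₐ[Λ] R.carrier) (_ : R.res.comp e = R.res),
      (∀ a, e (e a) = e a) ∧
      (∀ (A : Art Λ k) (χ χ' : HomSet R.carrier R.res A),
        (∀ a, χ'.1 a = χ.1 (e a)) → ξ.app A χ' = ξ.app A χ) ∧
      (∀ a, φ a = 0 → e a = 0) ∧
      ((∀ a, e a = a) → Function.Surjective φ) := by
  obtain ⟨e, he, hel⟩ := exists_fitting R φ hφ
  refine ⟨e, he, ?_, ?_, ?_, ?_⟩
  · intro a
    apply elt_ext_levels
    intro j
    rw [hel, hel, eHom_idem]
  · intro A χ χ' hχ'
    obtain ⟨j, χj, hχj⟩ := Groth.Agent.H15.PSArt4.exists_factor_trunc R A χ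
    obtain ⟨N, hN⟩ := exists_iter_eHom (lv R φ hφ j)
    have hχa : ∀ a, χ.1 a = χj ((R.truncHom j).1 a) := fun a => by
      rw [← hχj]
      rfl
    have hinvN : ∀ (n : ℕ) (χ χ' : HomSet R.carrier R.res A),
        (∀ a, χ'.1 a = χ.1 ((φ : R.carrier → R.carrier)^[n] a)) → ξ.app A χ' = ξ.app A χ := by
      intro n
      induction n with
      | zero =>
        intro χ χ' h
        congr 1
        apply Subtype.ext
        apply AlgHom.ext
        exact h
      | succ n ih =>
        intro χ χ' h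
        let χ'' : HomSet R.carrier R.res A := ⟨χ.1.comp (φ ^ n), by
          apply AlgHom.ext
          intro a
          change A.res (χ.1 ((φ ^ n) a)) = R.res a
          rw [AlgHom.coe_pow]
          have h1 : A.res (χ.1 ((φ : R.carrier → R.carrier)^[n] a)) =
              R.res ((φ : R.carrier → R.carrier)^[n] a) := DFunLike.congr_fun χ.2 _
          rw [h1, res_iter R φ hφ]⟩
        have hχ'' : ∀ a, χ''.1 a = χ.1 ((φ : R.carrier → R.carrier)^[n] a) := fun a => by
          change χ.1 ((φ ^ n) a) = _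
          rw [AlgHom.coe_pow]
        have h1 : ξ.app A χ'' = ξ.app A χ := ih χ χ'' hχ''
        have h2 : ξ.app A χ' = ξ.app A χ'' := hinv A χ'' χ' (fun a => by
          rw [h, hχ'', Function.iterate_succ_apply])
        exact h2.trans h1
    let ψ1 : HomSet R.carrier R.res A := HomSet.map (eHom (lv R φ hφ j) ≫ χj) (R.truncHom j)
    have hψ1 : ∀ a, ψ1.1 a = χj (eHom (lv R φ hφ j) ((R.truncHom j).1 a)) := fun a => rfl
    have hχ'ψ1 : χ' = ψ1 := by
      apply Subtype.ext
      apply AlgHom.ext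
      intro a
      rw [hχ', hχa, hel, hψ1]
    let ψ2 : HomSet R.carrier R.res A := ⟨χ.1.comp (φ ^ N), by
      apply AlgHom.ext
      intro a
      change A.res (χ.1 ((φ ^ N) a)) = R.res a
      rw [AlgHom.coe_pow]
      have h1 : A.res (χ.1 ((φ : R.carrier → R.carrier)^[N] a)) =
          R.res ((φ : R.carrier → R.carrier)^[N] a) := DFunLike.congr_fun χ.2 _
      rw [h1, res_iter R φ hφ]⟩
    have hψ2 : ∀ a, ψ2.1 a = χ.1 ((φ : R.carrier → R.carrier)^[N] a) := fun a => by
      change χ.1 ((φ ^ N) a) = _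
      rw [AlgHom.coe_pow]
    have h1 : ξ.app A ψ2 = ξ.app A χ := hinvN N χ ψ2 hψ2
    have h2 : ξ.app A ψ2 = ξ.app A ψ1 := hinvN N ψ1 ψ2 (fun a => by
      rw [hψ2, hχa, hψ1, ← lv_iter, (hN _).2])
    rw [hχ'ψ1, ← h2, h1]
  · intro a ha
    apply elt_ext_levels
    intro j
    rw [hel, map_zero]
    apply eHom_eq_zero_of_ker
    rw [lv_mk, ha, map_zero]
  · intro hid
    apply surjective_of_surjective_mod_sq R φ hφ
    intro a
    obtain ⟨b', hb'⟩ := eHom_mem_range (lv R φ hφ 1) ((R.truncHom 1).1 a)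
    obtain ⟨b, rfl⟩ := Ideal.Quotient.mk_surjective b'
    refine ⟨b, ?_⟩
    rw [← hel, hid] at hb'
    have h3 : (R.truncHom 1).1 (φ b) = (R.truncHom 1).1 a := hb'
    exact Ideal.Quotient.eq.1 h3.symm

end Limit

end Groth.Agent.H15.ArtFit2
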