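import Mathlib
import Groth.Prelude.Def_W4sfdMinVersal
import Groth.Agent.H15.ArtSep
import Groth.Agent.H15.ArtFormal

universe u v

open CategoryTheory

namespace Groth.Agent.H15.ArtMin

open ArtFun ArtFun.Art IsLocalRing Groth.Agent.H15.ArtEps Groth.Agent.H15.ArtHR Groth.Agent.H15.ArtInd
  Groth.Agent.H15.ArtSep Groth.Agent.H15.ArtLvl Groth.Agent.H15.ArtEndo

variable {Λ : Type u} {k : Type u} [CommRing Λ] [Field k] [Algebra Λ k]

/-- Every element of `h_R(A)` factors through all sufficiently high truncations. -/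
theorem exists_factor_trunc (R : CRing Λ k) (A : Art Λ k) (w : HomSet R.carrier R.res A) :
    ∃ N : ℕ, ∀ n, N ≤ n → ∃ wb : R.trunc n ⟶ A, HomSet.map wb (R.truncHom n) = w := by
  obtain ⟨N, hN⟩ := maximalIdeal_nilpotent A
  have hum : (maximalIdeal R.carrier).map (w.1 : R.carrier →+* A) ≤ maximalIdeal A := by
    rw [Ideal.map_le_iff_le_comap]
    intro x hx
    rw [Ideal.mem_comap, Art.mem_maximalIdeal_iff]
    have h1 : A.res (w.1 x) = R.res x := DFunLike.congr_fun w.2 x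
    exact h1.trans ((CRing.mem_maximalIdeal_iff R x).1 hx)
  refine ⟨N, fun n hn => ?_⟩
  have hkill : ∀ a ∈ CRing.mpow R n, w.1 a = 0 := by
    intro a ha
    have h1 : (w.1 : R.carrier →+* A) a ∈ (maximalIdeal R.carrier ^ (n + 1)).map (w.1 : R.carrier →+* A) :=
      Ideal.mem_map_of_mem _ ha
    rw [Ideal.map_pow] at h1
    have h2 := Ideal.pow_le_pow_right (Nat.le_succ_of_le hn) (Ideal.pow_right_mono hum (n + 1) h1)
    rw [hN] at h2
    exact h2
  refine ⟨⟨Ideal.Quotient.liftₐ _ w.1 hkill, ?_⟩, ?_⟩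
  · apply AlgHom.ext
    intro x
    obtain ⟨a, rfl⟩ := Ideal.Quotient.mk_surjective x
    exact DFunLike.congr_fun w.2 a
  · exact Subtype.ext (AlgHom.ext fun _ => rfl)

section

variable {F : Art Λ k ⥤ Type v}

lemma push_toFormalElt {R' R : CRing Λ k} (ξ : Family R'.carrier R'.res F)
    (f : R'.carrier →ₐ[Λ] R.carrier) (hf : R.res.comp f = R'.res) :
    (ξ.toFormalElt).push f hf = (ξ.along f hf).toFormalElt := by
  apply FormalElt.ext'
  intro n
  change F.map (CRing.truncMapOfHom f hf n) (ξ.app _ (R'.truncHom n)) =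
    ξ.app _ ⟨(R.truncHom n).1.comp f, _⟩
  rw [← ξ.natural]
  congr 1

/-- A hull is a minimal versal family. -/
theorem minimal_of_hull (P : Hull F) : P.family.IsMinimalVersal := by
  refine ⟨P.miniversal.1, fun R' u f hf hpush => ?_⟩
  have hcomp : IsAdicComplete (maximalIdeal R'.carrier) R'.carrier := R'.isAdicComplete
  have h := (tfae_cot R'.res R'.res_surjective P.ring.res P.ring.res_surjective f hf).out 1 0
  apply h.1
  have hloc : (maximalIdeal R'.carrier).map f ≤ maximalIdeal P.ring.carrier :=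
    Ideal.map_le_iff_le_comap.2 (CRing.maximalIdeal_le_comap f hf)
  apply le_antisymm (sup_le hloc (Ideal.pow_le_self two_ne_zero))
  intro x hx
  by_contra hxb
  obtain ⟨t, _, ht2, ht3⟩ := tangent_sep_rel P.ring.res P.ring.res_surjective R'.res R'.res_surjective
    f hf _ le_sup_right (sup_le hloc (Ideal.pow_le_self two_ne_zero))
    (fun r hr => (le_sup_left : (maximalIdeal R'.carrier).map f ≤ _)
      (Ideal.mem_map_of_mem _ ((CRing.mem_maximalIdeal_iff R' r).2 hr))) x hx hxb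
  let triv : HomSet P.ring.carrier P.ring.res (dual Λ k) :=
    HomSet.map baseToDual (basePt P.ring.carrier P.ring.res)
  have htriv : ∀ r, triv.1 r = (TrivSqZeroExt.inl (P.ring.res r) : DualNumber k) := fun r =>
    baseToDual_apply (Λ := Λ) (k := k) (P.ring.res r)
  obtain ⟨N₁, hN₁⟩ := exists_factor_trunc P.ring (dual Λ k) t
  obtain ⟨N₂, hN₂⟩ := exists_factor_trunc P.ring (dual Λ k) triv
  obtain ⟨tb, htb⟩ := hN₁ (max N₁ N₂) (le_max_left _ _)
  obtain ⟨tb', htb'⟩ := hN₂ (max N₁ N₂) (le_max_right _ _)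
  have hcompeq : CRing.truncMapOfHom f hf (max N₁ N₂) ≫ tb =
      CRing.truncMapOfHom f hf (max N₁ N₂) ≫ tb' := by
    apply hom_ext
    apply AlgHom.ext
    intro y
    obtain ⟨a, rfl⟩ := Ideal.Quotient.mk_surjective y
    have e1 : tb (Ideal.Quotient.mk _ (f a)) = t.1 (f a) :=
      congrArg (fun s : HomSet P.ring.carrier P.ring.res (dual Λ k) => s.1 (f a)) htb
    have e2 : tb' (Ideal.Quotient.mk _ (f a)) = triv.1 (f a) :=
      congrArg (fun s : HomSet P.ring.carrier P.ring.res (dual Λ k) => s.1 (f a)) htb'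
    change tb (Ideal.Quotient.mk _ (f a)) = tb' (Ideal.Quotient.mk _ (f a))
    rw [e1, e2, ht3, htriv, CRing.res_comp_apply f hf]
  have hval : ∀ (s : HomSet P.ring.carrier P.ring.res (dual Λ k)) (sb : P.ring.trunc (max N₁ N₂) ⟶ dual Λ k),
      HomSet.map sb (P.ring.truncHom (max N₁ N₂)) = s →
      P.family.app (dual Λ k) s =
        F.map (CRing.truncMapOfHom f hf (max N₁ N₂) ≫ sb) (u.elt (max N₁ N₂)) := by
    intro s sb hs
    rw [← hs, P.family.natural, Functor.map_comp_apply]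
    have e3 : P.family.app _ (P.ring.truncHom (max N₁ N₂)) = (u.push f hf).elt (max N₁ N₂) := by
      rw [hpush]
      rfl
    rw [e3]
    rfl
  have htt : t = triv := by
    apply P.miniversal.2.1
    rw [hval t tb htb, hval triv tb' htb', hcompeq]
  apply ht2
  rw [htt, htriv, (CRing.mem_maximalIdeal_iff P.ring x).1 hx]
  exact TrivSqZeroExt.inl_zero _

/-- Minimal versal families are unique up to isomorphism. -/
theorem minimal_unique (h0 : H0 F) {R₁ R₂ : CRing Λ k}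
    (ξ₁ : Family R₁.carrier R₁.res F) (ξ₂ : Family R₂.carrier R₂.res F)
    (h₁ : ξ₁.IsMinimalVersal) (h₂ : ξ₂.IsMinimalVersal) :
    ∃ (e : R₁.carrier ≃ₐ[Λ] R₂.carrier) (he : R₂.res.comp (e : R₁.carrier →ₐ[Λ] R₂.carrier) = R₁.res),
      (ξ₁.along (e : R₁.carrier →ₐ[Λ] R₂.carrier) he).toFormalElt = ξ₂.toFormalElt := by
  obtain ⟨g₁₂, hg₁₂, e₁₂⟩ :=
    Groth.Agent.H15.ArtFormal.exists_along_toFormalElt h0 R₁ ξ₁ h₁.1 R₂ ξ₂.toFormalElt
  obtain ⟨g₂₁, hg₂₁, e₂₁⟩ :=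
    Groth.Agent.H15.ArtFormal.exists_along_toFormalElt h0 R₂ ξ₂ h₂.1 R₁ ξ₁.toFormalElt
  have hs₁₂ : Function.Surjective g₁₂ :=
    h₂.2 R₁ ξ₁.toFormalElt g₁₂ hg₁₂ (by rw [push_toFormalElt]; exact e₁₂)
  have hs₂₁ : Function.Surjective g₂₁ :=
    h₁.2 R₂ ξ₂.toFormalElt g₂₁ hg₂₁ (by rw [push_toFormalElt]; exact e₂₁)
  have hinj : Function.Injective ((g₂₁ : R₂.carrier →+* R₁.carrier).comp (g₁₂ : R₁.carrier →+* R₂.carrier)) :=
    ringHom_injective_of_surjective _ (hs₂₁.comp hs₁₂)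
  have hi₁₂ : Function.Injective g₁₂ := fun a b hab => hinj (by
    change g₂₁ (g₁₂ a) = g₂₁ (g₁₂ b)
    rw [hab])
  have helper : ∀ (g' : R₁.carrier →ₐ[Λ] R₂.carrier), g' = g₁₂ →
      ∃ he : R₂.res.comp g' = R₁.res, (ξ₁.along g' he).toFormalElt = ξ₂.toFormalElt := by
    rintro g' rfl
    exact ⟨hg₁₂, e₁₂⟩
  obtain ⟨he, h⟩ := helper (AlgEquiv.ofBijective g₁₂ ⟨hi₁₂, hs₁₂⟩ : R₁.carrier →ₐ[Λ] R₂.carrier)
    (AlgHom.ext fun _ => rfl)
  exact ⟨AlgEquiv.ofBijective g₁₂ ⟨hi₁₂, hs₁₂⟩, he, h⟩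

end

end Groth.Agent.H15.ArtMin
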