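import Mathlib
import Groth.Agent.H15.ArtFit2
import Groth.Agent.H15.ArtTrim
import Groth.Agent.H15.ArtMin
import Groth.Agent.S12742

universe u v

open CategoryTheory

namespace Groth.Agent.H15.ArtFit3

open ArtFun ArtFun.Art IsLocalRing Groth.Agent.H15.ArtFit Groth.Agent.H15.ArtFit2
  Groth.Agent.H15.ArtFormal Groth.Agent.H15.ArtFormal2 Groth.Agent.H15.ArtTrim
  Groth.Agent.H15.ArtHR Groth.Agent.H15.PSArt Groth.Agent.H15.PSArt2 Groth.Agent.H15.PSArt4

variable {Λ : Type u} {k : Type u} [CommRing Λ] [Field k] [Algebra Λ k]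
  [IsNoetherianRing Λ] [Module.Finite Λ k] {F : Art Λ k ⥤ Type v}

/-- Invariance of a family under an endomorphism. -/
def Inv {R : CRing Λ k} (ξ : Family R.carrier R.res F) (ψ : R.carrier → R.carrier) : Prop :=
  ∀ (A : Art Λ k) (χ χ' : HomSet R.carrier R.res A), (∀ a, χ'.1 a = χ.1 (ψ a)) → ξ.app A χ' = ξ.app A χ

/-- A versal family retracts onto a minimal versal one. -/
theorem exists_minimal_retract (h0 : H0 F) (R : CRing Λ k) (ξ : Family R.carrier R.res F)
    (hξ : IsVersal ξ) :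
    ∃ (R' : CRing Λ k) (ρ : R.carrier →ₐ[Λ] R'.carrier) (hρ : R'.res.comp ρ = R.res)
      (g : R'.carrier →ₐ[Λ] R.carrier) (hg : R.res.comp g = R'.res),
      (∀ x, ρ (g x) = x) ∧ (ξ.along ρ hρ).IsMinimalVersal ∧
      (∀ (A : Art Λ k) (χ : HomSet R.carrier R.res A),
        ((ξ.along ρ hρ).along g hg).app A χ = ξ.app A χ) := by
  classical
  -- the set of kernels of invariant idempotents
  let 𝓢 : Set (Ideal R.carrier) := {I | ∃ e : R.carrier →ₐ[Λ] R.carrier, R.res.comp e = R.res ∧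
    (∀ a, e (e a) = e a) ∧ Inv ξ e ∧ RingHom.ker (e : R.carrier →+* R.carrier) = I}
  have hne : 𝓢.Nonempty := ⟨⊥, AlgHom.id Λ R.carrier, AlgHom.comp_id _, fun _ => rfl,
    fun A χ χ' h => by
      congr 1
      exact Subtype.ext (AlgHom.ext h), by
      rw [eq_bot_iff]
      intro a ha
      exact ha⟩
  obtain ⟨I₀, ⟨e₀, he₀res, he₀idem, he₀inv, rfl⟩, hmax⟩ :=
    set_has_maximal_iff_noetherian.mpr (inferInstance : IsNoetherian R.carrier R.carrier) 𝓢 hne
  have he₀r : ∀ a, R.res (e₀ a) = R.res a := fun a => DFunLike.congr_fun he₀res a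
  have h𝔞 : RingHom.ker (e₀ : R.carrier →+* R.carrier) ≤ maximalIdeal R.carrier := by
    intro a ha
    rw [CRing.mem_maximalIdeal_iff, ← he₀r]
    have : e₀ a = 0 := ha
    rw [this, map_zero]
  let R' := quotCRing R _ h𝔞
  let ρ : R.carrier →ₐ[Λ] R'.carrier := quotCRingMk R _ h𝔞
  have hρ : R'.res.comp ρ = R.res := quotCRingMk_res R _ h𝔞
  have hρs : Function.Surjective ρ := quotCRingMk_surjective R _ h𝔞
  have hρ0 : ∀ a, ρ a = 0 ↔ e₀ a = 0 := fun a => Ideal.Quotient.eq_zero_iff_mem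
  let g : R'.carrier →ₐ[Λ] R.carrier :=
    Ideal.Quotient.liftₐ (RingHom.ker (e₀ : R.carrier →+* R.carrier)) e₀ (fun a ha => ha)
  have hgρ : ∀ a, g (ρ a) = e₀ a := fun a => rfl
  have hg : R.res.comp g = R'.res := by
    apply AlgHom.ext
    intro x
    obtain ⟨a, rfl⟩ := hρs x
    change R.res (g (ρ a)) = R'.res (ρ a)
    rw [hgρ, he₀r]
    exact (DFunLike.congr_fun hρ a).symm
  have hρg : ∀ x, ρ (g x) = x := by
    intro x
    obtain ⟨a, rfl⟩ := hρs x
    rw [hgρ, ← sub_eq_zero, ← map_sub, hρ0, map_sub, he₀idem, sub_self]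
  have hpt : ∀ (A : Art Λ k) (χ : HomSet R.carrier R.res A),
      ((ξ.along ρ hρ).along g hg).app A χ = ξ.app A χ := by
    intro A χ
    exact he₀inv A χ _ (fun a => rfl)
  refine ⟨R', ρ, hρ, g, hg, hρg, ⟨?_, ?_⟩, hpt⟩
  · -- versality
    intro B A μ hμ ψ' y hy
    obtain ⟨χ, hχ1, hχ2⟩ := hξ μ hμ ⟨ψ'.1.comp ρ, by rw [← AlgHom.comp_assoc, ψ'.2, hρ]⟩ y hy
    refine ⟨⟨χ.1.comp g, by rw [← AlgHom.comp_assoc, χ.2, hg]⟩, ?_, ?_⟩
    · apply Subtype.ext
      apply AlgHom.ext
      intro x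
      have := congrArg (fun t : HomSet R.carrier R.res A => t.1 (g x)) hχ1
      change μ (χ.1 (g x)) = ψ'.1 (ρ (g x)) at this
      rw [hρg] at this
      exact this
    · rw [← hχ2]
      exact hpt B χ
  · -- minimality
    intro R'' u'' f hf hpush
    have hvers' : IsVersal (ξ.along ρ hρ) := by
      intro B A μ hμ ψ' y hy
      obtain ⟨χ, hχ1, hχ2⟩ := hξ μ hμ ⟨ψ'.1.comp ρ, by rw [← AlgHom.comp_assoc, ψ'.2, hρ]⟩ y hy
      refine ⟨⟨χ.1.comp g, by rw [← AlgHom.comp_assoc, χ.2, hg]⟩, ?_, ?_⟩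
      · apply Subtype.ext
        apply AlgHom.ext
        intro x
        have := congrArg (fun t : HomSet R.carrier R.res A => t.1 (g x)) hχ1
        change μ (χ.1 (g x)) = ψ'.1 (ρ (g x)) at this
        rw [hρg] at this
        exact this
      · rw [← hχ2]
        exact hpt B χ
    obtain ⟨h, hh, hhf⟩ := exists_along_toFormalElt h0 R' (ξ.along ρ hρ) hvers' R'' u''
    let φ' : R'.carrier →ₐ[Λ] R'.carrier := f.comp h
    have hφ' : R'.res.comp φ' = R'.res := by
      rw [← AlgHom.comp_assoc, hf, hh]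
    have hformal : (((ξ.along ρ hρ).along h hh).along f hf).toFormalElt =
        (ξ.along ρ hρ).toFormalElt := by
      rw [← Groth.Agent.H15.ArtMin.push_toFormalElt, hhf, hpush]
    have hinv' : ∀ (A : Art Λ k) (χ χ' : HomSet R'.carrier R'.res A),
        (∀ a, χ'.1 a = χ.1 (φ' a)) → (ξ.along ρ hρ).app A χ' = (ξ.along ρ hρ).app A χ := by
      intro A χ χ' hχ'
      have h1 := family_ext_of_formal R' _ _ hformal A χ
      rw [← h1]
      change (ξ.along ρ hρ).app A χ' = (ξ.along ρ hρ).app A _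
      congr 1
      apply Subtype.ext
      apply AlgHom.ext
      intro a
      exact hχ' a
    obtain ⟨e', he'res, he'idem, he'inv, he'ker, he'surj⟩ :=
      exists_fitting_idem R' φ' hφ' (ξ.along ρ hρ) hinv'
    -- the induced idempotent of R
    let e : R.carrier →ₐ[Λ] R.carrier := g.comp (e'.comp ρ)
    have hea : ∀ a, e a = g (e' (ρ a)) := fun a => rfl
    have heS : RingHom.ker (e : R.carrier →+* R.carrier) ∈ 𝓢 := by
      refine ⟨e, ?_, ?_, ?_, rfl⟩
      · rw [← AlgHom.comp_assoc, hg, ← AlgHom.comp_assoc, he'res, hρ]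
      · intro a
        rw [hea, hea, hρg, he'idem]
      · intro A χ χ' hχ'
        have h1 := hpt A χ
        have h2 := hpt A χ'
        rw [← h1, ← h2]
        refine he'inv A _ _ ?_
        intro x
        change χ'.1 (g x) = χ.1 (g (e' x))
        rw [hχ', hea, hρg]
    have hle : RingHom.ker (e₀ : R.carrier →+* R.carrier) ≤ RingHom.ker (e : R.carrier →+* R.carrier) := by
      intro a ha
      have h1 : ρ a = 0 := (hρ0 a).2 ha
      change e a = 0
      rw [hea, h1, map_zero, map_zero]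
    have heq : RingHom.ker (e₀ : R.carrier →+* R.carrier) = RingHom.ker (e : R.carrier →+* R.carrier) :=
      eq_of_le_of_not_lt hle (hmax _ heS)
    have he'inj : ∀ x, e' x = 0 → x = 0 := by
      intro x hx
      obtain ⟨a, rfl⟩ := hρs x
      have h1 : e a = 0 := by rw [hea, hx, map_zero]
      have h2 : a ∈ RingHom.ker (e₀ : R.carrier →+* R.carrier) := by
        rw [heq]
        exact h1
      exact (hρ0 a).2 h2
    have he'id : ∀ x, e' x = x := by
      intro x
      have := he'inj (e' x - x) (by rw [map_sub, he'idem, sub_self])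
      exact sub_eq_zero.1 this
    have hφ's : Function.Surjective φ' := he'surj he'id
    intro x
    obtain ⟨y, hy⟩ := hφ's x
    exact ⟨h y, hy⟩

end Groth.Agent.H15.ArtFit3
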