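import Mathlib
import Groth.Agent.H15.ArtFit3

universe u v

open CategoryTheory

namespace Groth.Agent.H15.ArtFit4

open ArtFun ArtFun.Art IsLocalRing Groth.Agent.H15.ArtFit Groth.Agent.H15.ArtFit2
  Groth.Agent.H15.ArtFit3
  Groth.Agent.H15.ArtFormal Groth.Agent.H15.ArtFormal2 Groth.Agent.H15.ArtTrim
  Groth.Agent.H15.ArtHR Groth.Agent.H15.PSArt Groth.Agent.H15.PSArt2 Groth.Agent.H15.PSArt4

variable {Λ : Type u} {k : Type u} [CommRing Λ] [Field k] [Algebra Λ k]
  [IsNoetherianRing Λ] [Module.Finite Λ k] {F : Art Λ k ⥤ Type v}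

theorem versal_structure (h0 : H0 F) (V : VersalPair F) :
    ∃ (R' : CRing Λ k) (ξ' : Family R'.carrier R'.res F), ξ'.IsMinimalVersal ∧
      ∃ (g : R'.carrier →ₐ[Λ] V.ring.carrier) (hg : V.ring.res.comp g = R'.res)
        (n : ℕ) (e : V.ring.carrier ≃ₐ[Λ] MvPowerSeries (Fin n) R'.carrier),
        (∀ a : R'.carrier, e (g a) = algebraMap R'.carrier (MvPowerSeries (Fin n) R'.carrier) a) ∧
        (ξ'.along g hg).toFormalElt = V.family.toFormalElt := by
  obtain ⟨R', ρ, hρ, g, hg, hρg, hmin, hpt⟩ := exists_minimal_retract h0 V.ring V.family V.versal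
  refine ⟨R', V.family.along ρ hρ, hmin, g, hg, ?_⟩
  letI : Algebra R'.carrier V.ring.carrier := g.toRingHom.toAlgebra
  haveI : IsScalarTower Λ R'.carrier V.ring.carrier :=
    IsScalarTower.of_algebraMap_eq (fun l => (g.commutes l).symm)
  have hga : ∀ a, algebraMap R'.carrier V.ring.carrier a = g a := fun a => rfl
  have hRS : V.ring.res.comp (IsScalarTower.toAlgHom Λ R'.carrier V.ring.carrier) = R'.res := by
    apply AlgHom.ext
    intro a
    exact DFunLike.congr_fun hg a
  have hRSS : ∀ (P : Type u) [CommRing P] [Algebra Λ P] (resP : P →ₐ[Λ] k),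
      (∀ ⦃B A A' A'' : Art Λ k⦄ (p' : B ⟶ A') (p'' : B ⟶ A'') (f' : A' ⟶ A) (f'' : A'' ⟶ A)
        (h : IsFibreProd p' p'' f' f''), Function.Surjective f'' →
          Function.Bijective (cmp (hR P resP) h)) :=
    fun P _ _ resP _ _ _ _ p' p'' f' f'' h _ => isLeftExact_hR P resP p' p'' f' f'' h
  have hv : IsVersal ((Family.self R'.carrier R'.res).along
      (IsScalarTower.toAlgHom Λ R'.carrier V.ring.carrier) hRS) := by
    rw [isVersal_iff_isSmooth]
    rw [Groth.Agent.S12742.result (h0_hR _ _) (hRSS _ _) (h0_hR _ _) (hRSS _ _)]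
    constructor
    · intro τ'
      refine ⟨(⟨(τ' : HomSet R'.carrier R'.res (dual Λ k)).1.comp ρ, by
        rw [← AlgHom.comp_assoc, (τ' : HomSet R'.carrier R'.res (dual Λ k)).2, hρ]⟩ :
          HomSet V.ring.carrier V.ring.res (dual Λ k)), ?_⟩
      apply Subtype.ext
      apply AlgHom.ext
      intro x
      change (τ' : HomSet R'.carrier R'.res (dual Λ k)).1 (ρ (g x)) = _
      rw [hρg]
    · rintro A' A μ hμ x ⟨y', hy'⟩
      obtain ⟨y'', hy''⟩ : ∃ y'' : HomSet R'.carrier R'.res A', y'' = y' := ⟨y', rfl⟩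
      have key : F.map μ ((V.family.along ρ hρ).app A' y'') = V.family.app A x := by
        refine ((V.family.along ρ hρ).natural μ y'').symm.trans ?_
        rw [← hpt A x, hy'']
        change (V.family.along ρ hρ).app A _ = (V.family.along ρ hρ).app A _
        congr 1
      obtain ⟨x', hx'1, _⟩ := V.versal μ hμ.1 x ((V.family.along ρ hρ).app A' y'') key
      exact ⟨x', hx'1⟩
  obtain ⟨n, ⟨e⟩⟩ := equiv_of_versal R' V.ring hRS hv
  refine ⟨n, e.restrictScalars Λ, ?_, ?_⟩
  · intro a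
    exact e.commutes a
  · apply FormalElt.ext'
    intro j
    exact hpt _ _

end Groth.Agent.H15.ArtFit4
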