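import Mathlib
import Groth.Agent.H15.ArtInd

universe u v

open CategoryTheory Polynomial

namespace Groth.Agent.H15.ArtHensel

open ArtFun ArtFun.Art IsLocalRing Groth.Agent.H15.ArtEps Groth.Agent.H15.ArtInd

variable {Λ : Type u} {k : Type u} [CommRing Λ] [Field k] [Algebra Λ k]

/-- Simple roots in the residue field lift uniquely to an Artinian local algebra. -/
theorem exists_unique_root (B : Art Λ k) (G : Λ[X]) (hG : G.Monic) (θ : k)
    (h0 : aeval θ G = 0) (h1 : aeval θ (derivative G) ≠ 0) :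
    ∃ b : B, aeval b G = 0 ∧ B.res b = θ ∧ ∀ b' : B, aeval b' G = 0 → B.res b' = θ → b' = b := by
  obtain ⟨a₀, ha₀⟩ := B.res_surjective θ
  have hres : ∀ (P : Λ[X]) (b : B), B.res (aeval b P) = aeval (B.res b) P := fun P b =>
    (Polynomial.aeval_algHom_apply B.res b P).symm
  have hunit : ∀ b : B, B.res b ≠ 0 → IsUnit b := fun b hb => by
    by_contra h
    exact hb ((Art.mem_maximalIdeal_iff B b).1 ((mem_maximalIdeal b).2 h))
  obtain ⟨f, hf⟩ : ∃ f : B.carrier[X], f = G.map (algebraMap Λ B) := ⟨_, rfl⟩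
  have hfm : f.Monic := hf ▸ hG.map _
  have hev : ∀ b : B, f.eval b = aeval b G := fun b => by
    rw [hf, Polynomial.eval_map, Polynomial.aeval_def]
  have hev' : ∀ b : B, (derivative f).eval b = aeval b (derivative G) := fun b => by
    rw [hf, Polynomial.derivative_map, Polynomial.eval_map, Polynomial.aeval_def]
  have hHens : HenselianRing B.carrier (maximalIdeal B.carrier) := inferInstance
  obtain ⟨a, ha1, ha2⟩ := hHens.is_henselian f hfm a₀
    (by rw [hev, Art.mem_maximalIdeal_iff, hres, ha₀, h0])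
    (by
      apply IsUnit.map
      rw [hev']
      apply hunit
      rw [hres, ha₀]
      exact h1)
  have hra : B.res a = θ := by
    have := (Art.mem_maximalIdeal_iff B _).1 ha2
    rw [map_sub, ha₀, sub_eq_zero] at this
    exact this
  have haG : aeval a G = 0 := by rw [← hev]; exact ha1
  refine ⟨a, haG, hra, fun b' hb' hrb' => ?_⟩
  obtain ⟨c, hc⟩ := Polynomial.binomExpansion f a (b' - a)
  rw [add_sub_cancel, hev, hev, hev', hb', haG, zero_add] at hc
  have hy : B.res (b' - a) = 0 := by rw [map_sub, hrb', hra, sub_self]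
  have hu : IsUnit (aeval a (derivative G) + c * (b' - a)) := by
    apply hunit
    rw [map_add, map_mul, hy, mul_zero, add_zero, hres, hra]
    exact h1
  have h2 : (aeval a (derivative G) + c * (b' - a)) * (b' - a) = 0 := by
    rw [add_mul, mul_assoc, ← pow_two]
    exact hc.symm
  have h3 := (hu.mul_right_eq_zero).1 h2
  exact sub_eq_zero.1 h3

/-- Every element of `k` is a simple root of a monic polynomial over `Λ`, when `k` is separable over
the image of `Λ`. -/
theorem exists_poly [Algebra.IsSeparable (↥(algebraMap Λ k).range) k] (θ : k) :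
    ∃ G : Λ[X], G.Monic ∧ aeval θ G = 0 ∧ aeval θ (derivative G) ≠ 0 := by
  have hsep : IsSeparable (↥(algebraMap Λ k).range) θ := Algebra.IsSeparable.isSeparable _ θ
  have hint : IsIntegral (↥(algebraMap Λ k).range) θ := hsep.isIntegral
  obtain ⟨g, hg⟩ : ∃ g : (↥(algebraMap Λ k).range)[X], g = minpoly (↥(algebraMap Λ k).range) θ :=
    ⟨_, rfl⟩
  have hgm : g.Monic := hg ▸ minpoly.monic hint
  have hgs : g.Separable := hg ▸ hsep
  have hg0 : aeval θ g = 0 := hg ▸ minpoly.aeval _ θ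
  have hsurj : Function.Surjective (algebraMap Λ k).rangeRestrict :=
    (algebraMap Λ k).rangeRestrict_surjective
  have hlift : g ∈ Polynomial.lifts (algebraMap Λ k).rangeRestrict := by
    rw [Polynomial.mem_lifts]
    exact Polynomial.map_surjective _ hsurj g
  obtain ⟨G, hGmap, _, hGm⟩ := Polynomial.lifts_and_natDegree_eq_and_monic hlift hgm
  have hcomp : (algebraMap (↥(algebraMap Λ k).range) k).comp (algebraMap Λ k).rangeRestrict =
      algebraMap Λ k := RingHom.ext fun _ => rfl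
  have hae : ∀ P : Λ[X], aeval θ P = aeval θ (P.map (algebraMap Λ k).rangeRestrict) := by
    intro P
    rw [Polynomial.aeval_def, Polynomial.aeval_def, Polynomial.eval₂_map, hcomp]
  refine ⟨G, hGm, ?_, ?_⟩
  · rw [hae, hGmap]
    exact hg0
  · rw [hae, ← Polynomial.derivative_map, hGmap]
    exact hgs.aeval_derivative_ne_zero hg0

/-- Fibre products exist when `k` is separable over the image of `Λ`. -/
theorem exists_isFibreProd_of_isSeparable [IsNoetherianRing Λ] [Module.Finite Λ k]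
    [Algebra.IsSeparable (↥(algebraMap Λ k).range) k] {A A₁ A₂ : Art Λ k}
    (f₁ : A₁ ⟶ A) (f₂ : A₂ ⟶ A) :
    ∃ (B : Art Λ k) (p₁ : B ⟶ A₁) (p₂ : B ⟶ A₂), IsFibreProd p₁ p₂ f₁ f₂ := by
  have : IsLocalHom f₂.toAlgHom := Art.isLocalHom f₂
  let Bs : Subalgebra Λ (A₁ × A₂) := AlgHom.pullback f₁.toAlgHom f₂.toAlgHom
  have : IsLocalRing Bs := AlgHom.isLocalRing_pullback f₁.toAlgHom f₂.toAlgHom
  have := finite_Λ A₁
  have := finite_Λ A₂
  have : IsNoetherian Λ (A₁ × A₂) := inferInstance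
  have : IsNoetherian Λ Bs := isNoetherian_of_injective Bs.val.toLinearMap Subtype.val_injective
  have : IsNoetherianRing Bs := isNoetherian_of_tower Λ (inferInstance : IsNoetherian Λ Bs)
  have hres : ∀ x : Bs, A₁.res (x : A₁ × A₂).1 = A₂.res (x : A₁ × A₂).2 := fun x => by
    rw [← res_app f₁, ← res_app f₂]
    exact congrArg A.res x.2
  have hmem : ∀ x : Bs, x ∈ maximalIdeal Bs →
      (x : A₁ × A₂).1 ∈ maximalIdeal A₁ ∧ (x : A₁ × A₂).2 ∈ maximalIdeal A₂ := by
    intro x hx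
    by_contra hcon
    apply (mem_maximalIdeal x).1 hx
    have h1 : A₁.res (x : A₁ × A₂).1 ≠ 0 := by
      intro h0
      apply hcon
      exact ⟨(mem_maximalIdeal_iff A₁ _).2 h0, (mem_maximalIdeal_iff A₂ _).2 ((hres x).symm.trans h0)⟩
    have hu1 : IsUnit (x : A₁ × A₂).1 := by
      by_contra h
      exact h1 ((mem_maximalIdeal_iff A₁ _).1 ((mem_maximalIdeal _).2 h))
    have hu2 : IsUnit (x : A₁ × A₂).2 := by
      by_contra h
      exact h1 ((hres x).trans ((mem_maximalIdeal_iff A₂ _).1 ((mem_maximalIdeal _).2 h)))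
    exact (AlgHom.isUnit_pullback_mk_iff f₁.toAlgHom f₂.toAlgHom x.2).2 ⟨hu1, hu2⟩
  have hnil : IsNilpotent (maximalIdeal Bs) := by
    obtain ⟨N₁, h₁⟩ := maximalIdeal_nilpotent A₁
    obtain ⟨N₂, h₂⟩ := maximalIdeal_nilpotent A₂
    refine ⟨N₁ + N₂, ?_⟩
    rw [Ideal.zero_eq_bot, eq_bot_iff]
    let π₁ : Bs →+* A₁ := (AlgHom.pullbackFst f₁.toAlgHom f₂.toAlgHom).toRingHom
    let π₂ : Bs →+* A₂ := (AlgHom.pullbackSnd f₁.toAlgHom f₂.toAlgHom).toRingHom
    have e₁ : (maximalIdeal Bs).map π₁ ≤ maximalIdeal A₁ :=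
      Ideal.map_le_iff_le_comap.2 fun x hx => (hmem x hx).1
    have e₂ : (maximalIdeal Bs).map π₂ ≤ maximalIdeal A₂ :=
      Ideal.map_le_iff_le_comap.2 fun x hx => (hmem x hx).2
    intro x hx
    have hx1 : π₁ x = 0 := by
      have h3 : π₁ x ∈ (maximalIdeal Bs ^ N₁).map π₁ :=
        Ideal.mem_map_of_mem _ (Ideal.pow_le_pow_right (Nat.le_add_right N₁ N₂) hx)
      rw [Ideal.map_pow] at h3
      have h4 := Ideal.pow_right_mono e₁ N₁ h3
      rw [h₁] at h4
      exact h4
    have hx2 : π₂ x = 0 := by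
      have h3 : π₂ x ∈ (maximalIdeal Bs ^ N₂).map π₂ :=
        Ideal.mem_map_of_mem _ (Ideal.pow_le_pow_right (Nat.le_add_left N₂ N₁) hx)
      rw [Ideal.map_pow] at h3
      have h4 := Ideal.pow_right_mono e₂ N₂ h3
      rw [h₂] at h4
      exact h4
    rw [Ideal.mem_bot]
    exact Subtype.ext (Prod.ext hx1 hx2)
  have : IsArtinianRing Bs := (isArtinianRing_iff_isNilpotent_maximalIdeal Bs).2 hnil
  let resB : Bs →ₐ[Λ] k := A₁.res.comp (AlgHom.pullbackFst f₁.toAlgHom f₂.toAlgHom)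
  have hresB : Function.Surjective resB := by
    intro θ
    obtain ⟨G, hGm, hG0, hG1⟩ := exists_poly (Λ := Λ) θ
    obtain ⟨a₁, ha₁, hr₁, _⟩ := exists_unique_root A₁ G hGm θ hG0 hG1
    obtain ⟨a₂, ha₂, hr₂, _⟩ := exists_unique_root A₂ G hGm θ hG0 hG1
    obtain ⟨a, _, _, hau⟩ := exists_unique_root A G hGm θ hG0 hG1
    have e1 : f₁ a₁ = a := by
      apply hau
      · change aeval (f₁.toAlgHom a₁) G = 0
        rw [Polynomial.aeval_algHom_apply, ha₁, map_zero]
      · rw [res_app f₁, hr₁]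
    have e2 : f₂ a₂ = a := by
      apply hau
      · change aeval (f₂.toAlgHom a₂) G = 0
        rw [Polynomial.aeval_algHom_apply, ha₂, map_zero]
      · rw [res_app f₂, hr₂]
    exact ⟨⟨(a₁, a₂), e1.trans e2.symm⟩, hr₁⟩
  let B : Art Λ k := Art.of Bs resB hresB
  let p₁ : B ⟶ A₁ := ⟨AlgHom.pullbackFst f₁.toAlgHom f₂.toAlgHom, rfl⟩
  let p₂ : B ⟶ A₂ := ⟨AlgHom.pullbackSnd f₁.toAlgHom f₂.toAlgHom, AlgHom.ext fun x => (hres x).symm⟩
  refine ⟨B, p₁, p₂, ⟨?_, ?_, ?_⟩⟩
  · exact hom_ext (AlgHom.pullback_comm_sq f₁.toAlgHom f₂.toAlgHom)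
  · intro b₁ b₂ h1 h2
    exact Subtype.ext (Prod.ext h1 h2)
  · intro a' a'' h
    exact ⟨⟨(a', a''), h⟩, rfl, rfl⟩

end Groth.Agent.H15.ArtHensel
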