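import Mathlib
import Groth.Agent.H15.ArtHullK
import Groth.Agent.H15.ArtMin
import Groth.Agent.H15.ArtEndo

universe u v

open CategoryTheory

namespace Groth.Agent.H15.ArtMinV

open ArtFun ArtFun.Art IsLocalRing Groth.Agent.H15.ArtEps Groth.Agent.H15.ArtSmooth
  Groth.Agent.H15.ArtInd Groth.Agent.H15.ArtHR Groth.Agent.H15.ArtFunA Groth.Agent.H15.ArtFormal
  Groth.Agent.H15.ArtTrim Groth.Agent.H15.ArtHullK

variable {Λ : Type u} {k : Type u} [CommRing Λ] [Field k] [Algebra Λ k]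

variable {F : Art Λ k ⥤ Type v}

/-- If the family is versal for maps killing `𝔞`, the induced family on `R/𝔞` is versal. -/
theorem isVersal_along_of_vk (R : CRing Λ k) (ξ : Family R.carrier R.res F) (𝔞 : Ideal R.carrier)
    (h𝔞 : 𝔞 ≤ maximalIdeal R.carrier) (hV : VK ξ 𝔞) :
    IsVersal (ξ.along (quotCRingMk R 𝔞 h𝔞) (quotCRingMk_res R 𝔞 h𝔞)) := by
  let π := quotCRingMk R 𝔞 h𝔞
  have hπ := quotCRingMk_res R 𝔞 h𝔞
  have hπs := quotCRingMk_surjective R 𝔞 h𝔞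
  have hkill : ∀ {A : Art Λ k} (φ' : HomSet (quotCRing R 𝔞 h𝔞).carrier (quotCRing R 𝔞 h𝔞).res A),
      Kills 𝔞 (⟨φ'.1.comp π, by rw [← AlgHom.comp_assoc, φ'.2, hπ]⟩ : HomSet R.carrier R.res A) := by
    intro A φ' a ha
    have hz : (Ideal.Quotient.mk 𝔞 a : R.carrier ⧸ 𝔞) = 0 := Ideal.Quotient.eq_zero_iff_mem.2 ha
    exact (congrArg φ'.1 hz).trans (map_zero _)
  apply isVersal_of_small
  intro B A μ hμ φ' y hy
  obtain ⟨ψ, hψk, hψφ, hψy⟩ := hV μ hμ ⟨φ'.1.comp π, by rw [← AlgHom.comp_assoc, φ'.2, hπ]⟩ y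
    (hkill φ') hy
  obtain ⟨ψ', hψ'⟩ := exists_descend R 𝔞 h𝔞 ψ hψk
  refine ⟨ψ', ?_, ?_⟩
  · apply Subtype.ext
    apply AlgHom.ext
    intro z
    obtain ⟨a, rfl⟩ := hπs z
    have e1 : ψ'.1 (π a) = ψ.1 a := DFunLike.congr_fun hψ' a
    change μ (ψ'.1 (π a)) = φ'.1 (π a)
    rw [e1]
    exact congrArg (fun w : HomSet R.carrier R.res A => w.1 a) hψφ
  · change ξ.app B ⟨ψ'.1.comp π, _⟩ = y
    rw [← hψy]
    congr 1
    exact Subtype.ext hψ'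

/-- A minimal versal family is miniversal when `k` has no `Λ`-derivations. -/
theorem miniversal_of_minimal (hk : Subsingleton (Derivation Λ k k)) (h0 : H0 F) (h2 : Heps F)
    {R : CRing Λ k} (ξ : Family R.carrier R.res F) (hξ : ξ.IsMinimalVersal) : IsMiniversal ξ := by
  refine ⟨hξ.1, ?_, surj_of_versal h0 ξ hξ.1 _⟩
  intro D₁ D₂ hD
  by_contra hne
  have hex : ∃ x, R.res x = 0 ∧ dcoef D₁ x ≠ dcoef D₂ x := by
    by_contra hall
    push Not at hall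
    exact hne (eq_of_dcoef_eq hk R.res_surjective D₁ D₂ hall)
  obtain ⟨x, hx0, hx⟩ := hex
  have hxm : x ∈ maximalIdeal R.carrier := (R.mem_maximalIdeal_iff x).2 hx0
  have hkb : ∀ D : HomSet R.carrier R.res (dual Λ k), Kills (⊥ : Ideal R.carrier) D :=
    fun D a ha => by rw [(Ideal.mem_bot).1 ha, map_zero]
  have hV : VK ξ (⊥ ⊔ Ideal.span {x}) :=
    step h2 ⊥ (vk_bot hξ.1) D₁ D₂ (hkb D₁) (hkb D₂) hD x hx
  obtain ⟨𝔞, h𝔞def⟩ : ∃ 𝔞 : Ideal R.carrier, 𝔞 = ⊥ ⊔ Ideal.span {x} := ⟨_, rfl⟩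
  rw [← h𝔞def] at hV
  have hx𝔞 : x ∈ 𝔞 := h𝔞def ▸ Submodule.mem_sup_right (Ideal.subset_span rfl)
  have h𝔞 : 𝔞 ≤ maximalIdeal R.carrier :=
    h𝔞def ▸ sup_le bot_le ((Ideal.span_singleton_le_iff_mem _).2 hxm)
  have hvers := isVersal_along_of_vk R ξ 𝔞 h𝔞 hV
  obtain ⟨g, hg, hgη⟩ := exists_along_toFormalElt h0 (quotCRing R 𝔞 h𝔞) _ hvers R ξ.toFormalElt
  have hpush : (ξ.along (quotCRingMk R 𝔞 h𝔞) (quotCRingMk_res R 𝔞 h𝔞)).toFormalElt.push g hg =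
      ξ.toFormalElt := by
    rw [ArtMin.push_toFormalElt, hgη]
  have hgs : Function.Surjective g := hξ.2 _ _ g hg hpush
  have hπs := quotCRingMk_surjective R 𝔞 h𝔞
  have hinj : Function.Injective ((quotCRingMk R 𝔞 h𝔞).comp g) :=
    ArtEndo.ringHom_injective_of_surjective
      (((quotCRingMk R 𝔞 h𝔞).comp g : (quotCRing R 𝔞 h𝔞).carrier →ₐ[Λ] (quotCRing R 𝔞 h𝔞).carrier) :
        (quotCRing R 𝔞 h𝔞).carrier →+* (quotCRing R 𝔞 h𝔞).carrier) (hπs.comp hgs)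
  obtain ⟨y, rfl⟩ := hgs x
  have h1 : (quotCRingMk R 𝔞 h𝔞) (g y) = 0 := Ideal.Quotient.eq_zero_iff_mem.2 hx𝔞
  have hy : y = 0 := hinj (h1.trans (map_zero _).symm)
  apply hx
  rw [hy, map_zero]
  unfold dcoef
  rw [map_zero, map_zero]

end Groth.Agent.H15.ArtMinV
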