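import Mathlib
import Groth.Agent.H15.ArtHullK
import Groth.Agent.H15.ArtDer

universe u v w₁ w₂

open CategoryTheory

namespace Groth.Agent.H15.ArtProrep

open ArtFun ArtFun.Art IsLocalRing Groth.Agent.H15.ArtEps Groth.Agent.H15.ArtSmooth
  Groth.Agent.H15.ArtInd Groth.Agent.H15.ArtHR Groth.Agent.H15.ArtFunA Groth.Agent.H15.ArtFormal
  Groth.Agent.H15.ArtTrim Groth.Agent.H15.ArtHullK

variable {Λ : Type u} {k : Type u} [CommRing Λ] [Field k] [Algebra Λ k]

section Raw

variable {G : Art Λ k ⥤ Type w₁} {H : Art Λ k ⥤ Type w₂}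
  (app : ∀ A : Art Λ k, G.obj A → H.obj A)
  (nat : ∀ {A B : Art Λ k} (f : A ⟶ B) (x : G.obj A), app B (G.map f x) = H.map f (app A x))

include nat in
/-- key uniqueness step along a small extension (two-universe version) -/
theorem key_step' (hGS1 : S1 G) (hGeps : Heps G)
    (hH : ∀ ⦃B A A' A'' : Art Λ k⦄ (p' : B ⟶ A') (p'' : B ⟶ A'') (f' : A' ⟶ A) (f'' : A'' ⟶ A)
      (h : IsFibreProd p' p'' f' f''), Function.Surjective f'' → Function.Injective (cmp H h))
    (hψ : Function.Injective (app (dual Λ k)))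
    {A A₀ : Art Λ k} (π : A ⟶ A₀) (hπ : Function.Surjective π) (t : A)
    (ht' : t ∈ IsLocalRing.maximalIdeal A)
    (ht : ∀ a ∈ IsLocalRing.maximalIdeal A, a * t = 0) (ht0 : t ≠ 0)
    (hker : RingHom.ker π.toAlgHom = Ideal.span {t})
    (y₁ y₂ : G.obj A) (h1 : G.map π y₁ = G.map π y₂) (h2 : app A y₁ = app A y₂) : y₁ = y₂ := by
  have fp1 := isFibreProd_eps A
  have fp2 := isFibreProd_σ π t ht' ht ht0 hker
  obtain ⟨w, hw⟩ := hGS1 _ _ _ _ fp2 hπ ⟨(y₁, y₂), h1⟩
  have hw1 : G.map (p₁ A) w = y₁ := congrArg (fun z => z.1.1) hw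
  have hw2 : G.map (σ t ht' ht) w = y₂ := congrArg (fun z => z.1.2) hw
  have hz : app _ w = H.map (ι A) (app A y₁) := by
    apply hH _ _ _ _ fp2 hπ
    apply FibProd.ext
    · change H.map (p₁ A) (app _ w) = H.map (p₁ A) (H.map (ι A) (app A y₁))
      rw [← nat, hw1, ← Functor.map_comp_apply, ι_p₁, Functor.map_id_apply]
    · change H.map (σ t ht' ht) (app _ w) = H.map (σ t ht' ht) (H.map (ι A) (app A y₁))
      rw [← nat, hw2, ← h2, ← Functor.map_comp_apply, ι_σ, Functor.map_id_apply]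
  have hv : G.map (p₂ A) w = G.map (p₂ A) (G.map (ι A) y₁) := by
    apply hψ
    rw [nat, nat, nat, hz]
  have hww : w = G.map (ι A) y₁ := by
    apply (hGeps _ _ fp1).1
    apply FibProd.ext
    · change G.map (p₁ A) w = G.map (p₁ A) (G.map (ι A) y₁)
      rw [hw1, ← Functor.map_comp_apply, ι_p₁, Functor.map_id_apply]
    · exact hv
  rw [← hw2, hww, ← Functor.map_comp_apply, ι_σ, Functor.map_id_apply]

include nat in
/-- `G(B) → G(A) ×_{H(A)} H(B)` is injective for every surjection (two-universe version). -/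
theorem inj_of_surj' (hGS1 : S1 G) (hGeps : Heps G)
    (hH : ∀ ⦃B A A' A'' : Art Λ k⦄ (p' : B ⟶ A') (p'' : B ⟶ A'') (f' : A' ⟶ A) (f'' : A'' ⟶ A)
      (h : IsFibreProd p' p'' f' f''), Function.Surjective f'' → Function.Injective (cmp H h))
    (hψ : Function.Injective (app (dual Λ k)))
    {B A : Art Λ k} (μ : B ⟶ A) (hμ : Function.Surjective μ)
    (y₁ y₂ : G.obj B) (h1 : G.map μ y₁ = G.map μ y₂) (h2 : app B y₁ = app B y₂) : y₁ = y₂ := by
  let P : Ideal B → Prop := fun I => ∀ (A : Art Λ k) (μ : B ⟶ A), Function.Surjective μ →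
    RingHom.ker μ.toAlgHom = I → ∀ y₁ y₂ : G.obj B, G.map μ y₁ = G.map μ y₂ →
      app B y₁ = app B y₂ → y₁ = y₂
  have hP : ∀ I : Ideal B, I ≤ IsLocalRing.maximalIdeal B → P I := by
    apply ideal_induction B P
    · intro A μ hμ hker y₁ y₂ h1 _
      have hinj : Function.Injective μ := (RingHom.injective_iff_ker_eq_bot μ.toAlgHom).2 hker
      obtain ⟨ν, hν, _⟩ := exists_inv_of_bijective μ ⟨hinj, hμ⟩
      have := congrArg (G.map ν) h1
      rwa [← Functor.map_comp_apply, ← Functor.map_comp_apply, hν,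
        Functor.map_id_apply, Functor.map_id_apply] at this
    · intro J x hPJ hxJ hxm hmx A' μ' hμ' hker y₁ y₂ h1 h2
      have hJker : J ≤ RingHom.ker μ'.toAlgHom := hker ▸ le_sup_left
      have hJm : J ≤ IsLocalRing.maximalIdeal B := hJker.trans (ker_le_maximalIdeal μ')
      have hqπ : quotMk B J hJm ≫ quotFactor hJm μ' hJker = μ' := quotMk_quotFactor hJm μ' hJker
      have hπsurj : Function.Surjective (quotFactor hJm μ' hJker) := fun a' => by
        obtain ⟨b, rfl⟩ := hμ' a'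
        exact ⟨quotMk B J hJm b, rfl⟩
      have ht0 : quotMk B J hJm x ≠ 0 := fun h => hxJ (Ideal.Quotient.eq_zero_iff_mem.1 h)
      have ht' : quotMk B J hJm x ∈ IsLocalRing.maximalIdeal (quot B J hJm) := by
        rw [mem_maximalIdeal_iff, res_app]
        exact (mem_maximalIdeal_iff B x).1 hxm
      have ht : ∀ a ∈ IsLocalRing.maximalIdeal (quot B J hJm), a * quotMk B J hJm x = 0 := by
        intro a ha
        obtain ⟨b, rfl⟩ := quotMk_surjective B J hJm a
        have hb : b ∈ IsLocalRing.maximalIdeal B := by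
          rw [mem_maximalIdeal_iff] at ha ⊢
          rw [← res_app (quotMk B J hJm) b]
          exact ha
        change Ideal.Quotient.mk J b * Ideal.Quotient.mk J x = 0
        rw [← map_mul]
        exact Ideal.Quotient.eq_zero_iff_mem.2 (hmx b hb)
      have hkerπ : RingHom.ker (quotFactor hJm μ' hJker).toAlgHom = Ideal.span {quotMk B J hJm x} := by
        apply le_antisymm
        · intro a ha
          obtain ⟨b, rfl⟩ := quotMk_surjective B J hJm a
          have hb : b ∈ RingHom.ker μ'.toAlgHom := by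
            rw [RingHom.mem_ker] at ha ⊢
            rw [← hqπ]
            exact ha
          rw [hker] at hb
          obtain ⟨j, hj, s, hs, rfl⟩ := Submodule.mem_sup.1 hb
          obtain ⟨r, rfl⟩ := Ideal.mem_span_singleton'.1 hs
          have e : quotMk B J hJm (j + r * x) = quotMk B J hJm r * quotMk B J hJm x := by
            change Ideal.Quotient.mk J (j + r * x) = Ideal.Quotient.mk J r * Ideal.Quotient.mk J x
            rw [map_add, map_mul, Ideal.Quotient.eq_zero_iff_mem.2 hj, zero_add]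
          rw [e]
          exact Ideal.mul_mem_left _ _ (Ideal.subset_span rfl)
        · rw [Ideal.span_singleton_le_iff_mem, RingHom.mem_ker]
          have hx : x ∈ RingHom.ker μ'.toAlgHom :=
            hker ▸ (le_sup_right : Ideal.span {x} ≤ J ⊔ Ideal.span {x}) (Ideal.subset_span rfl)
          rw [RingHom.mem_ker] at hx
          change (quotMk B J hJm ≫ quotFactor hJm μ' hJker).toAlgHom x = 0
          rw [hqπ]
          exact hx
      have e := key_step' app nat hGS1 hGeps hH hψ (quotFactor hJm μ' hJker) hπsurj _ ht' ht ht0 hkerπ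
        (G.map (quotMk B J hJm) y₁) (G.map (quotMk B J hJm) y₂)
        (by rw [← Functor.map_comp_apply, ← Functor.map_comp_apply, hqπ, h1])
        (by rw [nat, nat, h2])
      refine hPJ _ (quotMk B J hJm) (quotMk_surjective B J hJm) ?_ y₁ y₂ e h2
      ext b
      rw [RingHom.mem_ker]
      change Ideal.Quotient.mk J b = 0 ↔ b ∈ J
      exact Ideal.Quotient.eq_zero_iff_mem
  exact hP _ (ker_le_maximalIdeal μ) A μ hμ rfl y₁ y₂ h1 h2

end Raw

section Forward

variable {F : Art Λ k ⥤ Type v}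

/-- A functor with a universal family is left exact. -/
theorem leftExact_of_universal {R : Type u} [CommRing R] [Algebra Λ R] {resR : R →ₐ[Λ] k}
    (ξ : Family R resR F) (hu : IsUniversal ξ) : IsLeftExact F := by
  intro B A A' A'' p' p'' f' f'' h
  have hl := isLeftExact_hR R resR p' p'' f' f'' h
  constructor
  · intro z₁ z₂ hz
    obtain ⟨w₁, rfl⟩ := (hu B).2 z₁
    obtain ⟨w₂, rfl⟩ := (hu B).2 z₂
    have h1 : F.map p' (ξ.app B w₁) = F.map p' (ξ.app B w₂) := congrArg (fun z => z.1.1) hz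
    have h2 : F.map p'' (ξ.app B w₁) = F.map p'' (ξ.app B w₂) := congrArg (fun z => z.1.2) hz
    rw [← ξ.natural, ← ξ.natural] at h1 h2
    have e1 := (hu A').1 h1
    have e2 := (hu A'').1 h2
    have : w₁ = w₂ := hl.1 (FibProd.ext e1 e2)
    rw [this]
  · intro x
    obtain ⟨w', hw'⟩ := (hu A').2 x.1.1
    obtain ⟨w'', hw''⟩ := (hu A'').2 x.1.2
    have hc : HomSet.map f' w' = HomSet.map f'' w'' := by
      apply (hu A).1
      rw [ξ.natural, ξ.natural, hw', hw'']
      exact x.2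
    obtain ⟨(w : HomSet R resR B), hw⟩ := hl.2 ⟨(w', w''), hc⟩
    have hw1 : HomSet.map p' w = w' := congrArg (fun z => z.1.1) hw
    have hw2 : HomSet.map p'' w = w'' := congrArg (fun z => z.1.2) hw
    refine ⟨ξ.app B w, ?_⟩
    apply FibProd.ext
    · change F.map p' (ξ.app B w) = x.1.1
      rw [← ξ.natural, hw1, hw']
    · change F.map p'' (ξ.app B w) = x.1.2
      rw [← ξ.natural, hw2, hw'']

/-- Condition (c) for a prorepresentable functor. -/
theorem injective_of_universal (R : CRing Λ k) (ξ : Family R.carrier R.res F) (hu : IsUniversal ξ)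
    (x₀ : F.obj (base Λ k)) :
    Function.Injective (fun σ : base Λ k ⟶ dual Λ k => F.map σ x₀) := by
  intro σ₁ σ₂ h
  obtain ⟨φ₀, rfl⟩ := (hu _).2 x₀
  change F.map σ₁ (ξ.app _ φ₀) = F.map σ₂ (ξ.app _ φ₀) at h
  rw [← ξ.natural, ← ξ.natural] at h
  have e := (hu _).1 h
  apply hom_ext
  apply AlgHom.ext
  intro c
  obtain ⟨r, rfl⟩ := R.res_surjective c
  have hφ : φ₀.1 r = R.res r := DFunLike.congr_fun φ₀.2 r
  have := congrArg (fun z : HomSet R.carrier R.res (dual Λ k) => z.1 r) e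
  change σ₁.toAlgHom (φ₀.1 r) = σ₂.toAlgHom (φ₀.1 r) at this
  rwa [hφ] at this

theorem forward [Module.Finite Λ k] (F : Art Λ k ⥤ Type v) [TangentStr F]
    (h : IsProrepresentable F) :
    (H0 F ∧ IsLeftExact F) ∧ Hfin F ∧
      ∀ x₀ : F.obj (base Λ k),
        Function.Injective (fun σ : base Λ k ⟶ dual Λ k => F.map σ x₀) := by
  obtain ⟨⟨R, ξ, hu⟩⟩ := h
  have h0 : H0 F := H0_of_surj ξ (hu _).2
  refine ⟨⟨h0, leftExact_of_universal ξ hu⟩, ?_, injective_of_universal R ξ hu⟩
  exact (ArtDer.s1_heps_hfin_of_hasHull F h0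
    ⟨⟨R, ξ, ArtSep.isVersal_of_isUniversal ξ hu, hu _⟩⟩).2.2

end Forward

section Backward

variable {R : Type u} [CommRing R] [Algebra Λ R] {resR : R →ₐ[Λ] k}

/-- The difference of two tangent vectors agreeing on the augmentation ideal is a derivation
of `k`. -/
theorem exists_deriv (hs : Function.Surjective resR)
    (D₁ D₂ : HomSet R resR (dual Λ k))
    (h : ∀ x, resR x = 0 → dcoef D₁ x = dcoef D₂ x) :
    ∃ δ : Derivation Λ k k, ∀ r, dcoef D₁ r = dcoef D₂ r + δ (resR r) := by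
  choose s hs' using hs
  have hd0 : ∀ r r' : R, resR r = resR r' → dcoef D₁ r - dcoef D₂ r = dcoef D₁ r' - dcoef D₂ r' := by
    intro r r' hr
    have h0 : resR (r - r') = 0 := by rw [map_sub, hr, sub_self]
    have := h _ h0
    rw [dcoef_sub, dcoef_sub] at this
    linear_combination this
  let δ : Derivation Λ k k :=
    { toFun := fun c => dcoef D₁ (s c) - dcoef D₂ (s c)
      map_add' := fun a b => by
        have e : resR (s (a + b)) = resR (s a + s b) := by rw [map_add, hs', hs', hs']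
        change dcoef D₁ (s (a + b)) - dcoef D₂ (s (a + b)) = _
        rw [hd0 _ _ e, dcoef_add, dcoef_add]
        ring
      map_smul' := fun c a => by
        have e : resR (s (c • a)) = resR (c • s a) := by rw [map_smul, hs', hs']
        change dcoef D₁ (s (c • a)) - dcoef D₂ (s (c • a)) = _
        rw [hd0 _ _ e, dcoef_smul, dcoef_smul, smul_sub]
        rfl
      map_one_eq_zero' := by
        have e : resR (s 1) = resR 1 := by rw [map_one, hs']
        change dcoef D₁ (s 1) - dcoef D₂ (s 1) = 0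
        rw [hd0 _ _ e, dcoef_one, dcoef_one, sub_zero]
      leibniz' := fun a b => by
        have e : resR (s (a * b)) = resR (s a * s b) := by rw [map_mul, hs', hs', hs']
        change dcoef D₁ (s (a * b)) - dcoef D₂ (s (a * b)) = _
        rw [hd0 _ _ e, dcoef_mul, dcoef_mul, hs', hs']
        change _ = a * (dcoef D₁ (s b) - dcoef D₂ (s b)) + b * (dcoef D₁ (s a) - dcoef D₂ (s a))
        ring }
  refine ⟨δ, fun r => ?_⟩
  have e : resR (s (resR r)) = resR r := hs' _
  have h2 : δ (resR r) = dcoef D₁ (s (resR r)) - dcoef D₂ (s (resR r)) := rfl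
  rw [hd0 _ _ e] at h2
  rw [h2]
  ring

/-- The algebra map `k → k[ε]` of a derivation. -/
noncomputable def sigHom (δ : Derivation Λ k k) : k →ₐ[Λ] DualNumber k where
  toFun c := ((c, δ c) : TrivSqZeroExt k k)
  map_one' := TrivSqZeroExt.ext rfl δ.map_one_eq_zero
  map_mul' a b := TrivSqZeroExt.ext rfl (by
    change δ (a * b) = a • δ b + MulOpposite.op b • δ a
    rw [δ.leibniz, op_smul_eq_smul])
  map_zero' := TrivSqZeroExt.ext rfl (map_zero δ)
  map_add' a b := TrivSqZeroExt.ext rfl (map_add δ a b)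
  commutes' c := by
    rw [TrivSqZeroExt.algebraMap_eq_inl']
    exact TrivSqZeroExt.ext rfl (δ.map_algebraMap c)

/-- The morphism `k → k[ε]` of a derivation. -/
noncomputable def sig (δ : Derivation Λ k k) : base Λ k ⟶ dual Λ k :=
  ⟨(sigHom δ : k →ₐ[Λ] DualNumber k), AlgHom.ext fun _ => rfl⟩

lemma sig_snd (δ : Derivation Λ k k) (c : k) :
    TrivSqZeroExt.snd ((sig δ).toAlgHom c : DualNumber k) = δ c := rfl

variable {F : Art Λ k ⥤ Type v}

/-- Condition (c) gives the separation hypothesis of the trimming lemma. -/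
theorem hI_of_c [TangentStr F] (h0 : H0 F)
    (hc : ∀ x₀ : F.obj (base Λ k),
      Function.Injective (fun σ : base Λ k ⟶ dual Λ k => F.map σ x₀))
    (hs : Function.Surjective resR) (ξ : Family R resR F)
    (D₁ D₂ : HomSet R resR (dual Λ k)) (hD : ξ.app _ D₁ = ξ.app _ D₂)
    (hdc : ∀ x, resR x = 0 → dcoef D₁ x = dcoef D₂ x) : D₁ = D₂ := by
  obtain ⟨δ, hδ⟩ := exists_deriv hs D₁ D₂ hdc
  obtain ⟨φ₀, hφ₀⟩ : ∃ φ₀ : HomSet R resR (base Λ k), φ₀ = basePt R resR := ⟨_, rfl⟩
  obtain ⟨x₀, hx₀⟩ : ∃ x₀ : F.obj (base Λ k), x₀ = ξ.app _ φ₀ := ⟨_, rfl⟩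
  obtain ⟨T, hT⟩ : ∃ T : HomSet R resR (dual Λ k), T = HomSet.map (sig δ) φ₀ := ⟨_, rfl⟩
  obtain ⟨w, hw1, hw2⟩ := Groth.Agent.H15.ArtFunA.IsFibreProd.exists_lift
    (isFibreProd_dual2 (Λ := Λ) (k := k)) D₂ T
    (Subsingleton.elim (α := (hR R resR).obj (base Λ k)) _ _)
  have e1 : ∀ r, (TrivSqZeroExt.snd (w.1 r)).1 = dcoef D₂ r := fun r =>
    congrArg (fun t : HomSet R resR (dual Λ k) => TrivSqZeroExt.snd (t.1 r)) hw1
  have e2 : ∀ r, (TrivSqZeroExt.snd (w.1 r)).2 = δ (resR r) := fun r => by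
    have := congrArg (fun t : HomSet R resR (dual Λ k) => TrivSqZeroExt.snd (t.1 r)) hw2
    rw [hT, hφ₀] at this
    exact this
  have e0 : ∀ r, TrivSqZeroExt.fst (w.1 r) = resR r := fun r =>
    (congrArg (fun t : HomSet R resR (dual Λ k) => TrivSqZeroExt.fst (t.1 r)) hw1).trans
      (fst_apply D₂ r)
  have e3 : HomSet.map plus w = D₁ := by
    apply Subtype.ext
    apply AlgHom.ext
    intro r
    apply TrivSqZeroExt.ext
    · exact (e0 r).trans (fst_apply D₁ r).symm
    · change (TrivSqZeroExt.snd (w.1 r)).1 + (TrivSqZeroExt.snd (w.1 r)).2 = dcoef D₁ r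
      rw [e1, e2, hδ]
  have hadd : TangentSpace.mk (ξ.app _ D₁) =
      TangentSpace.mk (ξ.app _ D₂) + TangentSpace.mk (F.map (sig δ) x₀) := by
    have h := TangentStr.add_eq (F := F) (ξ.app (dual2 Λ k) w)
    rw [← ξ.natural, ← ξ.natural, ← ξ.natural, hw1, hw2, e3, hT, ξ.natural, ← hx₀] at h
    exact h.symm
  have hz1 : TangentSpace.mk (F.map (sig δ) x₀) = 0 := by
    rw [hD] at hadd
    exact left_eq_add.1 hadd
  have hz2 : TangentSpace.mk (F.map baseToDual x₀) = 0 := by
    have h := TangentStr.smul_eq (F := F) 0 (ξ.app _ D₁)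
    have hsc : (scale (0 : k) : dual Λ k ⟶ dual Λ k) = toBase (dual Λ k) ≫ baseToDual := by
      apply hom_ext
      apply AlgHom.ext
      intro x
      refine TrivSqZeroExt.ext rfl ?_
      change (0 : k) • TrivSqZeroExt.snd (x : DualNumber k) = 0
      rw [zero_smul]
    rw [hsc, Functor.map_comp_apply,
      @Subsingleton.elim _ h0.2 (F.map (toBase (dual Λ k)) (ξ.app _ D₁)) x₀] at h
    rw [← zero_smul k (TangentSpace.mk (ξ.app _ D₁))]
    exact h.symm
  have hσ : sig δ = baseToDual := hc x₀ (hz1.trans hz2.symm)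
  have hδ0 : ∀ c, δ c = 0 := fun c => by
    have := congrArg (fun σ : base Λ k ⟶ dual Λ k =>
      TrivSqZeroExt.snd (σ.toAlgHom c : DualNumber k)) hσ
    exact this
  apply Subtype.ext
  apply AlgHom.ext
  intro r
  refine TrivSqZeroExt.ext ((fst_apply D₁ r).trans (fst_apply D₂ r).symm) ?_
  have := hδ r
  rw [hδ0, add_zero] at this
  exact this

/-- The criterion: deformation conditions, finite tangent space and condition (c) give
prorepresentability. -/
theorem backward [IsNoetherianRing Λ] [Module.Finite Λ k] (F : Art Λ k ⥤ Type v) [TangentStr F]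
    (h0 : H0 F)
    (hRS : ∀ ⦃B A A' A'' : Art Λ k⦄ (p' : B ⟶ A') (p'' : B ⟶ A'') (f' : A' ⟶ A) (f'' : A'' ⟶ A)
      (h : IsFibreProd p' p'' f' f''), Function.Surjective f'' → Function.Bijective (cmp F h))
    (h3 : Hfin F)
    (hc : ∀ x₀ : F.obj (base Λ k),
      Function.Injective (fun σ : base Λ k ⟶ dual Λ k => F.map σ x₀)) :
    IsProrepresentable F := by
  have h1 : S1 F := fun B A A' A'' p' p'' f' f'' h hf => (hRS p' p'' f' f'' h hf).2
  have h2 : Heps F := fun B A' p' p'' h => hRS p' p'' _ _ h (dual Λ k).res_surjective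
  obtain ⟨⟨R, ξ, hξ⟩⟩ := ArtVersal.hasVersal F h0 h1 h2 h3
  obtain ⟨⟨R', ξ', hmini⟩⟩ := hasHull_of_versal h0 h2 R ξ hξ (fun D₁ D₂ hD hdc =>
    hI_of_c h0 hc R.res_surjective ξ D₁ D₂ hD
      (fun x hx => hdc x ((R.mem_maximalIdeal_iff x).2 hx)))
  refine ⟨⟨R', ξ', fun A => ⟨?_, surj_of_versal h0 ξ' hmini.1 A⟩⟩⟩
  intro y₁ y₂ hy
  exact inj_of_surj' (G := hR R'.carrier R'.res) (H := F) ξ'.app (fun f x => ξ'.natural f x)
    (fun B A A' A'' p' p'' f' f'' h _ => (isLeftExact_hR _ _ p' p'' f' f'' h).2) (heps_hR _ _)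
    (fun B A A' A'' p' p'' f' f'' h hf => (hRS p' p'' f' f'' h hf).1) hmini.2.1
    (toBase A) A.res_surjective y₁ y₂ (Subsingleton.elim _ _) hy

end Backward

end Groth.Agent.H15.ArtProrep
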