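import Mathlib
import Groth.Agent.H15.ArtProrep
import Groth.Agent.H15.ArtMin
import Groth.Agent.H15.ArtFormal2

universe u v w₁ w₂

open CategoryTheory

namespace Groth.Agent.H15.ArtProrepK

open ArtFun ArtFun.Art IsLocalRing Groth.Agent.H15.ArtEps Groth.Agent.H15.ArtSmooth
  Groth.Agent.H15.ArtInd Groth.Agent.H15.ArtHR Groth.Agent.H15.ArtFunA Groth.Agent.H15.ArtFormal
  Groth.Agent.H15.ArtTrim Groth.Agent.H15.ArtHullK Groth.Agent.H15.ArtProrep

variable {Λ : Type u} {k : Type u} [CommRing Λ] [Field k] [Algebra Λ k]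

section Raw

variable {G : Art Λ k ⥤ Type w₁} {H : Art Λ k ⥤ Type w₂}
  (app : ∀ A : Art Λ k, G.obj A → H.obj A)
  (nat : ∀ {A B : Art Λ k} (f : A ⟶ B) (x : G.obj A), app B (G.map f x) = H.map f (app A x))

include nat in
/-- key uniqueness step along a small extension (two-universe version) -/
theorem key_step'' (hGS1 : S1 G) (hGeps : Heps G)
    (hH : ∀ ⦃B A A' : Art Λ k⦄ (p₁ p₂ : B ⟶ A') (f : A' ⟶ A) (h : IsFibreProd p₁ p₂ f f),
      IsSmallExt f → Function.Injective (cmp H h))
    (hψ : Function.Injective (app (dual Λ k)))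
    {A A₀ : Art Λ k} (π : A ⟶ A₀) (hπ : Function.Surjective π) (t : A)
    (ht' : t ∈ IsLocalRing.maximalIdeal A)
    (ht : ∀ a ∈ IsLocalRing.maximalIdeal A, a * t = 0) (ht0 : t ≠ 0)
    (hker : RingHom.ker π.toAlgHom = Ideal.span {t})
    (y₁ y₂ : G.obj A) (h1 : G.map π y₁ = G.map π y₂) (h2 : app A y₁ = app A y₂) : y₁ = y₂ := by
  have fp1 := isFibreProd_eps A
  have fp2 := isFibreProd_σ π t ht' ht ht0 hker
  have hsm : IsSmallExt π := by
    refine ⟨hπ, ?_, ⟨⟨t, hker⟩⟩, ?_⟩
    · rw [hker]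
      exact fun h => ht0 (Ideal.span_singleton_eq_bot.1 h)
    · rw [hker, ← le_bot_iff, Ideal.mul_le]
      intro a ha b hb
      obtain ⟨c, rfl⟩ := Ideal.mem_span_singleton'.1 hb
      rw [Ideal.mem_bot, mul_left_comm, ht a ha, mul_zero]
  obtain ⟨w, hw⟩ := hGS1 _ _ _ _ fp2 hπ ⟨(y₁, y₂), h1⟩
  have hw1 : G.map (p₁ A) w = y₁ := congrArg (fun z => z.1.1) hw
  have hw2 : G.map (σ t ht' ht) w = y₂ := congrArg (fun z => z.1.2) hw
  have hz : app _ w = H.map (ι A) (app A y₁) := by
    apply hH _ _ _ fp2 hsm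
    apply FibProd.ext
    · change H.map (p₁ A) (app _ w) = H.map (p₁ A) (H.map (ι A) (app A y₁))
      rw [← nat, hw1, ← Functor.map_comp_apply, ι_p₁, Functor.map_id_apply]
    · change H.map (σ t ht' ht) (app _ w) = H.map (σ t ht' ht) (H.map (ι A) (app A y₁))
      rw [← nat, hw2, ← h2, ← Functor.map_comp_apply, ι_σ, Functor.map_id_apply]
  have hv : G.map (p₂ A) w = G.map (p₂ A) (G.map (ι A) y₁) := by
    apply hψ
    rw [nat, nat, nat, hz]
  have hww : w = G.map (ι A) y₁ := by
    apply (hGeps _ _ fp1).1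
    apply FibProd.ext
    · change G.map (p₁ A) w = G.map (p₁ A) (G.map (ι A) y₁)
      rw [hw1, ← Functor.map_comp_apply, ι_p₁, Functor.map_id_apply]
    · exact hv
  rw [← hw2, hww, ← Functor.map_comp_apply, ι_σ, Functor.map_id_apply]

include nat in
/-- `G(B) → G(A) ×_{H(A)} H(B)` is injective for every surjection (two-universe version). -/
theorem inj_of_surj'' (hGS1 : S1 G) (hGeps : Heps G)
    (hH : ∀ ⦃B A A' : Art Λ k⦄ (p₁ p₂ : B ⟶ A') (f : A' ⟶ A) (h : IsFibreProd p₁ p₂ f f),
      IsSmallExt f → Function.Injective (cmp H h))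
    (hψ : Function.Injective (app (dual Λ k)))
    {B A : Art Λ k} (μ : B ⟶ A) (hμ : Function.Surjective μ)
    (y₁ y₂ : G.obj B) (h1 : G.map μ y₁ = G.map μ y₂) (h2 : app B y₁ = app B y₂) : y₁ = y₂ := by
  let P : Ideal B → Prop := fun I => ∀ (A : Art Λ k) (μ : B ⟶ A), Function.Surjective μ →
    RingHom.ker μ.toAlgHom = I → ∀ y₁ y₂ : G.obj B, G.map μ y₁ = G.map μ y₂ →
      app B y₁ = app B y₂ → y₁ = y₂
  have hP : ∀ I : Ideal B, I ≤ IsLocalRing.maximalIdeal B → P I := by
    apply ideal_induction B P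
    · intro A μ hμ hker y₁ y₂ h1 _
      have hinj : Function.Injective μ := (RingHom.injective_iff_ker_eq_bot μ.toAlgHom).2 hker
      obtain ⟨ν, hν, _⟩ := exists_inv_of_bijective μ ⟨hinj, hμ⟩
      have := congrArg (G.map ν) h1
      rwa [← Functor.map_comp_apply, ← Functor.map_comp_apply, hν,
        Functor.map_id_apply, Functor.map_id_apply] at this
    · intro J x hPJ hxJ hxm hmx A' μ' hμ' hker y₁ y₂ h1 h2
      have hJker : J ≤ RingHom.ker μ'.toAlgHom := hker ▸ le_sup_left
      have hJm : J ≤ IsLocalRing.maximalIdeal B := hJker.trans (ker_le_maximalIdeal μ')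
      have hqπ : quotMk B J hJm ≫ quotFactor hJm μ' hJker = μ' := quotMk_quotFactor hJm μ' hJker
      have hπsurj : Function.Surjective (quotFactor hJm μ' hJker) := fun a' => by
        obtain ⟨b, rfl⟩ := hμ' a'
        exact ⟨quotMk B J hJm b, rfl⟩
      have ht0 : quotMk B J hJm x ≠ 0 := fun h => hxJ (Ideal.Quotient.eq_zero_iff_mem.1 h)
      have ht' : quotMk B J hJm x ∈ IsLocalRing.maximalIdeal (quot B J hJm) := by
        rw [mem_maximalIdeal_iff, res_app]
        exact (mem_maximalIdeal_iff B x).1 hxm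
      have ht : ∀ a ∈ IsLocalRing.maximalIdeal (quot B J hJm), a * quotMk B J hJm x = 0 := by
        intro a ha
        obtain ⟨b, rfl⟩ := quotMk_surjective B J hJm a
        have hb : b ∈ IsLocalRing.maximalIdeal B := by
          rw [mem_maximalIdeal_iff] at ha ⊢
          rw [← res_app (quotMk B J hJm) b]
          exact ha
        change Ideal.Quotient.mk J b * Ideal.Quotient.mk J x = 0
        rw [← map_mul]
        exact Ideal.Quotient.eq_zero_iff_mem.2 (hmx b hb)
      have hkerπ : RingHom.ker (quotFactor hJm μ' hJker).toAlgHom = Ideal.span {quotMk B J hJm x} := by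
        apply le_antisymm
        · intro a ha
          obtain ⟨b, rfl⟩ := quotMk_surjective B J hJm a
          have hb : b ∈ RingHom.ker μ'.toAlgHom := by
            rw [RingHom.mem_ker] at ha ⊢
            rw [← hqπ]
            exact ha
          rw [hker] at hb
          obtain ⟨j, hj, s, hs, rfl⟩ := Submodule.mem_sup.1 hb
          obtain ⟨r, rfl⟩ := Ideal.mem_span_singleton'.1 hs
          have e : quotMk B J hJm (j + r * x) = quotMk B J hJm r * quotMk B J hJm x := by
            change Ideal.Quotient.mk J (j + r * x) = Ideal.Quotient.mk J r * Ideal.Quotient.mk J x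
            rw [map_add, map_mul, Ideal.Quotient.eq_zero_iff_mem.2 hj, zero_add]
          rw [e]
          exact Ideal.mul_mem_left _ _ (Ideal.subset_span rfl)
        · rw [Ideal.span_singleton_le_iff_mem, RingHom.mem_ker]
          have hx : x ∈ RingHom.ker μ'.toAlgHom :=
            hker ▸ (le_sup_right : Ideal.span {x} ≤ J ⊔ Ideal.span {x}) (Ideal.subset_span rfl)
          rw [RingHom.mem_ker] at hx
          change (quotMk B J hJm ≫ quotFactor hJm μ' hJker).toAlgHom x = 0
          rw [hqπ]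
          exact hx
      have e := key_step'' app nat hGS1 hGeps hH hψ (quotFactor hJm μ' hJker) hπsurj _ ht' ht ht0 hkerπ
        (G.map (quotMk B J hJm) y₁) (G.map (quotMk B J hJm) y₂)
        (by rw [← Functor.map_comp_apply, ← Functor.map_comp_apply, hqπ, h1])
        (by rw [nat, nat, h2])
      refine hPJ _ (quotMk B J hJm) (quotMk_surjective B J hJm) ?_ y₁ y₂ e h2
      ext b
      rw [RingHom.mem_ker]
      change Ideal.Quotient.mk J b = 0 ↔ b ∈ J
      exact Ideal.Quotient.eq_zero_iff_mem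
  exact hP _ (ker_le_maximalIdeal μ) A μ hμ rfl y₁ y₂ h1 h2

end Raw


section Crit

/-- The criterion with `H₄` in fibre-product form. -/
theorem backward_hsq [IsNoetherianRing Λ] [Module.Finite Λ k] (F : Art Λ k ⥤ Type v) [TangentStr F]
    (h0 : H0 F) (hbar : Hbar F) (h2 : Heps F) (h3 : Hfin F) (h4 : HSq F)
    (hc : ∀ x₀ : F.obj (base Λ k),
      Function.Injective (fun σ : base Λ k ⟶ dual Λ k => F.map σ x₀)) :
    IsProrepresentable F := by
  have h1 : S1 F := Groth.Agent.H15.ArtInd.cmp_surj_of_small F hbar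
  obtain ⟨⟨R, ξ, hξ⟩⟩ := ArtVersal.hasVersal F h0 h1 h2 h3
  obtain ⟨⟨R', ξ', hmini⟩⟩ := hasHull_of_versal h0 h2 R ξ hξ (fun D₁ D₂ hD hdc =>
    hI_of_c h0 hc R.res_surjective ξ D₁ D₂ hD
      (fun x hx => hdc x ((R.mem_maximalIdeal_iff x).2 hx)))
  refine ⟨⟨R', ξ', fun A => ⟨?_, surj_of_versal h0 ξ' hmini.1 A⟩⟩⟩
  intro y₁ y₂ hy
  exact inj_of_surj'' (G := hR R'.carrier R'.res) (H := F) ξ'.app (fun f x => ξ'.natural f x)
    (fun B A A' A'' p' p'' f' f'' h _ => (isLeftExact_hR _ _ p' p'' f' f'' h).2) (heps_hR _ _)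
    (fun B A A' p₁ p₂ f h hf => (h4 p₁ p₂ f h hf).1) hmini.2.1
    (toBase A) A.res_surjective y₁ y₂ (Subsingleton.elim _ _) hy

/-- When `Λ → k` is surjective, there is at most one map out of the base object. -/
theorem hom_base_subsingleton (hs : Function.Surjective (algebraMap Λ k)) (A : Art Λ k) :
    Subsingleton (base Λ k ⟶ A) := by
  refine ⟨fun σ₁ σ₂ => ?_⟩
  apply hom_ext
  apply AlgHom.ext
  intro c
  obtain ⟨r, rfl⟩ := hs c
  exact (AlgHom.commutes σ₁.toAlgHom r).trans (AlgHom.commutes σ₂.toAlgHom r).symm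

theorem finite_of_surjective (hs : Function.Surjective (algebraMap Λ k)) : Module.Finite Λ k :=
  Module.Finite.of_surjective (Algebra.linearMap Λ k) hs

theorem prorep_iff_leftExact [IsNoetherianRing Λ] (hs : Function.Surjective (algebraMap Λ k))
    (F : Art Λ k ⥤ Type v) [TangentStr F] (h0 : H0 F) :
    IsProrepresentable F ↔ (IsLeftExact F ∧ Hfin F) := by
  have hfin : Module.Finite Λ k := finite_of_surjective hs
  constructor
  · intro h
    have := forward F h
    exact ⟨this.1.2, this.2.1⟩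
  · rintro ⟨hl, h3⟩
    refine backward F h0 (fun B A A' A'' p' p'' f' f'' h _ => hl p' p'' f' f'' h) h3 ?_
    intro x₀ σ₁ σ₂ _
    exact (hom_base_subsingleton hs _).elim σ₁ σ₂

theorem prorep_iff_hsq [IsNoetherianRing Λ] (hs : Function.Surjective (algebraMap Λ k))
    (F : Art Λ k ⥤ Type v) [TangentStr F] (h0 : H0 F) :
    IsProrepresentable F ↔ (Hbar F ∧ Heps F ∧ Hfin F ∧ HSq F) := by
  have hfin : Module.Finite Λ k := finite_of_surjective hs
  constructor
  · intro h
    have := forward F h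
    have hl := this.1.2
    exact ⟨fun B A A' A'' p' p'' f' f'' h _ => (hl p' p'' f' f'' h).2,
      fun B A' p' p'' h => hl p' p'' _ _ h, this.2.1,
      fun B A A' p₁ p₂ f h _ => hl p₁ p₂ f f h⟩
  · rintro ⟨h1, h2, h3, h4⟩
    refine backward_hsq F h0 h1 h2 h3 h4 ?_
    intro x₀ σ₁ σ₂ _
    exact (hom_base_subsingleton hs _).elim σ₁ σ₂

/-- In a tower `k → Λ → k`, the map `Λ → k` is surjective. -/
theorem algebraMap_surjective_of_tower {k Λ : Type u} [Field k] [CommRing Λ] [Algebra k Λ] [Algebra Λ k]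
    [IsScalarTower k Λ k] : Function.Surjective (algebraMap Λ k) := by
  intro c
  refine ⟨algebraMap k Λ c, ?_⟩
  rw [← IsScalarTower.algebraMap_apply k Λ k]
  rfl

end Crit

end Groth.Agent.H15.ArtProrepK
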