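import Mathlib
import Groth.Agent.H15.ArtEps

universe u v

open CategoryTheory CategoryTheory.Limits

namespace Groth.Agent.H15.ArtPull

open ArtFun ArtFun.Art

variable {Λ : Type u} {k : Type u} [CommRing Λ] [Field k] [Algebra Λ k]

/-- Condition (RS). -/
abbrev RS (F : Art Λ k ⥤ Type v) : Prop :=
  ∀ ⦃B A A' A'' : Art Λ k⦄ (p' : B ⟶ A') (p'' : B ⟶ A'') (f' : A' ⟶ A) (f'' : A'' ⟶ A)
    (h : IsFibreProd p' p'' f' f''), Function.Surjective f'' → Function.Bijective (cmp F h)

section PB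

variable {F G H : Art Λ k ⥤ Type v} (f : H ⟶ F) (g : G ⟶ F)

theorem evalPB (A : Art Λ k) :
    IsPullback ((pullback.fst f g).app A) ((pullback.snd f g).app A) (f.app A) (g.app A) :=
  (IsPullback.of_hasPullback f g).map ((evaluation (Art Λ k) (Type v)).obj A)

lemma pb_ext {A : Art Λ k} {z₁ z₂ : (pullback f g).obj A}
    (h1 : (pullback.fst f g).app A z₁ = (pullback.fst f g).app A z₂)
    (h2 : (pullback.snd f g).app A z₁ = (pullback.snd f g).app A z₂) : z₁ = z₂ :=
  Types.ext_of_isPullback (evalPB f g A) h1 h2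

lemma pb_exists {A : Art Λ k} (x : H.obj A) (y : G.obj A) (hxy : f.app A x = g.app A y) :
    ∃ z : (pullback f g).obj A, (pullback.fst f g).app A z = x ∧ (pullback.snd f g).app A z = y :=
  Types.exists_of_isPullback (evalPB f g A) x y hxy

lemma pb_cond {A : Art Λ k} (z : (pullback f g).obj A) :
    f.app A ((pullback.fst f g).app A z) = g.app A ((pullback.snd f g).app A z) := by
  have h := congrArg (fun φ : pullback f g ⟶ F => φ.app A z) (pullback.condition (f := f) (g := g))
  exact h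

theorem rs_pullback (hF : RS F) (hG : RS G) (hH : RS H) : RS (pullback f g) := by
  intro B A A' A'' p' p'' f' f'' h hs
  constructor
  · intro z₁ z₂ hz
    have e1 : (pullback f g).map p' z₁ = (pullback f g).map p' z₂ := congrArg (fun t => t.1.1) hz
    have e2 : (pullback f g).map p'' z₁ = (pullback f g).map p'' z₂ := congrArg (fun t => t.1.2) hz
    apply pb_ext f g
    · apply (hH p' p'' f' f'' h hs).1
      apply FibProd.ext
      · change H.map p' ((pullback.fst f g).app B z₁) = H.map p' ((pullback.fst f g).app B z₂)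
        rw [← NatTrans.naturality_apply, ← NatTrans.naturality_apply, e1]
      · change H.map p'' ((pullback.fst f g).app B z₁) = H.map p'' ((pullback.fst f g).app B z₂)
        rw [← NatTrans.naturality_apply, ← NatTrans.naturality_apply, e2]
    · apply (hG p' p'' f' f'' h hs).1
      apply FibProd.ext
      · change G.map p' ((pullback.snd f g).app B z₁) = G.map p' ((pullback.snd f g).app B z₂)
        rw [← NatTrans.naturality_apply, ← NatTrans.naturality_apply, e1]
      · change G.map p'' ((pullback.snd f g).app B z₁) = G.map p'' ((pullback.snd f g).app B z₂)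
        rw [← NatTrans.naturality_apply, ← NatTrans.naturality_apply, e2]
  · rintro ⟨⟨w', w''⟩, hw⟩
    change (pullback f g).map f' w' = (pullback f g).map f'' w'' at hw
    obtain ⟨x, hx⟩ := (hH p' p'' f' f'' h hs).2
      ⟨((pullback.fst f g).app A' w', (pullback.fst f g).app A'' w''), by
        change H.map f' ((pullback.fst f g).app A' w') = H.map f'' ((pullback.fst f g).app A'' w'')
        rw [← NatTrans.naturality_apply, ← NatTrans.naturality_apply, hw]⟩
    have hx1 : H.map p' x = (pullback.fst f g).app A' w' := congrArg (fun t => t.1.1) hx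
    have hx2 : H.map p'' x = (pullback.fst f g).app A'' w'' := congrArg (fun t => t.1.2) hx
    obtain ⟨y, hy⟩ := (hG p' p'' f' f'' h hs).2
      ⟨((pullback.snd f g).app A' w', (pullback.snd f g).app A'' w''), by
        change G.map f' ((pullback.snd f g).app A' w') = G.map f'' ((pullback.snd f g).app A'' w'')
        rw [← NatTrans.naturality_apply, ← NatTrans.naturality_apply, hw]⟩
    have hy1 : G.map p' y = (pullback.snd f g).app A' w' := congrArg (fun t => t.1.1) hy
    have hy2 : G.map p'' y = (pullback.snd f g).app A'' w'' := congrArg (fun t => t.1.2) hy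
    have hxy : f.app B x = g.app B y := by
      apply (hF p' p'' f' f'' h hs).1
      apply FibProd.ext
      · change F.map p' (f.app B x) = F.map p' (g.app B y)
        rw [← NatTrans.naturality_apply, ← NatTrans.naturality_apply, hx1, hy1]
        exact pb_cond f g w'
      · change F.map p'' (f.app B x) = F.map p'' (g.app B y)
        rw [← NatTrans.naturality_apply, ← NatTrans.naturality_apply, hx2, hy2]
        exact pb_cond f g w''
    obtain ⟨z, hz1, hz2⟩ := pb_exists f g x y hxy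
    refine ⟨z, ?_⟩
    apply FibProd.ext
    · change (pullback f g).map p' z = w'
      apply pb_ext f g
      · rw [NatTrans.naturality_apply, hz1, hx1]
      · rw [NatTrans.naturality_apply, hz2, hy1]
    · change (pullback f g).map p'' z = w''
      apply pb_ext f g
      · rw [NatTrans.naturality_apply, hz1, hx2]
      · rw [NatTrans.naturality_apply, hz2, hy2]

end PB

theorem smooth_pullback_map {F G H₁ H₂ : Art Λ k ⥤ Type v} (p₁ : H₁ ⟶ G) (p₂ : H₂ ⟶ G) (q : G ⟶ F)
    (hF : RS F) (hG : RS G) (hq : Function.Injective (TangentSpace.map q)) :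
    IsSmooth (pullback.map p₁ p₂ (p₁ ≫ q) (p₂ ≫ q) (𝟙 H₁) (𝟙 H₂) q
      (Category.id_comp _).symm (Category.id_comp _).symm) := by
  have hGS1 : S1 G := fun B A A' A'' p' p'' f' f'' h hs => (hG p' p'' f' f'' h hs).2
  have hGeps : Heps G := fun B A' p' p'' h =>
    hG p' p'' (toBase A') (toBase (dual Λ k)) h (dual Λ k).res_surjective
  have hFinj : ∀ ⦃B A A' A'' : Art Λ k⦄ (p' : B ⟶ A') (p'' : B ⟶ A'') (f' : A' ⟶ A) (f'' : A'' ⟶ A)
      (h : IsFibreProd p' p'' f' f''), Function.Surjective f'' → Function.Injective (cmp F h) :=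
    fun B A A' A'' p' p'' f' f'' h hs => (hF p' p'' f' f'' h hs).1
  have hΦ1 : pullback.map p₁ p₂ (p₁ ≫ q) (p₂ ≫ q) (𝟙 H₁) (𝟙 H₂) q
      (Category.id_comp _).symm (Category.id_comp _).symm ≫ pullback.fst (p₁ ≫ q) (p₂ ≫ q) =
      pullback.fst p₁ p₂ := by
    rw [pullback.lift_fst, Category.comp_id]
  have hΦ2 : pullback.map p₁ p₂ (p₁ ≫ q) (p₂ ≫ q) (𝟙 H₁) (𝟙 H₂) q
      (Category.id_comp _).symm (Category.id_comp _).symm ≫ pullback.snd (p₁ ≫ q) (p₂ ≫ q) =
      pullback.snd p₁ p₂ := by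
    rw [pullback.lift_snd, Category.comp_id]
  generalize pullback.map p₁ p₂ (p₁ ≫ q) (p₂ ≫ q) (𝟙 H₁) (𝟙 H₂) q
      (Category.id_comp _).symm (Category.id_comp _).symm = Φ at hΦ1 hΦ2
  have hΦ1' : ∀ (A : Art Λ k) (z : (pullback p₁ p₂).obj A),
      (pullback.fst (p₁ ≫ q) (p₂ ≫ q)).app A (Φ.app A z) = (pullback.fst p₁ p₂).app A z :=
    fun A z => congrArg (fun φ : pullback p₁ p₂ ⟶ H₁ => φ.app A z) hΦ1
  have hΦ2' : ∀ (A : Art Λ k) (z : (pullback p₁ p₂).obj A),
      (pullback.snd (p₁ ≫ q) (p₂ ≫ q)).app A (Φ.app A z) = (pullback.snd p₁ p₂).app A z :=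
    fun A z => congrArg (fun φ : pullback p₁ p₂ ⟶ H₂ => φ.app A z) hΦ2
  intro B A μ hμ
  rintro ⟨⟨zA, w⟩, hzw⟩
  change Φ.app A zA = (pullback (p₁ ≫ q) (p₂ ≫ q)).map μ w at hzw
  have hcond : q.app B (p₁.app B ((pullback.fst (p₁ ≫ q) (p₂ ≫ q)).app B w)) =
      q.app B (p₂.app B ((pullback.snd (p₁ ≫ q) (p₂ ≫ q)).app B w)) :=
    pb_cond (p₁ ≫ q) (p₂ ≫ q) w
  have ha1 : H₁.map μ ((pullback.fst (p₁ ≫ q) (p₂ ≫ q)).app B w) = (pullback.fst p₁ p₂).app A zA := by
    rw [← hΦ1', hzw, NatTrans.naturality_apply]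
  have ha2 : H₂.map μ ((pullback.snd (p₁ ≫ q) (p₂ ≫ q)).app B w) = (pullback.snd p₁ p₂).app A zA := by
    rw [← hΦ2', hzw, NatTrans.naturality_apply]
  have hg : p₁.app B ((pullback.fst (p₁ ≫ q) (p₂ ≫ q)).app B w) =
      p₂.app B ((pullback.snd (p₁ ≫ q) (p₂ ≫ q)).app B w) := by
    apply Groth.Agent.H15.ArtEps.inj_of_surj q hGS1 hGeps hFinj hq μ hμ _ _ ?_ hcond
    rw [← NatTrans.naturality_apply p₁ μ, ← NatTrans.naturality_apply p₂ μ, ha1, ha2]
    exact pb_cond p₁ p₂ zA
  obtain ⟨z, hz1, hz2⟩ := pb_exists p₁ p₂ _ _ hg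
  refine ⟨z, ?_⟩
  apply Subtype.ext
  apply Prod.ext
  · change (pullback p₁ p₂).map μ z = zA
    apply pb_ext p₁ p₂
    · rw [NatTrans.naturality_apply, hz1, ha1]
    · rw [NatTrans.naturality_apply, hz2, ha2]
  · change Φ.app B z = w
    apply pb_ext (p₁ ≫ q) (p₂ ≫ q)
    · rw [hΦ1', hz1]
    · rw [hΦ2', hz2]

end Groth.Agent.H15.ArtPull
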