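import Mathlib
import Groth.Agent.H15.ArtPull

universe u v

open CategoryTheory CategoryTheory.Limits

namespace Groth.Agent.H15.ArtPull

open ArtFun ArtFun.Art

variable {Λ : Type u} {k : Type u} [CommRing Λ] [Field k] [Algebra Λ k]

/-- Smooth morphisms are stable under base change. -/
theorem isSmooth_pullback_snd {F G G' : Art Λ k ⥤ Type v} (φ : F ⟶ G) (ψ : G' ⟶ G)
    (hφ : IsSmooth φ) : IsSmooth (pullback.snd φ ψ) := by
  intro B A μ hμ
  rintro ⟨⟨z, y'⟩, hzy⟩
  have hzy' : (pullback.snd φ ψ).app A z = G'.map μ y' := hzy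
  obtain ⟨x', hx'⟩ := hφ μ hμ ⟨((pullback.fst φ ψ).app A z, ψ.app B y'), by
    change φ.app A ((pullback.fst φ ψ).app A z) = G.map μ (ψ.app B y')
    rw [pb_cond, hzy']
    exact NatTrans.naturality_apply ψ μ y'⟩
  have hx1 : F.map μ x' = (pullback.fst φ ψ).app A z := congrArg (fun t => t.1.1) hx'
  have hx2 : φ.app B x' = ψ.app B y' := congrArg (fun t => t.1.2) hx'
  obtain ⟨z', hz1, hz2⟩ := pb_exists φ ψ x' y' hx2
  refine ⟨z', ?_⟩
  apply Subtype.ext
  apply Prod.ext
  · change (pullback φ ψ).map μ z' = z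
    apply pb_ext φ ψ
    · rw [NatTrans.naturality_apply, hz1, hx1]
    · rw [NatTrans.naturality_apply, hz2, hzy']
  · exact hz2

end Groth.Agent.H15.ArtPull
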