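import Mathlib
import Groth.Agent.H15.ArtHullK

universe u v

open CategoryTheory

namespace Groth.Agent.H15.ArtSq

open ArtFun ArtFun.Art IsLocalRing Groth.Agent.H15.ArtEps Groth.Agent.H15.ArtSmooth
  Groth.Agent.H15.ArtInd Groth.Agent.H15.ArtHR Groth.Agent.H15.ArtFunA Groth.Agent.H15.ArtSep
  Groth.Agent.H15.ArtTrim Groth.Agent.H15.ArtHullK

variable {Λ : Type u} {k : Type u} [CommRing Λ] [Field k] [Algebra Λ k]

/-- Pasting of fibre product squares. -/
theorem isFibreProd_paste {B A A' A'' D K : Art Λ k} {p' : B ⟶ A'} {p'' : B ⟶ A''} {f' : A' ⟶ A}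
    {f'' : A'' ⟶ A} {π : A'' ⟶ D} {g : A ⟶ K} {g' : D ⟶ K}
    (h : IsFibreProd p' p'' f' f'') (h₂ : IsFibreProd f'' π g g') :
    IsFibreProd p' (p'' ≫ π) (f' ≫ g) g' where
  w := by rw [← Category.assoc, h.w, Category.assoc, h₂.w, Category.assoc]
  inj b₁ b₂ e1 e2 := by
    apply h.inj _ _ e1
    apply h₂.inj _ _ _ e2
    exact (h.w_apply b₁).symm.trans ((congrArg f' e1).trans (h.w_apply b₂))
  surj a' d hd := by
    obtain ⟨a'', ha1, ha2⟩ := h₂.surj (f' a') d hd
    obtain ⟨b, hb1, hb2⟩ := h.surj a' a'' ha1.symm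
    refine ⟨b, hb1, ?_⟩
    change π (p'' b) = d
    rw [hb2, ha2]

/-- A small extension out of an object with square-zero maximal ideal and a section splits off a
copy of the dual numbers. -/
theorem exists_split {A A'' : Art Λ k} (p : A'' ⟶ A) (hp : IsSmallExt p)
    (hsq : maximalIdeal A'' ^ 2 = ⊥) (σ : base Λ k ⟶ A'') :
    ∃ π : A'' ⟶ dual Λ k, IsFibreProd p π (toBase A) (toBase (dual Λ k)) := by
  obtain ⟨hsurj, hne, hprin, hmk⟩ := hp
  obtain ⟨t, ht⟩ := hprin.principal
  have hker : RingHom.ker p.toAlgHom = Ideal.span {t} := ht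
  have htker : t ∈ RingHom.ker p.toAlgHom := hker ▸ Ideal.subset_span rfl
  have ht' : t ∈ maximalIdeal A'' := ker_le_maximalIdeal p htker
  have htm : ∀ a ∈ maximalIdeal A'', a * t = 0 := fun a ha => by
    have h3 : a * t ∈ maximalIdeal A'' * RingHom.ker p.toAlgHom := Ideal.mul_mem_mul ha htker
    rw [hmk] at h3
    exact h3
  have ht0 : t ≠ 0 := by
    intro h0
    apply hne
    rw [hker, h0]
    exact Ideal.span_singleton_eq_bot.2 rfl
  obtain ⟨τ, _, hτt, _⟩ := tangent_sep_rel A''.res A''.res_surjective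
    (base Λ k).res (base Λ k).res_surjective σ.toAlgHom σ.res_comp
    (⊥ : Ideal A''.carrier) hsq.le bot_le
    (fun r hr => by
      have hr0 : r = 0 := hr
      rw [hr0, map_zero]
      exact Ideal.zero_mem _) t ht' (fun h => ht0 ((Ideal.mem_bot).1 h))
  have hrt : A''.res t = 0 := (Art.mem_maximalIdeal_iff A'' t).1 ht'
  have hd : dcoef τ t ≠ 0 := by
    intro h0
    apply hτt
    exact TrivSqZeroExt.ext ((fst_apply τ t).trans hrt) h0
  have hdt : ∀ r : A'', dcoef τ (r * t) = A''.res r * dcoef τ t := fun r => by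
    rw [dcoef_mul, hrt, zero_mul, add_zero]
  refine ⟨⟨τ.1, τ.2⟩, ⟨?_, ?_, ?_⟩⟩
  · rw [eq_toBase (p ≫ toBase A)]
    exact (eq_toBase _).symm
  · intro a₁ a₂ e1 e2
    have h1 : a₁ - a₂ ∈ RingHom.ker p.toAlgHom := by
      rw [RingHom.mem_ker, map_sub]
      exact sub_eq_zero.2 e1
    rw [hker] at h1
    obtain ⟨r, hr⟩ := Ideal.mem_span_singleton'.1 h1
    have h2 : dcoef τ (a₁ - a₂) = 0 := by
      rw [dcoef_sub]
      have := congrArg (fun z : DualNumber k => TrivSqZeroExt.snd z) e2
      exact sub_eq_zero.2 this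
    rw [← hr, hdt] at h2
    have h3 : A''.res r = 0 := (mul_eq_zero.1 h2).resolve_right hd
    have h4 : r * t = 0 := htm r ((Art.mem_maximalIdeal_iff A'' r).2 h3)
    rw [h4] at hr
    exact sub_eq_zero.1 hr.symm
  · intro a d hd'
    obtain ⟨a'', ha''⟩ := hsurj a
    obtain ⟨r, hr⟩ := A''.res_surjective
      ((TrivSqZeroExt.snd (d : DualNumber k) - dcoef τ a'') / dcoef τ t)
    have hpt : p t = 0 := htker
    refine ⟨a'' + r * t, ?_, ?_⟩
    · rw [map_add, map_mul]
      change p a'' + p r * p t = a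
      rw [hpt, mul_zero, add_zero, ha'']
    · apply TrivSqZeroExt.ext
      · change TrivSqZeroExt.fst (τ.1 (a'' + r * t)) = _
        rw [fst_apply, map_add, map_mul, hrt, mul_zero, add_zero, ← res_app p a'', ha'']
        exact hd'
      · change dcoef τ (a'' + r * t) = _
        rw [dcoef_add, hdt, hr]
        field_simp
        ring

variable (F : Art Λ k ⥤ Type v)

/-- Bijectivity of the comparison map for a split small extension. -/
theorem bijective_of_split (hF : Heps F) {B A A' A'' : Art Λ k} {p' : B ⟶ A'} {p'' : B ⟶ A''}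
    {f' : A' ⟶ A} {p : A'' ⟶ A} (h : IsFibreProd p' p'' f' p) (π : A'' ⟶ dual Λ k)
    (h₂ : IsFibreProd p π (toBase A) (toBase (dual Λ k))) : Function.Bijective (cmp F h) := by
  have h' : IsFibreProd p' (p'' ≫ π) (toBase A') (toBase (dual Λ k)) := by
    have := isFibreProd_paste h h₂
    rwa [eq_toBase (f' ≫ toBase A)] at this
  have b1 := hF _ _ h'
  have b2 := hF _ _ h₂
  constructor
  · intro z₁ z₂ hz
    have e1 : F.map p' z₁ = F.map p' z₂ := congrArg (fun z => z.1.1) hz
    have e2 : F.map p'' z₁ = F.map p'' z₂ := congrArg (fun z => z.1.2) hz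
    apply b1.1
    apply FibProd.ext
    · exact e1
    · change F.map (p'' ≫ π) z₁ = F.map (p'' ≫ π) z₂
      rw [Functor.map_comp_apply, Functor.map_comp_apply, e2]
  · rintro ⟨⟨x', x''⟩, hx⟩
    have hx' : F.map f' x' = F.map p x'' := hx
    obtain ⟨z, hz⟩ := b1.2 ⟨(x', F.map π x''), by
      change F.map (toBase A') x' = F.map (toBase (dual Λ k)) (F.map π x'')
      rw [← Functor.map_comp_apply, eq_toBase (π ≫ toBase (dual Λ k)), ← eq_toBase (p ≫ toBase A),
        Functor.map_comp_apply, ← hx', ← Functor.map_comp_apply, eq_toBase (f' ≫ toBase A)]⟩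
    have hz1 : F.map p' z = x' := congrArg (fun z => z.1.1) hz
    have hz2 : F.map (p'' ≫ π) z = F.map π x'' := congrArg (fun z => z.1.2) hz
    refine ⟨z, ?_⟩
    apply FibProd.ext
    · exact hz1
    · change F.map p'' z = x''
      apply b2.1
      apply FibProd.ext
      · change F.map p (F.map p'' z) = F.map p x''
        rw [← Functor.map_comp_apply, ← h.w, Functor.map_comp_apply, hz1, hx']
      · change F.map π (F.map p'' z) = F.map π x''
        rw [← Functor.map_comp_apply]
        exact hz2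

private lemma iso_aux' {A A'' : Art Λ k} (e : A'' ⟶ A) [IsIso e] :
    Function.Injective e ∧ Function.Surjective e ∧ Function.Injective (F.map e) := by
  have h1 : ∀ a : A'', (inv e) (e a) = a := fun a =>
    congrArg (fun t : A'' ⟶ A'' => t a) (IsIso.hom_inv_id e)
  refine ⟨fun a b hab => ?_, fun a => ⟨(inv e) a, congrArg (fun t : A ⟶ A => t a) (IsIso.inv_hom_id e)⟩,
    fun a b hab => ?_⟩
  · rw [← h1 a, ← h1 b, hab]
  · have h2 := congrArg (F.map (inv e)) hab
    rwa [← Functor.map_comp_apply, ← Functor.map_comp_apply, IsIso.hom_inv_id, Functor.map_id_apply,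
      Functor.map_id_apply] at h2

/-- `Heps` gives bijectivity for fibre products with square-zero split objects. -/
theorem bijective_cmp_sqZero [IsNoetherianRing Λ] [Module.Finite Λ k] (hF : Heps F)
    {E : Art Λ k} (hσ : Nonempty (base Λ k ⟶ E)) (hE : maximalIdeal E ^ 2 = ⊥)
    ⦃B A : Art Λ k⦄ (p' : B ⟶ A) (p'' : B ⟶ E)
    (h : IsFibreProd p' p'' (toBase A) (toBase E)) : Function.Bijective (cmp F h) := by
  let P : ∀ ⦃A A'' : Art Λ k⦄, (A'' ⟶ A) → Prop := fun A A'' f'' =>
    (maximalIdeal A'' ^ 2 = ⊥ ∧ Nonempty (base Λ k ⟶ A'')) →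
    (Function.Surjective f'' ∧ ∀ ⦃B A' : Art Λ k⦄ (p' : B ⟶ A') (p'' : B ⟶ A'') (f' : A' ⟶ A)
      (h : IsFibreProd p' p'' f' f''), Function.Bijective (cmp F h))
  have key : ∀ ⦃A A'' : Art Λ k⦄ (f'' : A'' ⟶ A), Function.Surjective f'' → P f'' := by
    apply surjective_induction P
    · intro A A'' e he _
      have := he
      obtain ⟨einj, esurj, hinjF⟩ := iso_aux' F e
      refine ⟨esurj, ?_⟩
      intro B A' p' p'' f' h
      have hp'bij : Function.Bijective p' :=
        ⟨fun b₁ b₂ hb => h.inj _ _ hb (einj (by rw [← h.w_apply, ← h.w_apply, hb])),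
          Groth.Agent.H15.ArtFunA.IsFibreProd.surjective_fst h esurj⟩
      obtain ⟨g, hg1, hg2⟩ := exists_inv_of_bijective p' hp'bij
      constructor
      · intro z₁ z₂ hz
        have h1 : F.map p' z₁ = F.map p' z₂ := congrArg (fun z => z.1.1) hz
        have h2 := congrArg (F.map g) h1
        rwa [← Functor.map_comp_apply, ← Functor.map_comp_apply, hg1, Functor.map_id_apply,
          Functor.map_id_apply] at h2
      · rintro ⟨⟨x', x''⟩, hx⟩
        refine ⟨F.map g x', ?_⟩
        apply FibProd.ext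
        · change F.map p' (F.map g x') = x'
          rw [← Functor.map_comp_apply, hg2, Functor.map_id_apply]
        · change F.map p'' (F.map g x') = x''
          apply hinjF
          have e1 : F.map e (F.map p'' (F.map g x')) = F.map (g ≫ p'' ≫ e) x' := by
            rw [Functor.map_comp_apply, Functor.map_comp_apply]
          have e2 : g ≫ p'' ≫ e = f' := by
            rw [← h.w, ← Category.assoc, hg2, Category.id_comp]
          rw [e1, e2]
          exact hx
    · intro A A'' p hp hQ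
      obtain ⟨σ⟩ := hQ.2
      obtain ⟨π, hπ⟩ := exists_split p hp hQ.1 σ
      exact ⟨hp.1, fun B A' p' p'' f' h => bijective_of_split F hF h π hπ⟩
    · intro A B₀ C p q hp hq hQ
      have hp' := hp hQ
      have hQ' : maximalIdeal B₀ ^ 2 = ⊥ ∧ Nonempty (base Λ k ⟶ B₀) := by
        obtain ⟨σ⟩ := hQ.2
        refine ⟨?_, ⟨σ ≫ p⟩⟩
        have h2 : maximalIdeal B₀ =
            (maximalIdeal C).map (p.toAlgHom : C.carrier →+* B₀.carrier) :=
          (map_maximalIdeal_of_surjective _ hp'.1).symm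
        rw [h2, ← Ideal.map_pow, hQ.1, Ideal.map_bot]
      have hq' := hq hQ'
      refine ⟨hq'.1.comp hp'.1, ?_⟩
      intro B A' p' p'' f' h
      obtain ⟨B₁, r', r'', s, h₁, h₂, hs⟩ := fibre_decomp h hq'.1
      constructor
      · intro z₁ z₂ hz
        have h1 : F.map p' z₁ = F.map p' z₂ := congrArg (fun z => z.1.1) hz
        have h2 : F.map p'' z₁ = F.map p'' z₂ := congrArg (fun z => z.1.2) hz
        have h3 : F.map s z₁ = F.map s z₂ := by
          apply (hq'.2 r' r'' f' h₁).1
          apply FibProd.ext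
          · change F.map r' (F.map s z₁) = F.map r' (F.map s z₂)
            rw [← Functor.map_comp_apply, ← Functor.map_comp_apply, hs, h1]
          · change F.map r'' (F.map s z₁) = F.map r'' (F.map s z₂)
            rw [← Functor.map_comp_apply, ← Functor.map_comp_apply, h₂.w, Functor.map_comp_apply,
              Functor.map_comp_apply, h2]
        apply (hp'.2 s p'' r'' h₂).1
        apply FibProd.ext
        · exact h3
        · exact h2
      · rintro ⟨⟨x', x''⟩, hx⟩
        obtain ⟨z₁, hz₁⟩ := (hq'.2 r' r'' f' h₁).2 ⟨(x', F.map p x''), by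
          change F.map f' x' = F.map q (F.map p x'')
          rw [← Functor.map_comp_apply]
          exact hx⟩
        have hz₁1 : F.map r' z₁ = x' := congrArg (fun z => z.1.1) hz₁
        have hz₁2 : F.map r'' z₁ = F.map p x'' := congrArg (fun z => z.1.2) hz₁
        obtain ⟨z, hz⟩ := (hp'.2 s p'' r'' h₂).2 ⟨(z₁, x''), hz₁2⟩
        have hz1 : F.map s z = z₁ := congrArg (fun z => z.1.1) hz
        have hz2 : F.map p'' z = x'' := congrArg (fun z => z.1.2) hz
        refine ⟨z, ?_⟩
        apply FibProd.ext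
        · change F.map p' z = x'
          rw [← hs, Functor.map_comp_apply, hz1, hz₁1]
        · exact hz2
  exact (key (toBase E) E.res_surjective ⟨hE, hσ⟩).2 p' p'' (toBase A) h

end Groth.Agent.H15.ArtSq
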