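import Mathlib
import Groth.Agent.H15.ArtHR

universe u v

open CategoryTheory

namespace Groth.Agent.H15.ArtTan

open ArtFun ArtFun.Art IsLocalRing Groth.Agent.H15.ArtEps Groth.Agent.H15.ArtHR

variable {Λ : Type u} {k : Type u} [CommRing Λ] [Field k] [Algebra Λ k]

variable (Λ k) in
/-- `k[ε₁, ε₂, ε₃]`. -/
def dual3 : Art Λ k :=
  { carrier := TrivSqZeroExt k ((k × k) × k)
    isLocalRing := isLocalRing_tsze k ((k × k) × k)
    isArtinianRing := isArtinianRing_tsze k ((k × k) × k)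
    res := TrivSqZeroExt.fstHom Λ k ((k × k) × k)
    res_surjective := fun a => ⟨TrivSqZeroExt.inl a, rfl⟩ }

/-- The morphism `k[ε₁, ε₂, ε₃] → k[ε]` of a linear form. -/
def m1 (ℓ : ((k × k) × k) →ₗ[k] k) : dual3 Λ k ⟶ dual Λ k :=
  ⟨tszeMap ℓ, AlgHom.ext fun _ => rfl⟩

/-- The morphism `k[ε₁, ε₂, ε₃] → k[ε₁, ε₂]` of a linear map. -/
def m2 (ℓ : ((k × k) × k) →ₗ[k] (k × k)) : dual3 Λ k ⟶ dual2 Λ k :=
  ⟨tszeMap ℓ, AlgHom.ext fun _ => rfl⟩

theorem isFibreProd_dual3 :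
    IsFibreProd (m2 (LinearMap.fst k (k × k) k) : dual3 Λ k ⟶ _) (m1 (LinearMap.snd k (k × k) k))
      (toBase (dual2 Λ k)) (toBase (dual Λ k)) where
  w := by rw [eq_toBase (m2 _ ≫ toBase _), eq_toBase (m1 _ ≫ toBase _)]
  inj b₁ b₂ h₁ h₂ := by
    have e₁ : b₁.fst = b₂.fst := by have e := congrArg TrivSqZeroExt.fst h₁; exact e
    have e₂ : b₁.snd.1 = b₂.snd.1 := by have e := congrArg TrivSqZeroExt.snd h₁; exact e
    have e₃ : b₁.snd.2 = b₂.snd.2 := by have e := congrArg TrivSqZeroExt.snd h₂; exact e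
    exact TrivSqZeroExt.ext e₁ (Prod.ext e₂ e₃)
  surj a' a'' h := by
    have h' : a'.fst = a''.fst := h
    exact ⟨(a'.fst, (a'.snd, a''.snd)), TrivSqZeroExt.ext rfl rfl, TrivSqZeroExt.ext h' rfl⟩

lemma m2_pr₁ (ℓ₁ ℓ₂ : ((k × k) × k) →ₗ[k] k) :
    (m2 (ℓ₁.prod ℓ₂) : dual3 Λ k ⟶ _) ≫ pr₁ = m1 ℓ₁ := hom_ext (AlgHom.ext fun _ => rfl)

lemma m2_pr₂ (ℓ₁ ℓ₂ : ((k × k) × k) →ₗ[k] k) :
    (m2 (ℓ₁.prod ℓ₂) : dual3 Λ k ⟶ _) ≫ pr₂ = m1 ℓ₂ := hom_ext (AlgHom.ext fun _ => rfl)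

lemma m2_plus (ℓ₁ ℓ₂ : ((k × k) × k) →ₗ[k] k) :
    (m2 (ℓ₁.prod ℓ₂) : dual3 Λ k ⟶ _) ≫ plus = m1 (ℓ₁ + ℓ₂) := hom_ext (AlgHom.ext fun _ => rfl)

lemma m1_scale (c : k) (ℓ : ((k × k) × k) →ₗ[k] k) :
    (m1 ℓ : dual3 Λ k ⟶ _) ≫ scale c = m1 (c • ℓ) := hom_ext (AlgHom.ext fun _ => rfl)

lemma m1_zero : (m1 0 : dual3 Λ k ⟶ _) = toBase (dual3 Λ k) ≫ baseToDual := by
  apply hom_ext
  apply AlgHom.ext
  intro x
  refine TrivSqZeroExt.ext rfl ?_
  change (0 : k) = TrivSqZeroExt.snd (algebraMap k (DualNumber k) (TrivSqZeroExt.fst x))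
  rw [TrivSqZeroExt.algebraMap_eq_inl, TrivSqZeroExt.snd_inl]

lemma m2_fst_pr₁ : (m2 (LinearMap.fst k (k × k) k) : dual3 Λ k ⟶ _) ≫ pr₁ =
    m1 ((LinearMap.fst k k k).comp (LinearMap.fst k (k × k) k)) := hom_ext (AlgHom.ext fun _ => rfl)

lemma m2_fst_pr₂ : (m2 (LinearMap.fst k (k × k) k) : dual3 Λ k ⟶ _) ≫ pr₂ =
    m1 ((LinearMap.snd k k k).comp (LinearMap.fst k (k × k) k)) := hom_ext (AlgHom.ext fun _ => rfl)

section Str

variable (F : Art Λ k ⥤ Type v) (h0 : H0 F) (h2 : Heps F)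

/-- the two projections -/
def β₂ (z : F.obj (dual2 Λ k)) : F.obj (dual Λ k) × F.obj (dual Λ k) := (F.map pr₁ z, F.map pr₂ z)

include h0 h2 in
theorem β₂_bijective : Function.Bijective (β₂ F) := by
  have hb := h2 _ _ (isFibreProd_dual2 (Λ := Λ) (k := k))
  constructor
  · intro z₁ z₂ hz
    apply hb.1
    apply FibProd.ext
    · exact congrArg Prod.fst hz
    · exact congrArg Prod.snd hz
  · rintro ⟨x, y⟩
    obtain ⟨z, hz⟩ := hb.2 ⟨(x, y), @Subsingleton.elim _ h0.2 _ _⟩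
    refine ⟨z, Prod.ext ?_ ?_⟩
    · exact congrArg (fun t => t.1.1) hz
    · exact congrArg (fun t => t.1.2) hz

/-- addition -/
noncomputable def add (x y : F.obj (dual Λ k)) : F.obj (dual Λ k) :=
  F.map plus (Function.surjInv (β₂_bijective F h0 h2).2 (x, y))

theorem add_proj (z : F.obj (dual2 Λ k)) :
    add F h0 h2 (F.map pr₁ z) (F.map pr₂ z) = F.map plus z := by
  unfold add
  congr 1
  apply (β₂_bijective F h0 h2).1
  exact Function.surjInv_eq (β₂_bijective F h0 h2).2 _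

/-- evaluation of a linear form -/
def ev (w : F.obj (dual3 Λ k)) (ℓ : ((k × k) × k) →ₗ[k] k) : F.obj (dual Λ k) := F.map (m1 ℓ) w

theorem ev_add (w : F.obj (dual3 Λ k)) (ℓ₁ ℓ₂ : ((k × k) × k) →ₗ[k] k) :
    add F h0 h2 (ev F w ℓ₁) (ev F w ℓ₂) = ev F w (ℓ₁ + ℓ₂) := by
  have := add_proj F h0 h2 (F.map (m2 (ℓ₁.prod ℓ₂)) w)
  rw [← Functor.map_comp_apply, ← Functor.map_comp_apply, ← Functor.map_comp_apply, m2_pr₁, m2_pr₂,
    m2_plus] at this
  exact this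

theorem ev_smul (c : k) (w : F.obj (dual3 Λ k)) (ℓ : ((k × k) × k) →ₗ[k] k) :
    F.map (scale c) (ev F w ℓ) = ev F w (c • ℓ) := by
  unfold ev
  rw [← Functor.map_comp_apply, m1_scale]

include h0 in
theorem ev_zero (x₀ : F.obj (base Λ k)) (w : F.obj (dual3 Λ k)) :
    F.map baseToDual x₀ = ev F w 0 := by
  unfold ev
  rw [m1_zero, Functor.map_comp_apply]
  congr 1
  exact @Subsingleton.elim _ h0.2 _ _

include h0 h2 in
theorem exists_w (x y z : F.obj (dual Λ k)) :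
    ∃ w : F.obj (dual3 Λ k),
      ev F w ((LinearMap.fst k k k).comp (LinearMap.fst k (k × k) k)) = x ∧
      ev F w ((LinearMap.snd k k k).comp (LinearMap.fst k (k × k) k)) = y ∧
      ev F w (LinearMap.snd k (k × k) k) = z := by
  obtain ⟨u, hu⟩ := (β₂_bijective F h0 h2).2 (x, y)
  have hu1 : F.map pr₁ u = x := congrArg Prod.fst hu
  have hu2 : F.map pr₂ u = y := congrArg Prod.snd hu
  obtain ⟨w, hw⟩ := (h2 _ _ (isFibreProd_dual3 (Λ := Λ) (k := k))).2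
    ⟨(u, z), @Subsingleton.elim _ h0.2 _ _⟩
  have hw1 : F.map (m2 (LinearMap.fst k (k × k) k)) w = u := congrArg (fun t => t.1.1) hw
  have hw2 : F.map (m1 (LinearMap.snd k (k × k) k)) w = z := congrArg (fun t => t.1.2) hw
  refine ⟨w, ?_, ?_, hw2⟩
  · unfold ev
    rw [← m2_fst_pr₁, Functor.map_comp_apply, hw1, hu1]
  · unfold ev
    rw [← m2_fst_pr₂, Functor.map_comp_apply, hw1, hu2]

include h0 h2 in
/-- The tangent space structure. -/
theorem nonempty_tangentStr : Nonempty (TangentStr F) := by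
  obtain ⟨x₀⟩ := h0.1
  let T := F.obj (dual Λ k)
  let iAdd : Add T := ⟨add F h0 h2⟩
  let iZero : Zero T := ⟨F.map baseToDual x₀⟩
  let iNeg : Neg T := ⟨fun x => F.map (scale (-1)) x⟩
  let iSMul : SMul k T := ⟨fun c x => F.map (scale c) x⟩
  have hA : ∀ (w : F.obj (dual3 Λ k)) (ℓ₁ ℓ₂ : ((k × k) × k) →ₗ[k] k),
      (ev F w ℓ₁ : T) + ev F w ℓ₂ = ev F w (ℓ₁ + ℓ₂) := ev_add F h0 h2
  have hS : ∀ (c : k) (w : F.obj (dual3 Λ k)) (ℓ : ((k × k) × k) →ₗ[k] k),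
      c • (ev F w ℓ : T) = ev F w (c • ℓ) := ev_smul F
  have hZ : ∀ w : F.obj (dual3 Λ k), (0 : T) = ev F w 0 := ev_zero F h0 x₀
  have hN : ∀ (w : F.obj (dual3 Λ k)) (ℓ : ((k × k) × k) →ₗ[k] k),
      -(ev F w ℓ : T) = ev F w (-ℓ) := fun w ℓ => by
    have := ev_smul F (-1) w ℓ
    rw [neg_one_smul k ℓ] at this
    exact this
  have hW := exists_w F h0 h2
  let iGrp : AddGroup T := AddGroup.ofLeftAxioms
    (fun x y z => by
      obtain ⟨w, rfl, rfl, rfl⟩ := hW x y z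
      rw [hA, hA, hA, hA, add_assoc])
    (fun x => by
      obtain ⟨w, rfl, _, _⟩ := hW x x x
      rw [hZ w, hA, zero_add])
    (fun x => by
      obtain ⟨w, rfl, _, _⟩ := hW x x x
      rw [hN, hA, neg_add_cancel, ← hZ])
  let iCGrp : AddCommGroup T :=
    { iGrp with
      add_comm := fun x y => by
        obtain ⟨w, rfl, rfl, _⟩ := hW x y y
        change (ev F w _ : T) + ev F w _ = ev F w _ + ev F w _
        rw [hA, hA, add_comm] }
  have hA' : ∀ (w : F.obj (dual3 Λ k)) (ℓ₁ ℓ₂ : ((k × k) × k) →ₗ[k] k),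
      (ev F w ℓ₁ : T) + ev F w ℓ₂ = ev F w (ℓ₁ + ℓ₂) := hA
  let iMod : Module k T := Module.ofMinimalAxioms
    (fun c x y => by
      obtain ⟨w, rfl, rfl, _⟩ := hW x y y
      rw [hA', hS, hS, hS, hA', smul_add])
    (fun c d x => by
      obtain ⟨w, rfl, _, _⟩ := hW x x x
      rw [hS, hS, hS, hA', add_smul])
    (fun c d x => by
      obtain ⟨w, rfl, _, _⟩ := hW x x x
      rw [hS, hS, hS, mul_smul])
    (fun x => by
      obtain ⟨w, rfl, _, _⟩ := hW x x x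
      rw [hS, one_smul])
  exact ⟨{ addCommGroup := iCGrp
           module := iMod
           smul_eq := fun c x => rfl
           add_eq := fun z => add_proj F h0 h2 z }⟩

end Str

end Groth.Agent.H15.ArtTan
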