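import Mathlib
set_option autoImplicit false
universe u v
namespace Groth.Agent.H15.ArtUnion

theorem artunion (B : Type u) [CommRing B] [IsNoetherianRing B]
    {ι : Type v} (C : ι → Subring B)
    (hart : ∀ i, IsArtinianRing ↥(C i)) (hcov : ∀ b : B, ∃ i, b ∈ C i) : IsArtinianRing B := by
  rw [isArtinianRing_iff_krullDimLE_zero]
  refine Ring.KrullDimLE.mk₀ fun P hP => ?_
  apply Ideal.Quotient.maximal_of_isField
  refine ⟨⟨0, 1, zero_ne_one⟩, mul_comm, ?_⟩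
  intro a ha
  obtain ⟨b, rfl⟩ := Ideal.Quotient.mk_surjective a
  have hbP : b ∉ P := fun h => ha (Ideal.Quotient.eq_zero_iff_mem.mpr h)
  obtain ⟨i, hi⟩ := hcov b
  have := hart i
  let Pi : Ideal (C i) := P.comap (C i).subtype
  have hPi : Pi.IsPrime := Ideal.comap_isPrime _ _
  have hmax : Pi.IsMaximal := inferInstance
  have hb : (⟨b, hi⟩ : C i) ∉ Pi := hbP
  obtain ⟨c, hc⟩ := hmax.exists_inv hb
  refine ⟨Ideal.Quotient.mk P (c : B), ?_⟩
  rw [← map_mul, ← map_one (Ideal.Quotient.mk P), Ideal.Quotient.eq]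
  obtain ⟨j, hj, hcj⟩ := hc
  have h1 : (c * ⟨b, hi⟩ - 1 : C i) ∈ Pi := by
    have : (c * ⟨b, hi⟩ - 1 : C i) = -j := by rw [← hcj]; ring
    rw [this]; exact Pi.neg_mem hj
  have h2 : ((c : B) * b - 1) ∈ P := h1
  rw [mul_comm]
  exact h2
end Groth.Agent.H15.ArtUnion
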