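import Mathlib
import Groth.Agent.H15.ArtProrep
import Groth.Agent.H15.ArtMin
import Groth.Agent.H15.ArtFormal2

universe u v

open CategoryTheory

namespace Groth.Agent.H15.ArtUniq

open ArtFun ArtFun.Art IsLocalRing Groth.Agent.H15.ArtHR Groth.Agent.H15.ArtFunA
  Groth.Agent.H15.ArtFormal Groth.Agent.H15.ArtFormal2 Groth.Agent.H15.ArtMin

variable {Λ : Type u} {k : Type u} [CommRing Λ] [Field k] [Algebra Λ k]
variable {F : Art Λ k ⥤ Type v}

lemma family_ext {R : Type u} [CommRing R] [Algebra Λ R] {resR : R →ₐ[Λ] k}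
    {ξ₁ ξ₂ : Family R resR F} (h : ∀ A w, ξ₁.app A w = ξ₂.app A w) : ξ₁ = ξ₂ := by
  obtain ⟨a₁, n₁⟩ := ξ₁
  obtain ⟨a₂, n₂⟩ := ξ₂
  have : a₁ = a₂ := funext fun A => funext fun w => h A w
  subst this
  rfl

/-- A family is determined by its formal element. -/
theorem family_eq_of_toFormalElt_eq (R : CRing Λ k) (ξ₁ ξ₂ : Family R.carrier R.res F)
    (h : ξ₁.toFormalElt = ξ₂.toFormalElt) : ξ₁ = ξ₂ := by
  apply family_ext
  intro A w
  obtain ⟨N, hN⟩ := exists_factor_trunc R A w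
  obtain ⟨wb, hwb⟩ := hN N le_rfl
  have e : ξ₁.app _ (R.truncHom N) = ξ₂.app _ (R.truncHom N) :=
    congrArg (fun u : FormalElt F R => u.elt N) h
  rw [← hwb, ξ₁.natural, ξ₂.natural, e]

/-- Maps out of a prorepresenting ring are determined by the pulled-back family. -/
theorem hom_eq_of_along_eq (P : ProRep F) (S : CRing Λ k)
    (g g' : P.ring.carrier →ₐ[Λ] S.carrier) (hg : S.res.comp g = P.ring.res)
    (hg' : S.res.comp g' = P.ring.res)
    (h : P.family.along g hg = P.family.along g' hg') : g = g' := by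
  apply hom_ext_levels S
  intro n
  have e : (P.family.along g hg).app _ (S.truncHom n) = (P.family.along g' hg').app _ (S.truncHom n) := by
    rw [h]
  have := (P.universal _).1 e
  exact congrArg Subtype.val this

lemma along_along {R S T : Type u} [CommRing R] [Algebra Λ R] {resR : R →ₐ[Λ] k}
    [CommRing S] [Algebra Λ S] {resS : S →ₐ[Λ] k} [CommRing T] [Algebra Λ T] {resT : T →ₐ[Λ] k}
    (ξ : Family R resR F) (g : R →ₐ[Λ] S) (hg : resS.comp g = resR)
    (g' : S →ₐ[Λ] T) (hg' : resT.comp g' = resS) (hgg : resT.comp (g'.comp g) = resR) :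
    (ξ.along g hg).along g' hg' = ξ.along (g'.comp g) hgg := by
  apply family_ext
  intro A w
  rfl

lemma along_id {R : Type u} [CommRing R] [Algebra Λ R] {resR : R →ₐ[Λ] k}
    (ξ : Family R resR F) (h : resR.comp (AlgHom.id Λ R) = resR) :
    ξ.along (AlgHom.id Λ R) h = ξ := by
  apply family_ext
  intro A w
  rfl

theorem exists_hom (P Q : ProRep F) :
    ∃ (g : P.ring.carrier →ₐ[Λ] Q.ring.carrier) (hg : Q.ring.res.comp g = P.ring.res),
      P.family.along g hg = Q.family := by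
  have h0 : H0 F := H0_of_surj P.family (P.universal _).2
  obtain ⟨g, hg, e⟩ := exists_along_toFormalElt h0 P.ring P.family
    (ArtSep.isVersal_of_isUniversal P.family P.universal) Q.ring Q.family.toFormalElt
  exact ⟨g, hg, family_eq_of_toFormalElt_eq _ _ _ e⟩

theorem existsUnique_algEquiv (P Q : ProRep F) :
    ∃! e : P.ring.carrier ≃ₐ[Λ] Q.ring.carrier,
      ∃ he : Q.ring.res.comp e.toAlgHom = P.ring.res, P.family.along e.toAlgHom he = Q.family := by
  obtain ⟨g₁₂, h₁₂, e₁₂⟩ := exists_hom P Q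
  obtain ⟨g₂₁, h₂₁, e₂₁⟩ := exists_hom Q P
  have hc1 : P.ring.res.comp (g₂₁.comp g₁₂) = P.ring.res := by
    rw [← AlgHom.comp_assoc, h₂₁, h₁₂]
  have hc2 : Q.ring.res.comp (g₁₂.comp g₂₁) = Q.ring.res := by
    rw [← AlgHom.comp_assoc, h₁₂, h₂₁]
  have hid1 : g₂₁.comp g₁₂ = AlgHom.id Λ P.ring.carrier := by
    apply hom_eq_of_along_eq P P.ring _ _ hc1 (AlgHom.comp_id _)
    rw [← along_along P.family g₁₂ h₁₂ g₂₁ h₂₁ hc1, e₁₂, e₂₁, along_id]
  have hid2 : g₁₂.comp g₂₁ = AlgHom.id Λ Q.ring.carrier := by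
    apply hom_eq_of_along_eq Q Q.ring _ _ hc2 (AlgHom.comp_id _)
    rw [← along_along Q.family g₂₁ h₂₁ g₁₂ h₁₂ hc2, e₂₁, e₁₂, along_id]
  have helper : ∀ (g' : P.ring.carrier →ₐ[Λ] Q.ring.carrier), g' = g₁₂ →
      ∃ he : Q.ring.res.comp g' = P.ring.res, P.family.along g' he = Q.family := by
    rintro g' rfl
    exact ⟨h₁₂, e₁₂⟩
  refine ⟨AlgEquiv.ofAlgHom g₁₂ g₂₁ hid2 hid1, helper _ (AlgHom.ext fun _ => rfl), ?_⟩
  rintro e' ⟨he', hf'⟩
  have : e'.toAlgHom = g₁₂ := hom_eq_of_along_eq P Q.ring _ _ he' h₁₂ (hf'.trans e₁₂.symm)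
  apply AlgEquiv.ext
  intro x
  exact DFunLike.congr_fun this x

end Groth.Agent.H15.ArtUniq
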