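import Mathlib

universe u v

open scoped TensorProduct
open Coalgebra

namespace Groth.Agent.H15.FrobKer

section InvDer

variable {k A : Type*} [CommRing k] [CommRing A] [Bialgebra k A]

/-- The invariant operator attached to a linear form. -/
noncomputable def invLin (τ : A →ₗ[k] k) : A →ₗ[k] A :=
  (TensorProduct.rid k A).toLinearMap ∘ₗ (LinearMap.lTensor A τ) ∘ₗ (comul : A →ₗ[k] A ⊗[k] A)

lemma invLin_apply (τ : A →ₗ[k] k) (a : A) :
    invLin τ a = TensorProduct.rid k A (LinearMap.lTensor A τ (comul a)) := rfl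

lemma key_mul (τ : A →ₗ[k] k)
    (hτ : ∀ a b, τ (a * b) = counit (R := k) a * τ b + τ a * counit (R := k) b)
    (u v : A ⊗[k] A) :
    TensorProduct.rid k A (LinearMap.lTensor A τ (u * v)) =
      TensorProduct.rid k A (LinearMap.lTensor A (counit : A →ₗ[k] k) u) *
          TensorProduct.rid k A (LinearMap.lTensor A τ v) +
        TensorProduct.rid k A (LinearMap.lTensor A τ u) *
          TensorProduct.rid k A (LinearMap.lTensor A (counit : A →ₗ[k] k) v) := by
  induction u using TensorProduct.induction_on with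
  | zero => simp
  | add u₁ u₂ h₁ h₂ => simp only [add_mul, map_add, h₁, h₂]; ring
  | tmul a₁ a₂ =>
    induction v using TensorProduct.induction_on with
    | zero => simp
    | add v₁ v₂ h₁ h₂ => simp only [mul_add, map_add, h₁, h₂]; ring
    | tmul b₁ b₂ =>
      simp only [Algebra.TensorProduct.tmul_mul_tmul, LinearMap.lTensor_tmul,
        TensorProduct.rid_tmul, hτ, add_smul, smul_mul_smul_comm, mul_comm]

/-- The invariant derivation attached to a point derivation. -/
noncomputable def invDer (τ : A →ₗ[k] k) (h1 : τ 1 = 0)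
    (hτ : ∀ a b, τ (a * b) = counit (R := k) a * τ b + τ a * counit (R := k) b) :
    Derivation k A A where
  toLinearMap := invLin τ
  map_one_eq_zero' := by
    change invLin τ 1 = 0
    rw [invLin_apply, Bialgebra.comul_one, Algebra.TensorProduct.one_def, LinearMap.lTensor_tmul,
      TensorProduct.rid_tmul, h1, zero_smul]
  leibniz' a b := by
    change invLin τ (a * b) = a • invLin τ b + b • invLin τ a
    rw [invLin_apply, Bialgebra.comul_mul, key_mul τ hτ, lTensor_counit_comul,
      lTensor_counit_comul, TensorProduct.rid_tmul, TensorProduct.rid_tmul, one_smul, one_smul,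
      ← invLin_apply, ← invLin_apply, smul_eq_mul, smul_eq_mul]
    ring

lemma invDer_apply (τ : A →ₗ[k] k) (h1 : τ 1 = 0)
    (hτ : ∀ a b, τ (a * b) = counit (R := k) a * τ b + τ a * counit (R := k) b) (a : A) :
    invDer τ h1 hτ a = invLin τ a := rfl

lemma counit_rid_lTensor (τ : A →ₗ[k] k) (u : A ⊗[k] A) :
    counit (R := k) (TensorProduct.rid k A (LinearMap.lTensor A τ u)) =
      τ (TensorProduct.lid k A (LinearMap.rTensor A (counit : A →ₗ[k] k) u)) := by
  induction u using TensorProduct.induction_on with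
  | zero => simp
  | add u₁ u₂ h₁ h₂ => simp only [map_add, h₁, h₂]
  | tmul a b =>
    simp only [LinearMap.lTensor_tmul, TensorProduct.rid_tmul, LinearMap.rTensor_tmul,
      TensorProduct.lid_tmul, map_smul, smul_eq_mul, mul_comm]

lemma counit_invLin (τ : A →ₗ[k] k) (a : A) : counit (R := k) (invLin τ a) = τ a := by
  rw [invLin_apply, counit_rid_lTensor, rTensor_counit_comul, TensorProduct.lid_tmul, one_smul]

end InvDer

section PointDer

variable {k : Type u} {A : Type v} [Field k] [CommRing A] [Bialgebra k A]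

/-- The augmentation ideal. -/
abbrev aug (k : Type u) (A : Type v) [Field k] [CommRing A] [Bialgebra k A] : Ideal A :=
  RingHom.ker (Bialgebra.counitAlgHom k A).toRingHom

lemma mem_aug {a : A} : a ∈ aug k A ↔ counit (R := k) a = 0 := Iff.rfl

/-- The projection to the augmentation ideal. -/
noncomputable def proj : A →ₗ[k] aug k A where
  toFun a := ⟨a - algebraMap k A (counit (R := k) a), by
    rw [mem_aug, map_sub]
    have : counit (R := k) (algebraMap k A (counit (R := k) a)) = counit (R := k) a := by
      exact (Bialgebra.counitAlgHom k A).commutes (counit (R := k) a)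
    rw [this, sub_self]⟩
  map_add' a b := by
    apply Subtype.ext
    simp only [map_add, Submodule.coe_add]
    ring
  map_smul' c a := by
    apply Subtype.ext
    simp only [map_smul, smul_eq_mul, RingHom.id_apply, map_mul, Submodule.coe_smul_of_tower]
    rw [Algebra.smul_def, Algebra.smul_def]
    ring

lemma proj_coe (a : A) : ((proj a : aug k A) : A) = a - algebraMap k A (counit (R := k) a) := rfl

lemma proj_of_mem (x : aug k A) : proj (x : A) = x := by
  apply Subtype.ext
  rw [proj_coe, mem_aug.1 x.2, map_zero, sub_zero]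

/-- The point derivation attached to a linear form on the cotangent space. -/
noncomputable def pointDer (l : (aug k A).Cotangent →ₗ[k] k) : A →ₗ[k] k :=
  l ∘ₗ ((aug k A).toCotangent.restrictScalars k) ∘ₗ proj

lemma pointDer_apply (l : (aug k A).Cotangent →ₗ[k] k) (a : A) :
    pointDer l a = l ((aug k A).toCotangent (proj a)) := rfl

lemma pointDer_one (l : (aug k A).Cotangent →ₗ[k] k) : pointDer l (1 : A) = 0 := by
  have : (proj (1 : A) : aug k A) = 0 := by
    apply Subtype.ext
    rw [proj_coe, Bialgebra.counit_one, map_one, sub_self]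
    rfl
  rw [pointDer_apply, this, map_zero, map_zero]

lemma pointDer_mul (l : (aug k A).Cotangent →ₗ[k] k) (a b : A) :
    pointDer l (a * b) = counit (R := k) a * pointDer l b + pointDer l a * counit (R := k) b := by
  have h1 : (proj (a * b) : aug k A) =
      (proj a) * (proj b) + counit (R := k) a • proj b + counit (R := k) b • proj a := by
    apply Subtype.ext
    simp only [Submodule.coe_add, Submodule.coe_smul_of_tower, proj_coe, Bialgebra.counit_mul,
      map_mul]
    change a * b - _ = (a - _) * (b - _) + _ + _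
    rw [Algebra.smul_def, Algebra.smul_def]
    ring
  have h2 : (aug k A).toCotangent ((proj a) * (proj b)) = 0 := by
    rw [Ideal.toCotangent_eq_zero, pow_two]
    exact Ideal.mul_mem_mul (proj a).2 (proj b).2
  rw [pointDer_apply, h1]
  simp only [map_add]
  rw [h2, map_zero, zero_add]
  have h3 : ∀ (c : k) (y : aug k A), (aug k A).toCotangent (c • y) = c • (aug k A).toCotangent y :=
    fun c y => ((aug k A).toCotangent.restrictScalars k).map_smul c y
  rw [h3, h3, map_smul, map_smul, pointDer_apply, pointDer_apply, smul_eq_mul, smul_eq_mul]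
  ring

lemma pointDer_of_mem (l : (aug k A).Cotangent →ₗ[k] k) (x : aug k A) :
    pointDer l (x : A) = l ((aug k A).toCotangent x) := by
  rw [pointDer_apply, proj_of_mem]

end PointDer

section Stab

variable {k A : Type u} [Field k] [CommRing A] [Algebra k A] (p : ℕ) [Fact p.Prime] [CharP k p]

/-- The ideal generated by the `p`-th powers of the elements of an ideal. -/
def frobIdeal (I : Ideal A) : Ideal A := Ideal.span ((fun a : A => a ^ p) '' (I : Set A))

include k in
omit [Fact p.Prime] in
lemma natCast_eq_zero : (p : A) = 0 := by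
  rw [← map_natCast (algebraMap k A), CharP.cast_eq_zero, map_zero]

omit [Fact p.Prime] in
lemma der_pow_p (D : Derivation k A A) (a : A) : D (a ^ p) = 0 := by
  rw [Derivation.leibniz_pow, ← Nat.cast_smul_eq_nsmul A, natCast_eq_zero (k := k) p, zero_smul]

omit [Fact p.Prime] in
lemma der_mem_frobIdeal (I : Ideal A) (D : Derivation k A A) {y : A} (hy : y ∈ frobIdeal p I) :
    D y ∈ frobIdeal p I := by
  unfold frobIdeal at hy ⊢
  refine Submodule.span_induction (p := fun y _ => D y ∈ Ideal.span ((fun a : A => a ^ p) '' (I : Set A)))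
    ?_ ?_ ?_ ?_ hy
  · rintro _ ⟨a, -, rfl⟩
    change D (a ^ p) ∈ _
    rw [der_pow_p]
    exact Ideal.zero_mem _
  · rw [map_zero]
    exact Ideal.zero_mem _
  · intro x y _ _ hx hy
    rw [map_add]
    exact Ideal.add_mem _ hx hy
  · intro r x hx hDx
    rw [smul_eq_mul, Derivation.leibniz]
    exact Ideal.add_mem _ (Ideal.mul_mem_left _ _ hDx) (Ideal.mul_mem_right _ _ hx)

lemma frobIdeal_le (I : Ideal A) : frobIdeal p I ≤ I := by
  unfold frobIdeal
  rw [Ideal.span_le]
  rintro _ ⟨a, ha, rfl⟩
  exact Ideal.pow_mem_of_mem _ ha p (Fact.out : p.Prime).pos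

end Stab

section Chain

variable {k : Type u} {A : Type v} [Field k] [CommRing A] [Algebra k A] {d : ℕ}

open MvPolynomial

/-- Chain rule for a derivation along a polynomial substitution. -/
lemma der_aeval (D : Derivation k A A) (x : Fin d → A) (F : MvPolynomial (Fin d) k) :
    D (aeval x F) = ∑ j, aeval x (pderiv j F) * D (x j) := by
  classical
  induction F using MvPolynomial.induction_on with
  | C c =>
    simp only [aeval_C, Derivation.map_algebraMap, pderiv_C, map_zero, zero_mul,
      Finset.sum_const_zero]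
  | add F G hF hG =>
    simp only [map_add, hF, hG, add_mul, Finset.sum_add_distrib]
  | mul_X F i hF =>
    rw [map_mul, aeval_X, Derivation.leibniz, hF]
    have h1 : ∀ j, aeval x (pderiv j (F * X i)) * D (x j) =
        x i * (aeval x (pderiv j F) * D (x j)) +
          (if j = i then aeval x F * D (x i) else 0) := by
      intro j
      rw [Derivation.leibniz, pderiv_X, smul_eq_mul, smul_eq_mul, map_add, map_mul, map_mul,
        aeval_X]
      by_cases hji : j = i
      · subst hji
        rw [Pi.single_eq_same, map_one, if_pos rfl]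
        ring
      · rw [Pi.single_eq_of_ne' hji, map_zero, if_neg hji]
        ring
    simp only [h1, Finset.sum_add_distrib, Finset.sum_ite_eq', Finset.mem_univ, if_true,
      ← Finset.mul_sum, smul_eq_mul]
    ring

end Chain

section Linear

lemma mem_of_matrix_unit {A : Type*} [CommRing A] {d : ℕ} (J : Ideal A)
    (U : Matrix (Fin d) (Fin d) A) (hU : IsUnit U.det) (v : Fin d → A)
    (h : ∀ i, ∑ j, U i j * v j ∈ J) : ∀ j, v j ∈ J := by
  intro j
  have h1 : v = U⁻¹.mulVec (U.mulVec v) := by
    rw [Matrix.mulVec_mulVec, Matrix.nonsing_inv_mul U hU, Matrix.one_mulVec]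
  rw [h1]
  change ∑ i, U⁻¹ j i * (U.mulVec v) i ∈ J
  refine Ideal.sum_mem _ fun i _ => Ideal.mul_mem_left _ _ ?_
  exact h i

end Linear

section Coeff

variable {k : Type u} [Field k] {d : ℕ}

open MvPolynomial

lemma coeff_eq_zero_of_pderiv_closed (p : ℕ) [CharP k p]
    (K : Ideal (MvPolynomial (Fin d) k))
    (h0 : ∀ F ∈ K, constantCoeff F = 0) (hd : ∀ F ∈ K, ∀ j, pderiv j F ∈ K) :
    ∀ F ∈ K, ∀ a : Fin d →₀ ℕ, (∀ i, a i < p) → coeff a F = 0 := by
  classical
  have key : ∀ n : ℕ, ∀ F ∈ K, ∀ a : Fin d →₀ ℕ, a.degree = n → (∀ i, a i < p) →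
      coeff a F = 0 := by
    intro n
    induction n with
    | zero =>
      intro F hF a ha _
      rw [Finsupp.degree_eq_zero_iff] at ha
      subst ha
      rw [← constantCoeff_eq]
      exact h0 F hF
    | succ n ih =>
      intro F hF a ha hap
      have hne : a ≠ 0 := by
        intro h
        rw [h, map_zero] at ha
        exact Nat.succ_ne_zero n ha.symm
      obtain ⟨i, hi⟩ : ∃ i, a i ≠ 0 := by
        by_contra hcon
        simp only [not_exists, not_not] at hcon
        exact hne (Finsupp.ext hcon)
      have hab : a - Finsupp.single i 1 + Finsupp.single i 1 = a :=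
        Finsupp.sub_add_single_one_cancel hi
      have hdeg : (a - Finsupp.single i 1).degree = n := by
        have h1 := congrArg Finsupp.degree hab
        rw [map_add, Finsupp.degree_single, ha] at h1
        exact Nat.succ_injective h1
      have hbp : ∀ j, (a - Finsupp.single i 1 : Fin d →₀ ℕ) j < p := by
        intro j
        refine lt_of_le_of_lt ?_ (hap j)
        rw [Finsupp.tsub_apply]
        exact Nat.sub_le _ _
      have h2 := ih (pderiv i F) (hd F hF i) _ hdeg hbp
      rw [coeff_pderiv, hab] at h2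
      rcases mul_eq_zero.1 h2 with h3 | h3
      · exact h3
      · exfalso
        have h4 : ((a - Finsupp.single i 1 : Fin d →₀ ℕ) i + 1 : ℕ) = a i := by
          rw [Finsupp.tsub_apply, Finsupp.single_eq_same]
          omega
        have h5 : ((a i : ℕ) : k) = 0 := by
          rw [← h4]
          push_cast
          exact h3
        rw [CharP.cast_eq_zero_iff k p] at h5
        exact absurd (Nat.le_of_dvd (Nat.pos_of_ne_zero hi) h5) (not_le.2 (hap i))
  intro F hF a hap
  exact key _ F hF a rfl hap

lemma mem_span_X_pow (p : ℕ) (F : MvPolynomial (Fin d) k)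
    (h : ∀ a : Fin d →₀ ℕ, (∀ i, a i < p) → coeff a F = 0) :
    F ∈ Ideal.span (Set.range fun i : Fin d => (X i : MvPolynomial (Fin d) k) ^ p) := by
  classical
  rw [← support_sum_monomial_coeff F]
  refine Ideal.sum_mem _ fun a ha => ?_
  have hc : coeff a F ≠ 0 := mem_support_iff.1 ha
  have h1 : ¬ ∀ i, a i < p := fun hcon => hc (h a hcon)
  simp only [not_forall, not_lt] at h1
  obtain ⟨i, hi⟩ := h1
  have h2 : a = (a - Finsupp.single i p) + Finsupp.single i p := by
    rw [tsub_add_cancel_of_le]
    rw [Finsupp.single_le_iff]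
    exact hi
  rw [h2, monomial_add_single]
  exact Ideal.mul_mem_left _ _ (Ideal.subset_span ⟨i, rfl⟩)

end Coeff

section Surj

variable {k A : Type u} [Field k] [CommRing A] [Algebra k A] {d : ℕ}

open MvPolynomial

/-- Elements of an augmentation ideal which generate it modulo its square generate the algebra,
provided the ideal is nilpotent. -/
theorem aeval_surjective (ε : A →ₐ[k] k) (x : Fin d → A)
    (hx : ∀ j, x j ∈ RingHom.ker ε.toRingHom)
    (hspan : ∀ y ∈ RingHom.ker ε.toRingHom, ∃ c : Fin d → k,
      y - ∑ j, c j • x j ∈ RingHom.ker ε.toRingHom ^ 2)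
    (N : ℕ) (hN : RingHom.ker ε.toRingHom ^ N = ⊥) :
    Function.Surjective (aeval x : MvPolynomial (Fin d) k →ₐ[k] A) := by
  set I := RingHom.ker ε.toRingHom with hI
  set T : Subalgebra k A := (aeval x : MvPolynomial (Fin d) k →ₐ[k] A).range with hT
  have hxT : ∀ j, x j ∈ T := fun j => ⟨X j, aeval_X x j⟩
  have key : ∀ n : ℕ, ∀ y ∈ I, ∃ t ∈ T, t ∈ I ∧ y - t ∈ I ^ (n + 1) := by
    intro n
    induction n with
    | zero =>
      intro y hy
      exact ⟨0, T.zero_mem, I.zero_mem, by rwa [sub_zero, zero_add, pow_one]⟩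
    | succ n ih =>
      intro y hy
      obtain ⟨c, hc⟩ := hspan y hy
      have hsq : ∀ z ∈ I ^ 2, ∃ t ∈ T, t ∈ I ∧ z - t ∈ I ^ (n + 1 + 1) := by
        intro z hz
        rw [pow_two] at hz
        refine Submodule.mul_induction_on hz ?_ ?_
        · intro y₁ h₁ y₂ h₂
          obtain ⟨t₁, ht₁T, ht₁I, hu₁⟩ := ih y₁ h₁
          obtain ⟨t₂, ht₂T, ht₂I, hu₂⟩ := ih y₂ h₂
          refine ⟨t₁ * t₂, T.mul_mem ht₁T ht₂T, I.mul_mem_left _ ht₂I, ?_⟩
          have h3 : y₁ * y₂ - t₁ * t₂ = (y₁ - t₁) * y₂ + t₁ * (y₂ - t₂) := by ring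
          rw [h3, pow_succ (n := n + 1)]
          refine Ideal.add_mem _ (Ideal.mul_mem_mul hu₁ h₂) ?_
          have h4 : t₁ * (y₂ - t₂) = (y₂ - t₂) * t₁ := mul_comm _ _
          rw [h4]
          exact Ideal.mul_mem_mul hu₂ ht₁I
        · rintro z₁ z₂ ⟨t₁, ht₁T, ht₁I, hu₁⟩ ⟨t₂, ht₂T, ht₂I, hu₂⟩
          refine ⟨t₁ + t₂, T.add_mem ht₁T ht₂T, I.add_mem ht₁I ht₂I, ?_⟩
          have h3 : z₁ + z₂ - (t₁ + t₂) = (z₁ - t₁) + (z₂ - t₂) := by ring
          rw [h3]
          exact Ideal.add_mem _ hu₁ hu₂
      obtain ⟨t, htT, htI, hu⟩ := hsq _ hc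
      refine ⟨∑ j, c j • x j + t, T.add_mem (T.sum_mem fun j _ => T.smul_mem (hxT j) _)
        (by exact htT), I.add_mem (I.sum_mem fun j _ => ?_) htI, ?_⟩
      · rw [Algebra.smul_def]
        exact I.mul_mem_left _ (hx j)
      · have h3 : y - (∑ j, c j • x j + t) = (y - ∑ j, c j • x j) - t := by ring
        rw [h3]
        exact hu
  have hIT : ∀ y ∈ I, y ∈ T := by
    intro y hy
    obtain ⟨t, htT, -, hu⟩ := key N y hy
    have h1 : I ^ (N + 1) = ⊥ := by rw [pow_succ, hN, Ideal.bot_mul]
    rw [h1, Ideal.mem_bot, sub_eq_zero] at hu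
    rw [hu]
    exact htT
  intro a
  have h1 : a - algebraMap k A (ε a) ∈ I := by
    rw [hI, RingHom.mem_ker]
    change ε (a - algebraMap k A (ε a)) = 0
    rw [map_sub, AlgHom.commutes, Algebra.algebraMap_self_apply, sub_self]
  have h2 : a = (a - algebraMap k A (ε a)) + algebraMap k A (ε a) := by ring
  have h3 : a ∈ T := by
    rw [h2]
    exact T.add_mem (hIT _ h1) (T.algebraMap_mem _)
  exact h3

end Surj

section Main

variable (k : Type u) [Field k] (p : ℕ) [Fact p.Prime] [CharP k p]
  (A : Type u) [CommRing A] [HopfAlgebra k A] [FiniteDimensional k A] [IsLocalRing A]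

open MvPolynomial

theorem main (d : ℕ)
    (hd : Module.finrank k (RingHom.ker (Bialgebra.counitAlgHom k A).toRingHom).Cotangent = d) :
    Nonempty ((A ⧸ Ideal.span ((fun a : A => a ^ p) ''
        (RingHom.ker (Bialgebra.counitAlgHom k A).toRingHom : Set A))) ≃ₐ[k]
      (MvPolynomial (Fin d) k ⧸
        Ideal.span (Set.range fun i : Fin d => (X i : MvPolynomial (Fin d) k) ^ p))) := by
  classical
  change Nonempty ((A ⧸ frobIdeal p (aug k A)) ≃ₐ[k] _)
  -- finiteness of the cotangent space
  have hfinI : Module.Finite k (aug k A) :=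
    Module.Finite.of_injective ((aug k A).subtype.restrictScalars k) Subtype.val_injective
  have hfinC : Module.Finite k (aug k A).Cotangent :=
    Module.Finite.of_surjective ((aug k A).toCotangent.restrictScalars k)
      (aug k A).toCotangent_surjective
  let b : Module.Basis (Fin d) k (aug k A).Cotangent := Module.finBasisOfFinrankEq k _ hd
  choose x' hx' using fun j => (aug k A).toCotangent_surjective (b j)
  let x : Fin d → A := fun j => (x' j : A)
  have hxI : ∀ j, x j ∈ aug k A := fun j => (x' j).2
  -- the invariant derivations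
  let D : Fin d → Derivation k A A := fun i =>
    invDer (pointDer (b.coord i)) (pointDer_one _) (pointDer_mul _)
  have hDx : ∀ i j, counit (R := k) (D i (x j)) = if i = j then 1 else 0 := by
    intro i j
    change counit (R := k) (invLin (pointDer (b.coord i)) (x j)) = _
    rw [counit_invLin, pointDer_of_mem, hx', Module.Basis.coord_apply, Module.Basis.repr_self,
      Finsupp.single_apply]
    by_cases h : j = i
    · subst h; simp
    · rw [if_neg h, if_neg (fun h' => h h'.symm)]
  -- the augmentation ideal is the maximal ideal and is nilpotent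
  have hmax : (aug k A).IsMaximal := by
    apply RingHom.ker_isMaximal_of_surjective
    intro c
    exact ⟨algebraMap k A c, (Bialgebra.counitAlgHom k A).commutes c⟩
  have hImax : aug k A = IsLocalRing.maximalIdeal A := IsLocalRing.eq_maximalIdeal hmax
  have hart : IsArtinianRing A := IsArtinianRing.of_finite k A
  obtain ⟨N, hN⟩ : ∃ N : ℕ, aug k A ^ N = ⊥ := by
    obtain ⟨N, hN⟩ := IsArtinianRing.isNilpotent_jacobson_bot (R := A)
    rw [IsLocalRing.jacobson_eq_maximalIdeal ⊥ bot_ne_top, ← hImax] at hN
    exact ⟨N, hN⟩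
  -- surjectivity
  have hspan : ∀ y ∈ aug k A, ∃ c : Fin d → k, y - ∑ j, c j • x j ∈ aug k A ^ 2 := by
    intro y hy
    refine ⟨fun j => b.repr ((aug k A).toCotangent ⟨y, hy⟩) j, ?_⟩
    have h1 : (aug k A).toCotangent ⟨y, hy⟩ =
        (aug k A).toCotangent (∑ j, b.repr ((aug k A).toCotangent ⟨y, hy⟩) j • x' j) := by
      conv_lhs => rw [← b.sum_repr ((aug k A).toCotangent ⟨y, hy⟩)]
      rw [map_sum]
      refine Finset.sum_congr rfl fun j _ => ?_
      rw [← hx']
      exact (((aug k A).toCotangent.restrictScalars k).map_smul _ _).symm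
    rw [Ideal.toCotangent_eq] at h1
    simpa only [Submodule.coe_sum, Submodule.coe_smul_of_tower] using h1
  have hsurj : Function.Surjective (aeval x : MvPolynomial (Fin d) k →ₐ[k] A) :=
    aeval_surjective (Bialgebra.counitAlgHom k A) x hxI hspan N hN
  let ψ : MvPolynomial (Fin d) k →ₐ[k] A ⧸ frobIdeal p (aug k A) :=
    (Ideal.Quotient.mkₐ k (frobIdeal p (aug k A))).comp (aeval x)
  have hψsurj : Function.Surjective ψ :=
    (Ideal.Quotient.mkₐ_surjective k _).comp hsurj
  have hψ0 : ∀ F, ψ F = 0 ↔ aeval x F ∈ frobIdeal p (aug k A) := fun F =>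
    Ideal.Quotient.eq_zero_iff_mem
  -- the determinant of the Jacobian matrix is a unit
  let U : Matrix (Fin d) (Fin d) A := fun i j => D i (x j)
  have hU : IsUnit U.det := by
    have h1 : (Bialgebra.counitAlgHom k A : A →+* k) U.det = 1 := by
      rw [RingHom.map_det]
      have h2 : (Bialgebra.counitAlgHom k A : A →+* k).mapMatrix U = 1 := by
        ext i j
        rw [RingHom.mapMatrix_apply, Matrix.map_apply, Matrix.one_apply]
        exact hDx i j
      rw [h2, Matrix.det_one]
    have h3 : U.det ∉ IsLocalRing.maximalIdeal A := by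
      rw [← hImax]
      intro h4
      have h5 : (Bialgebra.counitAlgHom k A : A →+* k) U.det = 0 := h4
      rw [h1] at h5
      exact one_ne_zero h5
    exact IsLocalRing.notMem_maximalIdeal.1 h3
  -- the kernel
  let K : Ideal (MvPolynomial (Fin d) k) := (frobIdeal p (aug k A)).comap (aeval x)
  have hK0 : ∀ F ∈ K, constantCoeff F = 0 := by
    intro F hF
    have h1 : aeval x F ∈ aug k A := frobIdeal_le p _ hF
    have h2 : (Bialgebra.counitAlgHom k A).comp (aeval x) =
        (aeval (fun _ => (0 : k)) : MvPolynomial (Fin d) k →ₐ[k] k) := by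
      apply MvPolynomial.algHom_ext
      intro j
      rw [AlgHom.comp_apply, aeval_X, aeval_X]
      exact hxI j
    have h3 : (Bialgebra.counitAlgHom k A) (aeval x F) = 0 := h1
    rw [← AlgHom.comp_apply, h2, aeval_zero', Algebra.algebraMap_self_apply] at h3
    exact h3
  have hKd : ∀ F ∈ K, ∀ j, pderiv j F ∈ K := by
    intro F hF
    have h1 : ∀ i, ∑ j, U i j * aeval x (pderiv j F) ∈ frobIdeal p (aug k A) := by
      intro i
      have h2 := der_mem_frobIdeal p (aug k A) (D i) hF
      rw [der_aeval] at h2
      have h3 : ∑ j, U i j * aeval x (pderiv j F) = ∑ j, aeval x (pderiv j F) * D i (x j) :=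
        Finset.sum_congr rfl fun j _ => mul_comm _ _
      rw [h3]
      exact h2
    exact mem_of_matrix_unit _ U hU (fun j => aeval x (pderiv j F)) h1
  have hker : RingHom.ker ψ =
      Ideal.span (Set.range fun i : Fin d => (X i : MvPolynomial (Fin d) k) ^ p) := by
    apply le_antisymm
    · intro F hF
      have hFK : F ∈ K := (hψ0 F).1 hF
      exact mem_span_X_pow p F (coeff_eq_zero_of_pderiv_closed p K hK0 hKd F hFK)
    · rw [Ideal.span_le]
      rintro _ ⟨i, rfl⟩
      rw [SetLike.mem_coe, RingHom.mem_ker]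
      change ψ (X i ^ p) = 0
      rw [hψ0, map_pow, aeval_X]
      exact Ideal.subset_span ⟨x i, hxI i, rfl⟩
  exact ⟨(Ideal.quotientKerAlgEquivOfSurjective hψsurj).symm.trans
    (Ideal.quotientEquivAlgOfEq k hker)⟩

end Main

end Groth.Agent.H15.FrobKer
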