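import Mathlib

namespace Groth.Agent.H15.HomogKrull

open PrimeSpectrum

variable {R : Type*} [CommRing R]

/-- the Krull intersection of an ideal -/
def K (m : Ideal R) : Ideal R := ⨅ n : ℕ, m ^ n

lemma comap_K (e : R ≃+* R) (m : Ideal R) :
    Ideal.comap e (K m) = K (Ideal.comap e m) := by
  unfold K
  rw [Ideal.comap_iInf]
  congr 1
  funext n
  rw [← Ideal.map_symm, ← Ideal.map_symm, Ideal.map_pow]

lemma exists_annihilator [IsNoetherianRing R] (m : Ideal R) :
    ∃ s : R, s - 1 ∈ m ∧ ∀ x ∈ K m, s * x = 0 := by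
  have hle : K m ≤ m • K m := by
    intro x hx
    have hx' : x ∈ (⨅ i : ℕ, m ^ i • ⊤ : Submodule R R) := by
      have : (⨅ i : ℕ, m ^ i • ⊤ : Submodule R R) = K m := by
        unfold K
        congr 1
        funext i
        rw [smul_eq_mul, ← Ideal.one_eq_top, mul_one]
      rw [this]; exact hx
    obtain ⟨r, hr⟩ := (Ideal.mem_iInf_smul_pow_eq_bot_iff m x).mp hx'
    rw [← hr]
    exact Submodule.smul_mem_smul r.2 hx
  obtain ⟨s, hs, hs'⟩ := Submodule.exists_sub_one_mem_and_smul_eq_zero_of_fg_of_le_smul m (K m)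
    (IsNoetherian.noetherian _) hle
  exact ⟨s, hs, fun x hx => by simpa using hs' x hx⟩

lemma mem_pow_of_mul_eq_zero {M : Ideal R} [hM : M.IsMaximal] {s x : R} (hs : s ∉ M)
    (hsx : s * x = 0) (n : ℕ) : x ∈ M ^ n := by
  obtain ⟨t, u, hu, h1⟩ := hM.exists_inv hs
  -- t * s + u = 1
  have hdvd : (1 - u) ∣ 1 ^ n - u ^ n := sub_dvd_pow_sub_pow 1 u n
  obtain ⟨c, hc⟩ := hdvd
  have h2 : 1 - u = t * s := by rw [← h1]; ring
  have : x = u ^ n * x := by
    have : (1 : R) = u ^ n + t * s * c := by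
      rw [← h2, ← hc]; ring
    calc x = 1 * x := (one_mul x).symm
      _ = (u ^ n + t * s * c) * x := by rw [← this]
      _ = u ^ n * x + t * c * (s * x) := by ring
      _ = u ^ n * x := by rw [hsx]; ring
  rw [this]
  exact Ideal.mul_mem_right _ _ (Ideal.pow_mem_pow hu n)

lemma K_le_of_annihilator {m M : Ideal R} [M.IsMaximal] {s : R} (hs : s ∉ M)
    (hsm : ∀ x ∈ K m, s * x = 0) : K m ≤ K M := by
  intro x hx
  unfold K
  rw [Ideal.mem_iInf]
  intro n
  exact mem_pow_of_mul_eq_zero hs (hsm x hx) n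

variable [IsNoetherianRing R]
  (htrans : ∀ m m' : Ideal R, m.IsMaximal → m'.IsMaximal →
    ∃ e : R ≃+* R, Ideal.comap e m' = m)

include htrans in
lemma K_rigid {m m' : Ideal R} (hm : m.IsMaximal) (hm' : m'.IsMaximal) (hle : K m ≤ K m') :
    K m = K m' := by
  classical
  let S : Set (Ideal R) := {I | ∃ M : Ideal R, M.IsMaximal ∧ I = K M}
  have hne : S.Nonempty := ⟨K m, m, hm, rfl⟩
  obtain ⟨I₀, ⟨m₀, hm₀, rfl⟩, hmax⟩ :=
    (wellFounded_gt : WellFounded ((· > ·) : Ideal R → Ideal R → Prop)).has_min S hne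
  obtain ⟨e, he⟩ := htrans m₀ m hm₀ hm
  have hmax' : (Ideal.comap e m').IsMaximal :=
    Ideal.comap_isMaximal_of_surjective _ e.surjective
  have h1 : K m₀ ≤ K (Ideal.comap e m') := by
    rw [← he, ← comap_K, ← comap_K]
    exact Ideal.comap_mono hle
  have h2 : K (Ideal.comap e m') = K m₀ := by
    by_contra hne'
    exact hmax _ ⟨_, hmax', rfl⟩ (lt_of_le_of_ne h1 (Ne.symm hne'))
  have h3 : Ideal.comap e (K m) = Ideal.comap e (K m') := by
    rw [comap_K, comap_K, he, h2]
  exact Ideal.comap_injective_of_surjective _ e.surjective h3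

include htrans in
theorem main [IsJacobsonRing R] (hconn : ∀ e : R, IsIdempotentElem e → e = 0 ∨ e = 1)
    (m : Ideal R) [hm : m.IsMaximal] : (⨅ n : ℕ, m ^ n) = ⊥ := by
  classical
  change K m = ⊥
  -- annihilating elements
  have hann : ∀ M : Ideal R, ∃ s : R, s - 1 ∈ M ∧ ∀ x ∈ K M, s * x = 0 := exists_annihilator
  choose sA hsA1 hsA2 using hann
  have hsA_not : ∀ M : Ideal R, M.IsMaximal → sA M ∉ M := by
    intro M hM hmem
    apply hM.ne_top
    rw [Ideal.eq_top_iff_one]
    have := M.sub_mem hmem (hsA1 M)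
    simpa using this
  -- general step
  have step : ∀ (M M' : Ideal R), M.IsMaximal → M'.IsMaximal → ∀ s : R, s ∉ M' →
      (∀ x ∈ K M, s * x = 0) → K M = K M' := by
    intro M M' hM hM' s hs hsM
    exact K_rigid htrans hM hM' (K_le_of_annihilator hs hsM)
  let J : Ideal R := Submodule.annihilator (K m)
  have hJmem : ∀ j : R, j ∈ J ↔ ∀ x ∈ K m, j * x = 0 := by
    intro j
    rw [Submodule.mem_annihilator]
    simp only [smul_eq_mul]
  let Z : Set (PrimeSpectrum R) := zeroLocus (J : Set R)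
  have hZclosed : IsClosed Z := isClosed_zeroLocus _
  have hZopen : IsOpen Z := by
    rw [isOpen_iff_forall_mem_open]
    intro p hp
    have hJp : J ≤ p.asIdeal := by
      rw [mem_zeroLocus] at hp
      exact hp
    obtain ⟨M, hM, hpM⟩ := Ideal.exists_le_maximal p.asIdeal p.2.ne_top
    refine ⟨(basicOpen (sA M) : Set (PrimeSpectrum R)), ?_, (basicOpen (sA M)).2, ?_⟩
    · intro q hq
      by_contra hqZ
      have hq' : sA M ∉ q.asIdeal := hq
      have : ¬ J ≤ q.asIdeal := by
        intro h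
        exact hqZ ((mem_zeroLocus _ _).mpr h)
      obtain ⟨j, hjJ, hjq⟩ := SetLike.not_le_iff_exists.mp this
      have hsj : sA M * j ∉ q.asIdeal := by
        intro h
        rcases q.2.mem_or_mem h with h | h
        · exact hq' h
        · exact hjq h
      have hjac : q.asIdeal.jacobson = q.asIdeal := IsJacobsonRing.out inferInstance q.2.isRadical
      rw [← hjac, Ideal.jacobson, Submodule.mem_sInf] at hsj
      push Not at hsj
      obtain ⟨M', ⟨hqM', hM'⟩, hsjM'⟩ := hsj
      have hs' : sA M ∉ M' := fun h => hsjM' (Ideal.mul_mem_right _ _ h)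
      have hj' : j ∉ M' := fun h => hsjM' (Ideal.mul_mem_left _ _ h)
      have e1 : K M = K M' := step M M' hM hM' (sA M) hs' (hsA2 M)
      have e2 : K m = K M' := step m M' hm hM' j hj' ((hJmem j).mp hjJ)
      have e3 : K m = K M := e2.trans e1.symm
      have : sA M ∈ J := by
        rw [hJmem]
        intro x hx
        rw [e3] at hx
        exact hsA2 M x hx
      exact hsA_not M hM (hpM (hJp this))
    · exact fun h => hsA_not M hM (hpM h)
  obtain ⟨e, he, hZe⟩ := PrimeSpectrum.isClopen_iff.mp ⟨hZclosed, hZopen⟩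
  have hsm : sA m ∈ J := (hJmem _).mpr (hsA2 m)
  rcases hconn e he with rfl | rfl
  · have hZ : Z = ∅ := by
      rw [hZe]
      simp
    have hJtop : J = ⊤ := zeroLocus_empty_iff_eq_top.mp hZ
    have h1 : (1 : R) ∈ J := by rw [hJtop]; trivial
    rw [eq_bot_iff]
    intro x hx
    have := (hJmem 1).mp h1 x hx
    simpa using this
  · exfalso
    have hmZ : (⟨m, hm.isPrime⟩ : PrimeSpectrum R) ∈ Z := by
      rw [hZe]
      simp
    have : J ≤ m := (mem_zeroLocus _ _).mp hmZ
    exact hsA_not m hm (this hsm)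

end Groth.Agent.H15.HomogKrull
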