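import Mathlib
import Groth.Agent.H15.HomogKrull

namespace Groth.Agent.H15.HopfTransl

open WithConv Bialgebra

universe u v

section
variable (k : Type u) [Field k] (A : Type v) [CommRing A] [HopfAlgebra k A]

/-- the group of `k`-points -/
abbrev G := WithConv (A →ₐ[k] k)

variable {k A}

/-- constant map -/
noncomputable def const (g : G k A) : A →ₐ[k] A := (Algebra.ofId k A).comp g.ofConv

/-- translation -/
noncomputable def L (h : G k A) : A →ₐ[k] A := (toConv (const h) * toConv (AlgHom.id k A)).ofConv

lemma comp_const (f : A →ₐ[k] A) (h : G k A) : f.comp (const h) = const h := by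
  ext a
  simp [const]

lemma point_comp_const (g h : G k A) : g.ofConv.comp (const h) = h.ofConv := by
  ext a
  simp [const]

lemma point_comp_L (g h : G k A) : g.ofConv.comp (L h) = (h * g).ofConv := by
  unfold L
  rw [AlgHom.comp_convMul_distrib, ofConv_toConv, ofConv_toConv, point_comp_const, AlgHom.comp_id,
    toConv_ofConv, toConv_ofConv]

lemma const_mul (g h : G k A) : toConv (const (h * g)) = toConv (const h) * toConv (const g) := by
  unfold const
  rw [AlgHom.comp_convMul_distrib, toConv_ofConv]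

lemma L_comp_L (g h : G k A) : (L g).comp (L h) = L (h * g) := by
  change (L g).comp (toConv (const h) * toConv (AlgHom.id k A)).ofConv = _
  rw [AlgHom.comp_convMul_distrib, ofConv_toConv, ofConv_toConv, comp_const, AlgHom.comp_id]
  unfold L
  rw [toConv_ofConv, ← mul_assoc, ← const_mul]

lemma L_one : L (1 : G k A) = AlgHom.id k A := by
  have h1 : toConv (const (1 : G k A)) = 1 := by
    apply WithConv.ofConv_injective
    ext a
    simp [const]
  unfold L
  rw [h1, one_mul, ofConv_toConv]

/-- translation as an algebra automorphism -/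
noncomputable def Lequiv (h : G k A) : A ≃ₐ[k] A :=
  AlgEquiv.ofAlgHom (L h) (L h⁻¹)
    (by rw [L_comp_L, inv_mul_cancel, L_one])
    (by rw [L_comp_L, mul_inv_cancel, L_one])

lemma comap_ker (g h : G k A) :
    Ideal.comap (Lequiv h).toRingEquiv (RingHom.ker g.ofConv) = RingHom.ker (h * g).ofConv := by
  ext x
  rw [Ideal.mem_comap, RingHom.mem_ker, RingHom.mem_ker, ← point_comp_L]
  rfl

end

lemma exists_point (k : Type u) [Field k] [IsAlgClosed k] (A : Type v) [CommRing A] [Algebra k A]
    [Algebra.FiniteType k A] (M : Ideal A) [hM : M.IsMaximal] :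
    ∃ g : A →ₐ[k] k, RingHom.ker g = M := by
  let _ : Field (A ⧸ M) := Ideal.Quotient.field M
  have : Algebra.FiniteType k (A ⧸ M) :=
    Algebra.FiniteType.of_surjective (Ideal.Quotient.mkₐ k M) (Ideal.Quotient.mkₐ_surjective k M)
  have : Module.Finite k (A ⧸ M) := finite_of_finite_type_of_isJacobsonRing k (A ⧸ M)
  have hbij : Function.Bijective (algebraMap k (A ⧸ M)) :=
    IsAlgClosed.algebraMap_bijective_of_isIntegral
  let e : k ≃ₐ[k] (A ⧸ M) := AlgEquiv.ofBijective (Algebra.ofId k (A ⧸ M)) hbij
  refine ⟨(e.symm : (A ⧸ M) →ₐ[k] k).comp (Ideal.Quotient.mkₐ k M), ?_⟩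
  ext x
  rw [RingHom.mem_ker]
  change e.symm (Ideal.Quotient.mk M x) = 0 ↔ _
  rw [map_eq_zero_iff _ e.symm.injective, Ideal.Quotient.eq_zero_iff_mem]

theorem main (k : Type u) [Field k] [IsAlgClosed k] (A : Type v) [CommRing A] [HopfAlgebra k A]
    [Algebra.FiniteType k A] (hconn : ∀ e : A, IsIdempotentElem e → e = 0 ∨ e = 1) :
    (⨅ n : ℕ, RingHom.ker (Bialgebra.counitAlgHom k A) ^ n) = ⊥ := by
  have : IsNoetherianRing A := Algebra.FiniteType.isNoetherianRing k A
  have : IsJacobsonRing A := isJacobsonRing_of_finiteType (A := k)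
  have hsurj : Function.Surjective (Bialgebra.counitAlgHom k A) := fun c =>
    ⟨algebraMap k A c, by simp⟩
  have : (RingHom.ker (Bialgebra.counitAlgHom k A)).IsMaximal :=
    RingHom.ker_isMaximal_of_surjective _ hsurj
  refine HomogKrull.main ?_ hconn _
  intro m m' hm hm'
  obtain ⟨g, rfl⟩ := exists_point k A m
  obtain ⟨g', rfl⟩ := exists_point k A m'
  refine ⟨(Lequiv (toConv g * (toConv g')⁻¹)).toRingEquiv, ?_⟩
  have := comap_ker (toConv g') (toConv g * (toConv g')⁻¹)
  rw [ofConv_toConv, inv_mul_cancel_right, ofConv_toConv] at this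
  exact this

end Groth.Agent.H15.HopfTransl
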