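import Mathlib

set_option autoImplicit false

namespace Groth.Agent.H15.CentScalar

universe u v
variable (A : Type u) [Ring A] (P : Type v) [AddCommGroup P] [Module A P]

/-- the trace ideal of `P` (as a left ideal) -/
def T : Ideal A := ⨆ f : P →ₗ[A] A, LinearMap.range f

variable {A P}

theorem mem_T (f : P →ₗ[A] A) (x : P) : f x ∈ T A P :=
  (le_iSup (fun f : P →ₗ[A] A => LinearMap.range f) f) ⟨x, rfl⟩

theorem T_mul_right {t : A} (ht : t ∈ T A P) (a : A) : t * a ∈ T A P := by
  refine Submodule.iSup_induction (fun f : P →ₗ[A] A => LinearMap.range f)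
    (motive := fun t => t * a ∈ T A P) ht ?_ ?_ ?_
  · rintro f _ ⟨x, rfl⟩
    have := mem_T ((LinearMap.toSpanSingleton A A a) ∘ₗ f) x
    simpa using this
  · simp
  · intro x y hx hy
    rw [add_mul]
    exact (T A P).add_mem hx hy

theorem exists_notMem_jacobson [Module.Finite A P] [Module.Projective A P] [Nontrivial P] :
    ∃ t ∈ T A P, t ∉ Ring.jacobson A := by
  by_contra hcon
  push Not at hcon
  obtain ⟨s, hs⟩ := (Module.projective_def' (R := A) (P := P)).mp inferInstance
  have h1 : (⊤ : Submodule A P) ≤ Ring.jacobson A • (⊤ : Submodule A P) := by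
    intro x _
    have hx : x = Finsupp.linearCombination A id (s x) := by
      have := LinearMap.congr_fun hs x
      simpa using this.symm
    rw [hx, Finsupp.linearCombination_apply]
    refine Submodule.sum_mem _ (fun p _ => ?_)
    refine Submodule.smul_mem_smul ?_ Submodule.mem_top
    exact hcon _ (mem_T ((Finsupp.lapply p) ∘ₗ s) x)
  have h2 := Submodule.FG.eq_bot_of_le_jacobson_smul (Module.Finite.fg_top (R := A) (M := P)) h1
  obtain ⟨x, hx⟩ := exists_ne (0 : P)
  have : x ∈ (⊥ : Submodule A P) := h2 ▸ Submodule.mem_top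
  exact hx ((Submodule.mem_bot A).mp this)

theorem one_mem_T [IsSimpleRing (A ⧸ Ring.jacobson A)] [Module.Finite A P]
    [Module.Projective A P] [Nontrivial P] : (1 : A) ∈ T A P := by
  obtain ⟨t, htT, htJ⟩ := exists_notMem_jacobson (A := A) (P := P)
  have hsurj : Function.Surjective (Ideal.Quotient.mk (Ring.jacobson A)) :=
    Ideal.Quotient.mk_surjective
  set I' : Ideal (A ⧸ Ring.jacobson A) := Ideal.map (Ideal.Quotient.mk (Ring.jacobson A)) (T A P)
    with hI'
  have htwo : I'.IsTwoSided := by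
    constructor
    intro x b hx
    rw [hI', Ideal.mem_map_iff_of_surjective _ hsurj] at hx ⊢
    obtain ⟨t', ht', rfl⟩ := hx
    obtain ⟨b', rfl⟩ := hsurj b
    exact ⟨t' * b', T_mul_right ht' b', by simp⟩
  have hsimple := (isSimpleRing_iff_isTwoSided_imp.mp
    (inferInstance : IsSimpleRing (A ⧸ Ring.jacobson A))).2 I' htwo
  rcases hsimple with h | h
  · exfalso
    apply htJ
    have : Ideal.Quotient.mk (Ring.jacobson A) t ∈ I' := Ideal.mem_map_of_mem _ htT
    rw [h] at this
    exact Ideal.Quotient.eq_zero_iff_mem.mp ((Submodule.mem_bot _).mp this)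
  · have h1 : (1 : A ⧸ Ring.jacobson A) ∈ I' := h ▸ Submodule.mem_top
    rw [hI', Ideal.mem_map_iff_of_surjective _ hsurj] at h1
    obtain ⟨t', ht', h1⟩ := h1
    have hj : 1 - t' ∈ Ring.jacobson A := by
      rw [← Ideal.Quotient.eq_zero_iff_mem, map_sub, map_one, h1, sub_self]
    rw [← Ideal.jacobson_bot] at hj
    obtain ⟨z, hz⟩ := Ideal.mem_jacobson_iff.mp hj (-1)
    have hz' : z * t' = 1 := by
      have := (Submodule.mem_bot _).mp hz
      have h2 : z * t' - 1 = z * -1 * (1 - t') + z - 1 := by noncomm_ring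
      rw [← sub_eq_zero, h2, this]
    rw [← hz']
    exact (T A P).mul_mem_left z ht'

theorem faithful [IsSimpleRing (A ⧸ Ring.jacobson A)] [Module.Finite A P]
    [Module.Projective A P] [Nontrivial P] (c : A) (hc : ∀ x : P, c • x = 0) : c = 0 := by
  have h : ∀ t ∈ T A P, c * t = 0 := by
    intro t ht
    refine Submodule.iSup_induction (fun f : P →ₗ[A] A => LinearMap.range f)
      (motive := fun t => c * t = 0) ht ?_ ?_ ?_
    · rintro f _ ⟨x, rfl⟩
      rw [← smul_eq_mul, ← map_smul, hc, map_zero]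
    · simp
    · intro x y hx hy
      rw [mul_add, hx, hy, add_zero]
  have := h 1 one_mem_T
  simpa using this

theorem main [IsSimpleRing (A ⧸ Ring.jacobson A)] [Module.Finite A P]
    [Module.Projective A P] [Nontrivial P] (u : P ≃ₗ[A] P)
    (hu : ∀ f : Module.End A P, (u : P →ₗ[A] P) ∘ₗ f = f ∘ₗ (u : P →ₗ[A] P)) :
    ∃! a : A, (∀ b : A, a * b = b * a) ∧ ∀ x : P, u x = a • x := by
  have key : ∀ (f : P →ₗ[A] A) (y x : P), f y • u x = f (u y) • x := by
    intro f y x
    have := LinearMap.congr_fun (hu ((LinearMap.toSpanSingleton A P x) ∘ₗ f)) y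
    simpa using this
  have hQ : ∀ t ∈ T A P, ∃ a : A, ∀ x : P, t • u x = a • x := by
    intro t ht
    refine Submodule.iSup_induction (fun f : P →ₗ[A] A => LinearMap.range f)
      (motive := fun t => ∃ a : A, ∀ x : P, t • u x = a • x) ht ?_ ?_ ?_
    · rintro f _ ⟨y, rfl⟩
      exact ⟨f (u y), fun x => key f y x⟩
    · exact ⟨0, fun x => by simp⟩
    · rintro t1 t2 ⟨a1, h1⟩ ⟨a2, h2⟩
      exact ⟨a1 + a2, fun x => by rw [add_smul, add_smul, h1, h2]⟩
  obtain ⟨a, ha⟩ := hQ 1 one_mem_T
  simp only [one_smul] at ha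
  refine ⟨a, ⟨?_, ha⟩, ?_⟩
  · intro b
    rw [← sub_eq_zero]
    apply faithful (P := P)
    intro x
    rw [sub_smul, mul_smul, mul_smul, ← ha, ← ha, map_smul, sub_self]
  · rintro a' ⟨_, ha'⟩
    rw [← sub_eq_zero]
    apply faithful (P := P)
    intro x
    rw [sub_smul, ← ha, ← ha', sub_self]

end Groth.Agent.H15.CentScalar
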