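import Mathlib

namespace Groth.Agent.H15.ChernRel

open Finset

lemma alt_sum (k : ℕ) (hk : 1 ≤ k) :
    ∑ i ∈ Finset.Ico 1 (k + 1), (-1 : ℚ) ^ (i - 1) * ((i.factorial : ℚ)⁻¹ * ((k - i).factorial : ℚ)⁻¹) =
      (k.factorial : ℚ)⁻¹ := by
  have h1 : ∑ i ∈ Finset.range (k + 1), ((-1 : ℚ) ^ i * (k.choose i : ℚ)) = 0 := by
    have := Int.alternating_sum_range_choose_of_ne (n := k) (by omega)
    have h2 := congrArg (fun z : ℤ => (z : ℚ)) this
    simpa using h2
  rw [Finset.range_eq_Ico, Finset.sum_eq_sum_Ico_succ_bot (by omega)] at h1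
  simp only [pow_zero, Nat.choose_zero_right, Nat.cast_one, mul_one, zero_add] at h1
  have hk0 : (k.factorial : ℚ) ≠ 0 := by exact_mod_cast k.factorial_ne_zero
  have h3 : ∑ i ∈ Finset.Ico 1 (k + 1), (-1 : ℚ) ^ (i - 1) * ((i.factorial : ℚ)⁻¹ * ((k - i).factorial : ℚ)⁻¹) =
      (k.factorial : ℚ)⁻¹ * (- ∑ i ∈ Finset.Ico 1 (k + 1), ((-1 : ℚ) ^ i * (k.choose i : ℚ))) := by
    rw [← Finset.sum_neg_distrib, Finset.mul_sum]
    apply Finset.sum_congr rfl
    intro i hi
    rw [Finset.mem_Ico] at hi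
    have hik : i ≤ k := by omega
    rw [Nat.cast_choose ℚ hik]
    have hi0 : (i.factorial : ℚ) ≠ 0 := by exact_mod_cast i.factorial_ne_zero
    have hki0 : ((k - i).factorial : ℚ) ≠ 0 := by exact_mod_cast (k - i).factorial_ne_zero
    obtain ⟨j, rfl⟩ : ∃ j, i = j + 1 := ⟨i - 1, by omega⟩
    rw [Nat.add_sub_cancel, pow_succ]
    field_simp
  rw [h3]
  have h4 : ∑ i ∈ Finset.Ico 1 (k + 1), ((-1 : ℚ) ^ i * (k.choose i : ℚ)) = -1 := by linarith
  rw [h4]
  ring

theorem chern_rel (R : Type*) [CommRing R] [Algebra ℚ R]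
    (θ η : R) (g : ℕ) (c : ℕ → R) (hc : ∀ k : ℕ, c k = ((Nat.factorial k : ℚ)⁻¹) • ((4 : R) * θ) ^ k)
    (hθ : θ ^ (g + 1) = 0)
    (hrel : η ^ (g + 1) = ∑ i ∈ Finset.Ico 1 (g + 2), (-1 : R) ^ (i - 1) * c i * η ^ (g + 1 - i))
    (k : ℕ) (hk1 : 1 ≤ k) (hkg : k ≤ g) :
    η ^ (g + k) * θ ^ (g - k) = c k * η ^ g * θ ^ (g - k) := by
  induction k using Nat.strong_induction_on with
  | _ k ih =>
  have hA : ∀ i, k + 1 ≤ i → c i * θ ^ (g - k) = 0 := by
    intro i hi
    rw [hc, smul_mul_assoc, mul_pow, mul_assoc, ← pow_add]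
    have e : i + (g - k) = (g + 1) + (i - (k + 1)) := by omega
    rw [e, pow_add, hθ, zero_mul, mul_zero, smul_zero]
  have hB : ∀ i, 1 ≤ i → i ≤ k → c i * θ ^ (g - k) * η ^ (g + k - i) =
      (((i.factorial : ℚ)⁻¹ * ((k - i).factorial : ℚ)⁻¹) : ℚ) • ((4 : R) ^ k * θ ^ g * η ^ g) := by
    intro i hi1 hik
    rcases Nat.lt_or_ge i k with hlt | hge
    · have hj := ih (k - i) (by omega) (by omega) (by omega)
      have e1 : g + k - i = g + (k - i) := by omega
      have e2 : θ ^ i * θ ^ (g - k) = θ ^ (g - (k - i)) := by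
        rw [← pow_add]
        congr 1
        omega
      have e3 : (4 : R) ^ i * (4 : R) ^ (k - i) = (4 : R) ^ k := by
        rw [← pow_add]
        congr 1
        omega
      have e4 : θ ^ (k - i) * θ ^ (g - (k - i)) = θ ^ g := by
        rw [← pow_add]
        congr 1
        omega
      have s1 : c i * θ ^ (g - k) * η ^ (g + k - i) =
          ((i.factorial : ℚ)⁻¹) • ((4 : R) ^ i * (η ^ (g + (k - i)) * θ ^ (g - (k - i)))) := by
        rw [hc, e1, ← e2, mul_pow, smul_mul_assoc, smul_mul_assoc]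
        congr 1
        ring
      rw [s1, hj, hc, mul_smul, mul_pow, smul_mul_assoc, smul_mul_assoc, mul_smul_comm, ← e3, ← e4]
      congr 2
      ring
    · have hik' : i = k := le_antisymm hik hge
      subst hik'
      have e1 : g + i - i = g := by omega
      have e2 : θ ^ i * θ ^ (g - i) = θ ^ g := by
        rw [← pow_add]
        congr 1
        omega
      rw [hc, e1, Nat.sub_self, Nat.factorial_zero, Nat.cast_one, inv_one, mul_one, mul_pow,
        smul_mul_assoc, smul_mul_assoc, ← e2]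
      congr 1
      ring
  have hsplit : η ^ (g + k) * θ ^ (g - k) =
      ∑ i ∈ Finset.Ico 1 (g + 2), (-1 : R) ^ (i - 1) * (c i * θ ^ (g - k) * η ^ (g + k - i)) := by
    have e0 : η ^ (g + k) = η ^ (k - 1) * η ^ (g + 1) := by
      rw [← pow_add]
      congr 1
      omega
    rw [e0, hrel, Finset.mul_sum, Finset.sum_mul]
    apply Finset.sum_congr rfl
    intro i hi
    rw [Finset.mem_Ico] at hi
    have e5 : η ^ (k - 1) * η ^ (g + 1 - i) = η ^ (g + k - i) := by
      rw [← pow_add]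
      congr 1
      omega
    rw [← e5]
    ring
  rw [hsplit, ← Finset.sum_Ico_consecutive _ (show 1 ≤ k + 1 by omega) (show k + 1 ≤ g + 2 by omega)]
  have hz : ∑ i ∈ Finset.Ico (k + 1) (g + 2), (-1 : R) ^ (i - 1) * (c i * θ ^ (g - k) * η ^ (g + k - i)) = 0 := by
    apply Finset.sum_eq_zero
    intro i hi
    rw [Finset.mem_Ico] at hi
    rw [hA i hi.1, zero_mul, mul_zero]
  rw [hz, add_zero]
  have hmain : ∑ i ∈ Finset.Ico 1 (k + 1), (-1 : R) ^ (i - 1) * (c i * θ ^ (g - k) * η ^ (g + k - i)) =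
      (∑ i ∈ Finset.Ico 1 (k + 1), (-1 : ℚ) ^ (i - 1) * ((i.factorial : ℚ)⁻¹ * ((k - i).factorial : ℚ)⁻¹)) •
        ((4 : R) ^ k * θ ^ g * η ^ g) := by
    rw [Finset.sum_smul]
    apply Finset.sum_congr rfl
    intro i hi
    rw [Finset.mem_Ico] at hi
    rw [hB i hi.1 (by omega)]
    rcases Nat.even_or_odd (i - 1) with he | ho
    · rw [he.neg_one_pow, he.neg_one_pow, one_mul, one_mul]
    · rw [ho.neg_one_pow, ho.neg_one_pow, neg_one_mul, neg_one_mul, neg_smul]
  rw [hmain, alt_sum k hk1, hc, mul_pow, smul_mul_assoc, smul_mul_assoc]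
  congr 1
  have e2 : θ ^ k * θ ^ (g - k) = θ ^ g := by
    rw [← pow_add]
    congr 1
    omega
  rw [← e2]
  ring

end Groth.Agent.H15.ChernRel
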