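import Mathlib
set_option autoImplicit false
universe u
open CategoryTheory AlgebraicGeometry Limits
namespace Groth.Agent.H15.Clopen57

theorem clopen57 {S S₀ : Scheme.{u}} (i : S₀ ⟶ S) [IsClosedImmersion i]
    (ha : ∀ (S' : Scheme.{u}) (g : S' ⟶ S), IsFinite g →
      ∀ V : Set ↥(pullback g i), IsClopen V → ∃! U : Set ↥S', IsClopen U ∧ (pullback.fst g i).base ⁻¹' U = V)
    {S' : Scheme.{u}} (g : S' ⟶ S) [IsFinite g] (U : Set ↥S') (hU : IsOpen U)
    (hU₀ : Set.range (pullback.fst g i).base ⊆ U) : U = Set.univ := by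
  let Z : TopologicalSpace.Closeds S' := ⟨Uᶜ, hU.isClosed_compl⟩
  let 𝓘 := Scheme.IdealSheafData.vanishingIdeal Z
  let j : 𝓘.subscheme ⟶ S' := 𝓘.subschemeι
  have hrange : Set.range j = Uᶜ := by
    rw [Scheme.IdealSheafData.range_subschemeι, Scheme.IdealSheafData.coe_support_vanishingIdeal]
    rfl
  have hfin : IsFinite (j ≫ g) := inferInstance
  have hempty : IsEmpty ↥(pullback (j ≫ g) i) := by
    rw [Scheme.isEmpty_pullback_iff, Set.disjoint_left]
    rintro _ ⟨w, rfl⟩ ⟨s₀, hs₀⟩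
    have h1 : g (j w) = i s₀ := by rw [hs₀]; simp
    obtain ⟨z, hz1, -⟩ := Scheme.Pullback.exists_preimage_pullback (f := g) (g := i) (j w) s₀ h1
    have h2 : j w ∈ U := hU₀ ⟨z, hz1⟩
    have h3 : j w ∈ Uᶜ := hrange ▸ ⟨w, rfl⟩
    exact h3 h2
  obtain ⟨U', -, huniq⟩ := ha 𝓘.subscheme (j ≫ g) hfin ∅ isClopen_empty
  have e1 := huniq ∅ ⟨isClopen_empty, Set.preimage_empty⟩
  have e2 := huniq Set.univ ⟨isClopen_univ, Set.eq_empty_of_isEmpty _⟩
  have hW : IsEmpty ↥𝓘.subscheme := by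
    rw [← Set.univ_eq_empty_iff, e2, ← e1]
  have : Uᶜ = ∅ := by
    rw [← hrange]
    exact Set.range_eq_empty _
  exact Set.compl_empty_iff.mp this
end Groth.Agent.H15.Clopen57
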