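import Mathlib
import Groth.Agent.H15.ArtPoly

universe u v

open CategoryTheory

namespace Groth.Agent.H15.ComplCR

open ArtFun ArtFun.Art IsLocalRing Groth.Agent.H15.ArtPoly Groth.Agent.H15.ArtLim
  Groth.Agent.H15.ArtEps

variable {Λ : Type u} {k : Type u} [CommRing Λ] [Field k] [Algebra Λ k]
  {P : Type u} [CommRing P] [Algebra Λ P] [IsNoetherianRing P]
  (resP : P →ₐ[Λ] k) (hres : Function.Surjective resP)

/-- the powers of the augmentation ideal -/
noncomputable abbrev powI (q : ℕ) : Ideal P := mP resP ^ (q + 1)

lemma powI_le (q : ℕ) : powI resP q ≤ mP resP := Ideal.pow_le_self (Nat.succ_ne_zero q)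

lemma le_powI (q : ℕ) : mP resP ^ (q + 1) ≤ powI resP q := le_rfl

lemma powI_anti (q : ℕ) : powI resP (q + 1) ≤ powI resP q :=
  Ideal.pow_le_pow_right (Nat.le_succ (q + 1))

/-- the tower of powers -/
noncomputable abbrev powObj (q : ℕ) : Art Λ k :=
  towerObj resP hres (powI resP) (powI_le resP) (fun q => q + 1) (le_powI resP) q

noncomputable abbrev powMap (q : ℕ) : powObj resP hres (q + 1) ⟶ powObj resP hres q :=
  towerMap resP hres (powI resP) (powI_le resP) (fun q => q + 1) (le_powI resP) (powI_anti resP) q

noncomputable abbrev powToLim :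
    P →ₐ[Λ] Lim (powObj resP hres) (powMap resP hres) :=
  toLim resP hres (powI resP) (powI_le resP) (fun q => q + 1) (le_powI resP) (powI_anti resP)

variable [IsNoetherianRing Λ] [Module.Finite Λ k]

/-- The completion of a Noetherian augmented algebra at the kernel of its augmentation. -/
noncomputable def complCRing : CRing Λ k :=
  limCRing (powObj resP hres) (powMap resP hres)
    (towerMap_surjective resP hres (powI resP) (powI_le resP) (fun q => q + 1) (le_powI resP)
      (powI_anti resP)) _
    (tower_finrank_le resP hres (powI resP) (powI_le resP) (fun q => q + 1) (le_powI resP))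

/-- The canonical map to the completion. -/
noncomputable def toCompl : P →ₐ[Λ] (complCRing resP hres).carrier := powToLim resP hres

lemma res_toCompl : (complCRing resP hres).res.comp (toCompl resP hres) = resP :=
  AlgHom.ext fun _ => rfl

/-- Restriction of points of the completion. -/
noncomputable def restrict {B : Art Λ k}
    (ψ : HomSet (complCRing resP hres).carrier (complCRing resP hres).res B) : HomSet P resP B :=
  ⟨ψ.1.comp (toCompl resP hres), by rw [← AlgHom.comp_assoc, ψ.2, res_toCompl]⟩

lemma restrict_map {B B' : Art Λ k} (h : B ⟶ B')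
    (ψ : HomSet (complCRing resP hres).carrier (complCRing resP hres).res B) :
    restrict resP hres (HomSet.map h ψ) = HomSet.map h (restrict resP hres ψ) :=
  Subtype.ext (AlgHom.ext fun _ => rfl)

theorem restrict_bijective (B : Art Λ k) :
    Function.Bijective (restrict resP hres (B := B)) := by
  constructor
  · intro ψ₁ ψ₂ h
    exact hom_ext_of_toLim resP hres (powI resP) (powI_le resP) (fun q => q + 1) (le_powI resP)
      (powI_anti resP) B ψ₁ ψ₂ (congrArg Subtype.val h)
  · intro φ
    obtain ⟨N, hN⟩ := maximalIdeal_nilpotent B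
    obtain ⟨ψ, hψ⟩ := exists_extension resP hres (powI resP) (powI_le resP) (fun q => q + 1)
      (le_powI resP) (powI_anti resP) B φ.1 φ.2 N
      (fun a ha => map_pow_eq_zero resP hres B φ.1 φ.2 N hN a
        (Ideal.pow_le_pow_right (Nat.le_succ N) ha))
    exact ⟨ψ, Subtype.ext hψ⟩

end Groth.Agent.H15.ComplCR
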