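import Mathlib
import Groth.Prelude.Def_Conn

universe v u

open TensorProduct

namespace Groth.Agent.H15.ConnLib

variable {A : Type v} {B Ω : Type u} [CommRing A] [CommRing B] [Algebra A B]
  [AddCommGroup Ω] [Module B Ω]

section Lin

variable {X Y : Type u} [AddCommGroup X] [Module B X] [AddCommGroup Y] [Module B Y]

/-- contraction of the form part with a functional -/
noncomputable def ctr (θ : Ω →ₗ[B] B) : X ⊗[B] Ω →ₗ[B] X :=
  (TensorProduct.rid B X).toLinearMap ∘ₗ TensorProduct.map LinearMap.id θ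

@[simp] lemma ctr_tmul (θ : Ω →ₗ[B] B) (x : X) (ω : Ω) : ctr θ (x ⊗ₜ[B] ω) = θ ω • x := rfl

lemma ctr_map (θ : Ω →ₗ[B] B) (f : X →ₗ[B] Y) (z : X ⊗[B] Ω) :
    ctr θ (TensorProduct.map f LinearMap.id z) = f (ctr θ z) := by
  induction z using TensorProduct.induction_on with
  | zero => simp
  | tmul x ω => simp
  | add a b ha hb => rw [map_add, map_add, ha, hb, map_add, map_add]

/-- elements of `X ⊗ Ω` are detected by contractions when `Ω` is finite free -/
theorem ext_ctr [Module.Free B Ω] [Module.Finite B Ω] {z z' : X ⊗[B] Ω}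
    (h : ∀ θ : Ω →ₗ[B] B, ctr θ z = ctr θ z') : z = z' := by
  classical
  let 𝒞 := Module.Free.chooseBasis B Ω
  apply (TensorProduct.equivFinsuppOfBasisRight (M := X) 𝒞).injective
  ext i
  have key : ∀ w : X ⊗[B] Ω, (TensorProduct.equivFinsuppOfBasisRight (M := X) 𝒞 w) i = ctr (𝒞.coord i) w := by
    intro w
    induction w using TensorProduct.induction_on with
    | zero => simp
    | tmul x ω => simp
    | add a b ha hb => rw [map_add, Finsupp.add_apply, ha, hb, map_add]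
  rw [key, key, h]

/-- elements of `Hom(X,Y) ⊗ Ω` are detected by evaluation when `Ω` is finite free -/
theorem ext_apply [Module.Free B Ω] [Module.Finite B Ω] {z z' : (X →ₗ[B] Y) ⊗[B] Ω}
    (h : ∀ x : X, TensorProduct.map (LinearMap.applyₗ x) LinearMap.id z =
      TensorProduct.map (LinearMap.applyₗ x) LinearMap.id z') : z = z' := by
  apply ext_ctr
  intro θ
  apply LinearMap.ext
  intro x
  have h1 := ctr_map θ (LinearMap.applyₗ x : (X →ₗ[B] Y) →ₗ[B] Y) z
  have h2 := ctr_map θ (LinearMap.applyₗ x : (X →ₗ[B] Y) →ₗ[B] Y) z'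
  rw [h x] at h1
  exact (h1.symm.trans h2 : (LinearMap.applyₗ x) (ctr θ z) = (LinearMap.applyₗ x) (ctr θ z'))

end Lin

section Horizontal

open Conn

variable [Module A Ω] [IsScalarTower A B Ω]
variable {E F G : Type u}
  [AddCommGroup E] [Module B E] [Module A E] [IsScalarTower A B E]
  [AddCommGroup F] [Module B F] [Module A F] [IsScalarTower A B F]
  [AddCommGroup G] [Module B G] [Module A G] [IsScalarTower A B G]

/-- evaluation `Hom(E,F) ⊗ E → F` -/
noncomputable abbrev ev : (E →ₗ[B] F) ⊗[B] E →ₗ[B] F :=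
  TensorProduct.lift (LinearMap.id : (E →ₗ[B] F) →ₗ[B] (E →ₗ[B] F))

lemma ev_swapR (e : E) (ζ : (E →ₗ[B] F) ⊗[B] Ω) :
    TensorProduct.map (ev : (E →ₗ[B] F) ⊗[B] E →ₗ[B] F) (LinearMap.id : Ω →ₗ[B] Ω) (swapR (ζ ⊗ₜ[B] e)) =
      TensorProduct.map (LinearMap.applyₗ e) LinearMap.id ζ := by
  induction ζ using TensorProduct.induction_on with
  | zero => simp
  | tmul φ ω => rfl
  | add x y hx hy => rw [add_tmul, map_add, map_add, hx, hy, map_add]

lemma ev_assoc (φ : E →ₗ[B] F) (y : E ⊗[B] Ω) :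
    TensorProduct.map (ev : (E →ₗ[B] F) ⊗[B] E →ₗ[B] F) (LinearMap.id : Ω →ₗ[B] Ω)
      ((TensorProduct.assoc B (E →ₗ[B] F) E Ω).symm (φ ⊗ₜ[B] y)) =
      TensorProduct.map φ LinearMap.id y := by
  induction y using TensorProduct.induction_on with
  | zero => simp
  | tmul e ω => rfl
  | add x y hx hy => rw [tmul_add, map_add, map_add, hx, hy, map_add]

theorem ev_horizontal
    (nE : E →ₗ[A] E ⊗[B] Ω) (nF : F →ₗ[A] F ⊗[B] Ω)
    (nEF : (E →ₗ[B] F) →ₗ[A] (E →ₗ[B] F) ⊗[B] Ω) (hEF : Conn.IsHomConn nE nF nEF)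
    (nT : (E →ₗ[B] F) ⊗[B] E →ₗ[A] ((E →ₗ[B] F) ⊗[B] E) ⊗[B] Ω) (hT : Conn.IsTensorConn nEF nE nT) :
    Conn.IsHorizontal nT nF (TensorProduct.lift (LinearMap.id : (E →ₗ[B] F) →ₗ[B] (E →ₗ[B] F))) := by
  intro z
  induction z using TensorProduct.induction_on with
  | zero => simp
  | tmul φ e =>
    rw [hT φ e, map_add, ev_swapR, ev_assoc, hEF φ e]
    simp
  | add x y hx hy => rw [map_add, map_add, hx, hy, map_add, map_add]

end Horizontal

section Comp

open Conn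

variable [Module A Ω] [IsScalarTower A B Ω]
variable {E F G : Type u}
  [AddCommGroup E] [Module B E] [Module A E] [IsScalarTower A B E]
  [AddCommGroup F] [Module B F] [Module A F] [IsScalarTower A B F]
  [AddCommGroup G] [Module B G] [Module A G] [IsScalarTower A B G]

/-- composition `Hom(F,G) ⊗ Hom(E,F) → Hom(E,G)` -/
noncomputable abbrev cmp : (F →ₗ[B] G) ⊗[B] (E →ₗ[B] F) →ₗ[B] (E →ₗ[B] G) :=
  TensorProduct.lift (LinearMap.llcomp B E F G)

lemma cmp_swapR (e : E) (φ : E →ₗ[B] F) (ζ : (F →ₗ[B] G) ⊗[B] Ω) :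
    TensorProduct.map ((LinearMap.applyₗ e : (E →ₗ[B] G) →ₗ[B] G) ∘ₗ cmp) (LinearMap.id : Ω →ₗ[B] Ω)
      (swapR (ζ ⊗ₜ[B] φ)) = TensorProduct.map (LinearMap.applyₗ (φ e)) LinearMap.id ζ := by
  induction ζ using TensorProduct.induction_on with
  | zero => simp
  | tmul ψ ω => rfl
  | add x y hx hy => rw [add_tmul, map_add, map_add, hx, hy, map_add]

lemma cmp_assoc (e : E) (ψ : F →ₗ[B] G) (y : (E →ₗ[B] F) ⊗[B] Ω) :
    TensorProduct.map ((LinearMap.applyₗ e : (E →ₗ[B] G) →ₗ[B] G) ∘ₗ cmp) (LinearMap.id : Ω →ₗ[B] Ω)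
      ((TensorProduct.assoc B (F →ₗ[B] G) (E →ₗ[B] F) Ω).symm (ψ ⊗ₜ[B] y)) =
      TensorProduct.map ψ LinearMap.id (TensorProduct.map (LinearMap.applyₗ e) LinearMap.id y) := by
  induction y using TensorProduct.induction_on with
  | zero => simp
  | tmul φ ω => rfl
  | add x y hx hy => rw [tmul_add, map_add, map_add, hx, hy, map_add, map_add]

lemma map_map_id {X Y Z : Type u} [AddCommGroup X] [Module B X] [AddCommGroup Y] [Module B Y]
    [AddCommGroup Z] [Module B Z] (f : X →ₗ[B] Y) (g : Y →ₗ[B] Z) (w : X ⊗[B] Ω) :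
    TensorProduct.map g (LinearMap.id : Ω →ₗ[B] Ω) (TensorProduct.map f LinearMap.id w) =
      TensorProduct.map (g ∘ₗ f) LinearMap.id w := by
  rw [← LinearMap.comp_apply, ← TensorProduct.map_comp, LinearMap.id_comp]

theorem cmp_horizontal [Module.Free B Ω] [Module.Finite B Ω]
    (nE : E →ₗ[A] E ⊗[B] Ω) (nF : F →ₗ[A] F ⊗[B] Ω) (nG : G →ₗ[A] G ⊗[B] Ω)
    (nEF : (E →ₗ[B] F) →ₗ[A] (E →ₗ[B] F) ⊗[B] Ω) (hEF : Conn.IsHomConn nE nF nEF)
    (nFG : (F →ₗ[B] G) →ₗ[A] (F →ₗ[B] G) ⊗[B] Ω) (hFG : Conn.IsHomConn nF nG nFG)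
    (nEG : (E →ₗ[B] G) →ₗ[A] (E →ₗ[B] G) ⊗[B] Ω) (hEG : Conn.IsHomConn nE nG nEG)
    (nT : (F →ₗ[B] G) ⊗[B] (E →ₗ[B] F) →ₗ[A] ((F →ₗ[B] G) ⊗[B] (E →ₗ[B] F)) ⊗[B] Ω)
    (hT : Conn.IsTensorConn nFG nEF nT) :
    Conn.IsHorizontal nT nEG (TensorProduct.lift (LinearMap.llcomp B E F G)) := by
  intro z
  induction z using TensorProduct.induction_on with
  | zero => simp
  | tmul ψ φ =>
    apply ext_apply
    intro e
    rw [map_map_id, hT ψ φ, map_add, cmp_swapR, cmp_assoc, hFG ψ (φ e), hEF φ e]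
    have h1 : (cmp (ψ ⊗ₜ[B] φ) : E →ₗ[B] G) = ψ ∘ₗ φ := rfl
    change TensorProduct.map (LinearMap.applyₗ e) LinearMap.id (nEG (cmp (ψ ⊗ₜ[B] φ))) = _
    rw [h1, hEG (ψ ∘ₗ φ) e, map_sub, map_map_id]
    simp
  | add x y hx hy => rw [map_add, map_add, hx, hy, map_add, map_add]

end Comp

section Kappa

open Conn

variable [Module A Ω] [IsScalarTower A B Ω]
variable {E F G : Type u}
  [AddCommGroup E] [Module B E] [Module A E] [IsScalarTower A B E]
  [AddCommGroup F] [Module B F] [Module A F] [IsScalarTower A B F]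
  [AddCommGroup G] [Module B G] [Module A G] [IsScalarTower A B G]

/-- the canonical map `Hom(E,F) ⊗ G → Hom(E, F ⊗ G)` -/
noncomputable abbrev kap : (E →ₗ[B] F) ⊗[B] G →ₗ[B] (E →ₗ[B] F ⊗[B] G) :=
  TensorProduct.rTensorHomToHomRTensor (RingHom.id B) E F G

lemma kap_swapR (e : E) (g : G) (ζ : (E →ₗ[B] F) ⊗[B] Ω) :
    TensorProduct.map ((LinearMap.applyₗ e : (E →ₗ[B] F ⊗[B] G) →ₗ[B] F ⊗[B] G) ∘ₗ kap)
      (LinearMap.id : Ω →ₗ[B] Ω) (swapR (ζ ⊗ₜ[B] g)) =
      swapR ((TensorProduct.map (LinearMap.applyₗ e) LinearMap.id ζ) ⊗ₜ[B] g) := by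
  induction ζ using TensorProduct.induction_on with
  | zero => simp
  | tmul φ ω => rfl
  | add x y hx hy => rw [add_tmul, map_add, map_add, hx, hy, map_add, add_tmul, map_add]

lemma kap_assoc (e : E) (φ : E →ₗ[B] F) (y : G ⊗[B] Ω) :
    TensorProduct.map ((LinearMap.applyₗ e : (E →ₗ[B] F ⊗[B] G) →ₗ[B] F ⊗[B] G) ∘ₗ kap)
      (LinearMap.id : Ω →ₗ[B] Ω) ((TensorProduct.assoc B (E →ₗ[B] F) G Ω).symm (φ ⊗ₜ[B] y)) =
      (TensorProduct.assoc B F G Ω).symm (φ e ⊗ₜ[B] y) := by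
  induction y using TensorProduct.induction_on with
  | zero => simp
  | tmul g ω => rfl
  | add x y hx hy => rw [tmul_add, map_add, map_add, hx, hy, tmul_add, map_add]

lemma swapR_map (φ : E →ₗ[B] F) (g : G) (y : E ⊗[B] Ω) :
    swapR ((TensorProduct.map φ LinearMap.id y) ⊗ₜ[B] g) =
      TensorProduct.map (kap (φ ⊗ₜ[B] g)) (LinearMap.id : Ω →ₗ[B] Ω) y := by
  induction y using TensorProduct.induction_on with
  | zero => simp
  | tmul e ω => rfl
  | add x y hx hy => rw [map_add, add_tmul, map_add, hx, hy, map_add]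

theorem kap_horizontal [Module.Free B Ω] [Module.Finite B Ω]
    (nE : E →ₗ[A] E ⊗[B] Ω) (nF : F →ₗ[A] F ⊗[B] Ω) (nG : G →ₗ[A] G ⊗[B] Ω)
    (nEF : (E →ₗ[B] F) →ₗ[A] (E →ₗ[B] F) ⊗[B] Ω) (hEF : Conn.IsHomConn nE nF nEF)
    (nFG : F ⊗[B] G →ₗ[A] (F ⊗[B] G) ⊗[B] Ω) (hFG : Conn.IsTensorConn nF nG nFG)
    (nH : (E →ₗ[B] F ⊗[B] G) →ₗ[A] (E →ₗ[B] F ⊗[B] G) ⊗[B] Ω) (hH : Conn.IsHomConn nE nFG nH)
    (nS : (E →ₗ[B] F) ⊗[B] G →ₗ[A] ((E →ₗ[B] F) ⊗[B] G) ⊗[B] Ω) (hS : Conn.IsTensorConn nEF nG nS) :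
    Conn.IsHorizontal nS nH (TensorProduct.rTensorHomToHomRTensor (RingHom.id B) E F G) := by
  intro z
  induction z using TensorProduct.induction_on with
  | zero => simp
  | tmul φ g =>
    apply ext_apply
    intro e
    rw [map_map_id, hS φ g, map_add, kap_swapR, kap_assoc, hEF φ e, hH (kap (φ ⊗ₜ[B] g)) e]
    have h1 : (kap (φ ⊗ₜ[B] g) : E →ₗ[B] F ⊗[B] G) e = φ e ⊗ₜ[B] g := rfl
    rw [h1, hFG (φ e) g, sub_tmul, map_sub, swapR_map]
    abel
  | add x y hx hy => rw [map_add, map_add, hx, hy, map_add, map_add]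

end Kappa

section Along

open Conn

variable [Module A Ω] [IsScalarTower A B Ω]
variable {M M' : Type u}
  [AddCommGroup M] [Module B M] [Module A M] [IsScalarTower A B M]
  [AddCommGroup M'] [Module B M'] [Module A M'] [IsScalarTower A B M']

omit [Module A Ω] [IsScalarTower A B Ω] in
lemma along_eq_ctr (nabla : M →ₗ[A] M ⊗[B] Ω) (θ : Ω →ₗ[B] B) (m : M) :
    Conn.along nabla θ m = ctr θ (nabla m) := rfl

omit [Module A Ω] [IsScalarTower A B Ω] in
lemma along_hom (nabla : M →ₗ[A] M ⊗[B] Ω) (nabla' : M' →ₗ[A] M' ⊗[B] Ω)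
    (nablaE : (M →ₗ[B] M') →ₗ[A] (M →ₗ[B] M') ⊗[B] Ω) (hE : Conn.IsHomConn nabla nabla' nablaE)
    (θ : Ω →ₗ[B] B) (χ : M →ₗ[B] M') (m : M) :
    (Conn.along nablaE θ χ) m = Conn.along nabla' θ (χ m) - χ (Conn.along nabla θ m) := by
  rw [along_eq_ctr, along_eq_ctr, along_eq_ctr]
  have h1 := ctr_map θ (LinearMap.applyₗ m : (M →ₗ[B] M') →ₗ[B] M') (nablaE χ)
  rw [hE χ m, map_sub, ctr_map] at h1
  exact h1.symm

lemma along_leibniz (δ : Derivation A B Ω) (nabla : M →ₗ[A] M ⊗[B] Ω) (hc : Conn.IsConn δ nabla)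
    (θ : Ω →ₗ[B] B) (b : B) (m : M) :
    Conn.along nabla θ (b • m) = b • Conn.along nabla θ m + θ (δ b) • m := by
  rw [along_eq_ctr, along_eq_ctr, hc b m, map_add, map_smul, ctr_tmul]

omit [Module A Ω] [IsScalarTower A B Ω] in
lemma along_comp (nabla : M →ₗ[A] M ⊗[B] Ω)
    (nablaE : (M →ₗ[B] M) →ₗ[A] (M →ₗ[B] M) ⊗[B] Ω) (hE : Conn.IsHomConn nabla nabla nablaE)
    (θ : Ω →ₗ[B] B) (α β : M →ₗ[B] M) :
    Conn.along nablaE θ (α ∘ₗ β) = Conn.along nablaE θ α ∘ₗ β + α ∘ₗ Conn.along nablaE θ β := by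
  apply LinearMap.ext
  intro m
  rw [along_hom nabla nabla nablaE hE, LinearMap.add_apply, LinearMap.comp_apply, LinearMap.comp_apply,
    LinearMap.comp_apply, LinearMap.comp_apply, along_hom nabla nabla nablaE hE,
    along_hom nabla nabla nablaE hE, map_sub]
  abel

omit [Module A Ω] [IsScalarTower A B Ω] in
theorem anticomm_identity (nabla : M →ₗ[A] M ⊗[B] Ω)
    (nablaE : (M →ₗ[B] M) →ₗ[A] (M →ₗ[B] M) ⊗[B] Ω) (hE : Conn.IsHomConn nabla nabla nablaE)
    (θq θr : Ω →ₗ[B] B) (φ : M →ₗ[B] M)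
    (hφ : φ ∘ₗ Conn.along nablaE θr φ + Conn.along nablaE θr φ ∘ₗ φ = 0) :
    φ ∘ₗ Conn.along nablaE θq (Conn.along nablaE θr φ)
      + Conn.along nablaE θq (Conn.along nablaE θr φ) ∘ₗ φ
      + Conn.along nablaE θq φ ∘ₗ Conn.along nablaE θr φ
      + Conn.along nablaE θr φ ∘ₗ Conn.along nablaE θq φ = 0 := by
  have h := congrArg (Conn.along nablaE θq) hφ
  rw [map_add, along_comp nabla nablaE hE, along_comp nabla nablaE hE, map_zero] at h
  rw [← h]
  abel

end Along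

section Trace

open Conn

variable [Module A Ω] [IsScalarTower A B Ω]
variable {M : Type u}
  [AddCommGroup M] [Module B M] [Module A M] [IsScalarTower A B M]

theorem trace_along [Module.Free B M] [Module.Finite B M] (δ : Derivation A B Ω)
    (nabla : M →ₗ[A] M ⊗[B] Ω) (hc : Conn.IsConn δ nabla)
    (nablaE : (M →ₗ[B] M) →ₗ[A] (M →ₗ[B] M) ⊗[B] Ω) (hE : Conn.IsHomConn nabla nabla nablaE)
    (θ : Ω →ₗ[B] B) (φ : M →ₗ[B] M) :
    LinearMap.trace B M (Conn.along nablaE θ φ) = θ (δ (LinearMap.trace B M φ)) := by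
  classical
  let b := Module.Free.chooseBasis B M
  have hleib : ∀ (c : B) (m : M), Conn.along nabla θ (c • m) =
      c • Conn.along nabla θ m + θ (δ c) • m := along_leibniz δ nabla hc θ
  have tr_eq : ∀ f : M →ₗ[B] M, LinearMap.trace B M f = ∑ j, b.repr (f (b j)) j := by
    intro f
    rw [LinearMap.trace_eq_matrix_trace B b, Matrix.trace]
    simp [LinearMap.toMatrix_apply]
  have hsum : ∀ m : M, Conn.along nabla θ m =
      ∑ i, (b.repr m i • Conn.along nabla θ (b i) + θ (δ (b.repr m i)) • b i) := by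
    intro m
    conv_lhs => rw [← b.sum_repr m]
    rw [map_sum]
    exact Finset.sum_congr rfl (fun i _ => hleib _ _)
  have hφ : ∀ m : M, φ m = ∑ i, b.repr m i • φ (b i) := by
    intro m
    conv_lhs => rw [← b.sum_repr m]
    rw [map_sum]
    exact Finset.sum_congr rfl (fun i _ => map_smul φ _ _)
  have key : ∀ j, b.repr ((Conn.along nablaE θ φ) (b j)) j =
      (∑ i, b.repr (φ (b j)) i * b.repr (Conn.along nabla θ (b i)) j) + θ (δ (b.repr (φ (b j)) j))
        - ∑ i, b.repr (Conn.along nabla θ (b j)) i * b.repr (φ (b i)) j := by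
    intro j
    rw [along_hom nabla nabla nablaE hE, map_sub, Finsupp.sub_apply, hsum (φ (b j)),
      hφ (Conn.along nabla θ (b j))]
    simp only [map_sum, map_add, map_smul, Finsupp.coe_finsetSum, Finsupp.add_apply,
      Finsupp.smul_apply, Finset.sum_apply, smul_eq_mul, b.repr_self, Finsupp.single_apply]
    rw [Finset.sum_add_distrib]
    simp
  rw [tr_eq, tr_eq]
  simp_rw [key]
  rw [Finset.sum_sub_distrib, Finset.sum_add_distrib, map_sum, map_sum]
  have hswap : ∑ j, ∑ i, b.repr (φ (b j)) i * b.repr (Conn.along nabla θ (b i)) j =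
      ∑ j, ∑ i, b.repr (Conn.along nabla θ (b j)) i * b.repr (φ (b i)) j := by
    rw [Finset.sum_comm]
    exact Finset.sum_congr rfl (fun i _ => Finset.sum_congr rfl (fun j _ => mul_comm _ _))
  rw [hswap]
  abel

theorem trace_horizontal [Module.Free B Ω] [Module.Finite B Ω] [Module.Free B M] [Module.Finite B M]
    (δ : Derivation A B Ω) (nabla : M →ₗ[A] M ⊗[B] Ω) (hc : Conn.IsConn δ nabla)
    (nablaE : (M →ₗ[B] M) →ₗ[A] (M →ₗ[B] M) ⊗[B] Ω) (hE : Conn.IsHomConn nabla nabla nablaE) :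
    Conn.IsHorizontal nablaE (Conn.triv δ) (LinearMap.trace B M) := by
  intro φ
  apply ext_ctr
  intro θ
  rw [ctr_map, Conn.triv_apply, ctr_tmul, smul_eq_mul, mul_one]
  exact (trace_along δ nabla hc nablaE hE θ φ).symm

end Trace

section STrace

open Conn

variable [Module A Ω] [IsScalarTower A B Ω]

theorem strace_horizontal [Module.Free B Ω] [Module.Finite B Ω]
    {ι : Type u} [Fintype ι] [DecidableEq ι] (deg : ι → ℤ) (M : ι → Type u)
    [∀ i, AddCommGroup (M i)] [∀ i, Module B (M i)] [∀ i, Module A (M i)] [∀ i, IsScalarTower A B (M i)]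
    [∀ i, Module.Free B (M i)] [∀ i, Module.Finite B (M i)]
    (δ : Derivation A B Ω) (nabla : (Π k, M k) →ₗ[A] (Π k, M k) ⊗[B] Ω) (hc : Conn.IsConn δ nabla)
    (hgr : ∀ i j : ι, deg i ≠ deg j → ∀ m : M i,
      TensorProduct.map (LinearMap.proj j : (Π k, M k) →ₗ[B] M j) LinearMap.id (nabla (LinearMap.single B M i m)) = 0)
    (nablaE : ((Π k, M k) →ₗ[B] (Π k, M k)) →ₗ[A] ((Π k, M k) →ₗ[B] (Π k, M k)) ⊗[B] Ω)
    (hE : Conn.IsHomConn nabla nabla nablaE) :
    Conn.IsHorizontal nablaE (Conn.triv δ)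
      (LinearMap.trace B (Π k, M k) ∘ₗ LinearMap.llcomp B (Π k, M k) (Π k, M k) (Π k, M k)
        (∑ i : ι, (LinearMap.single B M i) ∘ₗ (((-1 : B) ^ (deg i).natAbs) • (LinearMap.proj i : (Π k, M k) →ₗ[B] M i)))) := by
  set ε : (Π k, M k) →ₗ[B] (Π k, M k) :=
    ∑ i : ι, (LinearMap.single B M i) ∘ₗ (((-1 : B) ^ (deg i).natAbs) • (LinearMap.proj i : (Π k, M k) →ₗ[B] M i)) with hε
  have hεapp : ∀ (y : Π k, M k) (j : ι), (ε y) j = ((-1 : B) ^ (deg j).natAbs) • y j := by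
    intro y j
    simp only [hε, LinearMap.sum_apply, LinearMap.comp_apply, LinearMap.smul_apply, LinearMap.proj_apply,
      LinearMap.single_apply, Finset.sum_apply]
    rw [Finset.sum_eq_single j]
    · simp
    · intro i _ hij
      simp [hij]
    · simp
  intro φ
  apply ext_ctr
  intro θ
  rw [ctr_map, Conn.triv_apply, ctr_tmul, smul_eq_mul, mul_one]
  change θ (δ (LinearMap.trace B _ (ε ∘ₗ φ))) = LinearMap.trace B _ (ε ∘ₗ (Conn.along nablaE θ φ))
  rw [← trace_along δ nabla hc nablaE hE θ (ε ∘ₗ φ), along_comp nabla nablaE hE]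
  have hs : ∀ i : ι, θ (δ ((-1 : B) ^ (deg i).natAbs)) = 0 := by
    intro i
    simp [Derivation.leibniz_pow]
  have hy : ∀ (i : ι) (x : M i) (j : ι), deg i ≠ deg j →
      (Conn.along nabla θ (LinearMap.single B M i x)) j = 0 := by
    intro i x j hij
    have h1 := ctr_map θ (LinearMap.proj j : (Π k, M k) →ₗ[B] M j) (nabla (LinearMap.single B M i x))
    rw [hgr i j hij x, map_zero] at h1
    exact h1.symm
  have hεd : ∀ (i : ι) (x : M i), ε (Conn.along nabla θ (LinearMap.single B M i x)) =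
      ((-1 : B) ^ (deg i).natAbs) • Conn.along nabla θ (LinearMap.single B M i x) := by
    intro i x
    funext j
    rw [hεapp, Pi.smul_apply]
    by_cases hij : deg i = deg j
    · rw [hij]
    · rw [hy i x j hij, smul_zero, smul_zero]
  have hεs : ∀ (i : ι) (x : M i), ε (LinearMap.single B M i x) =
      ((-1 : B) ^ (deg i).natAbs) • LinearMap.single B M i x := by
    intro i x
    funext j
    rw [hεapp, Pi.smul_apply, LinearMap.single_apply]
    by_cases hij : j = i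
    · subst hij
      rfl
    · rw [Pi.single_eq_of_ne hij, smul_zero, smul_zero]
  have hDε : Conn.along nablaE θ ε = 0 := by
    apply LinearMap.ext
    intro m
    rw [along_hom nabla nabla nablaE hE, LinearMap.zero_apply, sub_eq_zero]
    have hm : m = ∑ i, LinearMap.single B M i (m i) := by
      simp only [LinearMap.single_apply]
      exact (Finset.univ_sum_single m).symm
    rw [hm]
    simp only [map_sum, hεs, hεd]
    apply Finset.sum_congr rfl
    intro i _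
    rw [along_leibniz δ nabla hc, hs, zero_smul, add_zero]
  rw [hDε, LinearMap.zero_comp, zero_add]

end STrace

end Groth.Agent.H15.ConnLib
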