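import Mathlib
import Groth.Agent.H15.ArtProrep
import Groth.Agent.H15.ArtTan
import Groth.Agent.H15.ArtDer
import Groth.Agent.H15.PSArt4
import Groth.Agent.H15.ArtFormal2
import Groth.Agent.H15.ArtTrim

universe u v

open CategoryTheory

namespace Groth.Agent.H15.CoprodCR

open ArtFun ArtFun.Art IsLocalRing Groth.Agent.H15.ArtHR Groth.Agent.H15.ArtDer

variable {Λ : Type u} {k : Type u} [CommRing Λ] [Field k] [Algebra Λ k]

section Functor

variable (R S : Type u) [CommRing R] [Algebra Λ R] [CommRing S] [Algebra Λ S]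
  (resR : R →ₐ[Λ] k) (resS : S →ₐ[Λ] k)

/-- The product functor `h_R × h_S`. -/
def prodF : Art Λ k ⥤ Type u where
  obj A := HomSet R resR A × HomSet S resS A
  map {A B} f := ↾fun (x : HomSet R resR A × HomSet S resS A) =>
    ((HomSet.map f x.1, HomSet.map f x.2) : HomSet R resR B × HomSet S resS B)
  map_id A := ConcreteCategory.hom_ext _ _ fun x =>
    show (HomSet.map (𝟙 A) x.1, HomSet.map (𝟙 A) x.2) = x from
      Prod.ext (Subtype.ext (AlgHom.ext fun _ => rfl)) (Subtype.ext (AlgHom.ext fun _ => rfl))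
  map_comp f g := ConcreteCategory.hom_ext _ _ fun x =>
    show (HomSet.map (f ≫ g) x.1, HomSet.map (f ≫ g) x.2) =
      (HomSet.map g (HomSet.map f x.1), HomSet.map g (HomSet.map f x.2)) from
      Prod.ext (Subtype.ext (AlgHom.ext fun _ => rfl)) (Subtype.ext (AlgHom.ext fun _ => rfl))

lemma prodF_map {A B : Art Λ k} (f : A ⟶ B) (x : (prodF R S resR resS).obj A) :
    (prodF R S resR resS).map f x = (HomSet.map f x.1, HomSet.map f x.2) := rfl

theorem h0_prodF : H0 (prodF R S resR resS) := by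
  refine ⟨⟨(basePt R resR, basePt S resS)⟩, ⟨fun x y => ?_⟩⟩
  exact Prod.ext (Subsingleton.elim (α := (hR R resR).obj (base Λ k)) x.1 y.1)
    (Subsingleton.elim (α := (hR S resS).obj (base Λ k)) x.2 y.2)

theorem isLeftExact_prodF : IsLeftExact (prodF R S resR resS) := by
  intro B A A' A'' p' p'' f' f'' h
  constructor
  · intro z₁ z₂ hz
    have h1 : (prodF R S resR resS).map p' z₁ = (prodF R S resR resS).map p' z₂ :=
      congrArg (fun z => z.1.1) hz
    have h2 : (prodF R S resR resS).map p'' z₁ = (prodF R S resR resS).map p'' z₂ :=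
      congrArg (fun z => z.1.2) hz
    rw [prodF_map, prodF_map] at h1 h2
    exact Prod.ext
      (Groth.Agent.H15.ArtFunA.IsFibreProd.lift_unique h z₁.1 z₂.1
        (congrArg Prod.fst h1) (congrArg Prod.fst h2))
      (Groth.Agent.H15.ArtFunA.IsFibreProd.lift_unique h z₁.2 z₂.2
        (congrArg Prod.snd h1) (congrArg Prod.snd h2))
  · rintro ⟨⟨g', g''⟩, hg⟩
    have hg' : (prodF R S resR resS).map f' g' = (prodF R S resR resS).map f'' g'' := hg
    rw [prodF_map, prodF_map] at hg'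
    obtain ⟨a, ha1, ha2⟩ := Groth.Agent.H15.ArtFunA.IsFibreProd.exists_lift h g'.1 g''.1
      (congrArg Prod.fst hg')
    obtain ⟨b, hb1, hb2⟩ := Groth.Agent.H15.ArtFunA.IsFibreProd.exists_lift h g'.2 g''.2
      (congrArg Prod.snd hg')
    refine ⟨(a, b), FibProd.ext ?_ ?_⟩
    · exact Prod.ext ha1 hb1
    · exact Prod.ext ha2 hb2

theorem cond_c_prodF (hs : Function.Surjective resR) (x₀ : (prodF R S resR resS).obj (base Λ k)) :
    Function.Injective (fun σ : base Λ k ⟶ dual Λ k => (prodF R S resR resS).map σ x₀) := by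
  intro σ σ' h
  have h1 : HomSet.map σ x₀.1 = HomSet.map σ' x₀.1 := congrArg Prod.fst h
  have hx : x₀.1.1 = resR := (AlgHom.id_comp x₀.1.1).symm.trans x₀.1.2
  apply hom_ext
  apply AlgHom.ext
  intro c
  obtain ⟨r, rfl⟩ := hs c
  have := DFunLike.congr_fun (congrArg Subtype.val h1) r
  change σ.toAlgHom (x₀.1.1 r) = σ'.toAlgHom (x₀.1.1 r) at this
  rw [hx] at this
  exact this

end Functor

section Hfin

variable [Module.Finite Λ k]
  {R S : Type u} [CommRing R] [Algebra Λ R] [IsLocalRing R] [IsNoetherianRing R]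
  [Algebra R k] [IsScalarTower Λ R k]
  [CommRing S] [Algebra Λ S] [IsLocalRing S] [IsNoetherianRing S]
  [Algebra S k] [IsScalarTower Λ S k]

theorem hfin_prodF (hR' : Function.Surjective (algebraMap R k))
    (hS' : Function.Surjective (algebraMap S k))
    [T : TangentStr (prodF R S (IsScalarTower.toAlgHom Λ R k) (IsScalarTower.toAlgHom Λ S k))] :
    Hfin (prodF R S (IsScalarTower.toAlgHom Λ R k) (IsScalarTower.toAlgHom Λ S k)) := by
  have hfinR : Module.Finite k (Derivation Λ R k) := finite_derivation hR'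
  have hfinS : Module.Finite k (Derivation Λ S k) := finite_derivation hS'
  let resR : R →ₐ[Λ] k := IsScalarTower.toAlgHom Λ R k
  let resS : S →ₐ[Λ] k := IsScalarTower.toAlgHom Λ S k
  let F := prodF R S resR resS
  let θ : Derivation Λ R k × Derivation Λ S k → F.obj (dual Λ k) :=
    fun D => (tangentOfDeriv' D.1, tangentOfDeriv' D.2)
  have hadd : ∀ D₁ D₂ : Derivation Λ R k × Derivation Λ S k,
      TangentSpace.mk (F := F) (θ (D₁ + D₂)) =
        TangentSpace.mk (F := F) (θ D₁) + TangentSpace.mk (F := F) (θ D₂) := by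
    intro D₁ D₂
    obtain ⟨z, hz1, hz2⟩ := Groth.Agent.H15.ArtFunA.IsFibreProd.exists_lift
      (isFibreProd_dual2 (Λ := Λ) (k := k)) (tangentOfDeriv' D₁.1) (tangentOfDeriv' D₂.1)
      (Subsingleton.elim (α := (hR R resR).obj (base Λ k)) _ _)
    obtain ⟨w, hw1, hw2⟩ := Groth.Agent.H15.ArtFunA.IsFibreProd.exists_lift
      (isFibreProd_dual2 (Λ := Λ) (k := k)) (tangentOfDeriv' D₁.2) (tangentOfDeriv' D₂.2)
      (Subsingleton.elim (α := (hR S resS).obj (base Λ k)) _ _)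
    have e1 : ∀ r, (TrivSqZeroExt.snd (z.1 r)).1 = D₁.1 r := fun r =>
      congrArg (fun t : HomSet R resR (dual Λ k) => TrivSqZeroExt.snd (t.1 r)) hz1
    have e2 : ∀ r, (TrivSqZeroExt.snd (z.1 r)).2 = D₂.1 r := fun r =>
      congrArg (fun t : HomSet R resR (dual Λ k) => TrivSqZeroExt.snd (t.1 r)) hz2
    have e0 : ∀ r, TrivSqZeroExt.fst (z.1 r) = algebraMap R k r := fun r =>
      congrArg (fun t : HomSet R resR (dual Λ k) => TrivSqZeroExt.fst (t.1 r)) hz1
    have e3 : HomSet.map plus z = tangentOfDeriv' (D₁ + D₂).1 := by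
      apply Subtype.ext
      apply AlgHom.ext
      intro r
      apply TrivSqZeroExt.ext
      · exact e0 r
      · change (TrivSqZeroExt.snd (z.1 r)).1 + (TrivSqZeroExt.snd (z.1 r)).2 = D₁.1 r + D₂.1 r
        rw [e1, e2]
    have e1' : ∀ r, (TrivSqZeroExt.snd (w.1 r)).1 = D₁.2 r := fun r =>
      congrArg (fun t : HomSet S resS (dual Λ k) => TrivSqZeroExt.snd (t.1 r)) hw1
    have e2' : ∀ r, (TrivSqZeroExt.snd (w.1 r)).2 = D₂.2 r := fun r =>
      congrArg (fun t : HomSet S resS (dual Λ k) => TrivSqZeroExt.snd (t.1 r)) hw2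
    have e0' : ∀ r, TrivSqZeroExt.fst (w.1 r) = algebraMap S k r := fun r =>
      congrArg (fun t : HomSet S resS (dual Λ k) => TrivSqZeroExt.fst (t.1 r)) hw1
    have e3' : HomSet.map plus w = tangentOfDeriv' (D₁ + D₂).2 := by
      apply Subtype.ext
      apply AlgHom.ext
      intro r
      apply TrivSqZeroExt.ext
      · exact e0' r
      · change (TrivSqZeroExt.snd (w.1 r)).1 + (TrivSqZeroExt.snd (w.1 r)).2 = D₁.2 r + D₂.2 r
        rw [e1', e2']
    have h := TangentStr.add_eq (F := F) ((z, w) : F.obj (dual2 Λ k))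
    have a1 : F.map pr₁ ((z, w) : F.obj (dual2 Λ k)) = θ D₁ := Prod.ext hz1 hw1
    have a2 : F.map pr₂ ((z, w) : F.obj (dual2 Λ k)) = θ D₂ := Prod.ext hz2 hw2
    have a3 : F.map plus ((z, w) : F.obj (dual2 Λ k)) = θ (D₁ + D₂) := Prod.ext e3 e3'
    rw [a1, a2, a3] at h
    exact h.symm
  have hsmul : ∀ (c : k) (D : Derivation Λ R k × Derivation Λ S k),
      TangentSpace.mk (F := F) (θ (c • D)) = c • TangentSpace.mk (F := F) (θ D) := by
    intro c D
    have e3 : HomSet.map (scale c) (tangentOfDeriv' D.1) = tangentOfDeriv' (c • D).1 := by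
      apply Subtype.ext
      apply AlgHom.ext
      intro r
      apply TrivSqZeroExt.ext
      · rfl
      · rfl
    have e3' : HomSet.map (scale c) (tangentOfDeriv' D.2) = tangentOfDeriv' (c • D).2 := by
      apply Subtype.ext
      apply AlgHom.ext
      intro r
      apply TrivSqZeroExt.ext
      · rfl
      · rfl
    have h := TangentStr.smul_eq (F := F) c (θ D)
    have a : F.map (scale c) (θ D) = θ (c • D) := Prod.ext e3 e3'
    rw [a] at h
    exact h.symm
  let Θ : (Derivation Λ R k × Derivation Λ S k) →ₗ[k] TangentSpace F :=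
    { toFun := fun D => TangentSpace.mk (F := F) (θ D)
      map_add' := hadd
      map_smul' := hsmul }
  have hΘ : Function.Surjective Θ := by
    intro x
    obtain ⟨D₁, h1⟩ := tangentOfDeriv'_surjective (Λ := Λ) (k := k) (S := R) (TangentSpace.val x).1
    obtain ⟨D₂, h2⟩ := tangentOfDeriv'_surjective (Λ := Λ) (k := k) (S := S) (TangentSpace.val x).2
    exact ⟨(D₁, D₂), Prod.ext h1 h2⟩
  exact Module.Finite.of_surjective Θ hΘ

end Hfin

section Main

variable [IsNoetherianRing Λ] [Module.Finite Λ k]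

/-- `h_R × h_S` is prorepresentable. -/
theorem isProrepresentable_prodF (R S : CRing Λ k) :
    IsProrepresentable (prodF R.carrier S.carrier R.res S.res) := by
  have h0 := h0_prodF R.carrier S.carrier R.res S.res
  have hle := isLeftExact_prodF R.carrier S.carrier R.res S.res
  have h2 : Heps (prodF R.carrier S.carrier R.res S.res) := fun _ _ p' p'' h => hle p' p'' _ _ h
  obtain ⟨T⟩ := Groth.Agent.H15.ArtTan.nonempty_tangentStr _ h0 h2
  letI := T
  letI : Algebra R.carrier k := R.res.toRingHom.toAlgebra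
  haveI : IsScalarTower Λ R.carrier k :=
    IsScalarTower.of_algebraMap_eq (fun c => (R.res.commutes c).symm)
  letI : Algebra S.carrier k := S.res.toRingHom.toAlgebra
  haveI : IsScalarTower Λ S.carrier k :=
    IsScalarTower.of_algebraMap_eq (fun c => (S.res.commutes c).symm)
  have h3 : Hfin (prodF R.carrier S.carrier R.res S.res) :=
    hfin_prodF (R := R.carrier) (S := S.carrier) (T := T) R.res_surjective S.res_surjective
  exact Groth.Agent.H15.ArtProrep.backward _ h0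
    (fun B A A' A'' p' p'' f' f'' h _ => hle p' p'' f' f'' h) h3
    (cond_c_prodF R.carrier S.carrier R.res S.res R.res_surjective)

/-- Coproducts of complete local Noetherian augmented algebras. -/
theorem exists_coproduct (R S : CRing Λ k) :
    ∃ (P : CRing Λ k) (i₁ : R.carrier →ₐ[Λ] P.carrier) (i₂ : S.carrier →ₐ[Λ] P.carrier),
      P.res.comp i₁ = R.res ∧ P.res.comp i₂ = S.res ∧
      ∀ (T : CRing Λ k) (g₁ : R.carrier →ₐ[Λ] T.carrier) (g₂ : S.carrier →ₐ[Λ] T.carrier),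
        T.res.comp g₁ = R.res → T.res.comp g₂ = S.res →
          ∃! h : P.carrier →ₐ[Λ] T.carrier, T.res.comp h = P.res ∧ h.comp i₁ = g₁ ∧ h.comp i₂ = g₂ := by
  obtain ⟨⟨P, ξ, hu⟩⟩ := isProrepresentable_prodF R S
  -- the two structure maps
  have hcompat : ∀ n, (prodF R.carrier S.carrier R.res S.res).map (P.truncMap n)
      (ξ.app _ (P.truncHom (n + 1))) = ξ.app _ (P.truncHom n) := fun n => by
    rw [← ξ.natural, CRing.truncMap_truncHom]
  obtain ⟨i₁, hi₁, hi₁n⟩ := Groth.Agent.H15.ArtFormal2.exists_limit_hom P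
    (fun n => (ξ.app _ (P.truncHom n)).1) (fun n => congrArg Prod.fst (hcompat n))
  obtain ⟨i₂, hi₂, hi₂n⟩ := Groth.Agent.H15.ArtFormal2.exists_limit_hom P
    (fun n => (ξ.app _ (P.truncHom n)).2) (fun n => congrArg Prod.snd (hcompat n))
  -- description of ξ
  have hξ : ∀ (A : Art Λ k) (φ : HomSet P.carrier P.res A),
      ((ξ.app A φ).1.1 = φ.1.comp i₁) ∧ ((ξ.app A φ).2.1 = φ.1.comp i₂) := by
    intro A φ
    obtain ⟨N, ū, rfl⟩ := Groth.Agent.H15.PSArt4.exists_factor_trunc P A φ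
    rw [ξ.natural, prodF_map]
    constructor
    · change ū.toAlgHom.comp (ξ.app _ (P.truncHom N)).1.1 = (ū.toAlgHom.comp (P.truncHom N).1).comp i₁
      rw [AlgHom.comp_assoc, hi₁n]
    · change ū.toAlgHom.comp (ξ.app _ (P.truncHom N)).2.1 = (ū.toAlgHom.comp (P.truncHom N).1).comp i₂
      rw [AlgHom.comp_assoc, hi₂n]
  refine ⟨P, i₁, i₂, hi₁, hi₂, ?_⟩
  intro T g₁ g₂ hg₁ hg₂
  -- the levelwise points
  let y : ∀ n, (prodF R.carrier S.carrier R.res S.res).obj (T.trunc n) := fun n =>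
    (⟨(T.truncHom n).1.comp g₁, by rw [← AlgHom.comp_assoc, (T.truncHom n).2, hg₁]⟩,
      ⟨(T.truncHom n).1.comp g₂, by rw [← AlgHom.comp_assoc, (T.truncHom n).2, hg₂]⟩)
  have hy : ∀ n, (prodF R.carrier S.carrier R.res S.res).map (T.truncMap n) (y (n + 1)) = y n := by
    intro n
    have ht := congrArg Subtype.val (CRing.truncMap_truncHom T n)
    change (T.truncMap n).toAlgHom.comp (T.truncHom (n + 1)).1 = (T.truncHom n).1 at ht
    rw [prodF_map]
    refine Prod.ext (Subtype.ext ?_) (Subtype.ext ?_)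
    · change (T.truncMap n).toAlgHom.comp ((T.truncHom (n + 1)).1.comp g₁) = (T.truncHom n).1.comp g₁
      rw [← AlgHom.comp_assoc, ht]
    · change (T.truncMap n).toAlgHom.comp ((T.truncHom (n + 1)).1.comp g₂) = (T.truncHom n).1.comp g₂
      rw [← AlgHom.comp_assoc, ht]
  choose Ψ hΨ using fun n => (hu (T.trunc n)).2 (y n)
  have hΨc : ∀ n, HomSet.map (T.truncMap n) (Ψ (n + 1)) = Ψ n := by
    intro n
    apply (hu (T.trunc n)).1
    rw [ξ.natural, hΨ, hΨ, hy]
  obtain ⟨h, hh, hhn⟩ := Groth.Agent.H15.ArtFormal2.exists_limit_hom T Ψ hΨc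
  refine ⟨h, ⟨hh, ?_, ?_⟩, ?_⟩
  · apply Groth.Agent.H15.ArtFormal2.hom_ext_levels T
    intro n
    rw [← AlgHom.comp_assoc, hhn, ← (hξ _ (Ψ n)).1, hΨ]
  · apply Groth.Agent.H15.ArtFormal2.hom_ext_levels T
    intro n
    rw [← AlgHom.comp_assoc, hhn, ← (hξ _ (Ψ n)).2, hΨ]
  · rintro h' ⟨hh', h1, h2⟩
    apply Groth.Agent.H15.ArtFormal2.hom_ext_levels T
    intro n
    rw [hhn]
    let Ψ' : HomSet P.carrier P.res (T.trunc n) :=
      ⟨(T.truncHom n).1.comp h', by rw [← AlgHom.comp_assoc, (T.truncHom n).2, hh']⟩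
    have : Ψ' = Ψ n := by
      apply (hu (T.trunc n)).1
      rw [hΨ]
      refine Prod.ext (Subtype.ext ?_) (Subtype.ext ?_)
      · rw [(hξ _ Ψ').1]
        change ((T.truncHom n).1.comp h').comp i₁ = (T.truncHom n).1.comp g₁
        rw [AlgHom.comp_assoc, h1]
      · rw [(hξ _ Ψ').2]
        change ((T.truncHom n).1.comp h').comp i₂ = (T.truncHom n).1.comp g₂
        rw [AlgHom.comp_assoc, h2]
    exact congrArg Subtype.val this

/-- Pushouts of complete local Noetherian augmented algebras. -/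
theorem exists_pushout (R S₁ S₂ : CRing Λ k)
    (f₁ : R.carrier →ₐ[Λ] S₁.carrier) (hf₁ : S₁.res.comp f₁ = R.res)
    (f₂ : R.carrier →ₐ[Λ] S₂.carrier) (hf₂ : S₂.res.comp f₂ = R.res) :
    ∃ (P : CRing Λ k) (i₁ : S₁.carrier →ₐ[Λ] P.carrier) (i₂ : S₂.carrier →ₐ[Λ] P.carrier),
      P.res.comp i₁ = S₁.res ∧ P.res.comp i₂ = S₂.res ∧ i₁.comp f₁ = i₂.comp f₂ ∧
      ∀ (T : CRing Λ k) (g₁ : S₁.carrier →ₐ[Λ] T.carrier) (g₂ : S₂.carrier →ₐ[Λ] T.carrier),
        T.res.comp g₁ = S₁.res → T.res.comp g₂ = S₂.res → g₁.comp f₁ = g₂.comp f₂ →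
          ∃! h : P.carrier →ₐ[Λ] T.carrier, T.res.comp h = P.res ∧ h.comp i₁ = g₁ ∧ h.comp i₂ = g₂ := by
  obtain ⟨P₀, j₁, j₂, hj₁, hj₂, huniv⟩ := exists_coproduct S₁ S₂
  let 𝔞 : Ideal P₀.carrier := Ideal.span (Set.range (fun r : R.carrier => j₁ (f₁ r) - j₂ (f₂ r)))
  have h𝔞 : 𝔞 ≤ maximalIdeal P₀.carrier := by
    rw [Ideal.span_le]
    rintro _ ⟨r, rfl⟩
    rw [SetLike.mem_coe, CRing.mem_maximalIdeal_iff, map_sub]
    have e1 : P₀.res (j₁ (f₁ r)) = R.res r := by
      have := DFunLike.congr_fun hj₁ (f₁ r)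
      have h2 := DFunLike.congr_fun hf₁ r
      exact this.trans h2
    have e2 : P₀.res (j₂ (f₂ r)) = R.res r := by
      have := DFunLike.congr_fun hj₂ (f₂ r)
      have h2 := DFunLike.congr_fun hf₂ r
      exact this.trans h2
    rw [e1, e2, sub_self]
  have hmkres := Groth.Agent.H15.ArtTrim.quotCRingMk_res P₀ 𝔞 h𝔞
  have hmksurj := Groth.Agent.H15.ArtTrim.quotCRingMk_surjective P₀ 𝔞 h𝔞
  obtain ⟨P, hP⟩ : ∃ P : CRing Λ k, P = Groth.Agent.H15.ArtTrim.quotCRing P₀ 𝔞 h𝔞 := ⟨_, rfl⟩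
  obtain ⟨mk, hmk⟩ : ∃ mk : P₀.carrier →ₐ[Λ] (Groth.Agent.H15.ArtTrim.quotCRing P₀ 𝔞 h𝔞).carrier,
    mk = Groth.Agent.H15.ArtTrim.quotCRingMk P₀ 𝔞 h𝔞 := ⟨_, rfl⟩
  rw [← hmk] at hmkres hmksurj
  have hmk0 : ∀ a, mk a = 0 ↔ a ∈ 𝔞 := fun a => by
    rw [hmk]
    exact Ideal.Quotient.eq_zero_iff_mem
  refine ⟨Groth.Agent.H15.ArtTrim.quotCRing P₀ 𝔞 h𝔞, mk.comp j₁, mk.comp j₂, ?_, ?_, ?_, ?_⟩
  · rw [← AlgHom.comp_assoc, hmkres, hj₁]
  · rw [← AlgHom.comp_assoc, hmkres, hj₂]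
  · apply AlgHom.ext
    intro r
    change mk (j₁ (f₁ r)) = mk (j₂ (f₂ r))
    rw [← sub_eq_zero, ← map_sub, hmk0]
    exact Ideal.subset_span ⟨r, rfl⟩
  · intro T g₁ g₂ hg₁ hg₂ hg
    obtain ⟨h₀, ⟨hh₀, hh₁, hh₂⟩, huniq⟩ := huniv T g₁ g₂ hg₁ hg₂
    have hkill : ∀ a ∈ 𝔞, h₀ a = 0 := by
      intro a ha
      have : 𝔞 ≤ RingHom.ker (h₀ : P₀.carrier →+* T.carrier) := by
        rw [Ideal.span_le]
        rintro _ ⟨r, rfl⟩
        rw [SetLike.mem_coe, RingHom.mem_ker]
        change h₀ (j₁ (f₁ r) - j₂ (f₂ r)) = 0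
        rw [map_sub]
        have e1 : h₀ (j₁ (f₁ r)) = g₁ (f₁ r) := DFunLike.congr_fun hh₁ (f₁ r)
        have e2 : h₀ (j₂ (f₂ r)) = g₂ (f₂ r) := DFunLike.congr_fun hh₂ (f₂ r)
        have e3 : g₁ (f₁ r) = g₂ (f₂ r) := DFunLike.congr_fun hg r
        rw [e1, e2, e3, sub_self]
      exact this ha
    obtain ⟨h, hh⟩ : ∃ h : (Groth.Agent.H15.ArtTrim.quotCRing P₀ 𝔞 h𝔞).carrier →ₐ[Λ] T.carrier,
        h.comp mk = h₀ := by
      refine ⟨Ideal.Quotient.liftₐ 𝔞 h₀ hkill, ?_⟩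
      rw [hmk]
      apply AlgHom.ext
      intro a
      rfl
    have hcancel : ∀ {X : Type u} [CommRing X] [Algebra Λ X]
        (a b : (Groth.Agent.H15.ArtTrim.quotCRing P₀ 𝔞 h𝔞).carrier →ₐ[Λ] X),
        a.comp mk = b.comp mk → a = b := by
      intro X _ _ a b hab
      apply AlgHom.ext
      intro z
      obtain ⟨w, rfl⟩ := hmksurj z
      exact DFunLike.congr_fun hab w
    refine ⟨h, ⟨?_, ?_, ?_⟩, ?_⟩
    · apply hcancel
      rw [AlgHom.comp_assoc, hh, hh₀, hmkres]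
    · rw [← AlgHom.comp_assoc, hh, hh₁]
    · rw [← AlgHom.comp_assoc, hh, hh₂]
    · rintro h' ⟨h'0, h'1, h'2⟩
      apply hcancel
      rw [hh]
      apply huniq
      refine ⟨?_, ?_, ?_⟩
      · rw [← AlgHom.comp_assoc, h'0, hmkres]
      · rw [AlgHom.comp_assoc, h'1]
      · rw [AlgHom.comp_assoc, h'2]

end Main

end Groth.Agent.H15.CoprodCR
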