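import Mathlib
import Groth.Agent.S6800

set_option autoImplicit false
open CategoryTheory CategoryTheory.Limits Opposite SimplexCategory

namespace Groth.Agent.H15.Cosk

universe v u
variable {C : Type u} [Category.{v} C] [HasFiniteLimits C]

theorem main (U : SimplicialObject C) {n m : ℕ} (h : n ≤ m) [U.IsCoskeletal n] :
    U.IsCoskeletal m := by
  haveI := Groth.Agent.S6800.result (C := C) n ((Truncated.inclusion n).op ⋙ U)
  have hE0 : (Functor.RightExtension.mk U
      (𝟙 ((Truncated.inclusion n).op ⋙ U))).IsPointwiseRightKanExtension :=
    Functor.isPointwiseRightKanExtensionOfIsRightKanExtension U (𝟙 _)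
  have hE : ∀ Y, IsLimit ((Functor.RightExtension.mk U
      (𝟙 ((Truncated.inclusion n).op ⋙ U))).coneAt Y) := fun Y => hE0 Y
  -- joint monicity / lifting at each Y
  have hE' : (Functor.RightExtension.mk U
      (𝟙 ((Truncated.inclusion m).op ⋙ U))).IsPointwiseRightKanExtension := by
    intro Y
    refine IsLimit.ofExistsUnique (fun s => ?_)
    -- cone over structured arrows for n
    let s' : Cone (StructuredArrow.proj Y (Truncated.inclusion n).op ⋙
        ((Truncated.inclusion n).op ⋙ U)) :=
      { pt := s.pt
        π :=
          { app := fun g => s.π.app (StructuredArrow.mk (Y := (Truncated.incl n m h).op.obj g.right)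
                (T := (Truncated.inclusion m).op) g.hom)
            naturality := by
              intro g g' φ
              have := s.π.naturality (X := StructuredArrow.mk
                  (Y := (Truncated.incl n m h).op.obj g.right)
                  (T := (Truncated.inclusion m).op) g.hom)
                (Y := StructuredArrow.mk
                  (Y := (Truncated.incl n m h).op.obj g'.right)
                  (T := (Truncated.inclusion m).op) g'.hom)
                (StructuredArrow.homMk ((Truncated.incl n m h).op.map φ.right)
                  (by simpa using StructuredArrow.w φ))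
              refine (Category.id_comp _).trans ?_
              exact (Category.id_comp _).symm.trans this } }
    have key : ∀ g : StructuredArrow Y (Truncated.inclusion n).op,
        (hE Y).lift s' ≫ U.map g.hom = s.π.app (StructuredArrow.mk
          (Y := (Truncated.incl n m h).op.obj g.right)
          (T := (Truncated.inclusion m).op) g.hom) := by
      intro g
      have := (hE Y).fac s' g
      have e : (hE Y).lift s' ≫ U.map g.hom = (hE Y).lift s' ≫ (U.map g.hom ≫ 𝟙 _) :=
        congrArg ((hE Y).lift s' ≫ ·) (Category.comp_id (U.map g.hom)).symm
      exact e.trans this
    refine ⟨(hE Y).lift s', ?_, ?_⟩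
    · intro j
      apply (hE ((Truncated.inclusion m).op.obj j.right)).hom_ext
      intro g'
      -- the morphism in the truncated category
      let g'' : (Truncated.inclusion m).op.obj j.right ⟶
          (Truncated.inclusion m).op.obj ((Truncated.incl n m h).op.obj g'.right) := g'.hom
      let ψ : j.right ⟶ (Truncated.incl n m h).op.obj g'.right :=
        (Truncated.inclusion.fullyFaithful m).preimage g''
      have hψ : (Truncated.inclusion m).op.map ψ = g'' :=
        (Truncated.inclusion.fullyFaithful m).map_preimage g''
      have nat := s.π.naturality (X := j)
        (Y := StructuredArrow.mk (Y := (Truncated.incl n m h).op.obj g'.right)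
          (T := (Truncated.inclusion m).op) (j.hom ≫ g'.hom))
        (StructuredArrow.homMk ψ (by rw [hψ]; rfl))
      have k := key (StructuredArrow.mk (Y := g'.right)
        (T := (Truncated.inclusion n).op) (j.hom ≫ g'.hom))
      have e1 : ((Functor.RightExtension.mk U
          (𝟙 ((Truncated.inclusion m).op ⋙ U))).coneAt Y).π.app j = U.map j.hom :=
        Category.comp_id _
      have e2 : ((Functor.RightExtension.mk U
          (𝟙 ((Truncated.inclusion n).op ⋙ U))).coneAt
            ((Truncated.inclusion m).op.obj j.right)).π.app g' = U.map g'.hom :=
        Category.comp_id _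
      rw [e1, e2]
      have nat' : s.π.app (StructuredArrow.mk (Y := (Truncated.incl n m h).op.obj g'.right)
          (T := (Truncated.inclusion m).op) (j.hom ≫ g'.hom)) = s.π.app j ≫ U.map g'.hom := by
        have := (Category.id_comp _).symm.trans nat
        refine this.trans ?_
        exact congrArg (fun x => s.π.app j ≫ U.map x) hψ
      exact (Category.assoc _ _ _).trans
        ((congrArg ((hE Y).lift s' ≫ ·) (U.map_comp j.hom g'.hom).symm).trans (k.trans nat'))
    · intro l hl
      apply (hE Y).hom_ext
      intro g
      rw [(hE Y).fac s' g]
      exact hl (StructuredArrow.mk (Y := (Truncated.incl n m h).op.obj g.right)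
          (T := (Truncated.inclusion m).op) g.hom)
  constructor
  exact hE'.isRightKanExtension

end Groth.Agent.H15.Cosk
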