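import Mathlib
import Groth.Agent.S6800

set_option autoImplicit false
open CategoryTheory CategoryTheory.Limits Opposite SimplexCategory

namespace Groth.Agent.H15.CoskOver

universe v u
variable {C : Type u} [Category.{v} C] [HasFiniteLimits C]

theorem main (X : C) (k : ℕ) (hk : 1 ≤ k) (V : SimplicialObject (Over X)) [V.IsCoskeletal k] :
    SimplicialObject.IsCoskeletal (V ⋙ Over.forget X) k := by
  haveI : NeZero k := ⟨by omega⟩
  haveI : HasFiniteLimits (Over X) := inferInstance
  haveI := Groth.Agent.S6800.result (C := Over X) k ((Truncated.inclusion k).op ⋙ V)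
  have hE0 : (Functor.RightExtension.mk V
      (𝟙 ((Truncated.inclusion k).op ⋙ V))).IsPointwiseRightKanExtension :=
    Functor.isPointwiseRightKanExtensionOfIsRightKanExtension V (𝟙 _)
  have hE : ∀ Y, IsLimit ((Functor.RightExtension.mk V
      (𝟙 ((Truncated.inclusion k).op ⋙ V))).coneAt Y) := fun Y => hE0 Y
  have hE' : (Functor.RightExtension.mk (V ⋙ Over.forget X)
      (𝟙 ((Truncated.inclusion k).op ⋙ (V ⋙ Over.forget X)))).IsPointwiseRightKanExtension := by
    intro Y
    haveI : IsConnected (StructuredArrow Y (Truncated.inclusion k).op) :=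
      Functor.Final.out Y
    have h1 := isLimitOfPreserves (Over.forget X) (hE Y)
    refine IsLimit.ofIsoLimit h1 (Cones.ext (Iso.refl _) ?_)
    intro g
    refine Eq.trans ?_ (Category.id_comp _).symm
    refine Eq.trans ?_ (Category.comp_id _).symm
    exact congrArg (Over.forget X).map (Category.comp_id _)
  constructor
  exact hE'.isRightKanExtension

end Groth.Agent.H15.CoskOver
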