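import Mathlib

set_option autoImplicit false
open CategoryTheory CategoryTheory.Limits Opposite SimplexCategory

namespace Groth.Agent.H15.CoskTop

universe v u
variable {C : Type u} [Category.{v} C]

section
variable (n : ℕ) (U : (SimplexCategory.Truncated (n + 1))ᵒᵖ ⥤ C)

/-- the action of `U` on a simplex-category morphism between truncated objects. -/
abbrev Um {a b : SimplexCategory} (f : a ⟶ b) (ha : a.len ≤ n + 1) (hb : b.len ≤ n + 1) :
    U.obj (op ⟨b, hb⟩) ⟶ U.obj (op ⟨a, ha⟩) :=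
  U.map (Truncated.Hom.tr f ha hb).op

lemma Um_comp {a b c : SimplexCategory} (f : a ⟶ b) (g : b ⟶ c) (ha : a.len ≤ n + 1)
    (hb : b.len ≤ n + 1) (hc : c.len ≤ n + 1) :
    Um n U (f ≫ g) ha hc = Um n U g hb hc ≫ Um n U f ha hb := by
  unfold Um
  rw [← U.map_comp, ← op_comp]
  rfl

lemma Um_id {a : SimplexCategory} (ha : a.len ≤ n + 1) :
    Um n U (𝟙 a) ha ha = 𝟙 _ := by
  unfold Um
  exact U.map_id _

variable {n U}
variable {T : C} (π : Fin (n + 3) → (T ⟶ U.obj (op ⟨SimplexCategory.mk (n + 1), (SimplexCategory.len_mk (n + 1)).le⟩)))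
  (hπ : ∀ i j : Fin (n + 2), i ≤ j →
    π (Fin.castSucc i) ≫ U.map (SimplexCategory.Truncated.δ (n + 1) j ((SimplexCategory.len_mk n).trans_le (Nat.le_succ n)) (SimplexCategory.len_mk (n + 1)).le).op =
    π j.succ ≫ U.map (SimplexCategory.Truncated.δ (n + 1) i ((SimplexCategory.len_mk n).trans_le (Nat.le_succ n)) (SimplexCategory.len_mk (n + 1)).le).op)

include hπ in
/-- well-definedness, ordered case -/
lemma wd_lt {b : SimplexCategory} (hb : b.len ≤ n + 1) (i i' : Fin (n + 3)) (hlt : i < i')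
    (a a' : b ⟶ SimplexCategory.mk (n + 1))
    (h : a ≫ SimplexCategory.δ i = a' ≫ SimplexCategory.δ i') :
    π i ≫ Um n U a hb (SimplexCategory.len_mk (n + 1)).le =
      π i' ≫ Um n U a' hb (SimplexCategory.len_mk (n + 1)).le := by
  -- write i = castSucc i₀, i' = succ j₀
  obtain ⟨j₀, rfl⟩ : ∃ j₀ : Fin (n + 2), i' = j₀.succ :=
    ⟨i'.pred (Fin.ne_zero_of_lt hlt), (Fin.succ_pred _ _).symm⟩
  obtain ⟨i₀, rfl⟩ : ∃ i₀ : Fin (n + 2), i = Fin.castSucc i₀ :=
    ⟨i.castPred (Fin.ne_last_of_lt hlt), (Fin.castSucc_castPred _ _).symm⟩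
  have hij : i₀ ≤ j₀ := by
    rw [Fin.le_iff_val_le_val]
    have := Fin.lt_def.mp hlt
    simp at this
    omega
  -- a misses j₀
  have hmiss : ∀ x, a.toOrderHom x ≠ j₀ := by
    intro x hx
    have h1 := congrArg (fun f => f.toOrderHom x) h
    simp only [SimplexCategory.comp_toOrderHom, OrderHom.comp_coe, Function.comp_apply] at h1
    rw [hx] at h1
    have h2 : (SimplexCategory.δ (Fin.castSucc i₀)).toOrderHom j₀ = j₀.succ := by
      simp only [SimplexCategory.δ, SimplexCategory.mkHom, SimplexCategory.Hom.toOrderHom_mk,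
        OrderEmbedding.toOrderHom_coe, Fin.succAboveOrderEmb_apply]
      exact Fin.succAbove_of_le_castSucc _ _ (Fin.castSucc_le_castSucc_iff.mpr hij)
    rw [h2] at h1
    have h3 : (SimplexCategory.δ j₀.succ).toOrderHom (a'.toOrderHom x) ≠ j₀.succ := by
      simp only [SimplexCategory.δ, SimplexCategory.mkHom, SimplexCategory.Hom.toOrderHom_mk,
        OrderEmbedding.toOrderHom_coe, Fin.succAboveOrderEmb_apply]
      exact Fin.succAbove_ne _ _
    exact h3 h1.symm
  obtain ⟨a'', ha''⟩ := SimplexCategory.eq_comp_δ_of_not_surjective' a j₀ hmiss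
  have ha' : a' = a'' ≫ SimplexCategory.δ i₀ := by
    have : (a'' ≫ SimplexCategory.δ i₀) ≫ SimplexCategory.δ j₀.succ = a' ≫ SimplexCategory.δ j₀.succ := by
      rw [← h, ha'', Category.assoc, Category.assoc, SimplexCategory.δ_comp_δ hij]
    exact ((cancel_mono _).mp this).symm
  have hn : (SimplexCategory.mk n).len ≤ n + 1 := (SimplexCategory.len_mk n).trans_le (Nat.le_succ n)
  rw [ha'', ha', Um_comp n U a'' (SimplexCategory.δ j₀) hb hn, Um_comp n U a'' (SimplexCategory.δ i₀) hb hn,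
    ← Category.assoc, ← Category.assoc]
  congr 1
  exact hπ i₀ j₀ hij

include hπ in
lemma wd {b : SimplexCategory} (hb : b.len ≤ n + 1) (i i' : Fin (n + 3))
    (a a' : b ⟶ SimplexCategory.mk (n + 1))
    (h : a ≫ SimplexCategory.δ i = a' ≫ SimplexCategory.δ i') :
    π i ≫ Um n U a hb (SimplexCategory.len_mk (n + 1)).le =
      π i' ≫ Um n U a' hb (SimplexCategory.len_mk (n + 1)).le := by
  rcases lt_trichotomy i i' with hlt | rfl | hgt
  · exact wd_lt π hπ hb i i' hlt a a' h
  · rw [(cancel_mono _).mp h]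
  · exact (wd_lt π hπ hb i' i hgt a' a h.symm).symm

lemma not_surj {b : SimplexCategory} (hb : b.len ≤ n + 1) (f : b ⟶ SimplexCategory.mk (n + 2)) :
    ¬ Function.Surjective f.toOrderHom := by
  intro hs
  have : Epi f := SimplexCategory.epi_iff_surjective.mpr hs
  have := SimplexCategory.len_le_of_epi f
  simp at this
  omega

lemma exists_fac {b : SimplexCategory} (hb : b.len ≤ n + 1) (f : b ⟶ SimplexCategory.mk (n + 2)) :
    ∃ p : Fin (n + 3) × (b ⟶ SimplexCategory.mk (n + 1)), f = p.2 ≫ SimplexCategory.δ p.1 := by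
  obtain ⟨i, θ, h⟩ := SimplexCategory.eq_comp_δ_of_not_surjective f (not_surj hb f)
  exact ⟨(i, θ), h⟩

/-- the leg of the cone on `T` -/
noncomputable def leg {b : SimplexCategory} (hb : b.len ≤ n + 1) (f : b ⟶ SimplexCategory.mk (n + 2)) :
    T ⟶ U.obj (op ⟨b, hb⟩) :=
  π (Classical.choose (exists_fac hb f)).1 ≫
    Um n U (Classical.choose (exists_fac hb f)).2 hb (SimplexCategory.len_mk (n + 1)).le

include hπ in
lemma leg_eq {b : SimplexCategory} (hb : b.len ≤ n + 1) (f : b ⟶ SimplexCategory.mk (n + 2))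
    (i : Fin (n + 3)) (θ : b ⟶ SimplexCategory.mk (n + 1)) (h : f = θ ≫ SimplexCategory.δ i) :
    leg π hb f = π i ≫ Um n U θ hb (SimplexCategory.len_mk (n + 1)).le := by
  unfold leg
  exact wd π hπ hb _ _ _ _ ((Classical.choose_spec (exists_fac hb f)).symm.trans h)

/-- the inclusion functor, opposite -/
abbrev L (n : ℕ) : (SimplexCategory.Truncated (n + 1))ᵒᵖ ⥤ (SimplexCategory.Truncated (n + 2))ᵒᵖ :=
  (SimplexCategory.Truncated.incl (n + 1) (n + 2) (Nat.le_succ _)).op

/-- the top object -/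
abbrev Ytop (n : ℕ) : (SimplexCategory.Truncated (n + 2))ᵒᵖ :=
  op ⟨SimplexCategory.mk (n + 2), (SimplexCategory.len_mk (n + 2)).le⟩

lemma hom_fac {g g' : StructuredArrow (Ytop n) (L n)} (φ : g ⟶ g') :
    g'.hom.unop.hom = φ.right.unop.hom ≫ g.hom.unop.hom := by
  have := StructuredArrow.w φ
  rw [← this]
  rfl

include hπ in
/-- the cone on `T` -/
noncomputable def coneT : Cone (StructuredArrow.proj (Ytop n) (L n) ⋙ U) where
  pt := T
  π :=
    { app := fun g => leg π g.right.unop.property g.hom.unop.hom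
      naturality := by
        intro g g' φ
        obtain ⟨⟨i, θ⟩, h⟩ := exists_fac g.right.unop.property g.hom.unop.hom
        have h' : g'.hom.unop.hom = (φ.right.unop.hom ≫ θ) ≫ SimplexCategory.δ i := by
          rw [hom_fac φ, h, Category.assoc]
        have e1 := leg_eq π hπ g.right.unop.property g.hom.unop.hom i θ h
        have e2 := leg_eq π hπ g'.right.unop.property g'.hom.unop.hom i _ h'
        refine (Category.id_comp _).trans ?_
        refine e2.trans ?_
        rw [Um_comp n U φ.right.unop.hom θ g'.right.unop.property g.right.unop.property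
          (SimplexCategory.len_mk (n + 1)).le, ← Category.assoc]
        exact congrArg (· ≫ U.map φ.right) e1.symm }

/-- the face objects of the structured arrow category -/
abbrev objK (n : ℕ) (k : Fin (n + 3)) : StructuredArrow (Ytop n) (L n) :=
  StructuredArrow.mk (Y := op ⟨SimplexCategory.mk (n + 1), (SimplexCategory.len_mk (n + 1)).le⟩)
    (SimplexCategory.Truncated.δ (n + 2) k ((SimplexCategory.len_mk (n + 1)).trans_le (Nat.le_succ (n + 1)))
      (SimplexCategory.len_mk (n + 2)).le).op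

/-- the morphism from a face object to an object with a factorisation -/
def toObj (o : StructuredArrow (Ytop n) (L n)) (i : Fin (n + 3))
    (θ : o.right.unop.obj ⟶ SimplexCategory.mk (n + 1))
    (h : o.hom.unop.hom = θ ≫ SimplexCategory.δ i) : objK n i ⟶ o :=
  StructuredArrow.homMk
    ((Truncated.Hom.tr θ o.right.unop.property (SimplexCategory.len_mk (n + 1)).le).op)
    (by
      apply Quiver.Hom.unop_inj
      apply ObjectProperty.hom_ext
      exact h.symm)

include hπ in
lemma coneT_objK (k : Fin (n + 3)) : (coneT π hπ).π.app (objK n k) = π k := by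
  have := leg_eq π hπ (SimplexCategory.len_mk (n + 1)).le (SimplexCategory.δ k) k (𝟙 _)
    (Category.id_comp _).symm
  rw [Um_id, Category.comp_id] at this
  exact this

include hπ in
lemma coneT_app (o : StructuredArrow (Ytop n) (L n)) (i : Fin (n + 3))
    (θ : o.right.unop.obj ⟶ SimplexCategory.mk (n + 1))
    (h : o.hom.unop.hom = θ ≫ SimplexCategory.δ i) :
    (coneT π hπ).π.app o = π i ≫ U.map (toObj o i θ h).right :=
  leg_eq π hπ o.right.unop.property o.hom.unop.hom i θ h

lemma face_rel (s : Cone (StructuredArrow.proj (Ytop n) (L n) ⋙ U)) (i j : Fin (n + 2))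
    (hij : i ≤ j) :
    s.π.app (objK n (Fin.castSucc i)) ≫ U.map (SimplexCategory.Truncated.δ (n + 1) j ((SimplexCategory.len_mk n).trans_le (Nat.le_succ n)) (SimplexCategory.len_mk (n + 1)).le).op =
    s.π.app (objK n j.succ) ≫ U.map (SimplexCategory.Truncated.δ (n + 1) i ((SimplexCategory.len_mk n).trans_le (Nat.le_succ n)) (SimplexCategory.len_mk (n + 1)).le).op := by
  have hn : (SimplexCategory.mk n).len ≤ n + 1 := (SimplexCategory.len_mk n).trans_le (Nat.le_succ n)
  let W : StructuredArrow (Ytop n) (L n) :=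
    StructuredArrow.mk (Y := op ⟨SimplexCategory.mk n, hn⟩)
      ((Truncated.Hom.tr (SimplexCategory.δ j ≫ SimplexCategory.δ (Fin.castSucc i))
        ((SimplexCategory.len_mk n).trans_le (by omega)) (SimplexCategory.len_mk (n + 2)).le).op)
  let φ₁ : objK n (Fin.castSucc i) ⟶ W :=
    StructuredArrow.homMk
      ((SimplexCategory.Truncated.δ (n + 1) j hn (SimplexCategory.len_mk (n + 1)).le).op) rfl
  let φ₂ : objK n j.succ ⟶ W :=
    StructuredArrow.homMk
      ((SimplexCategory.Truncated.δ (n + 1) i hn (SimplexCategory.len_mk (n + 1)).le).op)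
      (by
        apply Quiver.Hom.unop_inj
        apply ObjectProperty.hom_ext
        exact SimplexCategory.δ_comp_δ hij)
  exact (s.w φ₁).trans (s.w φ₂).symm

include hπ in
noncomputable def isLimit_coneT
    (huniv : ∀ (S : C) (g : Fin (n + 3) → (S ⟶ U.obj (op ⟨SimplexCategory.mk (n + 1), (SimplexCategory.len_mk (n + 1)).le⟩))), (∀ i j : Fin (n + 2), i ≤ j → g (Fin.castSucc i) ≫ U.map (SimplexCategory.Truncated.δ (n + 1) j ((SimplexCategory.len_mk n).trans_le (Nat.le_succ n)) (SimplexCategory.len_mk (n + 1)).le).op = g j.succ ≫ U.map (SimplexCategory.Truncated.δ (n + 1) i ((SimplexCategory.len_mk n).trans_le (Nat.le_succ n)) (SimplexCategory.len_mk (n + 1)).le).op) → ∃! t : S ⟶ T, ∀ k : Fin (n + 3), t ≫ π k = g k) :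
    IsLimit (coneT π hπ) := by
  refine IsLimit.ofExistsUnique (fun s => ?_)
  obtain ⟨t, ht, huniq⟩ := huniv s.pt (fun k => s.π.app (objK n k)) (face_rel s)
  refine ⟨t, ?_, ?_⟩
  · intro o
    obtain ⟨⟨i, θ⟩, h⟩ := exists_fac o.right.unop.property o.hom.unop.hom
    have e1 : t ≫ (coneT π hπ).π.app o = t ≫ (π i ≫ U.map (toObj o i θ h).right) :=
      congrArg (t ≫ ·) (coneT_app π hπ o i θ h)
    refine e1.trans ?_
    refine (Category.assoc _ _ _).symm.trans ?_
    refine (congrArg (· ≫ U.map (toObj o i θ h).right) (ht i)).trans ?_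
    exact s.w (toObj o i θ h)
  · intro l hl
    apply huniq
    intro k
    exact (congrArg (l ≫ ·) (coneT_objK π hπ k)).symm.trans (hl (objK n k))

include hπ in
lemma hasPointwise
    (huniv : ∀ (S : C) (g : Fin (n + 3) → (S ⟶ U.obj (op ⟨SimplexCategory.mk (n + 1), (SimplexCategory.len_mk (n + 1)).le⟩))), (∀ i j : Fin (n + 2), i ≤ j → g (Fin.castSucc i) ≫ U.map (SimplexCategory.Truncated.δ (n + 1) j ((SimplexCategory.len_mk n).trans_le (Nat.le_succ n)) (SimplexCategory.len_mk (n + 1)).le).op = g j.succ ≫ U.map (SimplexCategory.Truncated.δ (n + 1) i ((SimplexCategory.len_mk n).trans_le (Nat.le_succ n)) (SimplexCategory.len_mk (n + 1)).le).op) → ∃! t : S ⟶ T, ∀ k : Fin (n + 3), t ≫ π k = g k) :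
    (L n).HasPointwiseRightKanExtension U := by
  intro Y
  show HasLimit (StructuredArrow.proj Y (L n) ⋙ U)
  by_cases hY : Y.unop.obj.len ≤ n + 1
  · obtain ⟨b, rfl⟩ : ∃ b : (SimplexCategory.Truncated (n + 1))ᵒᵖ, Y = (L n).obj b :=
      ⟨op ⟨Y.unop.obj, hY⟩, rfl⟩
    exact ⟨⟨⟨_, limitOfDiagramInitial (StructuredArrow.mkIdInitial (T := L n) (Y := b)) _⟩⟩⟩
  · have hlen : Y.unop.obj.len = n + 2 := by
      have := Y.unop.property
      omega
    have hYtop : Y = Ytop n := by
      obtain ⟨⟨o, ho⟩⟩ := Y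
      have : o = SimplexCategory.mk (n + 2) := SimplexCategory.ext hlen
      subst this
      rfl
    subst hYtop
    exact ⟨⟨⟨_, isLimit_coneT π hπ huniv⟩⟩⟩

end

theorem main (n : ℕ) (U : (SimplexCategory.Truncated (n + 1))ᵒᵖ ⥤ C) (T : C) (π : Fin (n + 3) → (T ⟶ U.obj (op ⟨SimplexCategory.mk (n + 1), (SimplexCategory.len_mk (n + 1)).le⟩))) (hπ : ∀ i j : Fin (n + 2), i ≤ j → π (Fin.castSucc i) ≫ U.map (SimplexCategory.Truncated.δ (n + 1) j ((SimplexCategory.len_mk n).trans_le (Nat.le_succ n)) (SimplexCategory.len_mk (n + 1)).le).op = π j.succ ≫ U.map (SimplexCategory.Truncated.δ (n + 1) i ((SimplexCategory.len_mk n).trans_le (Nat.le_succ n)) (SimplexCategory.len_mk (n + 1)).le).op) (huniv : ∀ (S : C) (g : Fin (n + 3) → (S ⟶ U.obj (op ⟨SimplexCategory.mk (n + 1), (SimplexCategory.len_mk (n + 1)).le⟩))), (∀ i j : Fin (n + 2), i ≤ j → g (Fin.castSucc i) ≫ U.map (SimplexCategory.Truncated.δ (n + 1) j ((SimplexCategory.len_mk n).trans_le (Nat.le_succ n)) (SimplexCategory.len_mk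 (n + 1)).le).op = g j.succ ≫ U.map (SimplexCategory.Truncated.δ (n + 1) i ((SimplexCategory.len_mk n).trans_le (Nat.le_succ n)) (SimplexCategory.len_mk (n + 1)).le).op) → ∃! t : S ⟶ T, ∀ k : Fin (n + 3), t ≫ π k = g k) : (SimplexCategory.Truncated.incl (n + 1) (n + 2) (Nat.le_succ _)).op.HasPointwiseRightKanExtension U ∧ ∀ (V : (SimplexCategory.Truncated (n + 2))ᵒᵖ ⥤ C) (α : (SimplexCategory.Truncated.incl (n + 1) (n + 2) (Nat.le_succ _)).op ⋙ V ⟶ U) [V.IsRightKanExtension α] (t : V.obj (op ⟨SimplexCategory.mk (n + 2), (SimplexCategory.len_mk (n + 2)).le⟩) ⟶ T), (∀ k : Fin (n + 3), t ≫ π k = V.map (SimplexCategory.Truncated.δ (n + 2) k ((SimplexCategory.len_mk (n + 1)).trans_le (Nat.le_succ (n + 1))) (SimplexCategory.len_mk (n + 2)).le).op ≫ α.app (op ⟨SimplexCategory.mk (n + 1), (SimplexCategory.len_mk (n + 1)).le⟩)) → IsIso t := by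
  have hP : (L n).HasPointwiseRightKanExtension U := hasPointwise π hπ huniv
  refine ⟨hP, ?_⟩
  intro V α _ t ht
  have := hP
  have hV : (Functor.RightExtension.mk V α).IsPointwiseRightKanExtension :=
    Functor.isPointwiseRightKanExtensionOfIsRightKanExtension V α
  have hVtop : IsLimit ((Functor.RightExtension.mk V α).coneAt (Ytop n)) := hV (Ytop n)
  let c : V.obj (Ytop n) ≅ T := hVtop.conePointUniqueUpToIso (isLimit_coneT π hπ huniv)
  have hc : ∀ k : Fin (n + 3), c.hom ≫ π k = V.map (SimplexCategory.Truncated.δ (n + 2) k ((SimplexCategory.len_mk (n + 1)).trans_le (Nat.le_succ (n + 1))) (SimplexCategory.len_mk (n + 2)).le).op ≫ α.app (op ⟨SimplexCategory.mk (n + 1), (SimplexCategory.len_mk (n + 1)).le⟩) := by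
    intro k
    have h1 := IsLimit.conePointUniqueUpToIso_hom_comp hVtop (isLimit_coneT π hπ huniv) (objK n k)
    exact (congrArg (c.hom ≫ ·) (coneT_objK π hπ k)).symm.trans h1
  obtain ⟨t0, _, huniq⟩ := huniv (V.obj (Ytop n)) (fun k => c.hom ≫ π k) (by
    intro i j hij
    exact (Category.assoc _ _ _).trans
      ((congrArg (c.hom ≫ ·) (hπ i j hij)).trans (Category.assoc _ _ _).symm))
  have h1 : t = t0 := huniq t (fun k => (ht k).trans (hc k).symm)
  have h2 : c.hom = t0 := huniq c.hom (fun k => rfl)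
  rw [h1, ← h2]
  exact Iso.isIso_hom c

end Groth.Agent.H15.CoskTop
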