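import Mathlib

set_option autoImplicit false

namespace Groth.Agent.H15.CountGF

open Polynomial Finset

section generic
variable {R : Type*} [CommSemiring R]

theorem sum_prod_eq_pow (n p : ℕ) (w : Fin p → R) :
    ∑ e : Fin n → Fin p, ∏ i, w (e i) = (∑ v, w v) ^ n := by
  rw [Finset.sum_pow', Fintype.piFinset_univ]

theorem prod_formula (c : ℕ → R) (y : R) (n p : ℕ)
    (e : Fin n → Fin p) :
    (∏ i, if 1 ≤ (e i : ℕ) then c (e i : ℕ) * (if 2 * (e i : ℕ) < p then y else 1) else 0) =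
      if ∀ i, 1 ≤ (e i : ℕ) then
        (∏ i, c (e i : ℕ)) * y ^ (Finset.univ.filter fun i => 2 * (e i : ℕ) < p).card else 0 := by
  rw [Fintype.prod_ite_zero]
  by_cases h1 : ∀ i, 1 ≤ (e i : ℕ)
  · rw [if_pos h1, if_pos h1, Finset.prod_mul_distrib, Finset.prod_ite, Finset.prod_const,
      Finset.prod_const_one, mul_one]
  · rw [if_neg h1, if_neg h1]

/-- two-variable weights -/
noncomputable def W (c : ℕ → R) (p : ℕ) (v : Fin p) : R[X] :=
  if 1 ≤ (v : ℕ) then C (c (v : ℕ)) * (if 2 * (v : ℕ) < p then X else 1) else 0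

theorem coeff_W_pow (c : ℕ → R) (p n D : ℕ) :
    ((∑ v, W c p v) ^ n).coeff D =
      ∑ e : Fin n → Fin p, if (∀ i, 1 ≤ (e i : ℕ)) ∧
        (Finset.univ.filter fun i => 2 * (e i : ℕ) < p).card = D then ∏ i, c (e i : ℕ) else 0 := by
  rw [← sum_prod_eq_pow n p (W c p), finsetSum_coeff]
  refine Finset.sum_congr rfl (fun e _ => ?_)
  unfold W
  rw [prod_formula (fun v => C (c v)) X n p e]
  by_cases h1 : ∀ i, 1 ≤ (e i : ℕ)
  · rw [if_pos h1, ← map_prod, coeff_C_mul_X_pow]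
    by_cases h3 : D = (Finset.univ.filter fun i => 2 * (e i : ℕ) < p).card
    · rw [if_pos h3, if_pos ⟨h1, h3.symm⟩]
    · rw [if_neg h3, if_neg (fun h => h3 h.2.symm)]
  · rw [if_neg h1, if_neg (fun h => h1 h.1), coeff_zero]

theorem sum_W (c : ℕ → R) (h : ℕ) :
    ∑ v, W c (2 * h + 1) v =
      C (∑ u ∈ Finset.range (h + 1), if 1 ≤ u then c u else 0) * X +
        C (∑ u ∈ Finset.range h, c (h + 1 + u)) := by
  have e1 : ∑ v, W c (2 * h + 1) v = ∑ v ∈ Finset.range (2 * h + 1),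
      (if 1 ≤ v then C (c v) * (if 2 * v < 2 * h + 1 then (X : R[X]) else 1)
        else 0) := by
    rw [← Fin.sum_univ_eq_sum_range (fun v => (if 1 ≤ v then
      C (c v) * (if 2 * v < 2 * h + 1 then (X : R[X]) else 1) else 0)) (2 * h + 1)]
    rfl
  rw [e1, ← Finset.sum_range_add_sum_Ico _ (show h + 1 ≤ 2 * h + 1 by omega)]
  congr 1
  · rw [map_sum, Finset.sum_mul]
    refine Finset.sum_congr rfl (fun v hv => ?_)
    rw [Finset.mem_range] at hv
    by_cases h1 : 1 ≤ v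
    · rw [if_pos h1, if_pos h1, if_pos (by omega)]
    · rw [if_neg h1, if_neg h1, map_zero, zero_mul]
  · rw [map_sum, Finset.sum_Ico_eq_sum_range]
    have : 2 * h + 1 - (h + 1) = h := by omega
    rw [this]
    refine Finset.sum_congr rfl (fun i _ => ?_)
    rw [if_pos (by omega), if_neg (by omega), mul_one]

theorem gen_pow {S : Type*} [CommSemiring S] (f : S →+* R) (a b : S) (y : R)
    (m k N : ℕ) : (f a * y) ^ m * f b ^ k * (N : R) = f (a ^ m * b ^ k * (N : S)) * y ^ m := by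
  rw [mul_pow, map_mul, map_mul, map_pow, map_pow, map_natCast]
  ring

theorem coeff_add_pow (a b : R) (n D : ℕ) :
    ((C a * X + C b : R[X]) ^ n).coeff D = a ^ D * b ^ (n - D) * (n.choose D : R) := by
  rw [add_pow, finsetSum_coeff]
  have : ∀ m ∈ Finset.range (n + 1),
      ((C a * X : R[X]) ^ m * C b ^ (n - m) * (n.choose m : R[X])).coeff D =
        if D = m then a ^ m * b ^ (n - m) * (n.choose m : R) else 0 := by
    intro m _
    rw [gen_pow (C : R →+* R[X]) a b X m (n - m) (n.choose m), coeff_C_mul_X_pow]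
  rw [Finset.sum_congr rfl this, Finset.sum_ite_eq]
  by_cases hD : D ∈ Finset.range (n + 1)
  · rw [if_pos hD]
  · rw [if_neg hD]
    rw [Finset.mem_range] at hD
    rw [Nat.choose_eq_zero_of_lt (by omega)]
    simp

end generic

/-- one-variable generating polynomial `X + X^2 + ... + X^(q-1)` -/
noncomputable def A (q : ℕ) : ℕ[X] := ∑ v : Fin q, if 1 ≤ (v : ℕ) then X ^ (v : ℕ) else 0

theorem card_eq_coeff (q d t : ℕ) :
    Fintype.card {e : Fin d → Fin q // (∀ i, 1 ≤ (e i : ℕ)) ∧ ∑ i, (e i : ℕ) = t} =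
      ((A q) ^ d).coeff t := by
  rw [A, ← sum_prod_eq_pow, finsetSum_coeff, Fintype.card_subtype, Finset.card_filter]
  refine Finset.sum_congr rfl (fun e _ => ?_)
  rw [Fintype.prod_ite_zero]
  by_cases h1 : ∀ i, 1 ≤ (e i : ℕ)
  · rw [if_pos h1, Finset.prod_pow_eq_pow_sum, coeff_X_pow]
    by_cases h2 : ∑ i, (e i : ℕ) = t
    · rw [if_pos ⟨h1, h2⟩, if_pos h2.symm]
    · rw [if_neg (fun h => h2 h.2), if_neg (fun h => h2 h.symm)]
  · rw [if_neg h1, if_neg (fun h => h1 h.1), coeff_zero]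

theorem A_coeff_zero (q d : ℕ) (hd : 0 < d) : ((A q) ^ d).coeff 0 = 0 := by
  rw [coeff_zero_eq_eval_zero, eval_pow, A, eval_finset_sum]
  have : ∑ v : Fin q, eval 0 (if 1 ≤ (v : ℕ) then (X : ℕ[X]) ^ (v : ℕ) else 0) = 0 := by
    refine Finset.sum_eq_zero (fun v _ => ?_)
    split_ifs with h
    · rw [eval_pow, eval_X, zero_pow (by omega)]
    · simp
  rw [this, zero_pow (by omega)]

theorem A_range (q : ℕ) : A q = ∑ v ∈ Finset.range q, if 1 ≤ v then (X : ℕ[X]) ^ v else 0 := by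
  rw [A, Fin.sum_univ_eq_sum_range (fun v => if 1 ≤ v then (X : ℕ[X]) ^ v else 0) q]

theorem card_eq_coeff2 (p n s D : ℕ) :
    Fintype.card {e : Fin n → Fin p // (∀ i, 1 ≤ (e i : ℕ)) ∧ ∑ i, (e i : ℕ) = s ∧
        (Finset.univ.filter fun i => 2 * (e i : ℕ) < p).card = D} =
      (((∑ v, W (fun v => (X : ℕ[X]) ^ v) p v) ^ n).coeff D).coeff s := by
  rw [coeff_W_pow, finsetSum_coeff, Fintype.card_subtype, Finset.card_filter]
  refine Finset.sum_congr rfl (fun e _ => ?_)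
  by_cases h1 : (∀ i, 1 ≤ (e i : ℕ)) ∧
      (Finset.univ.filter fun i => 2 * (e i : ℕ) < p).card = D
  · rw [if_pos h1, Finset.prod_pow_eq_pow_sum, coeff_X_pow]
    by_cases h2 : ∑ i, (e i : ℕ) = s
    · rw [if_pos ⟨h1.1, h2, h1.2⟩, if_pos h2.symm]
    · rw [if_neg (fun h => h2 h.2.1), if_neg (fun h => h2 h.symm)]
  · rw [if_neg h1, if_neg (fun h => h1 ⟨h.1, h.2.2⟩), coeff_zero]

theorem main (h n s D : ℕ) :
    Fintype.card {e : Fin n → Fin (2 * h + 1) // (∀ i, 1 ≤ (e i : ℕ)) ∧ ∑ i, (e i : ℕ) = s ∧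
        (Finset.univ.filter fun i => 2 * (e i : ℕ) < 2 * h + 1).card = D} =
      n.choose D * ∑ j ∈ Finset.range (s + 1),
        Fintype.card {e : Fin D → Fin (h + 1) // (∀ i, 1 ≤ (e i : ℕ)) ∧ ∑ i, (e i : ℕ) = j} *
          Fintype.card {e : Fin (n - D) → Fin (h + 1) //
            (∀ i, 1 ≤ (e i : ℕ)) ∧ ∑ i, (e i : ℕ) = (s - j - (n - D) * h)} := by
  have hA : (∑ u ∈ Finset.range (h + 1), if 1 ≤ u then (X : ℕ[X]) ^ u else 0) = A (h + 1) :=
    (A_range (h + 1)).symm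
  have hB : (∑ u ∈ Finset.range h, (X : ℕ[X]) ^ (h + 1 + u)) = X ^ h * A (h + 1) := by
    rw [A_range, Finset.sum_range_succ', if_neg (by omega), add_zero, Finset.mul_sum]
    refine Finset.sum_congr rfl (fun i _ => ?_)
    rw [if_pos (by omega), ← pow_add]
    congr 1
    omega
  rw [card_eq_coeff2, sum_W, hA, hB, coeff_add_pow, coeff_mul_natCast, mul_comm]
  congr 1
  rw [mul_pow, ← pow_mul, coeff_mul]
  rw [Finset.Nat.sum_antidiagonal_eq_sum_range_succ
    (fun i j => ((A (h + 1)) ^ D).coeff i *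
      ((X : ℕ[X]) ^ (h * (n - D)) * A (h + 1) ^ (n - D)).coeff j) s]
  refine Finset.sum_congr rfl (fun j _ => ?_)
  rw [card_eq_coeff, card_eq_coeff, coeff_X_pow_mul']
  congr 1
  by_cases hk : h * (n - D) ≤ s - j
  · rw [if_pos hk, mul_comm h]
  · rw [if_neg hk]
    have h0 : s - j - (n - D) * h = 0 := by
      rw [mul_comm]; omega
    have hd : 0 < n - D := by
      rcases Nat.eq_zero_or_pos (n - D) with h' | h'
      · rw [h'] at hk; simp at hk
      · exact h'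
    rw [h0, A_coeff_zero _ _ hd]

theorem main' (p n s D : ℕ) (hp : Odd p) :
    Fintype.card {e : Fin n → Fin p // (∀ i, 1 ≤ (e i : ℕ)) ∧ ∑ i, (e i : ℕ) = s ∧
        (Finset.univ.filter fun i => 2 * (e i : ℕ) < p).card = D} =
      n.choose D * ∑ j ∈ Finset.range (s + 1),
        Fintype.card {e : Fin D → Fin ((p + 1) / 2) // (∀ i, 1 ≤ (e i : ℕ)) ∧ ∑ i, (e i : ℕ) = j} *
          Fintype.card {e : Fin (n - D) → Fin ((p + 1) / 2) // (∀ i, 1 ≤ (e i : ℕ)) ∧ ∑ i, (e i : ℕ) = (s - j - (n - D) * ((p - 1) / 2))} := by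
  obtain ⟨h, rfl⟩ := hp
  have e1 : (2 * h + 1 + 1) / 2 = h + 1 := by omega
  have e2 : (2 * h + 1 - 1) / 2 = h := by omega
  rw [e1, e2]
  exact main h n s D

end Groth.Agent.H15.CountGF
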