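import Mathlib

namespace Groth.Agent.H15.CubicLines

open MvPolynomial

universe u
variable {k : Type u} [Field k] {n : ℕ}

/-- restriction of `f` to the line `u + t w` as a polynomial in `t` -/
noncomputable def lineP (f : MvPolynomial (Fin n) k) (u w : Fin n → k) : Polynomial k :=
  MvPolynomial.aeval (fun i => Polynomial.C (u i) + Polynomial.C (w i) * Polynomial.X) f

lemma lineP_add (p q : MvPolynomial (Fin n) k) (u w : Fin n → k) :
    lineP (p + q) u w = lineP p u w + lineP q u w := map_add _ _ _

lemma lineP_mul (p q : MvPolynomial (Fin n) k) (u w : Fin n → k) :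
    lineP (p * q) u w = lineP p u w * lineP q u w := map_mul _ _ _

lemma lineP_C (a : k) (u w : Fin n → k) : lineP (C a) u w = Polynomial.C a := by
  simp [lineP]

lemma lineP_X (i : Fin n) (u w : Fin n → k) :
    lineP (X i) u w = Polynomial.C (u i) + Polynomial.C (w i) * Polynomial.X := by
  simp [lineP]

lemma lineP_zero (u w : Fin n → k) : lineP (0 : MvPolynomial (Fin n) k) u w = 0 := map_zero _

lemma lineP_one (u w : Fin n → k) : lineP (1 : MvPolynomial (Fin n) k) u w = 1 := map_one _

lemma lineP_sum {ι : Type*} (s : Finset ι) (g : ι → MvPolynomial (Fin n) k) (u w : Fin n → k) :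
    lineP (∑ i ∈ s, g i) u w = ∑ i ∈ s, lineP (g i) u w := map_sum _ _ _

lemma lineP_smul (a : k) (p : MvPolynomial (Fin n) k) (u w : Fin n → k) :
    lineP (a • p) u w = Polynomial.C a * lineP p u w := by
  rw [MvPolynomial.smul_eq_C_mul, lineP_mul, lineP_C]

lemma lineP_eval (f : MvPolynomial (Fin n) k) (u w : Fin n → k) (t : k) :
    (lineP f u w).eval t = MvPolynomial.eval (u + t • w) f := by
  induction f using MvPolynomial.induction_on with
  | C a => simp [lineP_C]
  | add p q hp hq => rw [lineP_add, Polynomial.eval_add, hp, hq, map_add]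
  | mul_X p i hp =>
    rw [lineP_mul, Polynomial.eval_mul, hp, lineP_X, map_mul, eval_X]
    simp
    left
    ring

lemma lineP_derivative (f : MvPolynomial (Fin n) k) (u w : Fin n → k) :
    Polynomial.derivative (lineP f u w) =
      ∑ i, Polynomial.C (w i) * lineP (pderiv i f) u w := by
  induction f using MvPolynomial.induction_on with
  | C a => simp [lineP_C, lineP_zero]
  | add p q hp hq =>
    rw [lineP_add, Polynomial.derivative_add, hp, hq, ← Finset.sum_add_distrib]
    apply Finset.sum_congr rfl
    intro i _
    rw [map_add, lineP_add]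
    ring
  | mul_X p j hp =>
    rw [lineP_mul, Polynomial.derivative_mul, hp, lineP_X]
    have h1 : Polynomial.derivative (Polynomial.C (u j) + Polynomial.C (w j) * Polynomial.X) =
        Polynomial.C (w j) := by simp
    rw [h1]
    have h2 : ∀ i, Polynomial.C (w i) * lineP (pderiv i (p * X j)) u w =
        Polynomial.C (w i) * lineP (pderiv i p) u w *
          (Polynomial.C (u j) + Polynomial.C (w j) * Polynomial.X) +
        lineP p u w * (Polynomial.C (w i) * Polynomial.C ((Pi.single j 1 : Fin n → k) i)) := by
      intro i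
      rw [pderiv_mul, lineP_add, lineP_mul, lineP_mul, lineP_X, pderiv_X]
      rw [show (Pi.single i 1 : Fin n → MvPolynomial (Fin n) k) j =
        C ((Pi.single j 1 : Fin n → k) i) by
          by_cases hij : i = j
          · subst hij; simp
          · simp [Pi.single_apply, hij, Ne.symm hij]]
      rw [lineP_C]
      ring
    simp only [h2, Finset.sum_add_distrib, ← Finset.sum_mul, ← Finset.mul_sum]
    congr 1
    rw [Finset.sum_eq_single j]
    · simp
    · intro i _ hij
      simp [Pi.single_apply, hij]
    · simp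

lemma lineP_derivative_eval_zero (f : MvPolynomial (Fin n) k) (u w : Fin n → k) :
    (Polynomial.derivative (lineP f u w)).eval 0 = ∑ i, w i * MvPolynomial.eval u (pderiv i f) := by
  rw [lineP_derivative, Polynomial.eval_finsetSum]
  apply Finset.sum_congr rfl
  intro i _
  rw [Polynomial.eval_mul, Polynomial.eval_C, lineP_eval, zero_smul, add_zero]

lemma lineP_natDegree_le (f : MvPolynomial (Fin n) k) {d : ℕ} (hf : f.IsHomogeneous d)
    (u w : Fin n → k) : (lineP f u w).natDegree ≤ d := by
  have := MvPolynomial.aeval_natDegree_le (m := d) (n := 1) f hf.totalDegree_le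
    (fun i => Polynomial.C (u i) + Polynomial.C (w i) * Polynomial.X) (fun i => by
      compute_degree)
  rw [mul_one] at this
  exact this

/-- scaling of homogeneous polynomials -/
lemma eval_smul_of_homogeneous (f : MvPolynomial (Fin n) k) {d : ℕ} (hf : f.IsHomogeneous d)
    (c : k) (x : Fin n → k) : MvPolynomial.eval (c • x) f = c ^ d * MvPolynomial.eval x f := by
  rw [MvPolynomial.eval_eq, MvPolynomial.eval_eq, Finset.mul_sum]
  apply Finset.sum_congr rfl
  intro s hs
  have hd := hf.degree_eq_sum_deg_support hs
  simp only [Pi.smul_apply, smul_eq_mul, mul_pow, Finset.prod_mul_distrib,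
    Finset.prod_pow_eq_pow_sum]
  rw [← hd]
  ring

section lin
variable {V : Type*} [AddCommGroup V] [Module k V]

lemma finrank_span_pair' {a b : V} (h : ∀ s t : k, s • a + t • b = 0 → s = 0 ∧ t = 0) :
    Module.finrank k (Submodule.span k ({a, b} : Set V)) = 2 := by
  have hli : LinearIndependent k ![a, b] := LinearIndependent.pair_iff.mpr h
  have := finrank_span_eq_card hli
  have hr : Set.range ![a, b] = ({a, b} : Set V) := by
    ext x
    simp only [Set.mem_range, Set.mem_insert_iff, Set.mem_singleton_iff]
    constructor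
    · rintro ⟨i, rfl⟩
      fin_cases i <;> simp
    · rintro (rfl | rfl)
      · exact ⟨0, rfl⟩
      · exact ⟨1, rfl⟩
  rw [hr] at this
  simpa using this

end lin

section main
variable [IsAlgClosed k] [CharZero k]

/-- differential of f at w -/
noncomputable def dF (f : MvPolynomial (Fin n) k) (w : Fin n → k) : (Fin n → k) →ₗ[k] k :=
  ∑ i, (MvPolynomial.eval w (pderiv i f)) • (LinearMap.proj i : (Fin n → k) →ₗ[k] k)

omit [IsAlgClosed k] [CharZero k] in
lemma dF_apply (f : MvPolynomial (Fin n) k) (w u : Fin n → k) :
    dF f w u = ∑ i, u i * eval w (pderiv i f) := by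
  simp [dF, LinearMap.sum_apply, mul_comm]

omit [IsAlgClosed k] in
lemma dF_eq_zero_of_line (f : MvPolynomial (Fin n) k) (w u : Fin n → k)
    (h : ∀ t : k, eval (w + t • u) f = 0) : dF f w u = 0 := by
  have hP : lineP f w u = 0 :=
    Polynomial.funext (fun t => by rw [lineP_eval, h, Polynomial.eval_zero])
  have := lineP_derivative_eval_zero f w u
  rw [hP, Polynomial.derivative_zero, Polynomial.eval_zero] at this
  rw [dF_apply]; exact this.symm

lemma exists_zero_quadratic (D : MvPolynomial (Fin n) k) (hD : D.IsHomogeneous 2)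
    (v w : Fin n → k) : ∃ a b : k, (a ≠ 0 ∨ b ≠ 0) ∧ eval (a • v + b • w) D = 0 := by
  by_cases h1 : (lineP D v w).degree ≠ 0
  · obtain ⟨t, ht⟩ := IsAlgClosed.exists_root _ h1
    refine ⟨1, t, Or.inl one_ne_zero, ?_⟩
    rw [Polynomial.IsRoot.def, lineP_eval] at ht
    simpa using ht
  by_cases h2 : (lineP D w v).degree ≠ 0
  · obtain ⟨s, hs⟩ := IsAlgClosed.exists_root _ h2
    refine ⟨s, 1, Or.inr one_ne_zero, ?_⟩
    rw [Polynomial.IsRoot.def, lineP_eval] at hs
    simpa [add_comm] using hs
  push Not at h1 h2
  obtain ⟨c, hc⟩ : ∃ c, lineP D v w = Polynomial.C c := ⟨_, Polynomial.eq_C_of_degree_eq_zero h1⟩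
  obtain ⟨c', hc'⟩ : ∃ c', lineP D w v = Polynomial.C c' :=
    ⟨_, Polynomial.eq_C_of_degree_eq_zero h2⟩
  have e1 : ∀ t, eval (v + t • w) D = c := fun t => by rw [← lineP_eval, hc, Polynomial.eval_C]
  have e2 : ∀ s, eval (w + s • v) D = c' := fun s => by rw [← lineP_eval, hc', Polynomial.eval_C]
  have h3 : c = c' := by
    rw [← e1 1, ← e2 1]
    congr 1
    simp [add_comm]
  have h4 : c = 4 * c' := by
    rw [← e1 2, ← e2 (1/2)]
    have : v + (2:k) • w = (2:k) • (w + (1/2 : k) • v) := by
      rw [smul_add, smul_smul]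
      norm_num
      rw [add_comm]
    rw [this, eval_smul_of_homogeneous D hD]
    norm_num
  have hc0 : c = 0 := by
    rw [← h3] at h4
    have h5 : (3:k) * c = 0 := by linear_combination (-1 : k) * h4
    exact (mul_eq_zero.mp h5).resolve_left (by norm_num)
  exact ⟨1, 1, Or.inl one_ne_zero, by simpa using (e1 1).trans hc0⟩

theorem main (f : MvPolynomial (Fin 4) k) (hf : f.IsHomogeneous 3)
    (hsm : ∀ v : Fin 4 → k, v ≠ 0 → eval v f = 0 → ∃ i : Fin 4, eval v (pderiv i f) ≠ 0)
    (v : Fin 4 → k) (hv : v ≠ 0) (hfv : eval v f = 0) :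
    {U : Submodule k (Fin 4 → k) | v ∈ U ∧
        (Module.finrank k ↥U = 2 ∧ ∀ u ∈ U, eval u f = 0)}.Finite ∧
      {U : Submodule k (Fin 4 → k) | v ∈ U ∧
        (Module.finrank k ↥U = 2 ∧ ∀ u ∈ U, eval u f = 0)}.ncard ≤ 3 ∧
      ∃ H : Submodule k (Fin 4 → k), Module.finrank k ↥H = 3 ∧
        ∀ U : Submodule k (Fin 4 → k), v ∈ U →
          (Module.finrank k ↥U = 2 ∧ ∀ u ∈ U, eval u f = 0) → U ≤ H := by
  classical
  have hgrad : ∀ (w : Fin 4 → k) (i : Fin 4), dF f w (Pi.single i 1) = eval w (pderiv i f) := by
    intro w i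
    rw [dF_apply, Finset.sum_eq_single i]
    · simp
    · intro j _ hji
      simp [Pi.single_apply, hji]
    · simp
  have hdF : dF f v ≠ 0 := by
    obtain ⟨i, hi⟩ := hsm v hv hfv
    intro h0
    apply hi
    rw [← hgrad, h0]
    rfl
  have hHrank : Module.finrank k (LinearMap.ker (dF f v)) = 3 := by
    have := Module.Dual.finrank_ker_add_one_of_ne_zero hdF
    simp at this
    omega
  have hUH : ∀ U : Submodule k (Fin 4 → k), v ∈ U → (∀ u ∈ U, eval u f = 0) →
      U ≤ LinearMap.ker (dF f v) := by
    intro U hvU hU u hu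
    rw [LinearMap.mem_ker]
    exact dF_eq_zero_of_line f v u (fun t => hU _ (U.add_mem hvU (U.smul_mem t hu)))
  have hvH : v ∈ LinearMap.ker (dF f v) := by
    rw [LinearMap.mem_ker]
    apply dF_eq_zero_of_line
    intro t
    have : v + t • v = (1 + t) • v := by rw [add_smul, one_smul]
    rw [this, eval_smul_of_homogeneous f hf, hfv, mul_zero]
  -- existence of z
  have hz : ∃ z ∈ LinearMap.ker (dF f v), eval z f ≠ 0 := by
    by_contra hcon
    push Not at hcon
    have hlt : ¬ (LinearMap.ker (dF f v) ≤ Submodule.span k {v}) := by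
      intro hle
      have := Submodule.finrank_mono hle
      rw [hHrank, finrank_span_singleton hv] at this
      omega
    obtain ⟨w2, hw2H, hw2⟩ := SetLike.not_le_iff_exists.mp hlt
    obtain ⟨e, he⟩ : ∃ e, dF f v e ≠ 0 := by
      by_contra h
      push Not at h
      exact hdF (LinearMap.ext h)
    have hD : (∑ i, e i • pderiv i f : MvPolynomial (Fin 4) k).IsHomogeneous 2 := by
      apply IsHomogeneous.sum
      intro i _
      rw [MvPolynomial.smul_eq_C_mul]
      exact (hf.pderiv).C_mul _
    have hDeval : ∀ w, eval w (∑ i, e i • pderiv i f : MvPolynomial (Fin 4) k) = dF f w e := by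
      intro w
      rw [dF_apply, map_sum]
      apply Finset.sum_congr rfl
      intro i _
      rw [smul_eval]
    obtain ⟨a, b, hab, hDw⟩ := exists_zero_quadratic _ hD v w2
    have hwH : a • v + b • w2 ∈ LinearMap.ker (dF f v) :=
      Submodule.add_mem _ (Submodule.smul_mem _ _ hvH) (Submodule.smul_mem _ _ hw2H)
    have hw0 : a • v + b • w2 ≠ 0 := by
      intro h0
      by_cases hb : b = 0
      · subst hb
        rw [zero_smul, add_zero] at h0
        rcases smul_eq_zero.mp h0 with h | h
        · rcases hab with h' | h'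
          · exact h' h
          · exact h' rfl
        · exact hv h
      · apply hw2
        have h1 : b • w2 = (-a) • v := by
          calc b • w2 = (a • v + b • w2) - a • v := by module
            _ = (-a) • v := by rw [h0]; module
        rw [← Submodule.smul_mem_iff _ hb, h1]
        exact Submodule.smul_mem _ _ (Submodule.mem_span_singleton_self v)
    have hfw : eval (a • v + b • w2) f = 0 := hcon _ hwH
    have hdFw : dF f (a • v + b • w2) = 0 := by
      apply LinearMap.ext
      intro x
      have hx : x - (dF f v x / dF f v e) • e ∈ LinearMap.ker (dF f v) := by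
        rw [LinearMap.mem_ker, map_sub, map_smul, smul_eq_mul, div_mul_cancel₀ _ he, sub_self]
      have h1 : dF f (a • v + b • w2) (x - (dF f v x / dF f v e) • e) = 0 := by
        apply dF_eq_zero_of_line
        intro t
        exact hcon _ (Submodule.add_mem _ hwH (Submodule.smul_mem _ t hx))
      have h2 : dF f (a • v + b • w2) e = 0 := by rw [← hDeval]; exact hDw
      rw [map_sub, map_smul, h2, smul_zero, sub_zero] at h1
      rw [h1]
      rfl
    obtain ⟨i, hi⟩ := hsm _ hw0 hfw
    apply hi
    rw [← hgrad, hdFw]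
    rfl
  obtain ⟨z, hzH, hfz⟩ := hz
  have hz0 : z ≠ 0 := by
    rintro rfl
    apply hfz
    have := eval_smul_of_homogeneous f hf (0 : k) (0 : Fin 4 → k)
    rw [zero_smul] at this
    rw [this]
    simp
  have hlt2 : ¬ (LinearMap.ker (dF f v) ≤ Submodule.span k {v, z}) := by
    intro hle
    have h1 := Submodule.finrank_mono hle
    have h2 : Module.finrank k (Submodule.span k ({v, z} : Set (Fin 4 → k))) ≤ 2 := by
      have := finrank_span_finset_le_card (R := k) ({v, z} : Finset (Fin 4 → k))
      rw [Set.finrank] at this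
      have hc : ((({v, z} : Finset (Fin 4 → k)) : Set (Fin 4 → k))) = ({v, z} : Set (Fin 4 → k)) := by
        ext y; simp
      rw [hc] at this
      exact this.trans Finset.card_le_two
    rw [hHrank] at h1
    omega
  obtain ⟨u1, hu1H, hu1⟩ := SetLike.not_le_iff_exists.mp hlt2
  have hvmem : v ∈ Submodule.span k ({v, z} : Set (Fin 4 → k)) :=
    Submodule.subset_span (by simp)
  have hzmem : z ∈ Submodule.span k ({v, z} : Set (Fin 4 → k)) :=
    Submodule.subset_span (by simp)
  have hp0 : lineP f u1 z ≠ 0 := by
    intro hp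
    have hall : ∀ t, eval (u1 + t • z) f = 0 := fun t => by
      rw [← lineP_eval, hp, Polynomial.eval_zero]
    have hr : lineP f z u1 = 0 := by
      apply Polynomial.eq_zero_of_infinite_isRoot
      apply Set.Infinite.mono (s := {s : k | s ≠ 0})
      · intro s hs
        show Polynomial.IsRoot _ s
        rw [Polynomial.IsRoot.def, lineP_eval]
        have : z + s • u1 = s • (u1 + s⁻¹ • z) := by
          rw [smul_add, smul_smul, mul_inv_cancel₀ hs, one_smul, add_comm]
        rw [this, eval_smul_of_homogeneous f hf, hall, mul_zero]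
      · have : {s : k | s ≠ 0} = ({0} : Set k)ᶜ := by ext; simp
        rw [this]
        exact (Set.finite_singleton 0).infinite_compl
    have := lineP_eval f z u1 0
    rw [hr, Polynomial.eval_zero, zero_smul, add_zero] at this
    exact hfz this.symm
  have hpdeg : (lineP f u1 z).natDegree ≤ 3 := lineP_natDegree_le f hf u1 z
  have hsub : {U : Submodule k (Fin 4 → k) | v ∈ U ∧
        (Module.finrank k ↥U = 2 ∧ ∀ u ∈ U, eval u f = 0)} ⊆
      (fun t : k => Submodule.span k ({v, u1 + t • z} : Set (Fin 4 → k))) ''
        ((lineP f u1 z).roots.toFinset : Set k) := by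
    rintro U ⟨hvU, hU2, hUf⟩
    have hUH' := hUH U hvU hUf
    have hzU : z ∉ U := fun h => hfz (hUf z h)
    have hW2 : Module.finrank k (Submodule.span k ({z, u1} : Set (Fin 4 → k))) = 2 := by
      apply finrank_span_pair'
      intro s t hst
      by_cases ht : t = 0
      · subst ht
        rw [zero_smul, add_zero] at hst
        exact ⟨(smul_eq_zero.mp hst).resolve_right hz0, rfl⟩
      · exfalso
        apply hu1
        have h1 : t • u1 = (-s) • z := by
          calc t • u1 = (s • z + t • u1) - s • z := by module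
            _ = (-s) • z := by rw [hst]; module
        rw [← Submodule.smul_mem_iff _ ht, h1]
        exact Submodule.smul_mem _ _ hzmem
    have hinf : U ⊓ Submodule.span k ({z, u1} : Set (Fin 4 → k)) ≠ ⊥ := by
      intro hbot
      have h1 := Submodule.finrank_sup_add_finrank_inf_eq U
        (Submodule.span k ({z, u1} : Set (Fin 4 → k)))
      rw [hbot, finrank_bot, hU2, hW2] at h1
      have h2 : U ⊔ Submodule.span k ({z, u1} : Set (Fin 4 → k)) ≤ LinearMap.ker (dF f v) :=
        sup_le hUH' (Submodule.span_le.mpr (by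
          rintro x (rfl | rfl)
          · exact hzH
          · exact hu1H))
      have h3 := Submodule.finrank_mono h2
      rw [hHrank] at h3
      omega
    obtain ⟨x, hx, hx0⟩ := (Submodule.ne_bot_iff _).mp hinf
    obtain ⟨hxU, hxW⟩ := hx
    obtain ⟨b, a, rfl⟩ := Submodule.mem_span_pair.mp hxW
    have ha : a ≠ 0 := by
      rintro rfl
      rw [zero_smul, add_zero] at hx0 hxU
      have hb : b ≠ 0 := by
        rintro rfl
        exact hx0 (zero_smul _ _)
      exact hzU ((Submodule.smul_mem_iff _ hb).mp hxU)
    have hxt : u1 + (b / a) • z ∈ U := by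
      have h1 := U.smul_mem a⁻¹ hxU
      have h2 : a⁻¹ • (b • z + a • u1) = u1 + (b / a) • z := by
        rw [smul_add, smul_smul, smul_smul, inv_mul_cancel₀ ha, one_smul, add_comm,
          div_eq_inv_mul]
      rwa [h2] at h1
    refine ⟨b / a, ?_, ?_⟩
    · simp only [Finset.mem_coe, Multiset.mem_toFinset, Polynomial.mem_roots hp0,
        Polynomial.IsRoot.def]
      rw [lineP_eval]
      exact hUf _ hxt
    · apply Submodule.eq_of_le_of_finrank_eq
      · exact Submodule.span_le.mpr (by
          rintro y (rfl | rfl)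
          · exact hvU
          · exact hxt)
      · rw [hU2]
        apply finrank_span_pair'
        intro s r hsr
        by_cases hr : r = 0
        · subst hr
          rw [zero_smul, add_zero] at hsr
          exact ⟨(smul_eq_zero.mp hsr).resolve_right hv, rfl⟩
        · exfalso
          apply hu1
          have h1 : r • u1 = (-s) • v + (-(r * (b / a))) • z := by
            calc r • u1 = (s • v + r • (u1 + (b / a) • z)) - s • v - (r * (b / a)) • z := by
                  module
              _ = (-s) • v + (-(r * (b / a))) • z := by rw [hsr]; module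
          rw [← Submodule.smul_mem_iff _ hr, h1]
          exact Submodule.add_mem _ (Submodule.smul_mem _ _ hvmem) (Submodule.smul_mem _ _ hzmem)
  refine ⟨((Finset.finite_toSet _).image _).subset hsub, ?_,
    ⟨LinearMap.ker (dF f v), hHrank, fun U hvU hU => hUH U hvU hU.2⟩⟩
  calc _ ≤ ((fun t : k => Submodule.span k ({v, u1 + t • z} : Set (Fin 4 → k))) ''
        ((lineP f u1 z).roots.toFinset : Set k)).ncard :=
        Set.ncard_le_ncard hsub ((Finset.finite_toSet _).image _)
    _ ≤ ((lineP f u1 z).roots.toFinset : Set k).ncard :=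
        Set.ncard_image_le (Finset.finite_toSet _)
    _ = (lineP f u1 z).roots.toFinset.card := Set.ncard_coe_finset _
    _ ≤ Multiset.card (lineP f u1 z).roots := Multiset.toFinset_card_le _
    _ ≤ (lineP f u1 z).natDegree := Polynomial.card_roots' _
    _ ≤ 3 := hpdeg

end main

end Groth.Agent.H15.CubicLines
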