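import Mathlib
import Groth.Prelude.Def_Exal

universe u

open IsLocalRing

namespace Groth.Agent.H15.ExalSmall

section Basic

variable {Λ : Type u} {R : Type u} [CommRing Λ] [CommRing R] [Algebra Λ R]
  {L : Type u} [AddCommGroup L] [Module R L] (X : Exal.Ext Λ R L)

lemma proj_incl (z : L) : X.proj (X.incl z) = 0 :=
  (X.isExtension.exact _).2 ⟨z, rfl⟩

lemma ker_mul {x y : X.E} (hx : X.proj x = 0) (hy : X.proj y = 0) : x * y = 0 := by
  obtain ⟨z, rfl⟩ := (X.isExtension.exact y).1 hy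
  rw [X.isExtension.mul_incl, hx, zero_smul, map_zero]

lemma isUnit_of_proj {a : X.E} (ha : IsUnit (X.proj a)) : IsUnit a := by
  obtain ⟨b', hb'⟩ := ha.exists_right_inv
  obtain ⟨b, rfl⟩ := X.isExtension.proj_surjective b'
  have hn : X.proj (a * b - 1) = 0 := by rw [map_sub, map_mul, hb', map_one, sub_self]
  have h2 := ker_mul X hn hn
  refine IsUnit.of_mul_eq_one (b * (1 - (a * b - 1))) ?_
  have h3 : a * (b * (1 - (a * b - 1))) = 1 - (a * b - 1) * (a * b - 1) := by ring
  rw [h3, h2, sub_zero]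

lemma isLocalHom_proj : IsLocalHom (X.proj : X.E →+* R) :=
  ⟨fun _ ha => isUnit_of_proj X ha⟩

lemma isLocalRing_E [IsLocalRing R] : IsLocalRing X.E := by
  have := isLocalHom_proj X
  exact RingHom.domain_isLocalRing (X.proj : X.E →+* R)

lemma mem_max_iff [IsLocalRing R] [IsLocalRing X.E] (e : X.E) :
    e ∈ maximalIdeal X.E ↔ X.proj e ∈ maximalIdeal R := by
  rw [mem_maximalIdeal, mem_maximalIdeal, mem_nonunits_iff, mem_nonunits_iff, not_iff_not]
  exact ⟨fun h => h.map X.proj, fun h => isUnit_of_proj X h⟩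

end Basic

section Residue

variable {k : Type u} [Field k] {Λ : Type u} [CommRing Λ] [Algebra k Λ]
  {R : Type u} [CommRing R] [Algebra Λ R] [IsLocalRing R]

/-- The structure map `k → B` through `Λ`. -/
def cst (k : Type u) [Field k] (Λ : Type u) [CommRing Λ] [Algebra k Λ]
    (B : Type u) [CommRing B] [Algebra Λ B] : k →+* B :=
  (algebraMap Λ B).comp (algebraMap k Λ)

lemma cst_apply {B : Type u} [CommRing B] [Algebra Λ B] (c : k) :
    cst k Λ B c = algebraMap Λ B (algebraMap k Λ c) := rfl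

lemma isUnit_cst {B : Type u} [CommRing B] [Algebra Λ B] {c : k} (hc : c ≠ 0) :
    IsUnit (cst k Λ B c) := (IsUnit.mk0 c hc).map (cst k Λ B)

/-- `k → κ(R)`. -/
noncomputable def rho₀ (k : Type u) [Field k] (Λ : Type u) [CommRing Λ] [Algebra k Λ]
    (R : Type u) [CommRing R] [Algebra Λ R] [IsLocalRing R] : k →+* ResidueField R :=
  (residue R).comp (cst k Λ R)

lemma rho₀_bijective
    (hR : ∀ r : R, ∃ c : k, r - algebraMap Λ R (algebraMap k Λ c) ∈ maximalIdeal R) :
    Function.Bijective (rho₀ k Λ R) := by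
  refine ⟨(rho₀ k Λ R).injective, fun z => ?_⟩
  obtain ⟨r, rfl⟩ := residue_surjective z
  obtain ⟨c, hc⟩ := hR r
  refine ⟨c, ?_⟩
  change residue R (cst k Λ R c) = residue R r
  symm
  rw [← sub_eq_zero, ← map_sub, residue_eq_zero_iff]
  exact hc

/-- The identification of `k` with the residue field. -/
noncomputable def rho
    (hR : ∀ r : R, ∃ c : k, r - algebraMap Λ R (algebraMap k Λ c) ∈ maximalIdeal R) :
    k ≃+* ResidueField R :=
  RingEquiv.ofBijective (rho₀ k Λ R) (rho₀_bijective hR)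

lemma rho_apply
    (hR : ∀ r : R, ∃ c : k, r - algebraMap Λ R (algebraMap k Λ c) ∈ maximalIdeal R) (c : k) :
    rho hR c = residue R (cst k Λ R c) := rfl

lemma sub_cst_mem
    (hR : ∀ r : R, ∃ c : k, r - algebraMap Λ R (algebraMap k Λ c) ∈ maximalIdeal R) (r : R) :
    r - cst k Λ R ((rho hR).symm (residue R r)) ∈ maximalIdeal R := by
  rw [← residue_eq_zero_iff, map_sub, sub_eq_zero, ← rho_apply hR, RingEquiv.apply_symm_apply]

end Residue

section Forward

variable {k : Type u} [Field k] {Λ : Type u} [CommRing Λ] [Algebra k Λ]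
  {R : Type u} [CommRing R] [Algebra Λ R] [IsLocalRing R]
  (hR : ∀ r : R, ∃ c : k, r - algebraMap Λ R (algebraMap k Λ c) ∈ maximalIdeal R)
  {B : Type u} [CommRing B] [Algebra Λ B] [IsLocalRing B]
  (hB : ∀ b : B, ∃ c : k, b - algebraMap Λ B (algebraMap k Λ c) ∈ maximalIdeal B)
  (t : B) (ht : t ∈ maximalIdeal B) (htm : ∀ b ∈ maximalIdeal B, b * t = 0)
  (φ : R →ₐ[Λ] B ⧸ Ideal.span {t})

include ht in
lemma not_isUnit_mk {b : B} (hb : b ∈ maximalIdeal B) :
    ¬ IsUnit (Ideal.Quotient.mk (Ideal.span {t}) b) := by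
  intro h3
  obtain ⟨y, hy⟩ := h3.exists_right_inv
  obtain ⟨y', rfl⟩ := Ideal.Quotient.mk_surjective y
  rw [← map_mul, ← map_one (Ideal.Quotient.mk (Ideal.span {t})), Ideal.Quotient.eq] at hy
  have hle : Ideal.span {t} ≤ maximalIdeal B := by
    rw [Ideal.span_le]
    intro x hx
    rw [Set.mem_singleton_iff] at hx
    rw [hx]
    exact ht
  have h5 : b * y' - 1 ∈ maximalIdeal B := hle hy
  have h6 : b * y' ∈ maximalIdeal B := Ideal.mul_mem_right _ _ hb
  have h7 : (1 : B) ∈ maximalIdeal B := by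
    have := Ideal.sub_mem _ h6 h5
    rwa [sub_sub_cancel] at this
  exact (maximalIdeal.isMaximal B).ne_top ((Ideal.eq_top_iff_one _).2 h7)

include hB ht in
lemma phi_local {r : R} (hr : r ∈ maximalIdeal R) {b : B}
    (hb : φ r = Ideal.Quotient.mk _ b) : b ∈ maximalIdeal B := by
  obtain ⟨c, hc⟩ := hB b
  by_cases hc0 : c = 0
  · subst hc0
    simpa using hc
  · exfalso
    have hcu : IsUnit (cst k Λ R c) := isUnit_cst hc0
    have hu : IsUnit (r - cst k Λ R c) := by
      by_contra hnu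
      have h1 : r - cst k Λ R c ∈ maximalIdeal R := hnu
      have h2 : cst k Λ R c ∈ maximalIdeal R := by
        have := Ideal.sub_mem _ hr h1
        rwa [sub_sub_cancel] at this
      exact h2 hcu
    have h3 : IsUnit (φ (r - cst k Λ R c)) := hu.map φ
    have h4 : φ (r - cst k Λ R c) =
        Ideal.Quotient.mk (Ideal.span {t}) (b - algebraMap Λ B (algebraMap k Λ c)) := by
      rw [map_sub, cst_apply, AlgHom.commutes, hb, map_sub]
      rfl
    rw [h4] at h3
    exact not_isUnit_mk t ht hc h3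

/-- The fibre product `R ×_{B/t} B`. -/
noncomputable def fib : Subalgebra Λ (R × B) :=
  AlgHom.equalizer (φ.comp (AlgHom.fst Λ R B))
    ((Ideal.Quotient.mkₐ Λ (Ideal.span {t})).comp (AlgHom.snd Λ R B))

omit [IsLocalRing R] [IsLocalRing B] in
lemma mem_fib (x : R × B) : x ∈ fib t φ ↔ φ x.1 = Ideal.Quotient.mk _ x.2 := Iff.rfl

omit [IsLocalRing R] [IsLocalRing B] in
lemma zero_mul_t_mem (c : B) : ((0 : R), c * t) ∈ fib t φ := by
  rw [mem_fib, map_zero]
  symm
  rw [Ideal.Quotient.eq_zero_iff_mem]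
  exact Ideal.mul_mem_left _ _ (Ideal.subset_span rfl)

include hB htm in
lemma mul_t_eq (b : B) : ∃ c : k, b * t = cst k Λ B c * t := by
  obtain ⟨c, hc⟩ := hB b
  refine ⟨c, ?_⟩
  have := htm _ hc
  rw [sub_mul, sub_eq_zero] at this
  exact this

/-- The inclusion of the kernel. -/
noncomputable def pullIncl : ResidueField R →+ fib t φ :=
  AddMonoidHom.mk' (fun z => ⟨(0, cst k Λ B ((rho hR).symm z) * t), zero_mul_t_mem t φ _⟩)
    (fun a b => by
      apply Subtype.ext
      change ((0 : R), cst k Λ B ((rho hR).symm (a + b)) * t) =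
        ((0 : R), cst k Λ B ((rho hR).symm a) * t) + ((0 : R), cst k Λ B ((rho hR).symm b) * t)
      rw [map_add, map_add, add_mul, Prod.mk_add_mk, add_zero])

omit [IsLocalRing B] in
lemma pullIncl_coe (z : ResidueField R) :
    ((pullIncl hR t φ z : fib t φ) : R × B) = (0, cst k Λ B ((rho hR).symm z) * t) := rfl

/-- The pulled back extension. -/
noncomputable def pullExt (ht0 : t ≠ 0) : Exal.Ext Λ R (ResidueField R) where
  E := fib t φ
  proj := (AlgHom.fst Λ R B).comp (fib t φ).val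
  incl := pullIncl hR t φ
  isExtension :=
    { proj_surjective := fun r => by
        obtain ⟨b, hb⟩ := Ideal.Quotient.mk_surjective (φ r)
        exact ⟨⟨(r, b), hb.symm⟩, rfl⟩
      incl_injective := by
        rw [injective_iff_map_eq_zero]
        intro z hz
        have h1 : cst k Λ B ((rho hR).symm z) * t = 0 := by
          have h0 := congrArg (fun x : fib t φ => (x : R × B).2) hz
          exact h0
        by_contra hz0
        have h2 : (rho hR).symm z ≠ 0 := fun h => hz0 (by simpa using h)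
        exact ht0 ((isUnit_cst (Λ := Λ) (B := B) h2).mul_right_eq_zero.1 h1)
      exact := fun x => by
        constructor
        · intro hx
          obtain ⟨⟨r, b⟩, hmem⟩ := x
          have hr : r = 0 := hx
          subst hr
          rw [mem_fib, map_zero] at hmem
          have h1 : b ∈ Ideal.span {t} := Ideal.Quotient.eq_zero_iff_mem.1 hmem.symm
          obtain ⟨a, rfl⟩ := Ideal.mem_span_singleton'.1 h1
          obtain ⟨c, hc⟩ := mul_t_eq hB t htm a
          refine ⟨rho hR c, ?_⟩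
          apply Subtype.ext
          rw [pullIncl_coe, RingEquiv.symm_apply_apply]
          exact Prod.ext rfl hc.symm
        · rintro ⟨z, rfl⟩
          rfl
      mul_incl := fun x z => by
        obtain ⟨⟨r, b⟩, hmem⟩ := x
        apply Subtype.ext
        change (r, b) * ((0 : R), cst k Λ B ((rho hR).symm z) * t) =
          ((0 : R), cst k Λ B ((rho hR).symm (r • z)) * t)
        have h1 : r • z = residue R r * z := Algebra.smul_def r z
        have h2 : b - cst k Λ B ((rho hR).symm (residue R r)) ∈ maximalIdeal B := by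
          apply phi_local hB t ht φ (sub_cst_mem hR r)
          rw [map_sub, cst_apply, AlgHom.commutes, map_sub]
          rw [mem_fib] at hmem
          rw [hmem]
          rfl
        have h3 := htm _ h2
        rw [sub_mul, sub_eq_zero] at h3
        rw [h1, map_mul, map_mul, Prod.mk_mul_mk, mul_zero]
        congr 1
        calc b * (cst k Λ B ((rho hR).symm z) * t)
            = cst k Λ B ((rho hR).symm z) * (b * t) := by ring
          _ = cst k Λ B ((rho hR).symm z) *
                (cst k Λ B ((rho hR).symm (residue R r)) * t) := by rw [h3]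
          _ = _ := by ring }

theorem lift_of_isTrivial (ht0 : t ≠ 0) (h : (pullExt hR hB t ht htm φ ht0).IsTrivial) :
    ∃ φ' : R →ₐ[Λ] B, (Ideal.Quotient.mkₐ Λ (Ideal.span {t})).comp φ' = φ := by
  obtain ⟨s, hs⟩ := h
  refine ⟨(AlgHom.snd Λ R B).comp ((fib t φ).val.comp s), ?_⟩
  ext r
  let y : fib t φ := s r
  have h1 : φ (y : R × B).1 = Ideal.Quotient.mk _ (y : R × B).2 := y.2
  have h2 : (y : R × B).1 = r := hs r
  rw [h2] at h1
  exact h1.symm

include hR hB ht htm in
theorem forward (H : ∀ X : Exal.Ext Λ R (ResidueField R), X.IsTrivial) :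
    ∃ φ' : R →ₐ[Λ] B, (Ideal.Quotient.mkₐ Λ (Ideal.span {t})).comp φ' = φ := by
  by_cases ht0 : t = 0
  · have hinj : Function.Injective (Ideal.Quotient.mkₐ Λ (Ideal.span {t})) := by
      rw [injective_iff_map_eq_zero]
      intro b hb
      rw [Ideal.Quotient.mkₐ_eq_mk, Ideal.Quotient.eq_zero_iff_mem, ht0,
        Ideal.span_singleton_eq_bot.2 rfl, Ideal.mem_bot] at hb
      exact hb
    let e := AlgEquiv.ofBijective (Ideal.Quotient.mkₐ Λ (Ideal.span {t}))
      ⟨hinj, Ideal.Quotient.mkₐ_surjective _ _⟩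
    refine ⟨(e.symm : _ →ₐ[Λ] B).comp φ, ?_⟩
    ext r
    exact e.apply_symm_apply (φ r)
  · exact lift_of_isTrivial hR hB t ht htm φ ht0 (H _)

end Forward

section Backward

variable {k : Type u} [Field k] {Λ : Type u} [CommRing Λ] [Algebra k Λ]
  {R : Type u} [CommRing R] [Algebra Λ R] [IsLocalRing R]
  (X : Exal.Ext Λ R (ResidueField R))

/-- The generator of the kernel. -/
noncomputable def eps : X.E := X.incl 1

lemma proj_eps : X.proj (eps X) = 0 := proj_incl X 1

lemma mul_eps (e : X.E) : e * eps X = X.incl (residue R (X.proj e)) := by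
  unfold eps
  rw [X.isExtension.mul_incl, Algebra.smul_def, mul_one]
  rfl

lemma incl_eq_mul (z : ResidueField R) : ∃ e : X.E, X.incl z = e * eps X := by
  obtain ⟨r, rfl⟩ := residue_surjective z
  obtain ⟨e, rfl⟩ := X.isExtension.proj_surjective r
  exact ⟨e, (mul_eps X e).symm⟩

lemma eps_ne_zero : eps X ≠ 0 := by
  intro h
  have h1 : X.incl 1 = X.incl 0 := by
    rw [map_zero]
    exact h
  exact one_ne_zero (X.isExtension.incl_injective h1)

lemma ker_eq_span : RingHom.ker (X.proj : X.E →+* R) = Ideal.span {eps X} := by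
  apply le_antisymm
  · intro x hx
    obtain ⟨z, rfl⟩ := (X.isExtension.exact x).1 hx
    obtain ⟨e, he⟩ := incl_eq_mul X z
    rw [he]
    exact Ideal.mul_mem_left _ _ (Ideal.subset_span rfl)
  · rw [Ideal.span_le]
    intro x hx
    rw [Set.mem_singleton_iff] at hx
    rw [hx]
    exact proj_eps X

/-- An ideal containing a nonzero element of the kernel contains the generator. -/
lemma eps_mem_of_ne_zero (I : Ideal X.E) {x : X.E} (hx : x ∈ I) (hk : X.proj x = 0)
    (h0 : x ≠ 0) : eps X ∈ I := by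
  obtain ⟨z, rfl⟩ := (X.isExtension.exact x).1 hk
  have hz : z ≠ 0 := by
    rintro rfl
    exact h0 (map_zero _)
  obtain ⟨r, hr⟩ := residue_surjective z⁻¹
  obtain ⟨e, rfl⟩ := X.isExtension.proj_surjective r
  have h1 : e * X.incl z = eps X := by
    rw [X.isExtension.mul_incl, Algebra.smul_def]
    change X.incl (residue R (X.proj e) * z) = _
    rw [hr, inv_mul_cancel₀ hz]
    rfl
  rw [← h1]
  exact Ideal.mul_mem_left _ _ hx

theorem isNoetherianRing_E [IsNoetherianRing R] : IsNoetherianRing X.E := by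
  rw [isNoetherianRing_iff_ideal_fg]
  intro I
  refine Ideal.fg_of_fg_map_of_fg_inf_ker_of_surjective (f := (X.proj : X.E →+* R))
    (IsNoetherian.noetherian _) ?_ X.isExtension.proj_surjective
  by_cases h : eps X ∈ I
  · have h1 : I ⊓ RingHom.ker (X.proj : X.E →+* R) = Ideal.span {eps X} := by
      rw [ker_eq_span, inf_eq_right, Ideal.span_le]
      intro x hx
      rw [Set.mem_singleton_iff] at hx
      rw [hx]
      exact h
    rw [h1]
    exact ⟨{eps X}, by simp⟩
  · have h1 : I ⊓ RingHom.ker (X.proj : X.E →+* R) = ⊥ := by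
      rw [eq_bot_iff]
      rintro x ⟨hxI, hxk⟩
      by_contra hx0
      exact h (eps_mem_of_ne_zero X I hxI hxk hx0)
    rw [h1]
    exact Submodule.fg_bot

lemma exists_eps_not_mem [IsLocalRing X.E] [IsNoetherianRing X.E] :
    ∃ n : ℕ, eps X ∉ maximalIdeal X.E ^ n := by
  by_contra h
  simp only [not_exists, not_not] at h
  have h1 : eps X ∈ ⨅ i, maximalIdeal X.E ^ i := by
    rw [Submodule.mem_iInf]
    exact h
  rw [Ideal.iInf_pow_eq_bot_of_isLocalRing _ (maximalIdeal.isMaximal _).ne_top] at h1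
  exact eps_ne_zero X h1

theorem backward [IsNoetherianRing R]
    (hR : ∀ r : R, ∃ c : k, r - algebraMap Λ R (algebraMap k Λ c) ∈ maximalIdeal R)
    (H : ∀ (B : Type u) [CommRing B] [Algebra Λ B] [IsLocalRing B] [IsArtinianRing B],
      (∀ b : B, ∃ c : k, b - algebraMap Λ B (algebraMap k Λ c) ∈ maximalIdeal B) →
      ∀ t : B, t ∈ maximalIdeal B → (∀ b ∈ maximalIdeal B, b * t = 0) →
      ∀ φ : R →ₐ[Λ] B ⧸ Ideal.span {t},
        ∃ φ' : R →ₐ[Λ] B, (Ideal.Quotient.mkₐ Λ (Ideal.span {t})).comp φ' = φ) :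
    X.IsTrivial := by
  have hloc : IsLocalRing X.E := isLocalRing_E X
  have hnoeth : IsNoetherianRing X.E := isNoetherianRing_E X
  obtain ⟨n, hn⟩ := exists_eps_not_mem X
  set 𝔞 : Ideal X.E := maximalIdeal X.E ^ n with h𝔞
  have h𝔞top : 𝔞 ≠ ⊤ := fun h => hn (h ▸ Submodule.mem_top)
  have hnt : Nontrivial (X.E ⧸ 𝔞) := Ideal.Quotient.nontrivial_iff.2 h𝔞top
  have hlocB : IsLocalRing (X.E ⧸ 𝔞) :=
    IsLocalRing.of_surjective' (Ideal.Quotient.mk 𝔞) Ideal.Quotient.mk_surjective
  have hartB : IsArtinianRing (X.E ⧸ 𝔞) := by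
    rw [isArtinianRing_iff_isNilpotent_maximalIdeal]
    refine ⟨n, ?_⟩
    rw [← map_maximalIdeal_of_surjective (Ideal.Quotient.mk 𝔞) Ideal.Quotient.mk_surjective,
      ← Ideal.map_pow, Ideal.map_quotient_self]
    rfl
  have hmem_max : ∀ e : X.E,
      Ideal.Quotient.mk 𝔞 e ∈ maximalIdeal (X.E ⧸ 𝔞) ↔ e ∈ maximalIdeal X.E := by
    intro e
    have := IsLocalHom.of_surjective (Ideal.Quotient.mk 𝔞) Ideal.Quotient.mk_surjective
    rw [← maximalIdeal_comap (Ideal.Quotient.mk 𝔞)]
    rfl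
  have hB : ∀ b : X.E ⧸ 𝔞, ∃ c : k,
      b - algebraMap Λ (X.E ⧸ 𝔞) (algebraMap k Λ c) ∈ maximalIdeal (X.E ⧸ 𝔞) := by
    intro b
    obtain ⟨e, rfl⟩ := Ideal.Quotient.mk_surjective b
    obtain ⟨c, hc⟩ := hR (X.proj e)
    refine ⟨c, ?_⟩
    have h1 : Ideal.Quotient.mk 𝔞 e - algebraMap Λ (X.E ⧸ 𝔞) (algebraMap k Λ c) =
        Ideal.Quotient.mk 𝔞 (e - algebraMap Λ X.E (algebraMap k Λ c)) := by
      rw [map_sub]
      rfl
    rw [h1, hmem_max, mem_max_iff X, map_sub, AlgHom.commutes]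
    exact hc
  have ht : Ideal.Quotient.mk 𝔞 (eps X) ∈ maximalIdeal (X.E ⧸ 𝔞) := by
    rw [hmem_max, mem_max_iff X, proj_eps]
    exact zero_mem _
  have htm : ∀ b ∈ maximalIdeal (X.E ⧸ 𝔞), b * Ideal.Quotient.mk 𝔞 (eps X) = 0 := by
    intro b hb
    obtain ⟨e, rfl⟩ := Ideal.Quotient.mk_surjective b
    rw [hmem_max, mem_max_iff X] at hb
    rw [← map_mul, mul_eps, (residue_eq_zero_iff _).2 hb, map_zero, map_zero]
  let g : X.E →ₐ[Λ] (X.E ⧸ 𝔞) ⧸ Ideal.span {Ideal.Quotient.mk 𝔞 (eps X)} :=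
    (Ideal.Quotient.mkₐ Λ (Ideal.span {Ideal.Quotient.mk 𝔞 (eps X)})).comp
      (Ideal.Quotient.mkₐ Λ 𝔞)
  have hg : RingHom.ker X.proj.toRingHom ≤ RingHom.ker g.toRingHom := by
    intro x hx
    have hx' : x ∈ RingHom.ker (X.proj : X.E →+* R) := hx
    rw [ker_eq_span, Ideal.mem_span_singleton'] at hx'
    obtain ⟨a, rfl⟩ := hx'
    rw [RingHom.mem_ker]
    change Ideal.Quotient.mk (Ideal.span {Ideal.Quotient.mk 𝔞 (eps X)})
      (Ideal.Quotient.mk 𝔞 (a * eps X)) = 0
    rw [Ideal.Quotient.eq_zero_iff_mem, map_mul]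
    exact Ideal.mul_mem_left _ _ (Ideal.subset_span rfl)
  let φ : R →ₐ[Λ] (X.E ⧸ 𝔞) ⧸ Ideal.span {Ideal.Quotient.mk 𝔞 (eps X)} :=
    AlgHom.liftOfSurjective X.proj X.isExtension.proj_surjective g hg
  have hφ : ∀ e, φ (X.proj e) = g e := fun e => AlgHom.liftOfSurjective_apply _ _ _ _ e
  obtain ⟨φ', hφ'⟩ := H (X.E ⧸ 𝔞) hB _ ht htm φ
  let S : Subalgebra Λ X.E := AlgHom.equalizer (Ideal.Quotient.mkₐ Λ 𝔞) (φ'.comp X.proj)
  have hS : ∀ e, e ∈ S ↔ Ideal.Quotient.mk 𝔞 e = φ' (X.proj e) := fun e => Iff.rfl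
  let p : S →ₐ[Λ] R := X.proj.comp S.val
  have hinj : Function.Injective p := by
    rw [injective_iff_map_eq_zero]
    intro x hx
    have hx1 : X.proj (x : X.E) = 0 := hx
    have hx2 : Ideal.Quotient.mk 𝔞 (x : X.E) = 0 := by
      rw [(hS _).1 x.2, hx1, map_zero]
    rw [Ideal.Quotient.eq_zero_iff_mem] at hx2
    by_contra hne
    have h3 : (x : X.E) ≠ 0 := fun h => hne (Subtype.ext h)
    exact hn (eps_mem_of_ne_zero X 𝔞 hx2 hx1 h3)
  have hsurj : Function.Surjective p := by
    intro r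
    obtain ⟨e₀, rfl⟩ := X.isExtension.proj_surjective r
    have h1 : Ideal.Quotient.mk (Ideal.span {Ideal.Quotient.mk 𝔞 (eps X)})
        (Ideal.Quotient.mk 𝔞 e₀ - φ' (X.proj e₀)) = 0 := by
      rw [map_sub, sub_eq_zero]
      have h2 := DFunLike.congr_fun hφ' (X.proj e₀)
      rw [hφ] at h2
      exact h2.symm
    rw [Ideal.Quotient.eq_zero_iff_mem, Ideal.mem_span_singleton'] at h1
    obtain ⟨a, ha⟩ := h1
    obtain ⟨a', rfl⟩ := Ideal.Quotient.mk_surjective a
    have hp : X.proj (e₀ - a' * eps X) = X.proj e₀ := by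
      rw [map_sub, map_mul, proj_eps, mul_zero, sub_zero]
    refine ⟨⟨e₀ - a' * eps X, ?_⟩, hp⟩
    rw [hS, hp, map_sub, map_mul, ha]
    ring
  let e := AlgEquiv.ofBijective p ⟨hinj, hsurj⟩
  refine ⟨S.val.comp (e.symm : R →ₐ[Λ] S), fun r => ?_⟩
  change p (e.symm r) = r
  exact e.apply_symm_apply r

end Backward

end Groth.Agent.H15.ExalSmall
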