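import Mathlib
import Groth.Prelude.Def_ArtFun3
import Groth.Agent.H15.PSArt

universe u v

open CategoryTheory
open scoped TensorProduct

namespace Groth.Agent.H15.ObsPS

open ArtFun ArtFun.Art IsLocalRing MvPowerSeries Groth.Agent.H15.PSEval Groth.Agent.H15.PSArt

variable {k : Type u} [Field k] {d : ℕ}

section Basic

lemma mem_max_iff (f : MvPowerSeries (Fin d) k) :
    f ∈ maximalIdeal (MvPowerSeries (Fin d) k) ↔ constantCoeff f = 0 := by
  rw [IsLocalRing.mem_maximalIdeal, mem_nonunits_iff, MvPowerSeries.isUnit_iff_constantCoeff,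
    isUnit_iff_ne_zero, not_not]

/-- The augmentation of the power series ring over a field. -/
noncomputable abbrev resS (k : Type u) [Field k] (d : ℕ) : MvPowerSeries (Fin d) k →ₐ[k] k :=
  resT k (AlgHom.id k k) d

lemma resS_apply (f : MvPowerSeries (Fin d) k) : resS k d f = constantCoeff f := rfl

/-- Every `k`-algebra map from the power series ring to `k` is the augmentation. -/
theorem algHom_eq_resS (g : MvPowerSeries (Fin d) k →ₐ[k] k) : g = resS k d := by
  have hX : ∀ i, g (X i) = 0 := by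
    intro i
    by_contra hne
    have h1 : g (X i - C (g (X i))) = 0 := by
      rw [map_sub, c_eq_algebraMap, g.commutes]
      exact sub_self _
    have h2 : IsUnit (X i - C (g (X i)) : MvPowerSeries (Fin d) k) := by
      rw [MvPowerSeries.isUnit_iff_constantCoeff, map_sub, constantCoeff_X, constantCoeff_C,
        zero_sub, isUnit_iff_ne_zero]
      exact neg_ne_zero.2 hne
    have h3 := h2.map g
    rw [h1] at h3
    exact not_isUnit_zero h3
  have : (g : MvPowerSeries (Fin d) k →+* k) = (resS k d : MvPowerSeries (Fin d) k →+* k) := by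
    refine ringHom_ext_nilp _ _ ?_ ?_ 1 ?_
    · intro a
      change g (C a) = resS k d (C a)
      rw [resS_apply, constantCoeff_C, c_eq_algebraMap, g.commutes]
      rfl
    · intro i
      change g (X i) = resS k d (X i)
      rw [hX, resS_apply, constantCoeff_X]
    · rw [pow_one, eq_bot_iff, Ideal.span_le]
      rintro _ ⟨i, rfl⟩
      change g (X i) ∈ _
      rw [hX]
      exact Ideal.zero_mem _
  apply AlgHom.ext
  intro f
  exact DFunLike.congr_fun this f

/-- Points of the power series ring lift along surjections. -/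
theorem exists_lift_S {B' B : Art k k} (p : B' ⟶ B) (hp : Function.Surjective p)
    (χ : HomSet (MvPowerSeries (Fin d) k) (resS k d) B) :
    ∃ ψ : HomSet (MvPowerSeries (Fin d) k) (resS k d) B', HomSet.map p ψ = χ := by
  choose b hb using fun i => hp (χ.1 (X i))
  have hbm : ∀ i, b i ∈ maximalIdeal B' := fun i => by
    rw [Art.mem_maximalIdeal_iff, ← Art.res_app p, hb]
    have h1 : B.res (χ.1 (X i)) = resS k d (X i) := DFunLike.congr_fun χ.2 (X i)
    rw [h1, resS_apply, constantCoeff_X]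
  let y : HomSet k (AlgHom.id k k) B' := ⟨Algebra.ofId k B', Subsingleton.elim _ _⟩
  obtain ⟨ψ, hψC, hψX⟩ := exists_homSet (R := k) (resR := AlgHom.id k k) y b hbm
  refine ⟨ψ, ?_⟩
  apply homSet_ext
  · intro a
    change p (ψ.1 (C a)) = χ.1 (C a)
    rw [hψC, c_eq_algebraMap, χ.1.commutes]
    exact p.toAlgHom.commutes a
  · intro i
    change p (ψ.1 (X i)) = χ.1 (X i)
    rw [hψX, hb]

end Basic

section Nat

variable {M N N' : Type*} [AddCommGroup M] [Module k M] [AddCommGroup N] [Module k N]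
  [AddCommGroup N'] [Module k N'] [Module.Finite k M]

/-- Naturality of the identification `M^∨ ⊗ N = Hom(M, N)`. -/
theorem dualTensorHomEquiv_symm_comp (g : N →ₗ[k] N') (L : M →ₗ[k] N) :
    (dualTensorHomEquiv k M N').symm (g ∘ₗ L) =
      LinearMap.lTensor (Module.Dual k M) g ((dualTensorHomEquiv k M N).symm L) := by
  have key : ∀ t : Module.Dual k M ⊗[k] N,
      dualTensorHomEquiv k M N' (LinearMap.lTensor (Module.Dual k M) g t) =
        g ∘ₗ dualTensorHomEquiv k M N t := by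
    intro t
    induction t using TensorProduct.induction_on with
    | zero => simp
    | tmul x y =>
      apply LinearMap.ext
      intro m
      simp [dualTensorHomEquiv]
    | add x y hx hy => simp only [map_add, hx, hy, LinearMap.comp_add]
  apply (dualTensorHomEquiv k M N').injective
  rw [LinearEquiv.apply_symm_apply, key, LinearEquiv.apply_symm_apply]

end Nat

section Obs

variable (J : Ideal (MvPowerSeries (Fin d) k))
  (res : (MvPowerSeries (Fin d) k ⧸ J) →ₐ[k] k)

/-- The space `J/𝔫J`. -/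
abbrev Q : Type u :=
  ↥J ⧸ (maximalIdeal (MvPowerSeries (Fin d) k) • (⊤ : Submodule (MvPowerSeries (Fin d) k) ↥J))

lemma res_mk (f : MvPowerSeries (Fin d) k) : res (Ideal.Quotient.mk J f) = constantCoeff f := by
  have := algHom_eq_resS (res.comp (Ideal.Quotient.mkₐ k J))
  exact DFunLike.congr_fun this f

/-- The point of the power series ring induced by a point of the quotient. -/
noncomputable def toS {B : Art k k} (φ : HomSet (MvPowerSeries (Fin d) k ⧸ J) res B) :
    HomSet (MvPowerSeries (Fin d) k) (resS k d) B :=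
  ⟨φ.1.comp (Ideal.Quotient.mkₐ k J), by
    rw [← AlgHom.comp_assoc, φ.2]
    exact algHom_eq_resS _⟩

lemma toS_apply {B : Art k k} (φ : HomSet (MvPowerSeries (Fin d) k ⧸ J) res B)
    (f : MvPowerSeries (Fin d) k) : (toS J res φ).1 f = φ.1 (Ideal.Quotient.mk J f) := rfl

lemma map_mem_max {B : Art k k} (ψ : HomSet (MvPowerSeries (Fin d) k) (resS k d) B)
    {f : MvPowerSeries (Fin d) k} (hf : f ∈ maximalIdeal (MvPowerSeries (Fin d) k)) :
    ψ.1 f ∈ maximalIdeal B := by
  rw [Art.mem_maximalIdeal_iff]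
  have h1 : B.res (ψ.1 f) = resS k d f := DFunLike.congr_fun ψ.2 f
  rw [h1, resS_apply, (mem_max_iff f).1 hf]

/-- Two lifts of the same point agree on the square of the maximal ideal. -/
lemma agree_sq {B' B : Art k k} (p : B' ⟶ B) (hp : IsSemismallExt p)
    (ψ ψ' : HomSet (MvPowerSeries (Fin d) k) (resS k d) B')
    (h : HomSet.map p ψ = HomSet.map p ψ') (f : MvPowerSeries (Fin d) k)
    (hf : f ∈ maximalIdeal (MvPowerSeries (Fin d) k) ^ 2) : ψ.1 f = ψ'.1 f := by
  have hker : ∀ x, ψ.1 x - ψ'.1 x ∈ RingHom.ker p.toAlgHom := by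
    intro x
    rw [RingHom.mem_ker, map_sub, sub_eq_zero]
    exact congrArg (fun t : HomSet (MvPowerSeries (Fin d) k) (resS k d) B => t.1 x) h
  have hzero : ∀ a ∈ maximalIdeal B', ∀ b ∈ RingHom.ker p.toAlgHom, a * b = 0 := by
    intro a ha b hb
    have : a * b ∈ maximalIdeal B' * RingHom.ker p.toAlgHom := Ideal.mul_mem_mul ha hb
    rw [hp.2] at this
    exact this
  rw [pow_two] at hf
  refine Submodule.mul_induction_on hf ?_ ?_
  · intro a ha b hb
    have e : ψ.1 (a * b) - ψ'.1 (a * b) =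
        ψ.1 a * (ψ.1 b - ψ'.1 b) + ψ'.1 b * (ψ.1 a - ψ'.1 a) := by
      rw [map_mul, map_mul]; ring
    have h0 : ψ.1 (a * b) - ψ'.1 (a * b) = 0 := by
      rw [e, hzero _ (map_mem_max ψ ha) _ (hker b), hzero _ (map_mem_max ψ' hb) _ (hker a), add_zero]
    exact sub_eq_zero.1 h0
  · intro x y hx hy
    rw [map_add, map_add, hx, hy]

variable {J res}

/-- The raw linear map `J → ker p` defined by a lift. -/
noncomputable def rawMap {B' B : Art k k} (p : B' ⟶ B) (φ : HomSet (MvPowerSeries (Fin d) k ⧸ J) res B)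
    (ψ : HomSet (MvPowerSeries (Fin d) k) (resS k d) B') (hψ : HomSet.map p ψ = toS J res φ) :
    ↥J →ₗ[k] ↥(RingHom.ker p.toAlgHom) where
  toFun j := ⟨ψ.1 (j : MvPowerSeries (Fin d) k), by
    rw [RingHom.mem_ker]
    have h1 := congrArg (fun t : HomSet (MvPowerSeries (Fin d) k) (resS k d) B =>
      t.1 (j : MvPowerSeries (Fin d) k)) hψ
    refine h1.trans ?_
    rw [toS_apply, Ideal.Quotient.eq_zero_iff_mem.2 j.2, map_zero]⟩
  map_add' x y := Subtype.ext (map_add ψ.1 _ _)
  map_smul' c x := Subtype.ext (map_smul ψ.1 c _)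

lemma rawMap_apply {B' B : Art k k} (p : B' ⟶ B) (φ : HomSet (MvPowerSeries (Fin d) k ⧸ J) res B)
    (ψ : HomSet (MvPowerSeries (Fin d) k) (resS k d) B') (hψ : HomSet.map p ψ = toS J res φ)
    (j : ↥J) : ((rawMap p φ ψ hψ j : ↥(RingHom.ker p.toAlgHom)) : B') = ψ.1 (j : MvPowerSeries (Fin d) k) :=
  rfl

lemma rawMap_kills {B' B : Art k k} (p : B' ⟶ B) (hp : IsSemismallExt p)
    (φ : HomSet (MvPowerSeries (Fin d) k ⧸ J) res B)
    (ψ : HomSet (MvPowerSeries (Fin d) k) (resS k d) B') (hψ : HomSet.map p ψ = toS J res φ) :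
    (maximalIdeal (MvPowerSeries (Fin d) k) • (⊤ : Submodule (MvPowerSeries (Fin d) k) ↥J)).restrictScalars k ≤
      LinearMap.ker (rawMap p φ ψ hψ) := by
  intro x hx
  rw [Submodule.restrictScalars_mem] at hx
  rw [LinearMap.mem_ker]
  refine Submodule.smul_induction_on hx ?_ ?_
  · intro a ha j _
    apply Subtype.ext
    rw [rawMap_apply]
    change ψ.1 (a * (j : MvPowerSeries (Fin d) k)) = 0
    rw [map_mul]
    have h1 : ψ.1 a * ψ.1 (j : MvPowerSeries (Fin d) k) ∈ maximalIdeal B' * RingHom.ker p.toAlgHom :=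
      Ideal.mul_mem_mul (map_mem_max ψ ha) (rawMap p φ ψ hψ j).2
    rw [hp.2] at h1
    exact h1
  · intro x y hx hy
    rw [map_add, hx, hy, add_zero]

/-- The induced map on `J/𝔫J`. -/
noncomputable def barMap {B' B : Art k k} (p : B' ⟶ B) (hp : IsSemismallExt p)
    (φ : HomSet (MvPowerSeries (Fin d) k ⧸ J) res B)
    (ψ : HomSet (MvPowerSeries (Fin d) k) (resS k d) B') (hψ : HomSet.map p ψ = toS J res φ) :
    Q J →ₗ[k] ↥(RingHom.ker p.toAlgHom) :=
  (Submodule.liftQ _ (rawMap p φ ψ hψ) (rawMap_kills p hp φ ψ hψ)) ∘ₗ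
    (Submodule.Quotient.restrictScalarsEquiv k
      (maximalIdeal (MvPowerSeries (Fin d) k) • (⊤ : Submodule (MvPowerSeries (Fin d) k) ↥J))).symm.toLinearMap

lemma barMap_mk {B' B : Art k k} (p : B' ⟶ B) (hp : IsSemismallExt p)
    (φ : HomSet (MvPowerSeries (Fin d) k ⧸ J) res B)
    (ψ : HomSet (MvPowerSeries (Fin d) k) (resS k d) B') (hψ : HomSet.map p ψ = toS J res φ) (j : ↥J) :
    barMap p hp φ ψ hψ (Submodule.Quotient.mk j) = rawMap p φ ψ hψ j := rfl

theorem barMap_indep {B' B : Art k k} (p : B' ⟶ B) (hp : IsSemismallExt p)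
    (hJ : J ≤ maximalIdeal (MvPowerSeries (Fin d) k) ^ 2)
    (φ : HomSet (MvPowerSeries (Fin d) k ⧸ J) res B)
    (ψ ψ' : HomSet (MvPowerSeries (Fin d) k) (resS k d) B') (hψ : HomSet.map p ψ = toS J res φ)
    (hψ' : HomSet.map p ψ' = toS J res φ) :
    barMap p hp φ ψ hψ = barMap p hp φ ψ' hψ' := by
  apply LinearMap.ext
  intro q
  obtain ⟨j, rfl⟩ := Submodule.Quotient.mk_surjective _ q
  rw [barMap_mk, barMap_mk]
  apply Subtype.ext
  rw [rawMap_apply, rawMap_apply]
  exact agree_sq p hp ψ ψ' (hψ.trans hψ'.symm) _ (hJ j.2)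

variable (J) in
lemma smul_Q (s : MvPowerSeries (Fin d) k) (q : Q J) : s • q = (constantCoeff s : k) • q := by
  have h1 : (constantCoeff s : k) • q = (C (constantCoeff s) : MvPowerSeries (Fin d) k) • q := by
    rw [c_eq_algebraMap, algebraMap_smul]
  rw [h1, ← sub_eq_zero, ← sub_smul]
  have hmem : s - C (constantCoeff s) ∈ maximalIdeal (MvPowerSeries (Fin d) k) := by
    rw [mem_max_iff, map_sub, constantCoeff_C, sub_self]
  obtain ⟨j, rfl⟩ := Submodule.Quotient.mk_surjective _ q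
  rw [← Submodule.Quotient.mk_smul, Submodule.Quotient.mk_eq_zero]
  exact Submodule.smul_mem_smul hmem Submodule.mem_top

variable (J) in
instance finite_Q : Module.Finite k (Q J) := by
  haveI : Module.Finite (MvPowerSeries (Fin d) k) ↥J :=
    Module.Finite.iff_fg.2 (IsNoetherian.noetherian J)
  obtain ⟨r, g, hg⟩ := Module.Finite.exists_fin (R := MvPowerSeries (Fin d) k) (M := Q J)
  rw [Module.finite_def, Submodule.fg_iff_exists_fin_generating_family]
  refine ⟨r, g, ?_⟩
  rw [eq_top_iff]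
  intro m _
  have hm : m ∈ Submodule.span (MvPowerSeries (Fin d) k) (Set.range g) := hg ▸ Submodule.mem_top
  obtain ⟨c, rfl⟩ := (Submodule.mem_span_range_iff_exists_fun _).1 hm
  refine Submodule.sum_mem _ fun i _ => ?_
  rw [smul_Q J]
  exact Submodule.smul_mem _ _ (Submodule.subset_span ⟨i, rfl⟩)

/-- The obstruction map of a point along a semismall extension. -/
noncomputable def obsMap {B' B : Art k k} (p : B' ⟶ B) (hp : IsSemismallExt p)
    (φ : HomSet (MvPowerSeries (Fin d) k ⧸ J) res B) : Q J →ₗ[k] ↥(RingHom.ker p.toAlgHom) :=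
  barMap p hp φ (Classical.choose (exists_lift_S p hp.1 (toS J res φ)))
    (Classical.choose_spec (exists_lift_S p hp.1 (toS J res φ)))

lemma obsMap_eq (hJ : J ≤ maximalIdeal (MvPowerSeries (Fin d) k) ^ 2) {B' B : Art k k} (p : B' ⟶ B)
    (hp : IsSemismallExt p) (φ : HomSet (MvPowerSeries (Fin d) k ⧸ J) res B)
    (ψ : HomSet (MvPowerSeries (Fin d) k) (resS k d) B') (hψ : HomSet.map p ψ = toS J res φ) :
    obsMap p hp φ = barMap p hp φ ψ hψ := barMap_indep p hp hJ φ _ _ _ _

variable (J res) in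
/-- The obstruction theory of `h_{S/J}`. -/
noncomputable def obsTheory (hJ : J ≤ maximalIdeal (MvPowerSeries (Fin d) k) ^ 2) :
    ObsTheory (hR (MvPowerSeries (Fin d) k ⧸ J) res) (Module.Dual k (Q J)) where
  obs {B' B} p hp φ := (dualTensorHomEquiv k (Q J) ↥(RingHom.ker p.toAlgHom)).symm
    (obsMap p hp (φ : HomSet (MvPowerSeries (Fin d) k ⧸ J) res B))
  obs_eq_zero_iff {B' B} p hp φ := by
    rw [LinearEquiv.map_eq_zero_iff]
    obtain ⟨φ₀, rfl⟩ : ∃ φ₀ : HomSet (MvPowerSeries (Fin d) k ⧸ J) res B, φ₀ = φ := ⟨φ, rfl⟩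
    constructor
    · intro h0
      obtain ⟨ψ, hψ⟩ := exists_lift_S p hp.1 (toS J res φ₀)
      rw [obsMap_eq hJ p hp φ₀ ψ hψ] at h0
      have hk : ∀ j ∈ J, ψ.1 j = 0 := fun j hj => by
        have h1 := congrArg (fun L : Q J →ₗ[k] ↥(RingHom.ker p.toAlgHom) =>
          ((L (Submodule.Quotient.mk ⟨j, hj⟩) : ↥(RingHom.ker p.toAlgHom)) : B')) h0
        exact h1
      refine ⟨(⟨Ideal.Quotient.liftₐ J ψ.1 hk, ?_⟩ : HomSet (MvPowerSeries (Fin d) k ⧸ J) res B'), ?_⟩
      · apply AlgHom.ext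
        intro x
        obtain ⟨f, rfl⟩ := Ideal.Quotient.mk_surjective x
        change B'.res (ψ.1 f) = res (Ideal.Quotient.mk J f)
        rw [res_mk]
        exact DFunLike.congr_fun ψ.2 f
      · apply Subtype.ext
        apply AlgHom.ext
        intro x
        obtain ⟨f, rfl⟩ := Ideal.Quotient.mk_surjective x
        exact congrArg (fun t : HomSet (MvPowerSeries (Fin d) k) (resS k d) B => t.1 f) hψ
    · rintro ⟨φ', hφ'⟩
      obtain ⟨φ'₀, rfl⟩ : ∃ φ'₀ : HomSet (MvPowerSeries (Fin d) k ⧸ J) res B', φ'₀ = φ' := ⟨φ', rfl⟩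
      have hψ₀ : HomSet.map p (toS J res φ'₀) = toS J res φ₀ := by
        rw [← hφ']
        rfl
      rw [obsMap_eq hJ p hp φ₀ (toS J res φ'₀) hψ₀]
      apply LinearMap.ext
      intro q
      obtain ⟨j, rfl⟩ := Submodule.Quotient.mk_surjective _ q
      rw [barMap_mk]
      apply Subtype.ext
      rw [rawMap_apply, toS_apply, Ideal.Quotient.eq_zero_iff_mem.2 j.2, map_zero]
      rfl
  obs_quot {B' B} p hp K hK hKJ hq φ := by
    obtain ⟨φ₀, rfl⟩ : ∃ φ₀ : HomSet (MvPowerSeries (Fin d) k ⧸ J) res B, φ₀ = φ := ⟨φ, rfl⟩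
    rw [← dualTensorHomEquiv_symm_comp]
    congr 1
    obtain ⟨ψ, hψ⟩ := exists_lift_S p hp.1 (toS J res φ₀)
    have hψK : HomSet.map (quotFactor hK p hKJ) (HomSet.map (quotMk B' K hK) ψ) = toS J res φ₀ := by
      rw [← hψ]
      rfl
    rw [obsMap_eq hJ _ hq φ₀ _ hψK, obsMap_eq hJ p hp φ₀ ψ hψ]
    apply LinearMap.ext
    intro q
    obtain ⟨j, rfl⟩ := Submodule.Quotient.mk_surjective _ q
    rfl

end Obs

end Groth.Agent.H15.ObsPS
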