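import Mathlib

universe u

open IsLocalRing

namespace Groth.Agent.H15.RegApprox

section Approx

variable {A B : Type*} [CommRing A] [CommRing B] [IsLocalRing A] [IsLocalRing B]
  [IsNoetherianRing A] [IsNoetherianRing B] (φ : A →+* B)
  (hφ : ∀ a ∈ maximalIdeal A, φ a ∈ maximalIdeal B)
  (ha : ∀ (s : B) (n : ℕ), ∃ a : A, s - φ a ∈ maximalIdeal B ^ n)
  (hb : ∀ (a : A) (n : ℕ), φ a ∈ maximalIdeal B ^ n → a ∈ maximalIdeal A ^ n)

include hφ ha hb in
theorem map_max_eq : (maximalIdeal A).map φ = maximalIdeal B := by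
  apply le_antisymm
  · rw [Ideal.map_le_iff_le_comap]
    exact fun a h => hφ a h
  · apply Submodule.le_of_le_smul_of_le_jacobson_bot (I := maximalIdeal B)
      (IsNoetherian.noetherian _) (by rw [IsLocalRing.jacobson_eq_maximalIdeal ⊥ bot_ne_top])
    intro s hs
    obtain ⟨a, h⟩ := ha s 2
    have h2 : s - φ a ∈ maximalIdeal B := Ideal.pow_le_self two_ne_zero h
    have h3 : φ a ∈ maximalIdeal B := by
      have := (maximalIdeal B).sub_mem hs h2
      rwa [sub_sub_cancel] at this
    have h4 : a ∈ maximalIdeal A := by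
      have := hb a 1 (by rwa [pow_one])
      rwa [pow_one] at this
    have h5 : s = φ a + (s - φ a) := by ring
    rw [h5]
    refine Submodule.add_mem_sup (Ideal.mem_map_of_mem _ h4) ?_
    rw [smul_eq_mul, ← pow_two]
    exact h

include hφ ha hb in
theorem dim_le : ringKrullDim A ≤ ringKrullDim B := by
  classical
  obtain ⟨s, hs, hcard⟩ :=
    Ideal.exists_finset_card_eq_height_of_isNoetherianRing (maximalIdeal B)
  have hsle : Ideal.span (s : Set B) ≤ maximalIdeal B := hs.1.2
  have hrad : maximalIdeal B ≤ (Ideal.span (s : Set B)).radical := by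
    rw [Ideal.radical_eq_sInf]
    refine le_sInf ?_
    rintro q ⟨hq1, hq2⟩
    have hqm : q ≤ maximalIdeal B := IsLocalRing.le_maximalIdeal hq2.ne_top
    exact hs.2 ⟨hq2, hq1⟩ hqm
  obtain ⟨n, hn⟩ := Ideal.exists_pow_le_of_le_radical_of_fg hrad (IsNoetherian.noetherian _)
  have hch : ∀ y : B, ∃ a : A, y - φ a ∈ maximalIdeal B ^ (n + 1) := fun y => ha y (n + 1)
  choose c hc using hch
  set t : Finset A := s.image c with ht
  set 𝔞 : Ideal A := Ideal.span (t : Set A) with h𝔞
  set 𝔟 : Ideal B := 𝔞.map φ with h𝔟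
  -- Step 1
  have h1 : maximalIdeal B ^ n ≤ 𝔟 := by
    apply Submodule.le_of_le_smul_of_le_jacobson_bot (I := maximalIdeal B)
      (IsNoetherian.noetherian _) (by rw [IsLocalRing.jacobson_eq_maximalIdeal ⊥ bot_ne_top])
    refine hn.trans ?_
    rw [Ideal.span_le]
    intro y hy
    have h5 : y = φ (c y) + (y - φ (c y)) := by ring
    rw [h5]
    refine Submodule.add_mem_sup ?_ ?_
    · apply Ideal.mem_map_of_mem
      apply Ideal.subset_span
      rw [ht, Finset.coe_image]
      exact ⟨y, hy, rfl⟩
    · rw [smul_eq_mul, ← pow_succ']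
      exact hc y
  -- the quotient map
  let q := Ideal.Quotient.mk (maximalIdeal B ^ (n + 1))
  let ψ : A →+* B ⧸ maximalIdeal B ^ (n + 1) := q.comp φ
  have hψ : Function.Surjective ψ := by
    intro z
    obtain ⟨y, rfl⟩ := Ideal.Quotient.mk_surjective z
    obtain ⟨a, h⟩ := ha y (n + 1)
    refine ⟨a, ?_⟩
    change q (φ a) = q y
    rw [eq_comm, Ideal.Quotient.eq]
    exact h
  have hφpow : ∀ (j : ℕ) (b : A), b ∈ maximalIdeal A ^ j → φ b ∈ maximalIdeal B ^ j := by
    intro j b hb'
    have : (maximalIdeal A ^ j).map φ ≤ maximalIdeal B ^ j := by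
      rw [Ideal.map_pow]
      apply Ideal.pow_right_mono
      rw [Ideal.map_le_iff_le_comap]
      exact fun a h => hφ a h
    exact this (Ideal.mem_map_of_mem _ hb')
  -- Step 2
  have h2 : maximalIdeal A ^ n ≤ 𝔞 := by
    apply Submodule.le_of_le_smul_of_le_jacobson_bot (I := maximalIdeal A)
      (IsNoetherian.noetherian _) (by rw [IsLocalRing.jacobson_eq_maximalIdeal ⊥ bot_ne_top])
    intro b hb'
    have h3 : q (φ b) ∈ 𝔟.map q := Ideal.mem_map_of_mem _ (h1 (hφpow n b hb'))
    rw [h𝔟, Ideal.map_map] at h3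
    obtain ⟨a', ha', hab⟩ := (Ideal.mem_map_iff_of_surjective ψ hψ).1 h3
    have h4 : φ (b - a') ∈ maximalIdeal B ^ (n + 1) := by
      rw [map_sub, ← Ideal.Quotient.eq]
      exact hab.symm
    have h5 := hb _ _ h4
    have h6 : b = a' + (b - a') := by ring
    rw [h6]
    refine Submodule.add_mem_sup ha' ?_
    rw [smul_eq_mul, ← pow_succ']
    exact h5
  -- Step 4
  have h𝔞le : 𝔞 ≤ maximalIdeal A := by
    rw [h𝔞, Ideal.span_le]
    intro a hat
    rw [ht, Finset.coe_image] at hat
    obtain ⟨y, hy, rfl⟩ := hat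
    have hy' : y ∈ maximalIdeal B := hsle (Ideal.subset_span hy)
    have h2' : y - φ (c y) ∈ maximalIdeal B := Ideal.pow_le_self (Nat.succ_ne_zero n) (hc y)
    have h3 : φ (c y) ∈ maximalIdeal B := by
      have := (maximalIdeal B).sub_mem hy' h2'
      rwa [sub_sub_cancel] at this
    have := hb (c y) 1 (by rwa [pow_one])
    rwa [pow_one] at this
  have hmin : maximalIdeal A ∈ 𝔞.minimalPrimes := by
    refine ⟨⟨inferInstance, h𝔞le⟩, ?_⟩
    rintro q' ⟨hq1, hq2⟩ _
    exact hq1.le_of_pow_le (h2.trans hq2)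
  have hht := Ideal.height_le_card_of_mem_minimalPrimes_span_finset hmin
  rw [← IsLocalRing.maximalIdeal_height_eq_ringKrullDim,
    ← IsLocalRing.maximalIdeal_height_eq_ringKrullDim]
  have h7 : (maximalIdeal A).height ≤ (maximalIdeal B).height := by
    refine hht.trans ?_
    rw [← hcard]
    exact_mod_cast Finset.card_image_le
  exact_mod_cast h7

include hφ ha hb in
theorem regular_of_regular [IsRegularLocalRing A] : IsRegularLocalRing B := by
  apply IsRegularLocalRing.of_spanFinrank_maximalIdeal_le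
  refine le_trans ?_ (dim_le φ hφ ha hb)
  rw [← (inferInstance : IsRegularLocalRing A).spanFinrank_maximalIdeal]
  have hfg : (maximalIdeal A).FG := IsNoetherian.noetherian _
  obtain ⟨t, htc, hts⟩ := Submodule.FG.exists_span_finset_card_eq_spanFinrank hfg
  have hts' : Ideal.span (t : Set A) = maximalIdeal A := hts
  have : (maximalIdeal B).spanFinrank ≤ (maximalIdeal A).spanFinrank := by
    rw [← map_max_eq φ hφ ha hb]
    calc (Ideal.map φ (maximalIdeal A)).spanFinrank
        = (Ideal.span (φ '' (t : Set A))).spanFinrank := by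
          rw [← hts', Ideal.map_span]
      _ ≤ (φ '' (t : Set A)).ncard :=
          Submodule.spanFinrank_span_le_ncard_of_finite ((Finset.finite_toSet t).image _)
      _ ≤ (t : Set A).ncard := Set.ncard_image_le (Finset.finite_toSet t)
      _ = t.card := Set.ncard_coe_finset t
      _ = (maximalIdeal A).spanFinrank := htc
  exact_mod_cast this

end Approx

section Pres

variable {S R : Type*} [CommRing S] [CommRing R] [IsLocalRing S] [IsLocalRing R]
  [IsNoetherianRing S] [IsNoetherianRing R] (u : S →+* R) (hu : Function.Surjective u)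
  (hloc : ∀ g : S, g ∈ maximalIdeal S ↔ u g ∈ maximalIdeal R)
  (hJ : RingHom.ker u ≤ maximalIdeal S ^ 2)

include hu hloc hJ in
theorem spanFinrank_le_of_minimal :
    (maximalIdeal S).spanFinrank ≤ (maximalIdeal R).spanFinrank := by
  classical
  have hfg : (maximalIdeal R).FG := IsNoetherian.noetherian _
  obtain ⟨t, htc, hts⟩ := Submodule.FG.exists_span_finset_card_eq_spanFinrank hfg
  have hts' : Ideal.span (t : Set R) = maximalIdeal R := hts
  choose lift hlift using hu
  set t' : Finset S := t.image lift with ht'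
  have hsub : (t' : Set S) ⊆ maximalIdeal S := by
    intro g hg
    rw [ht', Finset.coe_image] at hg
    obtain ⟨y, hy, rfl⟩ := hg
    rw [SetLike.mem_coe, hloc, hlift]
    exact hts' ▸ Ideal.subset_span hy
  have hmapt : (Ideal.span (t' : Set S)).map u = maximalIdeal R := by
    rw [Ideal.map_span, ← hts']
    congr 1
    rw [ht', Finset.coe_image, Set.image_image]
    ext y
    constructor
    · rintro ⟨z, hz, rfl⟩
      change u (lift z) ∈ _
      rw [hlift]
      exact hz
    · intro hy
      exact ⟨y, hy, hlift y⟩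
  have hle : maximalIdeal S ≤ Ideal.span (t' : Set S) := by
    apply Submodule.le_of_le_smul_of_le_jacobson_bot (I := maximalIdeal S)
      (IsNoetherian.noetherian _) (by rw [IsLocalRing.jacobson_eq_maximalIdeal ⊥ bot_ne_top])
    intro g hg
    have h1 : u g ∈ maximalIdeal R := (hloc g).1 hg
    rw [← hmapt] at h1
    obtain ⟨g', hg', hgg⟩ := (Ideal.mem_map_iff_of_surjective u
      (fun y => ⟨lift y, hlift y⟩)).1 h1
    have h2 : g - g' ∈ RingHom.ker u := by
      rw [RingHom.mem_ker, map_sub, sub_eq_zero]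
      exact hgg.symm
    have h3 : g = g' + (g - g') := by ring
    rw [h3]
    refine Submodule.add_mem_sup hg' ?_
    rw [smul_eq_mul, ← pow_two]
    exact hJ h2
  have heq : Ideal.span (t' : Set S) = maximalIdeal S :=
    le_antisymm (Ideal.span_le.2 hsub) hle
  calc (maximalIdeal S).spanFinrank = (Ideal.span (t' : Set S)).spanFinrank := by rw [heq]
    _ ≤ (t' : Set S).ncard :=
        Submodule.spanFinrank_span_le_ncard_of_finite (Finset.finite_toSet t')
    _ = t'.card := Set.ncard_coe_finset t'
    _ ≤ t.card := Finset.card_image_le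
    _ = (maximalIdeal R).spanFinrank := htc

include hu hloc hJ in
/-- A minimal surjection from a regular local domain onto a regular local ring is injective. -/
theorem injective_of_regular [NoZeroDivisors S] [hS : IsRegularLocalRing S]
    [hR : IsRegularLocalRing R] : Function.Injective u := by
  rw [RingHom.injective_iff_ker_eq_bot]
  by_contra hne
  obtain ⟨f, hf, hf0⟩ := Submodule.exists_mem_ne_zero_of_ne_bot hne
  have hfnz : f ∈ nonZeroDivisors S := mem_nonZeroDivisors_of_ne_zero hf0
  have h1 := ringKrullDim_quotient_succ_le_of_nonZeroDivisor hfnz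
  let v : (S ⧸ Ideal.span {f}) →+* R :=
    Ideal.Quotient.lift (Ideal.span {f}) u (fun a ha => by
      have hle : Ideal.span {f} ≤ RingHom.ker u := (Ideal.span_singleton_le_iff_mem _).2 hf
      exact hle ha)
  have hv : Function.Surjective v := fun y => by
    obtain ⟨g, rfl⟩ := hu y
    exact ⟨Ideal.Quotient.mk _ g, rfl⟩
  have h2 := ringKrullDim_le_of_surjective v hv
  rw [← hS.spanFinrank_maximalIdeal] at h1
  rw [← hR.spanFinrank_maximalIdeal] at h2
  have h3 : (((maximalIdeal R).spanFinrank : ℕ) : WithBot ℕ∞) + 1 ≤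
      (((maximalIdeal S).spanFinrank : ℕ) : WithBot ℕ∞) :=
    le_trans (by gcongr) h1
  have h4 : (maximalIdeal R).spanFinrank + 1 ≤ (maximalIdeal S).spanFinrank := by
    exact_mod_cast h3
  have h5 := spanFinrank_le_of_minimal u hu hloc hJ
  omega

end Pres

end Groth.Agent.H15.RegApprox
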