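import Mathlib
import Groth.Agent.H15.ObsDim
import Groth.Agent.H15.RegApprox

universe u

open IsLocalRing ArtFun MvPowerSeries

namespace Groth.Agent.H15.RegPS

open Groth.Agent.H15.ObsPS Groth.Agent.H15.ObsPS2 Groth.Agent.H15.ObsDim

variable {k : Type u} [Field k]

/-- A regular complete local `k`-algebra with residue field `k` is a power series ring. -/
theorem exists_ps_of_regular (R : CRing k k) [hreg : IsRegularLocalRing R.carrier] :
    ∃ n : ℕ, Nonempty (R.carrier ≃ₐ[k] MvPowerSeries (Fin n) k) := by
  obtain ⟨d, u, husurj, hu, hJ⟩ := exists_presentation R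
  have hures : ∀ p, R.res (u p) = constantCoeff p := fun p => DFunLike.congr_fun hu p
  haveI hSreg := isRegularLocalRing_ps k d
  have hloc : ∀ g : MvPowerSeries (Fin d) k, g ∈ maximalIdeal (MvPowerSeries (Fin d) k) ↔
      (u : MvPowerSeries (Fin d) k →+* R.carrier) g ∈ maximalIdeal R.carrier := by
    intro g
    rw [mem_max_iff, CRing.mem_maximalIdeal_iff]
    change _ ↔ R.res (u g) = 0
    rw [hures]
  have hinj : Function.Injective u :=
    Groth.Agent.H15.RegApprox.injective_of_regular (u : MvPowerSeries (Fin d) k →+* R.carrier)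
      husurj hloc hJ
  exact ⟨d, ⟨(AlgEquiv.ofBijective u ⟨hinj, husurj⟩).symm⟩⟩

end Groth.Agent.H15.RegPS
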