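import Mathlib
import Groth.Agent.H15.RegPS
import Groth.Agent.H15.ComplCR
import Groth.Agent.H15.ObsDimG
import Groth.Agent.H15.PSArt3

universe u

open CategoryTheory IsLocalRing ArtFun ArtFun.Art

namespace Groth.Agent.H15.RegSmooth

open Groth.Agent.H15.ArtLim Groth.Agent.H15.ComplCR
open Groth.Agent.H15.ArtPoly (mP quotMk quotMk_surjective quotMk_eq_zero_iff maximalIdeal_quotObj towerMap_surjective tower_finrank_le)

variable {k : Type u} [Field k]
  {P : Type u} [CommRing P] [Algebra k P] [IsNoetherianRing P] [IsLocalRing P]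
  (resP : P →ₐ[k] k) (hres : Function.Surjective resP)

instance isAdicComplete_field : IsAdicComplete (maximalIdeal k) k := by
  rw [IsLocalRing.maximalIdeal_eq_bot]
  infer_instance

lemma hf : ∀ q, Function.Surjective (powMap resP hres q) :=
  towerMap_surjective resP hres (powI resP) (powI_le resP) (fun q => q + 1) (le_powI resP)
    (powI_anti resP)

lemma hd : ∀ q, Module.finrank (ResidueField (powObj resP hres q))
    (CotangentSpace (powObj resP hres q)) ≤ (mP resP).spanFinrank :=
  tower_finrank_le resP hres (powI resP) (powI_le resP) (fun q => q + 1) (le_powI resP)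

section L

variable [hloc : IsLocalRing (Lim (powObj resP hres) (powMap resP hres))]

lemma toLim_mem_max (a : P) (ha : a ∈ maximalIdeal P) :
    powToLim resP hres a ∈ maximalIdeal (Lim (powObj resP hres) (powMap resP hres)) := by
  rw [mem_maximalIdeal_lim (resLim_surjective (hf resP hres))]
  have h2 := Groth.Agent.H15.ObsDimG.hmP resP hres
  rw [← h2] at ha
  exact ha

lemma approx (hfg : (maximalIdeal (Lim (powObj resP hres) (powMap resP hres))).FG)
    (s : Lim (powObj resP hres) (powMap resP hres)) (n : ℕ) :
    ∃ a : P, s - powToLim resP hres a ∈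
      maximalIdeal (Lim (powObj resP hres) (powMap resP hres)) ^ n := by
  obtain ⟨N, hN⟩ := exists_ker_le_pow (hf resP hres) hfg n
  obtain ⟨a, ha⟩ := quotMk_surjective resP hres (powI resP N) (powI_le resP N) (N + 1)
    (le_powI resP N) (proj (powObj resP hres) (powMap resP hres) N s)
  refine ⟨a, hN ?_⟩
  rw [RingHom.mem_ker, map_sub, sub_eq_zero]
  exact ha.symm

lemma max_pow_quot (j : ℕ) : maximalIdeal (powObj resP hres j) ^ (j + 1) = ⊥ := by
  have hm := maximalIdeal_quotObj resP hres (powI resP j) (powI_le resP j) (j + 1) (le_powI resP j)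
  rw [eq_bot_iff]
  intro x hx
  rw [hm, ← Ideal.map_pow] at hx
  obtain ⟨b, hb, rfl⟩ := (Ideal.mem_map_iff_of_surjective _
    (quotMk_surjective resP hres (powI resP j) (powI_le resP j) (j + 1) (le_powI resP j))).1 hx
  rw [Ideal.mem_bot]
  exact (quotMk_eq_zero_iff resP hres _ _ _ _ b).2 hb

lemma mem_pow_of_toLim (a : P) (n : ℕ)
    (h : powToLim resP hres a ∈ maximalIdeal (Lim (powObj resP hres) (powMap resP hres)) ^ n) :
    a ∈ maximalIdeal P ^ n := by
  cases n with
  | zero => rw [pow_zero, Ideal.one_eq_top]; exact Submodule.mem_top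
  | succ j =>
    have h1 := proj_mem_pow (hf resP hres) (j + 1) _ h j
    rw [max_pow_quot resP hres j, Ideal.mem_bot] at h1
    have h3 : quotMk resP hres (powI resP j) (powI_le resP j) (j + 1) (le_powI resP j) a = 0 := h1
    have h4 := (quotMk_eq_zero_iff resP hres _ _ _ _ a).1 h3
    rw [← Groth.Agent.H15.ObsDimG.hmP resP hres]
    exact h4

end L

theorem regular_lim [IsRegularLocalRing P] :
    IsRegularLocalRing (Lim (powObj resP hres) (powMap resP hres)) := by
  haveI hloc : IsLocalRing (Lim (powObj resP hres) (powMap resP hres)) :=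
    isLocalRing_lim (hf resP hres)
  have hfg := maximalIdeal_fg (hf resP hres) _ (hd resP hres)
  haveI : IsNoetherianRing (Lim (powObj resP hres) (powMap resP hres)) :=
    isNoetherianRing_lim (hf resP hres) hfg
  exact Groth.Agent.H15.RegApprox.regular_of_regular
    ((powToLim resP hres : P →ₐ[k] Lim (powObj resP hres) (powMap resP hres)) : P →+* _)
    (toLim_mem_max resP hres) (approx resP hres hfg) (mem_pow_of_toLim resP hres)

theorem regular_compl [IsRegularLocalRing P] :
    IsRegularLocalRing (complCRing resP hres).carrier :=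
  regular_lim resP hres

include hres in
/-- The functor of points of a regular local `k`-algebra with residue field `k` is smooth. -/
theorem smooth_of_regular [IsRegularLocalRing P] : IsSmoothFunctor (hR P resP) := by
  have := regular_compl resP hres
  obtain ⟨n, ⟨e⟩⟩ := Groth.Agent.H15.RegPS.exists_ps_of_regular (complCRing resP hres)
  have hk : Function.Surjective (algebraMap k k) := fun c => ⟨c, rfl⟩
  have hsm : IsSmoothFunctor (hR (complCRing resP hres).carrier (complCRing resP hres).res) :=
    (Groth.Agent.H15.PSArt3.smooth_iff_ps hk _).2 ⟨n, ⟨e⟩⟩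
  intro B A μ hμ φ
  obtain ⟨ψ, hψ⟩ := (restrict_bijective resP hres A).2 φ
  obtain ⟨(ψ' : HomSet (complCRing resP hres).carrier (complCRing resP hres).res B), hψ'⟩ :=
    hsm μ hμ ψ
  refine ⟨restrict resP hres ψ', ?_⟩
  change HomSet.map μ (restrict resP hres ψ') = φ
  rw [← restrict_map, ← hψ]
  exact congrArg _ hψ'

end Groth.Agent.H15.RegSmooth
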