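import Mathlib
import Groth.Agent.H15.RegSmooth
import Groth.Agent.H15.RegPres

universe u

open CategoryTheory IsLocalRing ArtFun ArtFun.Art
open scoped TensorProduct

namespace Groth.Agent.H15.RegLift

variable {k : Type u} [Field k]

/-- Two augmentations of a local `k`-algebra agree. -/
lemma algHom_unique {A : Type*} [CommRing A] [IsLocalRing A] [Algebra k A] (h₁ h₂ : A →ₐ[k] k) :
    h₁ = h₂ := by
  have hs : ∀ h : A →ₐ[k] k, Function.Surjective h := fun h c =>
    ⟨algebraMap k A c, by rw [AlgHom.commutes]; rfl⟩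
  have hker : ∀ h : A →ₐ[k] k, RingHom.ker (h : A →+* k) = maximalIdeal A := fun h =>
    IsLocalRing.eq_maximalIdeal (RingHom.ker_isMaximal_of_surjective (h : A →+* k) (hs h))
  apply AlgHom.ext
  intro a
  have h1 : a - algebraMap k A (h₁ a) ∈ RingHom.ker (h₁ : A →+* k) := by
    rw [RingHom.mem_ker]
    change h₁ (a - algebraMap k A (h₁ a)) = 0
    rw [map_sub, AlgHom.commutes, Algebra.algebraMap_self_apply, sub_self]
  rw [hker h₁, ← hker h₂, RingHom.mem_ker] at h1
  have h2 : h₂ (a - algebraMap k A (h₁ a)) = 0 := h1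
  rw [map_sub, AlgHom.commutes, Algebra.algebraMap_self_apply, sub_eq_zero] at h2
  exact h2.symm

/-- The augmentation of a local algebra whose residue field is `k`. -/
theorem exists_res (A : Type u) [CommRing A] [IsLocalRing A] [Algebra k A]
    (hres : Function.Surjective (algebraMap k (ResidueField A))) :
    ∃ res : A →ₐ[k] k, Function.Surjective res := by
  have hinj : Function.Injective (algebraMap k (ResidueField A)) := (algebraMap k _).injective
  let e : k ≃ₐ[k] ResidueField A := AlgEquiv.ofBijective (Algebra.ofId k _) ⟨hinj, hres⟩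
  refine ⟨(e.symm : ResidueField A →ₐ[k] k).comp (IsScalarTower.toAlgHom k A (ResidueField A)), ?_⟩
  intro c
  exact ⟨algebraMap k A c, by rw [AlgHom.commutes]; rfl⟩

theorem exists_res_of_finite [IsAlgClosed k] (B : Type u) [CommRing B] [IsLocalRing B] [Algebra k B]
    [Module.Finite k B] : ∃ res : B →ₐ[k] k, Function.Surjective res := by
  apply exists_res
  have : Module.Finite k (ResidueField B) :=
    Module.Finite.of_surjective (IsScalarTower.toAlgHom k B (ResidueField B)).toLinearMap
      IsLocalRing.residue_surjective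
  exact (IsAlgClosed.algebraMap_bijective_of_isIntegral (k := k)).2

section Main

variable (A : Type u) [CommRing A] [IsLocalRing A] [Algebra k A] [IsNoetherianRing A]
  (resA : A →ₐ[k] k) (hresA : Function.Surjective resA)

include hresA in
theorem lift_of_regular [IsAlgClosed k] [IsRegularLocalRing A]
    (B' : Type u) [CommRing B'] [IsLocalRing B'] [Algebra k B'] [Module.Finite k B']
    (J : Ideal B') (hJ : J ^ 2 = ⊥) (f : A →ₐ[k] B' ⧸ J) :
    ∃ g : A →ₐ[k] B', (Ideal.Quotient.mkₐ k J).comp g = f := by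
  obtain ⟨resB, hresB⟩ := exists_res_of_finite (k := k) B'
  have hart : IsArtinianRing B' := IsArtinianRing.of_finite k B'
  have hJle : J ≤ RingHom.ker (resB : B' →+* k) := by
    intro x hx
    rw [RingHom.mem_ker]
    have : (resB x) ^ 2 = 0 := by
      rw [← map_pow]
      have hx2 : x ^ 2 ∈ J ^ 2 := Ideal.pow_mem_pow hx 2
      rw [hJ, Ideal.mem_bot] at hx2
      change resB (x ^ 2) = 0
      rw [hx2, map_zero]
    exact pow_eq_zero_iff (two_ne_zero) |>.1 this
  have hJtop : J ≠ ⊤ := fun h => by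
    have : (1 : B') ∈ RingHom.ker (resB : B' →+* k) := hJle (h ▸ Submodule.mem_top)
    rw [RingHom.mem_ker, map_one] at this
    exact one_ne_zero this
  have : Nontrivial (B' ⧸ J) := Ideal.Quotient.nontrivial_iff.2 hJtop
  have : IsLocalRing (B' ⧸ J) :=
    IsLocalRing.of_surjective' (Ideal.Quotient.mk J) Ideal.Quotient.mk_surjective
  have : IsArtinianRing (B' ⧸ J) :=
    (Ideal.Quotient.mk_surjective (I := J)).isArtinianRing
  let resC : (B' ⧸ J) →ₐ[k] k := Ideal.Quotient.liftₐ J resB (fun a ha => hJle ha)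
  have hresC : Function.Surjective resC := fun c => by
    obtain ⟨b, hb⟩ := hresB c
    exact ⟨Ideal.Quotient.mk J b, hb⟩
  let C' : Art k k := Art.of B' resB hresB
  let C : Art k k := Art.of (B' ⧸ J) resC hresC
  let q : B' →ₐ[k] B' ⧸ J := Ideal.Quotient.mkₐ k J
  let p : C' ⟶ C := Art.homMk (A := C') (B := C) q (AlgHom.ext fun _ => rfl)
  have hp : Function.Surjective p := fun y => by
    obtain ⟨b, hb⟩ := Ideal.Quotient.mk_surjective (I := J) y
    exact ⟨b, hb⟩
  have hsm := Groth.Agent.H15.RegSmooth.smooth_of_regular resA hresA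
  obtain ⟨(ψ : HomSet A resA C'), hψ⟩ := hsm p hp
    (⟨f, algHom_unique _ _⟩ : HomSet A resA C)
  refine ⟨ψ.1, ?_⟩
  exact congrArg Subtype.val hψ

include resA in
theorem regular_of_lift [Algebra.EssFiniteType k A]
    (h : ∀ (B' : Type u) [CommRing B'] [IsLocalRing B'] [Algebra k B'] [Module.Finite k B']
        (J : Ideal B'), J ^ 2 = ⊥ → ∀ f : A →ₐ[k] B' ⧸ J,
          ∃ g : A →ₐ[k] B', (Ideal.Quotient.mkₐ k J).comp g = f) :
    IsRegularLocalRing A := by
  have hlift : ∀ {C' C : Art k k} (p : C' ⟶ C) (_ : IsSemismallExt p) (u : HomSet A resA C),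
      ∃ u' : HomSet A resA C', HomSet.map p u' = u := by
    intro C' C p hp u
    have hfin : Module.Finite k C' := Groth.Agent.H15.ArtInd.finite_Λ C'
    have hJ : RingHom.ker p.toAlgHom ^ 2 = ⊥ := by
      rw [pow_two, eq_bot_iff, ← hp.2]
      exact Ideal.mul_mono_left (Groth.Agent.H15.ArtEps.ker_le_maximalIdeal p)
    let e := Ideal.quotientKerAlgEquivOfSurjective (f := p.toAlgHom) hp.1
    obtain ⟨g, hg⟩ := h C' (RingHom.ker p.toAlgHom) hJ ((e.symm : C →ₐ[k] _).comp u.1)
    refine ⟨⟨g, algHom_unique _ _⟩, ?_⟩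
    apply Subtype.ext
    apply AlgHom.ext
    intro a
    have h1 := DFunLike.congr_fun hg a
    change Ideal.Quotient.mk _ (g a) = e.symm (u.1 a) at h1
    change p.toAlgHom (g a) = u.1 a
    have h2 : e (Ideal.Quotient.mk _ (g a)) = p.toAlgHom (g a) := rfl
    rw [← h2, h1, AlgEquiv.apply_symm_apply]
  let T : ObsTheory (hR A resA) PUnit.{u + 1} :=
    { obs := fun _ _ _ => 0
      obs_eq_zero_iff := fun p hp u => ⟨fun _ => hlift p hp u, fun _ => rfl⟩
      obs_quot := fun p hp K hK hKJ hq u => (map_zero _).symm }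
  exact (Groth.Agent.H15.RegPres.dim_bounds resA T).2.2.1 (Module.finrank_zero_of_subsingleton)

end Main

theorem main [IsAlgClosed k]
    (A : Type u) [CommRing A] [IsLocalRing A] [Algebra k A] [Algebra.EssFiniteType k A]
    (hres : Function.Surjective (algebraMap k (IsLocalRing.ResidueField A))) :
    IsRegularLocalRing A ↔
      ∀ (B' : Type u) [CommRing B'] [IsLocalRing B'] [Algebra k B'] [Module.Finite k B']
        (J : Ideal B'), J ^ 2 = ⊥ → ∀ f : A →ₐ[k] B' ⧸ J,
          ∃ g : A →ₐ[k] B', (Ideal.Quotient.mkₐ k J).comp g = f := by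
  have hnoeth : IsNoetherianRing A := Algebra.EssFiniteType.isNoetherianRing k A
  obtain ⟨resA, hresA⟩ := exists_res A hres
  constructor
  · intro hreg B' _ _ _ _ J hJ f
    exact lift_of_regular A resA hresA B' J hJ f
  · intro h
    exact regular_of_lift A resA h

end Groth.Agent.H15.RegLift
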