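import Mathlib
import Groth.Agent.H15.ExalSmall
import Groth.Agent.H15.ArtPoly
import Groth.Agent.H15.ArtInd
import Groth.Agent.H15.RegLift
import Groth.Agent.H15.FrobKer

universe u

open IsLocalRing MvPolynomial

namespace Groth.Agent.H15.ExalArt

open Groth.Agent.H15.ExalSmall ArtFun

section Taylor

variable {k : Type u} [Field k] {d : ℕ}

/-- First-order Taylor expansion of a polynomial at the origin. -/
lemma taylor_one (𝔫 : Ideal (MvPolynomial (Fin d) k)) (hX : ∀ j, (X j : MvPolynomial (Fin d) k) ∈ 𝔫)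
    (f : MvPolynomial (Fin d) k) :
    ∃ (c₀ : k) (c : Fin d → k), f - C c₀ - ∑ j, C (c j) * X j ∈ 𝔫 ^ 2 := by
  classical
  induction f using MvPolynomial.induction_on with
  | C a =>
    refine ⟨a, 0, ?_⟩
    simp
  | add f g hf hg =>
    obtain ⟨a₀, a, ha⟩ := hf
    obtain ⟨b₀, b, hb⟩ := hg
    refine ⟨a₀ + b₀, a + b, ?_⟩
    have h1 : f + g - C (a₀ + b₀) - ∑ j, C ((a + b) j) * X j =
        (f - C a₀ - ∑ j, C (a j) * X j) + (g - C b₀ - ∑ j, C (b j) * X j) := by
      simp only [Pi.add_apply, map_add, add_mul, Finset.sum_add_distrib]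
      ring
    rw [h1]
    exact Ideal.add_mem _ ha hb
  | mul_X f i hf =>
    obtain ⟨a₀, a, ha⟩ := hf
    refine ⟨0, Pi.single i a₀, ?_⟩
    have h1 : f * X i - C 0 - ∑ j, C ((Pi.single i a₀ : Fin d → k) j) * X j =
        (f - C a₀ - ∑ j, C (a j) * X j) * X i + (∑ j, C (a j) * X j) * X i := by
      have h2 : ∑ j, C ((Pi.single i a₀ : Fin d → k) j) * (X j : MvPolynomial (Fin d) k) =
          C a₀ * X i := by
        rw [Finset.sum_eq_single i]
        · rw [Pi.single_eq_same]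
        · intro j _ hj
          rw [Pi.single_eq_of_ne hj, map_zero, zero_mul]
        · intro h
          exact absurd (Finset.mem_univ i) h
      rw [h2, map_zero]
      ring
    rw [h1]
    refine Ideal.add_mem _ (Ideal.mul_mem_right _ _ ha) ?_
    rw [Finset.sum_mul]
    refine Ideal.sum_mem _ fun j _ => ?_
    rw [mul_assoc, pow_two]
    exact Ideal.mul_mem_left _ _ (Ideal.mul_mem_mul (hX j) (hX i))

end Taylor

section Phi

variable {k : Type u} [Field k] {P A : Type u} [CommRing P] [CommRing A] [Algebra k P] [Algebra k A]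

lemma exists_phi (u : P →ₐ[k] A) (hu : Function.Surjective u) (J' : Ideal P) (j₀ : P)
    (hsup : J' ⊔ Ideal.span {j₀} = RingHom.ker (u : P →+* A)) :
    ∃ φ : A →ₐ[k] (P ⧸ J') ⧸ Ideal.span {Ideal.Quotient.mk J' j₀},
      ∀ p, φ (u p) = Ideal.Quotient.mk _ (Ideal.Quotient.mk J' p) := by
  let g : P →ₐ[k] (P ⧸ J') ⧸ Ideal.span {Ideal.Quotient.mk J' j₀} :=
    (Ideal.Quotient.mkₐ k (Ideal.span {Ideal.Quotient.mk J' j₀})).comp (Ideal.Quotient.mkₐ k J')
  have hg : RingHom.ker u.toRingHom ≤ RingHom.ker g.toRingHom := by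
    have h0 : RingHom.ker u.toRingHom = J' ⊔ Ideal.span {j₀} := hsup.symm
    rw [h0]
    refine sup_le ?_ ?_
    · intro p hp
      rw [RingHom.mem_ker]
      change Ideal.Quotient.mk (Ideal.span {Ideal.Quotient.mk J' j₀}) (Ideal.Quotient.mk J' p) = 0
      rw [Ideal.Quotient.eq_zero_iff_mem.2 hp, map_zero]
    · rw [Ideal.span_le]
      intro p hp
      rw [Set.mem_singleton_iff] at hp
      rw [hp, SetLike.mem_coe, RingHom.mem_ker]
      change Ideal.Quotient.mk (Ideal.span {Ideal.Quotient.mk J' j₀}) (Ideal.Quotient.mk J' j₀) = 0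
      rw [Ideal.Quotient.eq_zero_iff_mem]
      exact Ideal.subset_span rfl
  exact ⟨AlgHom.liftOfSurjective u hu g hg, fun p => AlgHom.liftOfSurjective_apply _ _ _ _ p⟩

end Phi

section Main

variable {k : Type u} [Field k] {A : Type u} [CommRing A] [Algebra k A] [IsLocalRing A]
  [IsArtinianRing A]

theorem exists_nontrivial
    (hres : ∀ a : A, ∃ c : k, a - algebraMap k A c ∈ maximalIdeal A)
    (hA : maximalIdeal A ≠ ⊥) :
    ∃ X : Exal.Ext k A (ResidueField A), ¬ X.IsTrivial := by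
  classical
  -- the augmentation
  have hsurjκ : Function.Surjective (algebraMap k (ResidueField A)) := by
    intro z
    obtain ⟨a, rfl⟩ := residue_surjective z
    obtain ⟨c, hc⟩ := hres a
    refine ⟨c, ?_⟩
    rw [IsScalarTower.algebraMap_apply k A (ResidueField A)]
    change residue A _ = residue A a
    symm
    rw [← sub_eq_zero, ← map_sub, residue_eq_zero_iff]
    exact hc
  obtain ⟨ε, hε⟩ := RegLift.exists_res A hsurjκ
  have hker : RingHom.ker ε.toRingHom = maximalIdeal A :=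
    IsLocalRing.eq_maximalIdeal (RingHom.ker_isMaximal_of_surjective ε.toRingHom hε)
  have hmemA : ∀ a : A, a ∈ maximalIdeal A ↔ ε a = 0 := fun a => by
    rw [← hker]
    rfl
  have hfin : Module.Finite k A := ArtInd.finite_Λ (Art.of A ε hε)
  set 𝔪 := maximalIdeal A with h𝔪
  have hfinI : Module.Finite k 𝔪 :=
    Module.Finite.of_injective (𝔪.subtype.restrictScalars k) Subtype.val_injective
  have hfinC : Module.Finite k 𝔪.Cotangent :=
    Module.Finite.of_surjective (𝔪.toCotangent.restrictScalars k) 𝔪.toCotangent_surjective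
  let d := Module.finrank k 𝔪.Cotangent
  let b : Module.Basis (Fin d) k 𝔪.Cotangent := Module.finBasis k _
  choose x' hx' using fun j => 𝔪.toCotangent_surjective (b j)
  let y : Fin d → A := fun j => (x' j : A)
  have hyI : ∀ j, y j ∈ 𝔪 := fun j => (x' j).2
  have hspan : ∀ a ∈ 𝔪, ∃ c : Fin d → k, a - ∑ j, c j • y j ∈ 𝔪 ^ 2 := by
    intro a ha
    refine ⟨fun j => b.repr (𝔪.toCotangent ⟨a, ha⟩) j, ?_⟩
    have h1 : 𝔪.toCotangent ⟨a, ha⟩ =
        𝔪.toCotangent (∑ j, b.repr (𝔪.toCotangent ⟨a, ha⟩) j • x' j) := by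
      conv_lhs => rw [← b.sum_repr (𝔪.toCotangent ⟨a, ha⟩)]
      rw [map_sum]
      refine Finset.sum_congr rfl fun j _ => ?_
      rw [← hx']
      exact ((𝔪.toCotangent.restrictScalars k).map_smul _ _).symm
    rw [Ideal.toCotangent_eq] at h1
    simpa only [Submodule.coe_sum, Submodule.coe_smul_of_tower] using h1
  have hindep : ∀ c : Fin d → k, ∑ j, c j • y j ∈ 𝔪 ^ 2 → c = 0 := by
    intro c hc
    have h1 : 𝔪.toCotangent (∑ j, c j • x' j) = 0 := by
      rw [Ideal.toCotangent_eq_zero]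
      simpa only [Submodule.coe_sum, Submodule.coe_smul_of_tower] using hc
    rw [map_sum] at h1
    have h2 : ∑ j, c j • b j = 0 := by
      rw [← h1]
      refine Finset.sum_congr rfl fun j _ => ?_
      rw [← hx']
      exact ((𝔪.toCotangent.restrictScalars k).map_smul _ _).symm
    exact funext fun j => Fintype.linearIndependent_iff.1 b.linearIndependent c h2 j
  obtain ⟨N, hN⟩ : ∃ N : ℕ, 𝔪 ^ N = ⊥ := by
    obtain ⟨N, hN⟩ := IsArtinianRing.isNilpotent_jacobson_bot (R := A)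
    rw [IsLocalRing.jacobson_eq_maximalIdeal ⊥ bot_ne_top] at hN
    exact ⟨N, hN⟩
  -- the presentation
  let u : MvPolynomial (Fin d) k →ₐ[k] A := aeval y
  have hu : Function.Surjective u := by
    refine FrobKer.aeval_surjective ε y ?_ ?_ N ?_
    · intro j
      rw [hker]
      exact hyI j
    · intro a ha
      rw [hker] at ha ⊢
      exact hspan a ha
    · rw [hker]
      exact hN
  let resP : MvPolynomial (Fin d) k →ₐ[k] k := ε.comp u
  have hresP : Function.Surjective resP := hε.comp hu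
  set 𝔫 : Ideal (MvPolynomial (Fin d) k) :=
    RingHom.ker (resP : MvPolynomial (Fin d) k →+* k) with h𝔫
  have hmemn : ∀ p, p ∈ 𝔫 ↔ ε (u p) = 0 := fun p => Iff.rfl
  have hXn : ∀ j, (X j : MvPolynomial (Fin d) k) ∈ 𝔫 := by
    intro j
    rw [hmemn]
    change ε (aeval y (X j)) = 0
    rw [aeval_X, ← hmemA]
    exact hyI j
  have hun : ∀ p ∈ 𝔫, u p ∈ 𝔪 := fun p hp => (hmemA _).2 hp
  have hunpow : ∀ (m : ℕ), ∀ p ∈ 𝔫 ^ m, u p ∈ 𝔪 ^ m := by
    intro m p hp
    have h1 : (u : MvPolynomial (Fin d) k →+* A) p ∈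
        (𝔫 ^ m).map (u : MvPolynomial (Fin d) k →+* A) := Ideal.mem_map_of_mem _ hp
    rw [Ideal.map_pow] at h1
    exact Ideal.pow_right_mono (Ideal.map_le_iff_le_comap.2 fun x hx => Ideal.mem_comap.2 (hun x hx)) m h1
  set J : Ideal (MvPolynomial (Fin d) k) :=
    RingHom.ker (u : MvPolynomial (Fin d) k →+* A) with hJ
  have hJmem : ∀ p, p ∈ J ↔ u p = 0 := fun p => Iff.rfl
  have hJn : J ≤ 𝔫 := by
    intro p hp
    rw [hmemn, (hJmem p).1 hp, map_zero]
  have hnJ : 𝔫 ^ N ≤ J := by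
    intro p hp
    have h1 := hunpow N p hp
    rw [hN] at h1
    exact h1
  have hJn2 : J ≤ 𝔫 ^ 2 := by
    intro f hf
    obtain ⟨c₀, c, hc⟩ := taylor_one 𝔫 hXn f
    have hf0 : u f = 0 := hf
    have h1 : resP (f - C c₀ - ∑ j, C (c j) * X j) = 0 :=
      Ideal.pow_le_self two_ne_zero hc
    have h3 : resP (C c₀) = c₀ := by
      change resP (algebraMap k _ c₀) = c₀
      rw [AlgHom.commutes]
      rfl
    have h4 : resP (∑ j, C (c j) * X j) = 0 := by
      rw [map_sum]
      refine Finset.sum_eq_zero fun j _ => ?_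
      rw [map_mul, show resP (X j) = 0 from hXn j, mul_zero]
    have h2 : resP f = 0 := hJn hf
    rw [map_sub, map_sub, h2, h3, h4, sub_zero, zero_sub, neg_eq_zero] at h1
    have h5 := hunpow 2 _ hc
    rw [map_sub, map_sub, hf0, h1, map_zero, map_zero, sub_zero, zero_sub, map_sum] at h5
    have h6 : ∑ j, c j • y j ∈ 𝔪 ^ 2 := by
      have h7 : ∑ j, u (C (c j) * X j) = ∑ j, c j • y j :=
        Finset.sum_congr rfl fun j _ => by
          change aeval y (C (c j) * X j) = _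
          rw [map_mul, aeval_C, aeval_X, Algebra.smul_def]
      rw [h7] at h5
      exact (Ideal.neg_mem_iff _).1 h5
    have hc' := hindep c h6
    rw [h1, hc'] at hc
    simpa using hc
  have hJne : 𝔫 * J ≠ J := by
    intro heq
    have hfg : (J : Submodule (MvPolynomial (Fin d) k) (MvPolynomial (Fin d) k)).FG :=
      IsNoetherian.noetherian J
    obtain ⟨a, ha, haJ⟩ := Submodule.exists_mem_and_smul_eq_self_of_fg_of_le_smul 𝔫 J hfg
      (by rw [smul_eq_mul, heq])
    have ha1 : a ≠ 1 := by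
      rintro rfl
      have h1 : resP 1 = 0 := ha
      rw [map_one] at h1
      exact one_ne_zero h1
    have hJbot : J = ⊥ := by
      rw [eq_bot_iff]
      intro j hj
      have h1 := haJ j hj
      rw [smul_eq_mul] at h1
      have h2 : (a - 1) * j = 0 := by rw [sub_mul, h1, one_mul, sub_self]
      rcases mul_eq_zero.1 h2 with h | h
      · exact absurd (sub_eq_zero.1 h) ha1
      · exact h
    obtain ⟨a₀, ha₀, ha₀ne⟩ := Submodule.exists_mem_ne_zero_of_ne_bot hA
    obtain ⟨p, rfl⟩ := hu a₀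
    have hp : p ∈ 𝔫 := (hmemA _).1 ha₀
    have h3 : p ^ N ∈ J := hnJ (Ideal.pow_mem_pow hp N)
    rw [hJbot, Ideal.mem_bot] at h3
    have h4 : p = 0 := eq_zero_of_pow_eq_zero h3
    exact ha₀ne (by rw [h4, map_zero])
  -- a maximal ideal between `𝔫 J` and `J`
  obtain ⟨J', ⟨hJ'1, hJ'2⟩, hJ'max⟩ := set_has_maximal_iff_noetherian.2
    (inferInstance : IsNoetherian (MvPolynomial (Fin d) k) (MvPolynomial (Fin d) k))
    {I : Ideal (MvPolynomial (Fin d) k) | 𝔫 * J ≤ I ∧ I < J}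
    ⟨𝔫 * J, le_rfl, lt_of_le_of_ne Ideal.mul_le_right hJne⟩
  obtain ⟨j₀, hj₀J, hj₀⟩ := SetLike.exists_of_lt hJ'2
  have hsup : J' ⊔ Ideal.span {j₀} = J := by
    by_contra hne
    have hle : J' ⊔ Ideal.span {j₀} ≤ J :=
      sup_le hJ'2.le ((Ideal.span_singleton_le_iff_mem _).2 hj₀J)
    have hmem : J' ⊔ Ideal.span {j₀} ∈
        {I : Ideal (MvPolynomial (Fin d) k) | 𝔫 * J ≤ I ∧ I < J} :=
      ⟨hJ'1.trans le_sup_left, lt_of_le_of_ne hle hne⟩
    refine hJ'max _ hmem (lt_of_le_of_ne le_sup_left ?_)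
    intro heq
    apply hj₀
    rw [heq]
    exact Ideal.mem_sup_right (Ideal.subset_span rfl)
  -- the small extension
  have hJ'n : J' ≤ ArtPoly.mP resP := hJ'2.le.trans hJn
  have hpow : ArtPoly.mP resP ^ (N + 1) ≤ J' := by
    rw [pow_succ']
    exact (Ideal.mul_mono_right hnJ).trans hJ'1
  have hlocB : IsLocalRing (MvPolynomial (Fin d) k ⧸ J') :=
    ArtPoly.isLocalRing_quot resP hresP J' hJ'n (N + 1) hpow
  have hartB : IsArtinianRing (MvPolynomial (Fin d) k ⧸ J') :=
    ArtPoly.isArtinianRing_quot resP hresP J' hJ'n (N + 1) hpow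
  let resB : (MvPolynomial (Fin d) k ⧸ J') →ₐ[k] k := ArtPoly.resQ resP J' hJ'n
  have hresB : Function.Surjective resB := fun c => by
    obtain ⟨p, hp⟩ := hresP c
    exact ⟨Ideal.Quotient.mk J' p, hp⟩
  have hmemB : ∀ b : MvPolynomial (Fin d) k ⧸ J',
      b ∈ maximalIdeal (MvPolynomial (Fin d) k ⧸ J') ↔ resB b = 0 := by
    intro b
    rw [← IsLocalRing.eq_maximalIdeal (RingHom.ker_isMaximal_of_surjective resB.toRingHom hresB)]
    rfl
  have hB : ∀ b : MvPolynomial (Fin d) k ⧸ J', ∃ c : k,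
      b - algebraMap k (MvPolynomial (Fin d) k ⧸ J') (algebraMap k k c) ∈
        maximalIdeal (MvPolynomial (Fin d) k ⧸ J') := by
    intro b
    refine ⟨resB b, ?_⟩
    rw [hmemB, map_sub, AlgHom.commutes]
    simp
  have hR : ∀ r : A, ∃ c : k, r - algebraMap k A (algebraMap k k c) ∈ maximalIdeal A := hres
  let t : MvPolynomial (Fin d) k ⧸ J' := Ideal.Quotient.mk J' j₀
  have ht0 : t ≠ 0 := fun h => hj₀ (Ideal.Quotient.eq_zero_iff_mem.1 h)
  have ht : t ∈ maximalIdeal (MvPolynomial (Fin d) k ⧸ J') := by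
    rw [hmemB]
    exact hJn hj₀J
  have htm : ∀ b ∈ maximalIdeal (MvPolynomial (Fin d) k ⧸ J'), b * t = 0 := by
    intro b hb
    obtain ⟨p, rfl⟩ := Ideal.Quotient.mk_surjective b
    rw [hmemB] at hb
    have hp : p ∈ 𝔫 := hb
    change Ideal.Quotient.mk J' p * Ideal.Quotient.mk J' j₀ = 0
    rw [← map_mul, Ideal.Quotient.eq_zero_iff_mem]
    exact hJ'1 (Ideal.mul_mem_mul hp hj₀J)
  obtain ⟨φ, hφ⟩ := exists_phi u hu J' j₀ hsup
  refine ⟨pullExt hR hB t ht htm φ ht0, fun htriv => ?_⟩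
  obtain ⟨φ', hφ'⟩ := lift_of_isTrivial hR hB t ht htm φ ht0 htriv
  -- compare `φ' ∘ u` with the quotient map
  let ψ : MvPolynomial (Fin d) k →ₐ[k] (MvPolynomial (Fin d) k ⧸ J') := φ'.comp u
  let π : MvPolynomial (Fin d) k →ₐ[k] (MvPolynomial (Fin d) k ⧸ J') := Ideal.Quotient.mkₐ k J'
  have hdiff : ∀ p, ψ p - π p ∈ Ideal.span {t} := by
    intro p
    rw [← Ideal.Quotient.eq]
    have h1 := DFunLike.congr_fun hφ' (u p)
    rw [hφ] at h1
    exact h1
  have hspan_le : Ideal.span {t} ≤ maximalIdeal (MvPolynomial (Fin d) k ⧸ J') := by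
    rw [Ideal.span_le]
    intro x hx
    rw [Set.mem_singleton_iff] at hx
    rw [hx]
    exact ht
  have hkill : ∀ z ∈ Ideal.span {t}, ∀ w ∈ maximalIdeal (MvPolynomial (Fin d) k ⧸ J'),
      w * z = 0 := by
    intro z hz w hw
    obtain ⟨q, rfl⟩ := Ideal.mem_span_singleton'.1 hz
    rw [mul_left_comm, htm w hw, mul_zero]
  have hπn : ∀ p ∈ 𝔫, π p ∈ maximalIdeal (MvPolynomial (Fin d) k ⧸ J') := by
    intro p hp
    rw [hmemB]
    exact hp
  have hψn : ∀ p ∈ 𝔫, ψ p ∈ maximalIdeal (MvPolynomial (Fin d) k ⧸ J') := by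
    intro p hp
    have h1 : ψ p = π p + (ψ p - π p) := by ring
    rw [h1]
    exact Ideal.add_mem _ (hπn p hp) (hspan_le (hdiff p))
  have hsq : ∀ p ∈ 𝔫 ^ 2, ψ p = π p := by
    intro p hp
    rw [pow_two] at hp
    refine Submodule.mul_induction_on hp ?_ ?_
    · intro a ha b hb
      have h1 : ψ (a * b) - π (a * b) = ψ b * (ψ a - π a) + π a * (ψ b - π b) := by
        rw [map_mul, map_mul]
        ring
      rw [← sub_eq_zero, h1, hkill _ (hdiff a) _ (hψn b hb), hkill _ (hdiff b) _ (hπn a ha),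
        add_zero]
    · intro a b ha hb
      rw [map_add, map_add, ha, hb]
  have h1 : ψ j₀ = π j₀ := hsq j₀ (hJn2 hj₀J)
  have h2 : ψ j₀ = 0 := by
    change φ' (u j₀) = 0
    rw [(hJmem j₀).1 hj₀J, map_zero]
  rw [h2] at h1
  exact ht0 h1.symm

end Main

end Groth.Agent.H15.ExalArt
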