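import Mathlib
import Groth.Agent.H15.HopfGr
import Groth.Agent.H15.ExalArt
import Groth.Agent.H15.RegApprox
import Groth.Agent.H15.RegLift
import Groth.Agent.H15.ArtPoly

universe u

open scoped Polynomial
open IsLocalRing

namespace Groth.Agent.H15.CurvJet

section Trunc

open Polynomial

variable (k : Type u) [Field k]

/-- The truncated polynomial ring `k[X]/(X^l)`. -/
abbrev T (l : ℕ) : Type u := k[X] ⧸ Ideal.span {(X : k[X]) ^ l}

/-- The class of `X`. -/
noncomputable def tb (l : ℕ) : T k l := Ideal.Quotient.mk _ X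

/-- The transition map. -/
noncomputable abbrev fac (l : ℕ) : T k (l + 1) →ₐ[k] T k l :=
  Ideal.Quotient.factorₐ k
    (Ideal.span_singleton_le_span_singleton.mpr (pow_dvd_pow (X : k[X]) (Nat.le_succ l)))

variable {k}

lemma fac_mk (l : ℕ) (p : k[X]) :
    fac k l (Ideal.Quotient.mk _ p) = Ideal.Quotient.mk _ p := rfl

lemma fac_tb (l : ℕ) : fac k l (tb k (l + 1)) = tb k l := rfl

lemma fac_surjective (l : ℕ) : Function.Surjective (fac k l) :=
  Ideal.Quotient.factor_surjective
    (Ideal.span_singleton_le_span_singleton.mpr (pow_dvd_pow (X : k[X]) (Nat.le_succ l)))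

lemma smul_eq (l : ℕ) (c : k) (z : T k l) : c • z = Ideal.Quotient.mk _ (C c) * z :=
  Algebra.smul_def c z

lemma tb_pow (l : ℕ) : tb k l ^ l = 0 := by
  unfold tb
  rw [← map_pow, Ideal.Quotient.eq_zero_iff_mem]
  exact Ideal.subset_span rfl

lemma span_tb_pow (l : ℕ) : Ideal.span {tb k l} ^ l = ⊥ := by
  rw [Ideal.span_singleton_pow, tb_pow, Ideal.span_singleton_eq_bot]

/-- The augmentation of the truncated polynomial ring. -/
noncomputable def aug (l : ℕ) (hl : l ≠ 0) : T k l →ₐ[k] k :=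
  Ideal.Quotient.liftₐ _ (aeval (0 : k)) (fun p hp => by
    obtain ⟨q, rfl⟩ := Ideal.mem_span_singleton.1 hp
    rw [map_mul, map_pow, aeval_X, zero_pow hl, zero_mul])

lemma aug_mk (l : ℕ) (hl : l ≠ 0) (p : k[X]) :
    aug l hl (Ideal.Quotient.mk _ p) = p.coeff 0 := by
  change aeval (0 : k) p = _
  rw [coeff_zero_eq_aeval_zero]

lemma mem_span_tb_iff (l : ℕ) (hl : l ≠ 0) (z : T k l) :
    z ∈ Ideal.span {tb k l} ↔ aug l hl z = 0 := by
  obtain ⟨p, rfl⟩ := Ideal.Quotient.mk_surjective z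
  rw [aug_mk]
  constructor
  · intro h
    obtain ⟨w, hw⟩ := Ideal.mem_span_singleton'.1 h
    obtain ⟨q, rfl⟩ := Ideal.Quotient.mk_surjective w
    unfold tb at hw
    rw [← map_mul, Ideal.Quotient.eq, Ideal.mem_span_singleton] at hw
    obtain ⟨r, hr⟩ := hw
    have h1 : p = q * X - X ^ l * r := by rw [← hr]; ring
    rw [h1, coeff_sub, mul_coeff_zero, coeff_X_zero, mul_zero, mul_coeff_zero, coeff_X_pow,
      if_neg (Ne.symm hl), zero_mul, sub_zero]
  · intro h
    obtain ⟨q, rfl⟩ := X_dvd_iff.2 h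
    rw [map_mul]
    exact Ideal.mul_mem_right _ _ (Ideal.subset_span rfl)

lemma mem_span_tb_of_isNilpotent (l : ℕ) (hl : l ≠ 0) {z : T k l} (hz : IsNilpotent z) :
    z ∈ Ideal.span {tb k l} := by
  rw [mem_span_tb_iff l hl]
  exact (hz.map (aug l hl)).eq_zero

lemma isNilpotent_of_mem_span_tb (l : ℕ) {z : T k l} (hz : z ∈ Ideal.span {tb k l}) :
    IsNilpotent z := by
  refine ⟨l, ?_⟩
  have h1 : z ^ l ∈ Ideal.span {tb k l} ^ l := Ideal.pow_mem_pow hz l
  rw [span_tb_pow] at h1
  exact h1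

/-- The kernel of the transition map consists of multiples of `t^l`. -/
lemma exists_smul_of_fac_eq_zero (l : ℕ) {z : T k (l + 1)} (hz : fac k l z = 0) :
    ∃ c : k, z = c • tb k (l + 1) ^ l := by
  obtain ⟨p, rfl⟩ := Ideal.Quotient.mk_surjective z
  rw [fac_mk, Ideal.Quotient.eq_zero_iff_mem, Ideal.mem_span_singleton] at hz
  obtain ⟨q, rfl⟩ := hz
  refine ⟨q.coeff 0, ?_⟩
  have h1 : X ^ l * q = C (q.coeff 0) * X ^ l + X ^ (l + 1) * divX q := by
    conv_lhs => rw [← X_mul_divX_add q]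
    ring
  have h2 : Ideal.Quotient.mk (Ideal.span {(X : k[X]) ^ (l + 1)}) (X ^ (l + 1) * divX q) = 0 :=
    Ideal.Quotient.eq_zero_iff_mem.2 (Ideal.mul_mem_right _ _ (Ideal.subset_span rfl))
  rw [h1, map_add, h2, add_zero, map_mul, map_pow, smul_eq]
  rfl

lemma smul_tb_pow_eq_zero (l : ℕ) {c : k} (h : c • tb k (l + 1) ^ l = 0) : c = 0 := by
  have h1 : (Ideal.Quotient.mk (Ideal.span {(X : k[X]) ^ (l + 1)})) (C c * X ^ l) = 0 := by
    rw [map_mul, map_pow, ← h, smul_eq]
    rfl
  rw [Ideal.Quotient.eq_zero_iff_mem, Ideal.mem_span_singleton, X_pow_dvd_iff] at h1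
  have h2 := h1 l (Nat.lt_succ_self l)
  rwa [coeff_C_mul, coeff_X_pow, if_pos rfl, mul_one] at h2

lemma ker_fac_sq (l : ℕ) (hl : 1 ≤ l) : RingHom.ker (fac k l).toRingHom ^ 2 = ⊥ := by
  rw [eq_bot_iff, pow_two, Ideal.mul_le]
  intro x hx y hy
  obtain ⟨c, rfl⟩ := exists_smul_of_fac_eq_zero l hx
  obtain ⟨c', rfl⟩ := exists_smul_of_fac_eq_zero l hy
  rw [Ideal.mem_bot, smul_mul_smul_comm, ← pow_add]
  have h1 : tb k (l + 1) ^ (l + l) = tb k (l + 1) ^ (l + 1) * tb k (l + 1) ^ (l - 1) := by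
    rw [← pow_add]
    congr 1
    omega
  rw [h1, tb_pow, zero_mul, smul_zero]

end Trunc

section Homog

open MvPolynomial

variable {k : Type u} [Field k] {d : ℕ}

/-- Scaling the variables of a form of degree `n`. -/
lemma aeval_mul_of_isHomogeneous {B : Type*} [CommRing B] [Algebra k B] (s : B) (w : Fin d → B)
    {n : ℕ} {F : MvPolynomial (Fin d) k} (hF : F.IsHomogeneous n) :
    aeval (fun j => s * w j) F = s ^ n * aeval w F := by
  rw [aeval_def, aeval_def, eval₂_eq', eval₂_eq', Finset.mul_sum]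
  refine Finset.sum_congr rfl fun e he => ?_
  have hdeg : ∑ i, e i = n := by
    rw [← Finsupp.degree_eq_sum, Finsupp.degree_eq_weight_one]
    exact hF (mem_support_iff.1 he)
  have h1 : ∏ i, (s * w i) ^ e i = s ^ n * ∏ i, w i ^ e i := by
    simp only [mul_pow, Finset.prod_mul_distrib, Finset.prod_pow_eq_pow_sum, hdeg]
  rw [h1]
  ring

lemma mem_vars_iff (p : MvPolynomial (Fin d) k) :
    p ∈ idealOfVars (Fin d) k ↔ constantCoeff p = 0 := by
  have h := mem_pow_idealOfVars_iff' (σ := Fin d) (R := k) 1 p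
  rw [pow_one] at h
  rw [h, constantCoeff_eq]
  constructor
  · intro h1
    exact h1 0 (by simp)
  · intro h1 x hx
    have hx0 : x = 0 := by
      rw [← Finsupp.degree_eq_zero_iff]
      omega
    rw [hx0]
    exact h1

lemma sub_homogeneousComponent_mem {n : ℕ} {f : MvPolynomial (Fin d) k}
    (hf : f ∈ idealOfVars (Fin d) k ^ n) :
    f - homogeneousComponent n f ∈ idealOfVars (Fin d) k ^ (n + 1) := by
  rw [mem_pow_idealOfVars_iff'] at hf ⊢
  intro x hx
  rw [coeff_sub, coeff_homogeneousComponent]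
  by_cases hxn : x.degree = n
  · rw [if_pos hxn, sub_self]
  · rw [if_neg hxn, sub_zero]
    exact hf x (by omega)

end Homog

section Key

open MvPolynomial

variable {k : Type u} [Field k] {A : Type u} [CommRing A] [Algebra k A]
  (ε : A →ₐ[k] k) {d : ℕ} (y : Fin d → A)
  (hy : ∀ j, y j ∈ RingHom.ker ε.toRingHom)

include hy in
lemma eps_aeval (p : MvPolynomial (Fin d) k) : ε (aeval y p) = constantCoeff p := by
  have h2 : ε.comp (aeval y) = (aeval (fun _ => (0 : k)) : MvPolynomial (Fin d) k →ₐ[k] k) := by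
    apply MvPolynomial.algHom_ext
    intro j
    rw [AlgHom.comp_apply, aeval_X, aeval_X]
    exact hy j
  have h3 : ε (aeval y p) = (ε.comp (aeval y)) p := rfl
  rw [h3, h2, aeval_zero', Algebra.algebraMap_self_apply]

include hy in
lemma aeval_mem_pow {n : ℕ} {p : MvPolynomial (Fin d) k} (hp : p ∈ idealOfVars (Fin d) k ^ n) :
    aeval y p ∈ RingHom.ker ε.toRingHom ^ n := by
  have h1 : (aeval y : MvPolynomial (Fin d) k →ₐ[k] A).toRingHom p ∈
      (idealOfVars (Fin d) k ^ n).map (aeval y : MvPolynomial (Fin d) k →ₐ[k] A).toRingHom :=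
    Ideal.mem_map_of_mem _ hp
  rw [Ideal.map_pow] at h1
  refine Ideal.pow_right_mono ?_ n h1
  rw [Ideal.map_span, Ideal.span_le]
  rintro _ ⟨_, ⟨j, rfl⟩, rfl⟩
  change aeval y (X j) ∈ _
  rw [aeval_X]
  exact hy j

include hy in
lemma surj_mod
    (hspan : ∀ a ∈ RingHom.ker ε.toRingHom, ∃ c : Fin d → k,
      a - ∑ j, c j • y j ∈ RingHom.ker ε.toRingHom ^ 2) :
    ∀ (n : ℕ) (a : A), ∃ p : MvPolynomial (Fin d) k,
      a - aeval y p ∈ RingHom.ker ε.toRingHom ^ n := by
  have h0 : ∀ a : A, ∃ c : k, a - algebraMap k A c ∈ RingHom.ker ε.toRingHom := by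
    intro a
    refine ⟨ε a, ?_⟩
    rw [RingHom.mem_ker]
    change ε (a - algebraMap k A (ε a)) = 0
    rw [map_sub, AlgHom.commutes, Algebra.algebraMap_self_apply, sub_self]
  intro n
  induction n with
  | zero =>
    intro a
    exact ⟨0, by rw [pow_zero, Ideal.one_eq_top]; trivial⟩
  | succ n ih =>
    intro a
    obtain ⟨p, hp⟩ := ih a
    obtain ⟨F, _, hF⟩ := HopfGr.exists_homog (RingHom.ker ε.toRingHom) y hy h0 hspan n _ hp
    refine ⟨p + F, ?_⟩
    have h1 : a - aeval y (p + F) = a - aeval y p - aeval y F := by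
      rw [map_add]; ring
    rw [h1]
    exact hF

include hy in
/-- The key step: a form of degree `n ≥ 2` in the generators lying in `I ^ (n + 1)` vanishes,
given that jets of order `n` along curves lift. -/
theorem key [Infinite k]
    (hspan : ∀ a ∈ RingHom.ker ε.toRingHom, ∃ c : Fin d → k,
      a - ∑ j, c j • y j ∈ RingHom.ker ε.toRingHom ^ 2)
    (n : ℕ) (hn : 2 ≤ n)
    (hlift : ∀ (φ : A →ₐ[k] T k n), (∀ a ∈ RingHom.ker ε.toRingHom, IsNilpotent (φ a)) →
      ∃ ψ : A →ₐ[k] T k (n + 1), (fac k n).comp ψ = φ)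
    (hC : ∀ f : MvPolynomial (Fin d) k, aeval y f ∈ RingHom.ker ε.toRingHom ^ n →
      f ∈ idealOfVars (Fin d) k ^ n)
    (F : MvPolynomial (Fin d) k) (hF : F.IsHomogeneous n)
    (hFI : aeval y F ∈ RingHom.ker ε.toRingHom ^ (n + 1)) : F = 0 := by
  classical
  set I := RingHom.ker ε.toRingHom with hI
  have hn0 : n ≠ 0 := by omega
  refine hF.eq_zero_of_forall_eval_eq_zero fun a => ?_
  -- the arc
  let α : MvPolynomial (Fin d) k →ₐ[k] T k n := aeval (fun j => a j • tb k n)
  have hα : ∀ p ∈ idealOfVars (Fin d) k ^ n, α p = 0 := by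
    intro p hp
    have h1 : α.toRingHom p ∈ (idealOfVars (Fin d) k ^ n).map α.toRingHom :=
      Ideal.mem_map_of_mem _ hp
    rw [Ideal.map_pow] at h1
    have h2 : (idealOfVars (Fin d) k).map α.toRingHom ≤ Ideal.span {tb k n} := by
      rw [Ideal.map_span, Ideal.span_le]
      rintro _ ⟨_, ⟨j, rfl⟩, rfl⟩
      change aeval (fun j => a j • tb k n) (X j) ∈ _
      rw [aeval_X, smul_eq]
      exact Ideal.mul_mem_left _ _ (Ideal.subset_span rfl)
    have h3 := Ideal.pow_right_mono h2 n h1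
    rw [span_tb_pow] at h3
    exact h3
  let q : MvPolynomial (Fin d) k →ₐ[k] A ⧸ I ^ n :=
    (Ideal.Quotient.mkₐ k (I ^ n)).comp (aeval y)
  have hq : Function.Surjective q := by
    intro z
    obtain ⟨a', rfl⟩ := Ideal.Quotient.mk_surjective z
    obtain ⟨p, hp⟩ := surj_mod ε y hy hspan n a'
    exact ⟨p, (Ideal.Quotient.eq.2 hp).symm⟩
  have hker : RingHom.ker q.toRingHom ≤ RingHom.ker α.toRingHom := by
    intro p hp
    have h1 : Ideal.Quotient.mk (I ^ n) (aeval y p) = 0 := hp
    rw [Ideal.Quotient.eq_zero_iff_mem] at h1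
    exact hα p (hC p h1)
  let αbar : A ⧸ I ^ n →ₐ[k] T k n := AlgHom.liftOfSurjective q hq α hker
  have hαbar : ∀ p, αbar (q p) = α p := fun p => AlgHom.liftOfSurjective_apply _ _ _ _ p
  let φ : A →ₐ[k] T k n := αbar.comp (Ideal.Quotient.mkₐ k (I ^ n))
  have hφu : ∀ p, φ (aeval y p) = α p := fun p => hαbar p
  have hφnil : ∀ a' ∈ I, IsNilpotent (φ a') := by
    intro a' ha'
    refine ⟨n, ?_⟩
    rw [← map_pow]
    change αbar (Ideal.Quotient.mk (I ^ n) (a' ^ n)) = 0
    rw [Ideal.Quotient.eq_zero_iff_mem.2 (Ideal.pow_mem_pow ha' n), map_zero]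
  obtain ⟨ψ, hψ⟩ := hlift φ hφnil
  have hψφ : ∀ a', fac k n (ψ a') = φ a' := fun a' => DFunLike.congr_fun hψ a'
  let β : MvPolynomial (Fin d) k →ₐ[k] T k (n + 1) := ψ.comp (aeval y)
  have hβX : ∀ j, ∃ b : k, β (X j) = a j • tb k (n + 1) + b • tb k (n + 1) ^ n := by
    intro j
    have h1 : fac k n (β (X j) - a j • tb k (n + 1)) = 0 := by
      rw [map_sub, map_smul, fac_tb]
      change fac k n (ψ (aeval y (X j))) - _ = 0
      rw [hψφ, hφu]
      change aeval (fun j => a j • tb k n) (X j) - _ = 0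
      rw [aeval_X, sub_self]
    obtain ⟨b, hb⟩ := exists_smul_of_fac_eq_zero n h1
    exact ⟨b, by rw [← hb]; ring⟩
  choose b hb using hβX
  -- `ψ` kills `I ^ (n + 1)`
  have haugfac : ∀ z : T k (n + 1),
      aug n hn0 (fac k n z) = aug (n + 1) (Nat.succ_ne_zero n) z := by
    intro z
    obtain ⟨p, rfl⟩ := Ideal.Quotient.mk_surjective z
    rw [fac_mk, aug_mk, aug_mk]
  have hψI : ∀ a' ∈ I, ψ a' ∈ Ideal.span {tb k (n + 1)} := by
    intro a' ha'
    rw [mem_span_tb_iff (n + 1) (Nat.succ_ne_zero n), ← haugfac, hψφ,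
      ← mem_span_tb_iff n hn0]
    exact mem_span_tb_of_isNilpotent n hn0 (hφnil a' ha')
  have hψpow : ∀ a' ∈ I ^ (n + 1), ψ a' = 0 := by
    intro a' ha'
    have h1 : ψ.toRingHom a' ∈ (I ^ (n + 1)).map ψ.toRingHom := Ideal.mem_map_of_mem _ ha'
    rw [Ideal.map_pow] at h1
    have h2 : I.map ψ.toRingHom ≤ Ideal.span {tb k (n + 1)} := by
      rw [Ideal.map_le_iff_le_comap]
      intro x hx
      exact hψI x hx
    have h3 := Ideal.pow_right_mono h2 (n + 1) h1
    rw [span_tb_pow] at h3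
    exact h3
  have hβF : β F = 0 := hψpow _ hFI
  -- compute `β F`
  let w : Fin d → T k (n + 1) := fun j => a j • 1 + b j • tb k (n + 1) ^ (n - 1)
  have hβ : β = aeval (fun j => tb k (n + 1) * w j) := by
    apply MvPolynomial.algHom_ext
    intro j
    rw [aeval_X, hb j]
    have h1 : tb k (n + 1) ^ n = tb k (n + 1) * tb k (n + 1) ^ (n - 1) := by
      rw [← pow_succ']
      congr 1
      omega
    rw [h1]
    simp only [w, mul_add, mul_smul_comm, mul_one]
  rw [hβ, aeval_mul_of_isHomogeneous _ _ hF] at hβF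
  have haugw : aug (n + 1) (Nat.succ_ne_zero n) (aeval w F) = eval a F := by
    rw [comp_aeval_apply]
    have h1 : (fun i => aug (n + 1) (Nat.succ_ne_zero n) (w i)) = a := by
      funext i
      simp only [w]
      rw [map_add, map_smul, map_smul, map_one, map_pow]
      have h2 : aug (n + 1) (Nat.succ_ne_zero n) (tb k (n + 1)) = 0 := by
        rw [← mem_span_tb_iff]
        exact Ideal.subset_span rfl
      rw [h2, zero_pow (by omega), smul_zero, add_zero, smul_eq_mul, mul_one]
    rw [h1]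
    rfl
  have h4 : aeval w F - algebraMap k (T k (n + 1)) (eval a F) ∈ Ideal.span {tb k (n + 1)} := by
    rw [mem_span_tb_iff (n + 1) (Nat.succ_ne_zero n), map_sub, haugw, AlgHom.commutes,
      Algebra.algebraMap_self_apply, sub_self]
  obtain ⟨z, hz⟩ := Ideal.mem_span_singleton'.1 h4
  have h5 : tb k (n + 1) ^ n * aeval w F = eval a F • tb k (n + 1) ^ n := by
    have h6 : aeval w F = algebraMap k (T k (n + 1)) (eval a F) + z * tb k (n + 1) := by
      rw [hz]; ring
    have h8 : eval a F • tb k (n + 1) ^ n =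
        algebraMap k (T k (n + 1)) (eval a F) * tb k (n + 1) ^ n :=
      smul_eq (n + 1) (eval a F) (tb k (n + 1) ^ n)
    rw [h6, mul_add, h8]
    have h7 : tb k (n + 1) ^ n * (z * tb k (n + 1)) = z * tb k (n + 1) ^ (n + 1) := by ring
    rw [h7, tb_pow, mul_zero, add_zero, mul_comm]
  rw [h5] at hβF
  exact smul_tb_pow_eq_zero n hβF

include hy in
lemma mem_vars_of_aeval_mem (f : MvPolynomial (Fin d) k)
    (hf : aeval y f ∈ RingHom.ker ε.toRingHom) : f ∈ idealOfVars (Fin d) k := by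
  rw [mem_vars_iff, ← eps_aeval ε y hy]
  exact hf

include hy in
lemma mem_sq_of_aeval_mem
    (hindep : ∀ c : Fin d → k, ∑ j, c j • y j ∈ RingHom.ker ε.toRingHom ^ 2 → c = 0)
    (f : MvPolynomial (Fin d) k)
    (hf : aeval y f ∈ RingHom.ker ε.toRingHom ^ 2) : f ∈ idealOfVars (Fin d) k ^ 2 := by
  have hX : ∀ j, (X j : MvPolynomial (Fin d) k) ∈ idealOfVars (Fin d) k :=
    fun j => Ideal.subset_span ⟨j, rfl⟩
  obtain ⟨c₀, c, hc⟩ := ExalArt.taylor_one (idealOfVars (Fin d) k) hX f
  have h1 := aeval_mem_pow ε y hy hc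
  have h2 : ε (aeval y (f - C c₀ - ∑ j, C (c j) * X j)) = 0 :=
    Ideal.pow_le_self two_ne_zero h1
  have h3 : ε (aeval y f) = 0 := Ideal.pow_le_self two_ne_zero hf
  have h4 : ε (aeval y (∑ j, C (c j) * X j)) = 0 := by
    rw [eps_aeval ε y hy, map_sum]
    refine Finset.sum_eq_zero fun j _ => ?_
    rw [map_mul, constantCoeff_X, mul_zero]
  have hc0 : c₀ = 0 := by
    rw [map_sub, map_sub, map_sub, map_sub, h3, h4, aeval_C, AlgHom.commutes,
      Algebra.algebraMap_self_apply, sub_zero, zero_sub, neg_eq_zero] at h2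
    exact h2
  rw [map_sub, map_sub, hc0, map_zero, map_zero, sub_zero] at h1
  have h5 : aeval y (∑ j, C (c j) * X j) = ∑ j, c j • y j := by
    rw [map_sum]
    refine Finset.sum_congr rfl fun j _ => ?_
    rw [map_mul, aeval_C, aeval_X, Algebra.smul_def]
  have h6 : ∑ j, c j • y j ∈ RingHom.ker ε.toRingHom ^ 2 := by
    rw [← h5]
    have := Ideal.sub_mem _ hf h1
    rwa [sub_sub_cancel] at this
  have hc' := hindep c h6
  rw [hc0, hc'] at hc
  simpa using hc

include hy in
/-- If jets along curves lift, the generators satisfy no relations in the associated graded. -/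
theorem mem_pow_of_aeval_mem [Infinite k]
    (hspan : ∀ a ∈ RingHom.ker ε.toRingHom, ∃ c : Fin d → k,
      a - ∑ j, c j • y j ∈ RingHom.ker ε.toRingHom ^ 2)
    (hindep : ∀ c : Fin d → k, ∑ j, c j • y j ∈ RingHom.ker ε.toRingHom ^ 2 → c = 0)
    (hlift : ∀ (l : ℕ), 1 ≤ l → ∀ (φ : A →ₐ[k] T k l),
      (∀ a ∈ RingHom.ker ε.toRingHom, IsNilpotent (φ a)) →
      ∃ ψ : A →ₐ[k] T k (l + 1), (fac k l).comp ψ = φ) :
    ∀ (n : ℕ) (f : MvPolynomial (Fin d) k), aeval y f ∈ RingHom.ker ε.toRingHom ^ n →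
      f ∈ idealOfVars (Fin d) k ^ n := by
  intro n
  induction n with
  | zero =>
    intro f _
    rw [pow_zero, Ideal.one_eq_top]
    trivial
  | succ n ih =>
    intro f hf
    obtain _ | _ | m := n
    · rw [zero_add, pow_one] at hf ⊢
      exact mem_vars_of_aeval_mem ε y hy f hf
    · exact mem_sq_of_aeval_mem ε y hy hindep f hf
    · have hfn : f ∈ idealOfVars (Fin d) k ^ (m + 2) :=
        ih f (Ideal.pow_le_pow_right (Nat.le_succ (m + 2)) hf)
      have h1 := sub_homogeneousComponent_mem hfn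
      have h2 : aeval y (homogeneousComponent (m + 2) f) ∈
          RingHom.ker ε.toRingHom ^ (m + 2 + 1) := by
        have h3 := aeval_mem_pow ε y hy h1
        rw [map_sub] at h3
        have := Ideal.sub_mem _ hf h3
        rwa [sub_sub_cancel] at this
      have hF0 : homogeneousComponent (m + 2) f = 0 :=
        key ε y hy hspan (m + 2) (by omega) (hlift (m + 2) (by omega)) ih _
          (homogeneousComponent_isHomogeneous (m + 2) f) h2
      rw [hF0, sub_zero] at h1
      exact h1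

end Key

section Reg

open MvPolynomial

variable {k : Type u} [Field k] {A : Type u} [CommRing A] [Algebra k A]
  (ε : A →ₐ[k] k)

/-- An element outside the kernel of the augmentation is invertible modulo every power. -/
lemma exists_inv_mod (t : A) (ht : t ∉ RingHom.ker ε.toRingHom) (n : ℕ) :
    ∃ t' : A, t * t' - 1 ∈ RingHom.ker ε.toRingHom ^ n := by
  have hc : ε t ≠ 0 := ht
  let z : A := 1 - algebraMap k A (ε t)⁻¹ * t
  have hz : z ∈ RingHom.ker ε.toRingHom := by
    rw [RingHom.mem_ker]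
    change ε (1 - algebraMap k A (ε t)⁻¹ * t) = 0
    rw [map_sub, map_one, map_mul, AlgHom.commutes, Algebra.algebraMap_self_apply,
      inv_mul_cancel₀ hc, sub_self]
  refine ⟨algebraMap k A (ε t)⁻¹ * ∑ i ∈ Finset.range n, z ^ i, ?_⟩
  have h1 : t * (algebraMap k A (ε t)⁻¹ * ∑ i ∈ Finset.range n, z ^ i) - 1 = -z ^ n := by
    have h2 : algebraMap k A (ε t)⁻¹ * t = 1 - z := by simp only [z]; ring
    have h3 := mul_neg_geom_sum z n
    calc t * (algebraMap k A (ε t)⁻¹ * ∑ i ∈ Finset.range n, z ^ i) - 1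
        = (algebraMap k A (ε t)⁻¹ * t) * ∑ i ∈ Finset.range n, z ^ i - 1 := by ring
      _ = -z ^ n := by rw [h2, h3]; ring
  rw [h1]
  exact (Ideal.neg_mem_iff _).2 (Ideal.pow_mem_pow hz n)

lemma mem_pow_of_mul_mem (t : A) (ht : t ∉ RingHom.ker ε.toRingHom) (n : ℕ) (a : A)
    (h : t * a ∈ RingHom.ker ε.toRingHom ^ n) : a ∈ RingHom.ker ε.toRingHom ^ n := by
  obtain ⟨t', ht'⟩ := exists_inv_mod ε t ht n
  have h1 : a = t' * (t * a) - (t * t' - 1) * a := by ring
  rw [h1]
  exact Ideal.sub_mem _ (Ideal.mul_mem_left _ _ h) (Ideal.mul_mem_right _ _ ht')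

variable [IsNoetherianRing A] [hmax : (RingHom.ker ε.toRingHom).IsMaximal]
  {d : ℕ} (y : Fin d → A) (hy : ∀ j, y j ∈ RingHom.ker ε.toRingHom)

omit [IsNoetherianRing A] hmax in
include hy in
lemma vars_eq_comap : idealOfVars (Fin d) k =
    (RingHom.ker ε.toRingHom).comap (aeval y : MvPolynomial (Fin d) k →ₐ[k] A).toRingHom := by
  ext p
  rw [mem_vars_iff, Ideal.mem_comap, RingHom.mem_ker, ← eps_aeval ε y hy]
  rfl

include hy in
theorem regular_of_mem_pow
    (hspan : ∀ a ∈ RingHom.ker ε.toRingHom, ∃ c : Fin d → k,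
      a - ∑ j, c j • y j ∈ RingHom.ker ε.toRingHom ^ 2)
    (hC : ∀ (n : ℕ) (f : MvPolynomial (Fin d) k), aeval y f ∈ RingHom.ker ε.toRingHom ^ n →
      f ∈ idealOfVars (Fin d) k ^ n) :
    IsRegularLocalRing (Localization.AtPrime (RingHom.ker ε.toRingHom)) := by
  set m := RingHom.ker ε.toRingHom with hm
  have h𝔫 := vars_eq_comap ε y hy
  have hprime : (idealOfVars (Fin d) k).IsPrime := by
    rw [h𝔫]
    exact Ideal.comap_isPrime _ _
  let P𝔫 := Localization.AtPrime (idealOfVars (Fin d) k)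
  let Am := Localization.AtPrime m
  have hregP : IsRegularLocalRing P𝔫 :=
    IsRegularRing.isRegularLocalRing_localization (idealOfVars (Fin d) k)
  let φ : P𝔫 →+* Am := Localization.localRingHom (idealOfVars (Fin d) k) m
    (aeval y : MvPolynomial (Fin d) k →ₐ[k] A).toRingHom h𝔫
  have hmaxA : ∀ n : ℕ, maximalIdeal Am ^ n = (m ^ n).map (algebraMap A Am) := by
    intro n
    rw [Ideal.map_pow, Localization.AtPrime.map_eq_maximalIdeal]
  have hmaxP : ∀ n : ℕ, maximalIdeal P𝔫 ^ n =
      (idealOfVars (Fin d) k ^ n).map (algebraMap (MvPolynomial (Fin d) k) P𝔫) := by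
    intro n
    rw [Ideal.map_pow, Localization.AtPrime.map_eq_maximalIdeal]
  refine RegApprox.regular_of_regular φ ?_ ?_ ?_
  · intro a ha
    have := Localization.isLocalHom_localRingHom (idealOfVars (Fin d) k) m
      (aeval y : MvPolynomial (Fin d) k →ₐ[k] A).toRingHom h𝔫
    by_contra h
    have h1 : IsUnit (φ a) := by
      by_contra h2
      exact h ((mem_maximalIdeal _).2 h2)
    exact (mem_maximalIdeal a).1 ha (isUnit_of_map_unit φ a h1)
  · intro s n
    obtain ⟨x, t, rfl⟩ := IsLocalization.exists_mk'_eq m.primeCompl s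
    obtain ⟨t', ht'⟩ := exists_inv_mod ε (t : A) t.2 n
    obtain ⟨p, hp⟩ := surj_mod ε y hy hspan n (x * t')
    refine ⟨algebraMap _ P𝔫 p, ?_⟩
    rw [Localization.localRingHom_to_map, hmaxA]
    have hu : IsUnit (algebraMap A Am (t : A)) := IsLocalization.map_units Am t
    rw [← Ideal.mul_unit_mem_iff_mem _ hu, sub_mul, IsLocalization.mk'_spec, ← map_mul,
      ← map_sub]
    apply Ideal.mem_map_of_mem
    have h1 : x - (aeval y : MvPolynomial (Fin d) k →ₐ[k] A).toRingHom p * (t : A) =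
        (x * t' - aeval y p) * (t : A) - x * ((t : A) * t' - 1) := by
      change x - aeval y p * (t : A) = _
      ring
    rw [h1]
    exact Ideal.sub_mem _ (Ideal.mul_mem_right _ _ hp) (Ideal.mul_mem_left _ _ ht')
  · intro a n ha
    obtain ⟨p, s, rfl⟩ := IsLocalization.exists_mk'_eq (idealOfVars (Fin d) k).primeCompl a
    rw [Localization.localRingHom_mk', IsLocalization.mk'_mem_iff, hmaxA,
      IsLocalization.mem_map_algebraMap_iff m.primeCompl] at ha
    obtain ⟨⟨⟨i, hi⟩, t⟩, hit⟩ := ha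
    rw [← map_mul, IsLocalization.eq_iff_exists m.primeCompl] at hit
    obtain ⟨t₂, ht₂⟩ := hit
    have h1 : ((t₂ : A) * (t : A)) * aeval y p ∈ m ^ n := by
      have h2 : ((t₂ : A) * (t : A)) * aeval y p = (t₂ : A) * i := by
        rw [← ht₂]
        change _ = (t₂ : A) * (aeval y p * (t : A))
        ring
      rw [h2]
      exact Ideal.mul_mem_left _ _ hi
    have h3 : (t₂ : A) * (t : A) ∉ m := (t₂ * t).2
    have h4 := mem_pow_of_mul_mem ε _ h3 n _ h1
    rw [hmaxP, IsLocalization.mk'_mem_iff]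
    exact Ideal.mem_map_of_mem _ (hC n p h4)

end Reg

section TruncLocal

open Polynomial

variable {k : Type u} [Field k]

lemma isUnit_of_aug_ne_zero (l : ℕ) (hl : l ≠ 0) (z : T k l) (hz : aug l hl z ≠ 0) : IsUnit z := by
  have h1 : z = algebraMap k (T k l) (aug l hl z) + (z - algebraMap k (T k l) (aug l hl z)) := by
    ring
  rw [h1]
  refine IsNilpotent.isUnit_add_left_of_commute ?_ ((IsUnit.mk0 _ hz).map _) (Commute.all _ _)
  apply isNilpotent_of_mem_span_tb
  rw [mem_span_tb_iff l hl, map_sub, AlgHom.commutes, Algebra.algebraMap_self_apply, sub_self]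

lemma isLocalRing_T (l : ℕ) (hl : l ≠ 0) : IsLocalRing (T k l) := by
  have : Nontrivial (T k l) := (aug l hl).toRingHom.domain_nontrivial
  refine IsLocalRing.of_nonunits_add ?_
  intro x y hx hy hxy
  have hx0 : aug l hl x = 0 := by
    by_contra h
    exact hx (isUnit_of_aug_ne_zero l hl x h)
  have hy0 : aug l hl y = 0 := by
    by_contra h
    exact hy (isUnit_of_aug_ne_zero l hl y h)
  have h1 := hxy.map (aug l hl)
  rw [map_add, hx0, hy0, add_zero] at h1
  exact not_isUnit_zero h1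

lemma finite_T (l : ℕ) : Module.Finite k (T k l) := by
  have h := (monic_X_pow (R := k) l).finite_adjoinRoot
  exact h

end TruncLocal

section Final

open MvPolynomial

variable {k : Type u} [Field k] {A : Type u} [CommRing A] [Algebra k A]

/-- Finiteness of the cotangent space at a rational point of a Noetherian algebra. -/
theorem finite_cotangent [IsNoetherianRing A] (ε : A →ₐ[k] k) :
    Module.Finite k (RingHom.ker ε.toRingHom).Cotangent := by
  set I := RingHom.ker ε.toRingHom with hI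
  have hsub : ∀ a : A, a - algebraMap k A (ε a) ∈ I := by
    intro a
    rw [RingHom.mem_ker]
    change ε (a - algebraMap k A (ε a)) = 0
    rw [map_sub, AlgHom.commutes, Algebra.algebraMap_self_apply, sub_self]
  have hfA : Module.Finite A I.Cotangent :=
    Module.Finite.of_surjective I.toCotangent I.toCotangent_surjective
  obtain ⟨s, hs⟩ := hfA.fg_top
  refine ⟨⟨s, ?_⟩⟩
  rw [eq_top_iff]
  intro v _
  have hv : v ∈ Submodule.span A (s : Set I.Cotangent) := hs ▸ Submodule.mem_top
  refine Submodule.span_induction ?_ ?_ ?_ ?_ hv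
  · intro w hw
    exact Submodule.subset_span hw
  · exact Submodule.zero_mem _
  · intro a b _ _ ha hb
    exact Submodule.add_mem _ ha hb
  · intro a w _ hw
    have h1 : a • w = (ε a) • w := by
      obtain ⟨y, rfl⟩ := I.toCotangent_surjective w
      have h2 : (a - algebraMap k A (ε a)) • I.toCotangent y = 0 := by
        rw [← map_smul, Ideal.toCotangent_eq_zero, pow_two]
        exact Ideal.mul_mem_mul (hsub a) y.2
      rw [sub_smul, sub_eq_zero, algebraMap_smul] at h2
      exact h2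
    rw [h1]
    exact Submodule.smul_mem _ _ hw

/-- Generators of the maximal ideal at a rational point lifting a basis of the cotangent space. -/
theorem exists_gens [IsNoetherianRing A] (ε : A →ₐ[k] k) :
    ∃ (d : ℕ) (y : Fin d → A), (∀ j, y j ∈ RingHom.ker ε.toRingHom) ∧
      (∀ a ∈ RingHom.ker ε.toRingHom, ∃ c : Fin d → k,
        a - ∑ j, c j • y j ∈ RingHom.ker ε.toRingHom ^ 2) ∧
      (∀ c : Fin d → k, ∑ j, c j • y j ∈ RingHom.ker ε.toRingHom ^ 2 → c = 0) := by
  classical
  set 𝔪 := RingHom.ker ε.toRingHom with h𝔪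
  have hfinC : Module.Finite k 𝔪.Cotangent := finite_cotangent ε
  let d := Module.finrank k 𝔪.Cotangent
  let b : Module.Basis (Fin d) k 𝔪.Cotangent := Module.finBasis k _
  choose x' hx' using fun j => 𝔪.toCotangent_surjective (b j)
  refine ⟨d, fun j => (x' j : A), fun j => (x' j).2, ?_, ?_⟩
  · intro a ha
    refine ⟨fun j => b.repr (𝔪.toCotangent ⟨a, ha⟩) j, ?_⟩
    have h1 : 𝔪.toCotangent ⟨a, ha⟩ =
        𝔪.toCotangent (∑ j, b.repr (𝔪.toCotangent ⟨a, ha⟩) j • x' j) := by
      conv_lhs => rw [← b.sum_repr (𝔪.toCotangent ⟨a, ha⟩)]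
      rw [map_sum]
      refine Finset.sum_congr rfl fun j _ => ?_
      rw [← hx']
      exact ((𝔪.toCotangent.restrictScalars k).map_smul _ _).symm
    rw [Ideal.toCotangent_eq] at h1
    simpa only [Submodule.coe_sum, Submodule.coe_smul_of_tower] using h1
  · intro c hc
    have h1 : 𝔪.toCotangent (∑ j, c j • x' j) = 0 := by
      rw [Ideal.toCotangent_eq_zero]
      simpa only [Submodule.coe_sum, Submodule.coe_smul_of_tower] using hc
    rw [map_sum] at h1
    have h2 : ∑ j, c j • b j = 0 := by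
      rw [← h1]
      refine Finset.sum_congr rfl fun j _ => ?_
      rw [← hx']
      exact ((𝔪.toCotangent.restrictScalars k).map_smul _ _).symm
    exact funext fun j => Fintype.linearIndependent_iff.1 b.linearIndependent c h2 j

/-- The augmentation attached to a maximal ideal of a finitely generated algebra over an
algebraically closed field. -/
theorem exists_aug [IsAlgClosed k] [Algebra.FiniteType k A] (m : Ideal A) [hm : m.IsMaximal] :
    ∃ ε : A →ₐ[k] k, RingHom.ker ε.toRingHom = m := by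
  let _ : Field (A ⧸ m) := Ideal.Quotient.field m
  have hft : Algebra.FiniteType k (A ⧸ m) :=
    Algebra.FiniteType.of_surjective (Ideal.Quotient.mkₐ k m) (Ideal.Quotient.mkₐ_surjective k m)
  have hfin : Module.Finite k (A ⧸ m) := finite_of_finite_type_of_isJacobsonRing k (A ⧸ m)
  have hbij : Function.Bijective (algebraMap k (A ⧸ m)) :=
    IsAlgClosed.algebraMap_bijective_of_isIntegral
  let e : k ≃ₐ[k] (A ⧸ m) := AlgEquiv.ofBijective (Algebra.ofId k _) hbij
  refine ⟨(e.symm : (A ⧸ m) →ₐ[k] k).comp (Ideal.Quotient.mkₐ k m), ?_⟩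
  ext a
  rw [RingHom.mem_ker]
  change e.symm (Ideal.Quotient.mk m a) = 0 ↔ _
  rw [map_eq_zero_iff _ e.symm.injective, Ideal.Quotient.eq_zero_iff_mem]

end Final

section Main

open MvPolynomial

variable {k : Type u} [Field k] [IsAlgClosed k] {A : Type u} [CommRing A] [Algebra k A]
  [Algebra.FiniteType k A]

/-- Regular points have liftable curvilinear jets. -/
theorem lift_of_regular (ε : A →ₐ[k] k) [hmax : (RingHom.ker ε.toRingHom).IsMaximal]
    (hreg : IsRegularLocalRing (Localization.AtPrime (RingHom.ker ε.toRingHom)))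
    (l : ℕ) (hl : 1 ≤ l) (φ : A →ₐ[k] T k l)
    (hφ : ∀ a ∈ RingHom.ker ε.toRingHom, IsNilpotent (φ a)) :
    ∃ ψ : A →ₐ[k] T k (l + 1), (fac k l).comp ψ = φ := by
  have hnoeth : IsNoetherianRing A := Algebra.FiniteType.isNoetherianRing k A
  set m := RingHom.ker ε.toRingHom with hm
  have hl0 : l ≠ 0 := by omega
  have hsub : ∀ a : A, a - algebraMap k A (ε a) ∈ m := by
    intro a
    rw [RingHom.mem_ker]
    change ε (a - algebraMap k A (ε a)) = 0
    rw [map_sub, AlgHom.commutes, Algebra.algebraMap_self_apply, sub_self]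
  -- the augmentation of the local ring
  have hunitε : ∀ y : m.primeCompl, IsUnit (ε y) := fun y => IsUnit.mk0 _ y.2
  let resA : Localization.AtPrime m →ₐ[k] k :=
    IsLocalization.liftAlgHom (M := m.primeCompl) (f := ε) hunitε
  have hresA : Function.Surjective resA := fun c =>
    ⟨algebraMap k _ c, by rw [AlgHom.commutes]; rfl⟩
  -- the jet extends to the local ring
  have hunitφ : ∀ y : m.primeCompl, IsUnit (φ y) := by
    intro y
    have h1 : φ (y : A) = algebraMap k (T k l) (ε (y : A)) +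
        φ ((y : A) - algebraMap k A (ε (y : A))) := by
      rw [map_sub, AlgHom.commutes]
      ring
    rw [h1]
    exact IsNilpotent.isUnit_add_left_of_commute (hφ _ (hsub _))
      ((IsUnit.mk0 _ y.2).map _) (Commute.all _ _)
  let φloc : Localization.AtPrime m →ₐ[k] T k l :=
    IsLocalization.liftAlgHom (M := m.primeCompl) (f := φ) hunitφ
  have hφloc : ∀ a : A, φloc (algebraMap A _ a) = φ a := fun a =>
    IsLocalization.lift_eq hunitφ a
  -- the small extension
  have hlocT : IsLocalRing (T k (l + 1)) := isLocalRing_T (l + 1) (Nat.succ_ne_zero l)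
  have hfinT : Module.Finite k (T k (l + 1)) := finite_T (l + 1)
  let e : (T k (l + 1) ⧸ RingHom.ker (fac k l)) ≃ₐ[k] T k l :=
    Ideal.quotientKerAlgEquivOfSurjective (fac_surjective l)
  have hJ : RingHom.ker (fac k l) ^ 2 = ⊥ := ker_fac_sq l hl
  obtain ⟨g, hg⟩ := RegLift.lift_of_regular (Localization.AtPrime m) resA hresA (T k (l + 1))
    (RingHom.ker (fac k l)) hJ ((e.symm : T k l →ₐ[k] _).comp φloc)
  refine ⟨g.comp (IsScalarTower.toAlgHom k A (Localization.AtPrime m)), ?_⟩
  ext a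
  have h1 := DFunLike.congr_fun hg (algebraMap A _ a)
  change Ideal.Quotient.mk _ (g (algebraMap A _ a)) = e.symm (φloc (algebraMap A _ a)) at h1
  rw [hφloc] at h1
  have h2 : e (Ideal.Quotient.mk _ (g (algebraMap A _ a))) = fac k l (g (algebraMap A _ a)) :=
    rfl
  change fac k l (g (algebraMap A _ a)) = φ a
  rw [← h2, h1, AlgEquiv.apply_symm_apply]

theorem main' (ε : A →ₐ[k] k) [hmax : (RingHom.ker ε.toRingHom).IsMaximal] :
    IsRegularLocalRing (Localization.AtPrime (RingHom.ker ε.toRingHom)) ↔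
      ∀ (l : ℕ), 1 ≤ l → ∀ (φ : A →ₐ[k] T k l),
        (∀ a ∈ RingHom.ker ε.toRingHom, IsNilpotent (φ a)) →
        ∃ ψ : A →ₐ[k] T k (l + 1), (fac k l).comp ψ = φ := by
  have hnoeth : IsNoetherianRing A := Algebra.FiniteType.isNoetherianRing k A
  constructor
  · intro hreg l hl φ hφ
    exact lift_of_regular ε hreg l hl φ hφ
  · intro hlift
    obtain ⟨d, y, hy, hspan, hindep⟩ := exists_gens ε
    exact regular_of_mem_pow ε y hy hspan
      (mem_pow_of_aeval_mem ε y hy hspan hindep hlift)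

theorem main (m : Ideal A) [hm : m.IsMaximal] :
    IsRegularLocalRing (Localization.AtPrime m) ↔
      ∀ (l : ℕ), 1 ≤ l → ∀ (φ : A →ₐ[k] T k l),
        (∀ a ∈ m, IsNilpotent (φ a)) →
        ∃ ψ : A →ₐ[k] T k (l + 1), (fac k l).comp ψ = φ := by
  obtain ⟨ε, hε⟩ := exists_aug (k := k) m
  subst hε
  exact main' ε

end Main

end Groth.Agent.H15.CurvJet
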