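import Mathlib

universe u

open scoped TensorProduct
open KaehlerDifferential

namespace Groth.Agent.H15.CycCover

section Unimodular

/-- An element of a finite projective module all of whose coordinates (values of linear forms)
lie in an ideal lies in the corresponding submodule. -/
theorem mem_smul_top_of_forall_dual {A : Type*} [CommRing A] {Q : Type*} [AddCommGroup Q]
    [Module A Q] [Module.Finite A Q] [Module.Projective A Q] (𝔪 : Ideal A) (ω : Q)
    (h : ∀ l : Q →ₗ[A] A, l ω ∈ 𝔪) : ω ∈ 𝔪 • (⊤ : Submodule A Q) := by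
  classical
  obtain ⟨n, f, g, -, -, hfg⟩ := Module.Finite.exists_comp_eq_id_of_projective A Q
  have h1 : ω = f (g ω) := by
    rw [← LinearMap.comp_apply, hfg, LinearMap.id_apply]
  rw [h1, LinearMap.pi_apply_eq_sum_univ f (g ω)]
  refine Submodule.sum_mem _ fun i _ => ?_
  refine Submodule.smul_mem_smul ?_ Submodule.mem_top
  exact h ((LinearMap.proj i).comp g)

end Unimodular

section Criterion

variable {R P B : Type u} [CommRing R] [CommRing P] [CommRing B]
  [Algebra R P] [Algebra P B] [Algebra R B] [IsScalarTower R P B] [Algebra.FormallySmooth R P]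

/-- A quotient of a formally smooth algebra by a principal ideal `(f)` is formally smooth as soon
as some derivation takes the value `1` on `f`. -/
theorem formallySmooth_of_derivation
    (hsurj : Function.Surjective (algebraMap P B)) (f : P)
    (hker : RingHom.ker (algebraMap P B) = Ideal.span {f})
    (δ : Derivation R P B) (hδ : δ f = 1) : Algebra.FormallySmooth R B := by
  rw [Algebra.FormallySmooth.iff_split_injection hsurj]
  have hfI : f ∈ RingHom.ker (algebraMap P B) := by
    rw [hker]; exact Ideal.subset_span rfl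
  have hf0 : algebraMap P B f = 0 := hfI
  -- the linear form attached to the derivation
  let lam : B ⊗[P] Ω[P⁄R] →ₗ[B] B := LinearMap.liftBaseChange B δ.liftKaehlerDifferential
  have hlam : ∀ (b : B) (p : P), lam (b ⊗ₜ D R P p) = b * δ p := by
    intro b p
    simp only [lam, LinearMap.liftBaseChange_tmul, Derivation.liftKaehlerDifferential_comp_D,
      smul_eq_mul]
  -- multiplication of the class of `f`
  let ν : P →ₗ[P] (RingHom.ker (algebraMap P B)).Cotangent :=
    LinearMap.toSpanSingleton P _ ((RingHom.ker (algebraMap P B)).toCotangent ⟨f, hfI⟩)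
  have hν : LinearMap.ker (Algebra.linearMap P B) ≤ LinearMap.ker ν := by
    intro p hp
    rw [LinearMap.mem_ker] at hp ⊢
    have hp' : p ∈ RingHom.ker (algebraMap P B) := hp
    change p • ((RingHom.ker (algebraMap P B)).toCotangent ⟨f, hfI⟩) = 0
    exact Ideal.Cotangent.smul_eq_zero_of_mem hp' _
  have hsurj' : Function.Surjective (Algebra.linearMap P B) := hsurj
  let μ : B →ₗ[P] (RingHom.ker (algebraMap P B)).Cotangent :=
    (Submodule.liftQ _ ν hν).comp
      (LinearMap.quotKerEquivOfSurjective (Algebra.linearMap P B) hsurj').symm.toLinearMap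
  have hμ : ∀ p : P, μ (algebraMap P B p) =
      p • (RingHom.ker (algebraMap P B)).toCotangent ⟨f, hfI⟩ := by
    intro p
    have h1 : (LinearMap.quotKerEquivOfSurjective (Algebra.linearMap P B) hsurj').symm
        (algebraMap P B p) = Submodule.Quotient.mk p := by
      rw [LinearEquiv.symm_apply_eq]
      rfl
    change (Submodule.liftQ _ ν hν) ((LinearMap.quotKerEquivOfSurjective
      (Algebra.linearMap P B) hsurj').symm (algebraMap P B p)) = _
    rw [h1, Submodule.liftQ_apply]
    rfl
  refine ⟨μ.comp (lam.restrictScalars P), ?_⟩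
  apply LinearMap.ext
  intro x
  obtain ⟨⟨y, hy⟩, rfl⟩ := Ideal.toCotangent_surjective _ x
  rw [LinearMap.comp_apply, kerCotangentToTensor_toCotangent, LinearMap.comp_apply,
    LinearMap.restrictScalars_apply, hlam, one_mul, LinearMap.id_apply]
  have hy' := hy
  rw [hker, Ideal.mem_span_singleton'] at hy'
  obtain ⟨p, rfl⟩ := hy'
  rw [Derivation.leibniz, hδ]
  have h2 : p • (1 : B) + f • δ p = algebraMap P B p := by
    rw [Algebra.smul_def, mul_one, Algebra.smul_def, hf0, zero_mul, add_zero]
  rw [h2, hμ, ← map_smul]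
  congr 1

/-- Conversely, if `f` is a nonzerodivisor and the quotient is formally smooth, some derivation
takes the value `1` on `f`. -/
theorem exists_derivation_of_formallySmooth
    (hsurj : Function.Surjective (algebraMap P B)) (f : P)
    (hker : RingHom.ker (algebraMap P B) = Ideal.span {f})
    (hreg : ∀ p : P, p * f = 0 → p = 0) [Algebra.FormallySmooth R B] :
    ∃ δ : Derivation R P B, δ f = 1 := by
  obtain ⟨l, hl⟩ := (Algebra.FormallySmooth.iff_split_injection (R := R) hsurj).1 inferInstance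
  have hfI : f ∈ RingHom.ker (algebraMap P B) := by
    rw [hker]; exact Ideal.subset_span rfl
  let D₁ : Derivation R P (RingHom.ker (algebraMap P B)).Cotangent :=
    (l.comp (TensorProduct.mk P B Ω[P⁄R] 1)).compDer (D R P)
  have hD₁ : D₁ f = (RingHom.ker (algebraMap P B)).toCotangent ⟨f, hfI⟩ := by
    change l ((1 : B) ⊗ₜ D R P f) = _
    have h1 := LinearMap.congr_fun hl ((RingHom.ker (algebraMap P B)).toCotangent ⟨f, hfI⟩)
    rw [LinearMap.comp_apply, kerCotangentToTensor_toCotangent, LinearMap.id_apply] at h1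
    exact h1
  let mf : P →ₗ[P] (RingHom.ker (algebraMap P B)) :=
    LinearMap.codRestrict (RingHom.ker (algebraMap P B)) (LinearMap.toSpanSingleton P P f)
      (fun p => by
        rw [LinearMap.toSpanSingleton_apply, smul_eq_mul]
        exact Ideal.mul_mem_left _ _ hfI)
  have hmf : ∀ p, ((mf p : RingHom.ker (algebraMap P B)) : P) = p * f := fun p => rfl
  have hbij : Function.Bijective mf := by
    constructor
    · intro p q hpq
      have h1 := congrArg Subtype.val hpq
      rw [hmf, hmf] at h1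
      have h2 : (p - q) * f = 0 := by rw [sub_mul, h1, sub_self]
      exact sub_eq_zero.1 (hreg _ h2)
    · rintro ⟨x, hx⟩
      have hx' := hx
      rw [hker, Ideal.mem_span_singleton'] at hx'
      obtain ⟨p, rfl⟩ := hx'
      exact ⟨p, Subtype.ext (hmf p)⟩
  let ef : P ≃ₗ[P] (RingHom.ker (algebraMap P B)) := LinearEquiv.ofBijective mf hbij
  let θ₀ : (RingHom.ker (algebraMap P B)) →ₗ[P] B :=
    (Algebra.linearMap P B).comp ef.symm.toLinearMap
  have hθ₀ : ∀ (z : RingHom.ker (algebraMap P B)) (r : P), (z : P) = r * f →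
      θ₀ z = algebraMap P B r := by
    intro z r hz
    change algebraMap P B (ef.symm z) = _
    congr 1
    rw [LinearEquiv.symm_apply_eq]
    exact Subtype.ext hz
  have hθ₀mul : ∀ x y : RingHom.ker (algebraMap P B), θ₀ (x * y) = 0 := by
    intro x y
    obtain ⟨p, hp⟩ := hbij.2 x
    obtain ⟨q, hq⟩ := hbij.2 y
    have h1 : ((x * y : RingHom.ker (algebraMap P B)) : P) = (p * q * f) * f := by
      rw [← hp, ← hq]
      change (mf p : P) * (mf q : P) = _
      rw [hmf, hmf]
      ring
    rw [hθ₀ _ _ h1, map_mul]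
    have : algebraMap P B f = 0 := hfI
    rw [this, mul_zero]
  let θ : (RingHom.ker (algebraMap P B)).Cotangent →ₗ[P] B := Ideal.Cotangent.lift θ₀ hθ₀mul
  refine ⟨θ.compDer D₁, ?_⟩
  change θ (D₁ f) = 1
  rw [hD₁, Ideal.Cotangent.lift_toCotangent, hθ₀ ⟨f, hfI⟩ 1 (one_mul f).symm, map_one]

end Criterion

section Main

open Polynomial

variable {k A : Type u} [Field k] [CommRing A] [Algebra k A]

/-- An element killing an irreducible element lies in the Jacobson radical. -/
lemma mem_jacobson_of_mul_irreducible {s h : A} (hs : Irreducible s) (hh : h * s = 0) :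
    h ∈ (⊥ : Ideal A).jacobson := by
  rw [Ideal.mem_jacobson_bot]
  intro y
  have h1 : s = s * (h * y + 1) := by
    have : s * (h * y) = 0 := by
      calc s * (h * y) = (h * s) * y := by ring
        _ = 0 := by rw [hh, zero_mul]
    rw [mul_add, this, zero_add, mul_one]
  rcases hs.isUnit_or_isUnit h1 with h2 | h2
  · exact absurd h2 hs.not_isUnit
  · exact h2

variable (s : A) (e : ℕ)

/-- The defining polynomial. -/
noncomputable abbrev pol : A[X] := X ^ e - C s

/-- Evaluation at `T = 0` from the cover to the branch locus. -/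
noncomputable def toBranch (he : e ≠ 0) :
    (A[X] ⧸ Ideal.span {pol s e}) →ₐ[A] (A ⧸ Ideal.span {s}) :=
  Ideal.Quotient.liftₐ (Ideal.span {pol s e})
    ((Ideal.Quotient.mkₐ A (Ideal.span {s})).comp (aeval (0 : A))) (by
      intro a ha
      rw [Ideal.mem_span_singleton'] at ha
      obtain ⟨b, rfl⟩ := ha
      rw [map_mul]
      have : ((Ideal.Quotient.mkₐ A (Ideal.span {s})).comp (aeval (0 : A))) (pol s e) = 0 := by
        have hs0 : Ideal.Quotient.mk (Ideal.span {s}) s = 0 :=
          Ideal.Quotient.eq_zero_iff_mem.2 (Ideal.mem_span_singleton_self s)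
        rw [AlgHom.comp_apply, pol, map_sub, map_pow, aeval_X, aeval_C, zero_pow he, zero_sub,
          map_neg, Algebra.algebraMap_self_apply, Ideal.Quotient.mkₐ_eq_mk, hs0, neg_zero]
      rw [this, mul_zero])

lemma toBranch_mk (he : e ≠ 0) (p : A[X]) :
    toBranch s e he (Ideal.Quotient.mk _ p) = Ideal.Quotient.mk _ (aeval (0 : A) p) := rfl

theorem forward [Algebra.FormallySmooth k A] (he : 2 ≤ e)
    [Algebra.FormallySmooth k (A[X] ⧸ Ideal.span {pol s e})] :
    Algebra.FormallySmooth k (A ⧸ Ideal.span {s}) := by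
  have he0 : e ≠ 0 := by omega
  have : Algebra.FormallySmooth k A[X] := Algebra.FormallySmooth.comp k A A[X]
  have hmonic : (pol s e).Monic := monic_X_pow_sub_C s he0
  obtain ⟨δ, hδ⟩ := exists_derivation_of_formallySmooth (R := k) (P := A[X])
    (B := A[X] ⧸ Ideal.span {pol s e}) Ideal.Quotient.mk_surjective (pol s e)
    (by rw [Ideal.Quotient.algebraMap_eq, Ideal.mk_ker])
    (fun p hp => hmonic.mul_left_eq_zero_iff.1 hp)
  let δA : Derivation k A (A[X] ⧸ Ideal.span {pol s e}) := δ.compAlgebraMap A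
  let δbar : Derivation k A (A ⧸ Ideal.span {s}) := (toBranch s e he0).toLinearMap.compDer δA
  have h1 : δ (C s) = e • (X : A[X]) ^ (e - 1) • δ X - 1 := by
    have h2 : (C s : A[X]) = X ^ e - pol s e := by rw [pol]; ring
    rw [h2, map_sub, hδ, Derivation.leibniz_pow]
  have h3 : δbar s = -1 := by
    change toBranch s e he0 (δ (algebraMap A A[X] s)) = -1
    rw [← C_eq_algebraMap, h1, map_sub, map_one, map_nsmul]
    have h4 : toBranch s e he0 ((X : A[X]) ^ (e - 1) • δ X) = 0 := by
      obtain ⟨y, hy⟩ := Ideal.Quotient.mk_surjective (δ X)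
      have h5 : (X : A[X]) ^ (e - 1) • (Ideal.Quotient.mk (Ideal.span {pol s e}) y) =
          Ideal.Quotient.mk (Ideal.span {pol s e}) (X ^ (e - 1) * y) := rfl
      rw [← hy, h5, toBranch_mk, map_mul,
        map_pow, aeval_X, zero_pow (by omega), zero_mul, map_zero]
    rw [h4, smul_zero, zero_sub]
  refine formallySmooth_of_derivation (R := k) (P := A) (B := A ⧸ Ideal.span {s})
    Ideal.Quotient.mk_surjective s (by rw [Ideal.Quotient.algebraMap_eq, Ideal.mk_ker]) (-δbar) ?_
  rw [Derivation.neg_apply, h3, neg_neg]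

/-- The coefficientwise extension of a derivation to the polynomial ring, pushed to the cover. -/
noncomputable def extDer (δ₀ : Derivation k A A) :
    Derivation k A[X] (A[X] ⧸ Ideal.span {pol s e}) :=
  (Algebra.linearMap A[X] (A[X] ⧸ Ideal.span {pol s e})).compDer
    (PolynomialModule.equivPolynomialSelf.toLinearMap.compDer δ₀.mapCoeffs)

lemma extDer_pol (δ₀ : Derivation k A A) :
    extDer s e δ₀ (pol s e) = - algebraMap A (A[X] ⧸ Ideal.span {pol s e}) (δ₀ s) := by
  have h1 : (PolynomialModule.equivPolynomialSelf.toLinearMap.compDer δ₀.mapCoeffs) (X : A[X]) =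
      0 := by
    change PolynomialModule.equivPolynomialSelf (δ₀.mapCoeffs X) = 0
    rw [Derivation.mapCoeffs_X, map_zero]
  have h2 : (PolynomialModule.equivPolynomialSelf.toLinearMap.compDer δ₀.mapCoeffs) (C s : A[X]) =
      C (δ₀ s) := by
    change PolynomialModule.equivPolynomialSelf (δ₀.mapCoeffs (C s)) = _
    rw [← monomial_zero_left, Derivation.mapCoeffs_monomial,
      PolynomialModule.equivPolynomialSelf_apply_eq, PolynomialModule.equivPolynomial_single,
      monomial_zero_left]
  have h3 : (PolynomialModule.equivPolynomialSelf.toLinearMap.compDer δ₀.mapCoeffs) (pol s e) =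
      - C (δ₀ s) := by
    rw [show pol s e = X ^ e - C s from rfl, map_sub, Derivation.leibniz_pow, h1, h2, smul_zero,
      smul_zero, zero_sub]
  change algebraMap A[X] (A[X] ⧸ Ideal.span {pol s e})
    ((PolynomialModule.equivPolynomialSelf.toLinearMap.compDer δ₀.mapCoeffs) (pol s e)) = _
  rw [h3, map_neg, IsScalarTower.algebraMap_apply A A[X] (A[X] ⧸ Ideal.span {pol s e}),
    C_eq_algebraMap]

/-- The `T`-derivative pushed to the cover. -/
noncomputable def derT : Derivation k A[X] (A[X] ⧸ Ideal.span {pol s e}) :=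
  (Algebra.linearMap A[X] (A[X] ⧸ Ideal.span {pol s e})).compDer
    ((derivative' : Derivation A A[X] A[X]).restrictScalars k)

lemma derT_pol : derT (k := k) s e (pol s e) =
    algebraMap A[X] (A[X] ⧸ Ideal.span {pol s e}) (C (e : A) * X ^ (e - 1)) := by
  have h3 : derivative (pol s e) = C (e : A) * X ^ (e - 1) := by
    rw [show pol s e = X ^ e - C s from rfl, derivative_sub, derivative_X_pow, derivative_C,
      sub_zero]
  change algebraMap A[X] (A[X] ⧸ Ideal.span {pol s e}) (derivative (pol s e)) = _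
  rw [h3]

theorem backward [Algebra.Smooth k A] (hs : Irreducible s) (he : 2 ≤ e) (hek : (e : k) ≠ 0)
    [Algebra.FormallySmooth k (A ⧸ Ideal.span {s})] :
    Algebra.FormallySmooth k (A[X] ⧸ Ideal.span {pol s e}) := by
  classical
  have he0 : e ≠ 0 := by omega
  have : Algebra.FormallySmooth k A[X] := Algebra.FormallySmooth.comp k A A[X]
  have hmonic : (pol s e).Monic := monic_X_pow_sub_C s he0
  -- evaluation of derivations at the polynomial
  let ev : Derivation k A[X] (A[X] ⧸ Ideal.span {pol s e}) →ₗ[A[X] ⧸ Ideal.span {pol s e}]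
      (A[X] ⧸ Ideal.span {pol s e}) :=
    { toFun := fun δ => δ (pol s e)
      map_add' := fun _ _ => rfl
      map_smul' := fun _ _ => rfl }
  suffices h1 : (1 : A[X] ⧸ Ideal.span {pol s e}) ∈ LinearMap.range ev by
    obtain ⟨δ, hδ⟩ := h1
    exact formallySmooth_of_derivation (R := k) (P := A[X]) (B := A[X] ⧸ Ideal.span {pol s e})
      Ideal.Quotient.mk_surjective (pol s e) (by rw [Ideal.Quotient.algebraMap_eq, Ideal.mk_ker])
      δ hδ
  by_contra hne
  have hne' : (LinearMap.range ev : Ideal (A[X] ⧸ Ideal.span {pol s e})) ≠ ⊤ := fun h =>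
    hne ((Ideal.eq_top_iff_one _).1 h)
  obtain ⟨𝔫, h𝔫max, h𝔫⟩ := Ideal.exists_le_maximal _ hne'
  have hpol0 : algebraMap A[X] (A[X] ⧸ Ideal.span {pol s e}) (pol s e) = 0 := by
    rw [Ideal.Quotient.algebraMap_eq]
    exact Ideal.Quotient.eq_zero_iff_mem.2 (Ideal.mem_span_singleton_self _)
  -- the class of `T` lies in `𝔫`
  have hT : algebraMap A[X] (A[X] ⧸ Ideal.span {pol s e}) X ∈ 𝔫 := by
    have h2 : algebraMap A[X] (A[X] ⧸ Ideal.span {pol s e}) (C (e : A) * X ^ (e - 1)) ∈ 𝔫 :=
      h𝔫 ⟨derT s e, derT_pol s e⟩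
    rw [map_mul, map_pow] at h2
    rcases h𝔫max.isPrime.mem_or_mem h2 with h3 | h3
    · exfalso
      have hu : IsUnit (algebraMap A[X] (A[X] ⧸ Ideal.span {pol s e}) (C (e : A))) := by
        have h4 : IsUnit ((e : k)) := isUnit_iff_ne_zero.2 hek
        have h5 : (C (e : A) : A[X]) = algebraMap k A[X] (e : k) := by
          rw [map_natCast, map_natCast]
        rw [h5]
        exact (h4.map (algebraMap k A[X])).map _
      exact h𝔫max.ne_top (Ideal.eq_top_of_isUnit_mem _ h3 hu)
    · exact h𝔫max.isPrime.mem_of_pow_mem _ h3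
  have hs𝔫 : algebraMap A (A[X] ⧸ Ideal.span {pol s e}) s ∈ 𝔫 := by
    have h2 : (C s : A[X]) = X ^ e - pol s e := by rw [pol]; ring
    rw [IsScalarTower.algebraMap_apply A A[X] (A[X] ⧸ Ideal.span {pol s e}), ← C_eq_algebraMap, h2,
      map_sub, hpol0, sub_zero, map_pow]
    exact Ideal.pow_mem_of_mem _ hT e (Nat.pos_of_ne_zero he0)
  -- the contraction to `A`
  have hfin : Module.Finite A (A[X] ⧸ Ideal.span {pol s e}) := hmonic.finite_adjoinRoot
  have hint : Algebra.IsIntegral A (A[X] ⧸ Ideal.span {pol s e}) := Algebra.IsIntegral.of_finite _ _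
  have hmmax : (𝔫.comap (algebraMap A (A[X] ⧸ Ideal.span {pol s e}))).IsMaximal :=
    Ideal.isMaximal_comap_of_isIntegral_of_isMaximal 𝔫
  set m : Ideal A := 𝔫.comap (algebraMap A (A[X] ⧸ Ideal.span {pol s e})) with hm
  have hsm : s ∈ m := hs𝔫
  have hder : ∀ δ₀ : Derivation k A A, δ₀ s ∈ m := by
    intro δ₀
    have h2 : - algebraMap A (A[X] ⧸ Ideal.span {pol s e}) (δ₀ s) ∈ 𝔫 :=
      h𝔫 ⟨extDer s e δ₀, extDer_pol s e δ₀⟩
    rw [neg_mem_iff] at h2
    exact h2
  have hDs : D k A s ∈ m • (⊤ : Submodule A Ω[A⁄k]) :=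
    mem_smul_top_of_forall_dual m (D k A s) (fun l => hder (l.compDer (D k A)))
  -- use the smoothness of the branch locus
  obtain ⟨l, hl⟩ := (Algebra.FormallySmooth.iff_split_injection (R := k) (P := A)
    (A := A ⧸ Ideal.span {s}) Ideal.Quotient.mk_surjective).1 inferInstance
  have hIs : RingHom.ker (algebraMap A (A ⧸ Ideal.span {s})) = Ideal.span {s} := by
    rw [Ideal.Quotient.algebraMap_eq, Ideal.mk_ker]
  have hsI : s ∈ RingHom.ker (algebraMap A (A ⧸ Ideal.span {s})) := by
    rw [hIs]; exact Ideal.mem_span_singleton_self s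
  let g : Ω[A⁄k] →ₗ[A] (RingHom.ker (algebraMap A (A ⧸ Ideal.span {s}))).Cotangent :=
    l.comp (TensorProduct.mk A (A ⧸ Ideal.span {s}) Ω[A⁄k] 1)
  have hg : g (D k A s) =
      (RingHom.ker (algebraMap A (A ⧸ Ideal.span {s}))).toCotangent ⟨s, hsI⟩ := by
    change l ((1 : A ⧸ Ideal.span {s}) ⊗ₜ D k A s) = _
    have h1 := LinearMap.congr_fun hl
      ((RingHom.ker (algebraMap A (A ⧸ Ideal.span {s}))).toCotangent ⟨s, hsI⟩)
    rw [LinearMap.comp_apply, kerCotangentToTensor_toCotangent, LinearMap.id_apply] at h1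
    exact h1
  have hcyc : ∀ x : (RingHom.ker (algebraMap A (A ⧸ Ideal.span {s}))).Cotangent, ∃ a : A,
      x = a • (RingHom.ker (algebraMap A (A ⧸ Ideal.span {s}))).toCotangent ⟨s, hsI⟩ := by
    intro x
    obtain ⟨⟨y, hy⟩, rfl⟩ := Ideal.toCotangent_surjective _ x
    have hy' := hy
    rw [hIs, Ideal.mem_span_singleton'] at hy'
    obtain ⟨a, rfl⟩ := hy'
    refine ⟨a, ?_⟩
    rw [← map_smul]
    rfl
  have hclaim : ∀ ω ∈ m • (⊤ : Submodule A Ω[A⁄k]), ∃ μ ∈ m,
      g ω = μ • (RingHom.ker (algebraMap A (A ⧸ Ideal.span {s}))).toCotangent ⟨s, hsI⟩ := by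
    intro ω hω
    refine Submodule.smul_induction_on hω ?_ ?_
    · intro r hr n _
      obtain ⟨a, ha⟩ := hcyc (g n)
      refine ⟨r * a, Ideal.mul_mem_right _ _ hr, ?_⟩
      rw [map_smul, ha, mul_smul]
    · rintro x y ⟨μ₁, hμ₁, h1⟩ ⟨μ₂, hμ₂, h2⟩
      exact ⟨μ₁ + μ₂, Ideal.add_mem _ hμ₁ hμ₂, by rw [map_add, h1, h2, add_smul]⟩
  obtain ⟨μ, hμ, hμeq⟩ := hclaim _ hDs
  rw [hg, ← map_smul, Ideal.toCotangent_eq] at hμeq
  have hμeq' : s - μ * s ∈ Ideal.span {s} ^ 2 := by
    rw [← hIs]
    exact hμeq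
  rw [Ideal.span_singleton_pow, Ideal.mem_span_singleton'] at hμeq'
  obtain ⟨c, hc'⟩ := hμeq'
  have hzero : (1 - μ - c * s) * s = 0 := by
    have : (1 - μ - c * s) * s = (s - μ * s) - c * s ^ 2 := by ring
    rw [this, hc', sub_self]
  have hjac := mem_jacobson_of_mul_irreducible hs hzero
  have hle : (⊥ : Ideal A).jacobson ≤ m := sInf_le ⟨bot_le, hmmax⟩
  have h1m : (1 : A) ∈ m := by
    have h2 : (1 : A) = (1 - μ - c * s) + μ + c * s := by ring
    rw [h2]
    exact Ideal.add_mem _ (Ideal.add_mem _ (hle hjac) hμ) (Ideal.mul_mem_left _ _ hsm)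
  exact hmmax.ne_top ((Ideal.eq_top_iff_one _).2 h1m)

/-- The cyclic cover is smooth iff the branch locus is. -/
theorem main [Algebra.Smooth k A] (hs : Irreducible s) (he : 2 ≤ e) (hek : (e : k) ≠ 0) :
    Algebra.Smooth k (AdjoinRoot (X ^ e - C s)) ↔ Algebra.Smooth k (A ⧸ Ideal.span {s}) := by
  change Algebra.Smooth k (A[X] ⧸ Ideal.span {pol s e}) ↔ _
  constructor
  · intro h
    have := h.formallySmooth
    have h1 := forward (k := k) s e he
    have h2 : Algebra.FinitePresentation k (A ⧸ Ideal.span {s}) :=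
      Algebra.FinitePresentation.quotient ⟨{s}, by simp⟩
    exact ⟨h1, h2⟩
  · intro h
    have := h.formallySmooth
    have h1 := backward (k := k) s e hs he hek
    have h2 : Algebra.FinitePresentation k (A[X] ⧸ Ideal.span {pol s e}) :=
      Algebra.FinitePresentation.quotient ⟨{pol s e}, by simp⟩
    exact ⟨h1, h2⟩

end Main

end Groth.Agent.H15.CycCover
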