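import Mathlib
import Groth.Prelude.Def_DeRham

set_option autoImplicit false
universe u

namespace Groth.Agent.H15.DRFin

open exteriorPower

variable (k K : Type u) [Field k] [Field K] [CharZero k] [Algebra k K] [Module.Finite k K]
    (B : Type u) [CommRing B] [Algebra K B] [Algebra k B] [IsScalarTower k K B]

theorem phi_bijective : Function.Bijective (KaehlerDifferential.map k K B B) := by
  haveI : Algebra.IsSeparable k K := inferInstance
  haveI : Algebra.FormallyUnramified k K := Algebra.FormallyUnramified.of_isSeparable k K
  haveI : Subsingleton (Ω[K⁄k]) := inferInstance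
  refine ⟨?_, KaehlerDifferential.map_surjective k K B⟩
  rw [← LinearMap.ker_eq_bot, (KaehlerDifferential.exact_mapBaseChange_map k K B).linearMap_ker_eq,
    LinearMap.range_eq_bot]
  apply LinearMap.ext
  intro x
  haveI : Subsingleton (TensorProduct K B (Ω[K⁄k])) := inferInstance
  rw [Subsingleton.elim x 0, map_zero, map_zero]

theorem main (ψ : ∀ p : ℕ, ↥(⋀[B]^p (Ω[B⁄k])) →+ ↥(⋀[B]^p (Ω[B⁄K])))
    (hψ : DeRham.IsCxMap (KaehlerDifferential.D k B) (KaehlerDifferential.D K B) (RingHom.id B) ψ)
    (p : ℕ) : Function.Bijective (ψ p) := by
  set φ := KaehlerDifferential.map k K B B with hφ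
  have hφb := phi_bijective k K B
  have key : ∀ x, ψ p x = exteriorPower.map p φ x := by
    have hs : Submodule.span B (Set.range (KaehlerDifferential.D k B)) = ⊤ :=
      KaehlerDifferential.span_range_derivation k B
    have htop := ιMulti_span_of_span B p (Ω[B⁄k]) hs
    have hP : ∀ x ∈ Submodule.span B (ιMulti B p ''
        {a | Set.range a ⊆ Set.range (KaehlerDifferential.D k B)}),
        ∀ c : B, ψ p (c • x) = exteriorPower.map p φ (c • x) := by
      intro x hx
      induction hx using Submodule.span_induction with
      | mem x hx =>
        obtain ⟨a, ha, rfl⟩ := hx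
        have : ∀ i, ∃ b, KaehlerDifferential.D k B b = a i := fun i => ha ⟨i, rfl⟩
        choose b hb using this
        intro c
        have ha' : a = fun i => KaehlerDifferential.D k B (b i) := funext fun i => (hb i).symm
        rw [ha']
        have h1 := hψ p c b
        rw [DeRham.gen] at h1
        rw [h1, DeRham.gen, map_smul, exteriorPower.map_apply_ιMulti]
        simp only [hφ, RingHom.id_apply]
        congr 2
        funext i
        simp [KaehlerDifferential.map_D]
      | zero => intro c; rw [smul_zero, map_zero, map_zero]
      | add x y _ _ hx hy => intro c; rw [smul_add, map_add, map_add, hx c, hy c]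
      | smul r x _ hx => intro c; rw [smul_smul]; exact hx (c * r)
    intro x
    have := hP x (by rw [htop]; trivial) 1
    rwa [one_smul] at this
  have hbij : Function.Bijective (exteriorPower.map p φ) := by
    let e := LinearEquiv.ofBijective φ hφb
    have he1 : e.symm.toLinearMap ∘ₗ φ = LinearMap.id := by
      apply LinearMap.ext; intro x
      exact e.symm_apply_apply x
    have he2 : φ ∘ₗ e.symm.toLinearMap = LinearMap.id := by
      apply LinearMap.ext; intro x
      exact e.apply_symm_apply x
    have h1 : (exteriorPower.map p e.symm.toLinearMap) ∘ₗ (exteriorPower.map p φ) = LinearMap.id := by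
      rw [← exteriorPower.map_comp, he1, exteriorPower.map_id]
    have h2 : (exteriorPower.map p φ) ∘ₗ (exteriorPower.map p e.symm.toLinearMap) = LinearMap.id := by
      rw [← exteriorPower.map_comp, he2, exteriorPower.map_id]
    refine ⟨Function.LeftInverse.injective (g := exteriorPower.map p e.symm.toLinearMap)
      (fun x => LinearMap.congr_fun h1 x),
      Function.RightInverse.surjective (g := exteriorPower.map p e.symm.toLinearMap)
      (fun x => LinearMap.congr_fun h2 x)⟩
  have : (ψ p : _ → _) = exteriorPower.map p φ := funext key
  rw [this]; exact hbij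

end Groth.Agent.H15.DRFin
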