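import Groth.Agent.H15.DetNZD
set_option autoImplicit false
universe u
namespace Groth.Agent.H15.DetNZD
open Polynomial

theorem ffquot (A : Type u) [CommRing A] (n : ℕ) (hn : 0 < n) :
    Module.FaithfullyFlat A
      (MvPolynomial (Fin n × Fin n) A ⧸ Ideal.span {(Matrix.mvPolynomialX (Fin n) (Fin n) A).det}) := by
  classical
  have hχ := Matrix.charpoly_monic (-(Matrix.mvPolynomialX (Fin n) (Fin n) A))
  have : Module.Free (MvPolynomial (Fin n × Fin n) A)
      (AdjoinRoot (Matrix.charpoly (-(Matrix.mvPolynomialX (Fin n) (Fin n) A)))) := hχ.free_adjoinRoot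
  have : Module.Free A (AdjoinRoot (Matrix.charpoly (-(Matrix.mvPolynomialX (Fin n) (Fin n) A)))) :=
    Module.Free.trans (R := A) (S := MvPolynomial (Fin n × Fin n) A)
  -- the inclusion
  let i : (MvPolynomial (Fin n × Fin n) A ⧸ Ideal.span {(Matrix.mvPolynomialX (Fin n) (Fin n) A).det})
      →ₐ[A] AdjoinRoot (Matrix.charpoly (-(Matrix.mvPolynomialX (Fin n) (Fin n) A))) :=
    Ideal.Quotient.liftₐ _
      (((AdjoinRoot.mkₐ (Matrix.charpoly (-(Matrix.mvPolynomialX (Fin n) (Fin n) A)))).restrictScalars A).comp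
        (shift A n)) (by
        intro a ha
        obtain ⟨c, rfl⟩ := Ideal.mem_span_singleton'.mp ha
        simp only [AlgHom.coe_comp, AlgHom.coe_restrictScalars', Function.comp_apply, map_mul, shift_det]
        have : (AdjoinRoot.mkₐ (Matrix.charpoly (-(Matrix.mvPolynomialX (Fin n) (Fin n) A))))
            (Matrix.charpoly (-(Matrix.mvPolynomialX (Fin n) (Fin n) A))) = 0 := AdjoinRoot.mk_self
        rw [this, mul_zero])
  let r : AdjoinRoot (Matrix.charpoly (-(Matrix.mvPolynomialX (Fin n) (Fin n) A))) →ₐ[A]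
      (MvPolynomial (Fin n × Fin n) A ⧸ Ideal.span {(Matrix.mvPolynomialX (Fin n) (Fin n) A).det}) :=
    AdjoinRoot.liftAlgHom _ (Ideal.Quotient.mkₐ A _) 0 (by
      rw [← shift_det]
      rw [Polynomial.eval₂_at_zero, Polynomial.coeff_zero_eq_eval_zero, shift_ret]
      exact Ideal.Quotient.eq_zero_iff_mem.mpr (Ideal.mem_span_singleton_self _))
  have hri : r.toLinearMap.comp i.toLinearMap = LinearMap.id := by
    apply LinearMap.ext
    intro b
    obtain ⟨p, rfl⟩ := Ideal.Quotient.mk_surjective b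
    simp only [LinearMap.coe_comp, AlgHom.coe_toLinearMap, Function.comp_apply, LinearMap.id_coe, id_eq]
    show r (i (Ideal.Quotient.mk _ p)) = _
    simp only [i, Ideal.Quotient.liftₐ_apply]
    show r (AdjoinRoot.mk _ (shift A n p)) = _
    simp only [r, AdjoinRoot.liftAlgHom_mk]
    rw [Polynomial.eval₂_at_zero, Polynomial.coeff_zero_eq_eval_zero, shift_ret]
    rfl
  have hflat : Module.Flat A
      (MvPolynomial (Fin n × Fin n) A ⧸ Ideal.span {(Matrix.mvPolynomialX (Fin n) (Fin n) A).det}) :=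
    Module.Flat.of_retract i.toLinearMap r.toLinearMap hri
  -- retraction to A
  have : Nonempty (Fin n) := ⟨⟨0, hn⟩⟩
  let s : (MvPolynomial (Fin n × Fin n) A ⧸ Ideal.span {(Matrix.mvPolynomialX (Fin n) (Fin n) A).det})
      →ₐ[A] A :=
    Ideal.Quotient.liftₐ _ (MvPolynomial.aeval (fun _ => (0 : A))) (by
      intro a ha
      obtain ⟨c, rfl⟩ := Ideal.mem_span_singleton'.mp ha
      rw [map_mul, AlgHom.map_det]
      have : (MvPolynomial.aeval (fun _ : Fin n × Fin n => (0 : A))).mapMatrix
          (Matrix.mvPolynomialX (Fin n) (Fin n) A) = 0 := by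
        ext i j
        simp
      rw [this, Matrix.det_zero, mul_zero])
  refine ⟨fun m hm htop => ?_⟩
  have h1 : ∀ x ∈ m • (⊤ : Submodule A (MvPolynomial (Fin n × Fin n) A ⧸
      Ideal.span {(Matrix.mvPolynomialX (Fin n) (Fin n) A).det})), s x ∈ m := by
    intro x hx
    refine Submodule.smul_induction_on hx ?_ ?_
    · intro a ha b _
      rw [map_smul, smul_eq_mul]
      exact m.mul_mem_right _ ha
    · intro x y hx hy
      rw [map_add]
      exact m.add_mem hx hy
  have h2 : (1 : A) ∈ m := by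
    have := h1 1 (by rw [htop]; trivial)
    rwa [map_one] at this
  exact hm.ne_top ((Ideal.eq_top_iff_one m).mpr h2)
end Groth.Agent.H15.DetNZD
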