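import Mathlib
set_option autoImplicit false
universe u
namespace Groth.Agent.H15.DetNZD
open Polynomial in
/-- the shift map `X_ij ↦ C X_ij + δ_ij t`. -/
noncomputable def shift (A : Type u) [CommRing A] (n : ℕ) :
    MvPolynomial (Fin n × Fin n) A →ₐ[A] (MvPolynomial (Fin n × Fin n) A)[X] :=
  MvPolynomial.aeval (fun ij : Fin n × Fin n =>
    Polynomial.C (MvPolynomial.X ij) + if ij.1 = ij.2 then (Polynomial.X : (MvPolynomial (Fin n × Fin n) A)[X]) else 0)

open Polynomial in
theorem shift_ret (A : Type u) [CommRing A] (n : ℕ) (p : MvPolynomial (Fin n × Fin n) A) :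
    Polynomial.eval 0 (shift A n p) = p := by
  have : ((Polynomial.evalRingHom (0 : MvPolynomial (Fin n × Fin n) A)).comp (shift A n).toRingHom) =
      RingHom.id _ := by
    apply MvPolynomial.ringHom_ext
    · intro a
      simp [shift, MvPolynomial.algebraMap_eq]
    · intro ij
      simp only [shift, AlgHom.toRingHom_eq_coe, RingHom.coe_comp, RingHom.coe_coe,
        Function.comp_apply, MvPolynomial.aeval_X, coe_evalRingHom, eval_add, eval_C, RingHom.id_apply]
      split_ifs <;> simp
  exact congrArg (fun f : MvPolynomial (Fin n × Fin n) A →+* MvPolynomial (Fin n × Fin n) A => f p) this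

open Polynomial in
theorem shift_det (A : Type u) [CommRing A] (n : ℕ) :
    shift A n (Matrix.mvPolynomialX (Fin n) (Fin n) A).det =
      (Matrix.charpoly (-(Matrix.mvPolynomialX (Fin n) (Fin n) A))) := by
  rw [AlgHom.map_det, Matrix.charpoly]
  congr 1
  ext1 i j
  simp only [shift, AlgHom.mapMatrix_apply, Matrix.map_apply, Matrix.mvPolynomialX_apply,
    MvPolynomial.aeval_X, Matrix.charmatrix_apply, Matrix.diagonal_apply, Matrix.neg_apply, map_neg,
    sub_neg_eq_add]
  split_ifs <;> simp [add_comm]

theorem detnzd (A : Type u) [CommRing A] (n : ℕ) :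
    (Matrix.mvPolynomialX (Fin n) (Fin n) A).det ∈ nonZeroDivisors (MvPolynomial (Fin n × Fin n) A) := by
  classical
  rw [mem_nonZeroDivisors_iff]
  have key : ∀ p : MvPolynomial (Fin n × Fin n) A,
      (Matrix.mvPolynomialX (Fin n) (Fin n) A).det * p = 0 → p = 0 := by
    intro p hp
    have h1 : shift A n (Matrix.mvPolynomialX (Fin n) (Fin n) A).det * shift A n p = 0 := by
      rw [← map_mul, hp, map_zero]
    rw [shift_det] at h1
    have hm := Matrix.charpoly_monic (-(Matrix.mvPolynomialX (Fin n) (Fin n) A))
    have h2 : shift A n p = 0 := by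
      have := hm.mem_nonZeroDivisors
      rw [mem_nonZeroDivisors_iff] at this
      exact this.1 _ h1
    rw [← shift_ret A n p, h2, Polynomial.eval_zero]
  refine ⟨key, fun p hp => key p (by rwa [mul_comm])⟩
end Groth.Agent.H15.DetNZD
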