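import Mathlib

namespace Groth.Agent.H15.DieudFrob

universe u v

theorem main
    (p : ℕ) [Fact p.Prime] (k : Type u) [Field k] [CharP k p] [PerfectRing k p]
    (M : Type v) [AddCommGroup M] [Module (WittVector p k) M]
    (F V : M →+ M)
    (hF : ∀ (a : WittVector p k) (m : M), F (a • m) = WittVector.frobenius a • F m)
    (hV : ∀ (a : WittVector p k) (m : M), V (WittVector.frobenius a • m) = a • V m)
    (hFV : ∀ m : M, F (V m) = (p : WittVector p k) • m)
    (hVF : ∀ m : M, V (F m) = (p : WittVector p k) • m)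
    (hVinj : Function.Injective V)
    (hsep : ∀ x : M, (∀ n : ℕ, ∃ y : M, x = (⇑V)^[n] y) → x = 0)
    (hfin : Module.Finite (WittVector p k) (M ⧸ Submodule.span (WittVector p k) (Set.range V))) :
    (∃ c : ℕ, ∀ x : M, (∃ n : ℕ, (⇑F)^[n] x = 0) → (⇑F)^[c] x = 0) ∧
    (∀ x : M, (∀ n : ℕ, ∃ (m : ℕ) (y : M), (⇑V)^[m] x = (⇑F)^[n] y) → F x = 0 → x = 0) := by
  have hσ : Function.Bijective (WittVector.frobenius : WittVector p k →+* WittVector p k) :=
    WittVector.frobenius_bijective p k
  have hcomm : Function.Commute (⇑F) (⇑V) := fun x => by rw [hFV, hVF]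
  have hFadd : ∀ (n : ℕ) (x y : M), (⇑F)^[n] (x + y) = (⇑F)^[n] x + (⇑F)^[n] y := by
    intro n
    induction n with
    | zero => intro x y; rfl
    | succ n ih => intro x y; simp only [Function.iterate_succ_apply, map_add, ih]
  have hFzero : ∀ n : ℕ, (⇑F)^[n] (0 : M) = 0 := by
    intro n
    induction n with
    | zero => rfl
    | succ n ih => simp only [Function.iterate_succ_apply, map_zero, ih]
  have hVzero : ∀ n : ℕ, (⇑V)^[n] (0 : M) = 0 := by
    intro n
    induction n with
    | zero => rfl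
    | succ n ih => simp only [Function.iterate_succ_apply, map_zero, ih]
  have hFsmul : ∀ (n : ℕ) (a : WittVector p k) (x : M),
      (⇑F)^[n] (a • x) = ((⇑(WittVector.frobenius : WittVector p k →+* WittVector p k))^[n] a) • (⇑F)^[n] x := by
    intro n
    induction n with
    | zero => intro a x; rfl
    | succ n ih => intro a x; simp only [Function.iterate_succ_apply, hF, ih]
  -- the chain of kernels
  let K : ℕ → Submodule (WittVector p k) M := fun c =>
    { carrier := {x | (⇑F)^[c] x = 0}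
      add_mem' := by
        intro a b ha hb
        simp only [Set.mem_setOf_eq] at ha hb ⊢
        rw [hFadd, ha, hb, add_zero]
      zero_mem' := hFzero c
      smul_mem' := by
        intro a x hx
        simp only [Set.mem_setOf_eq] at hx ⊢
        rw [hFsmul, hx, smul_zero] }
  have hKmem : ∀ c x, x ∈ K c ↔ (⇑F)^[c] x = 0 := fun c x => Iff.rfl
  have hKmono : Monotone K := by
    refine monotone_nat_of_le_succ fun c x hx => ?_
    rw [hKmem] at hx ⊢
    rw [Function.iterate_succ_apply', hx, map_zero]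
  -- range V is the span
  have hrange : ∀ v ∈ Submodule.span (WittVector p k) (Set.range V), ∃ x', v = V x' := by
    intro v hv
    induction hv using Submodule.span_induction with
    | mem x hx => obtain ⟨y, rfl⟩ := hx; exact ⟨y, rfl⟩
    | zero => exact ⟨0, (map_zero V).symm⟩
    | add a b _ _ ha hb =>
      obtain ⟨a', rfl⟩ := ha; obtain ⟨b', rfl⟩ := hb
      exact ⟨a' + b', (map_add V a' b').symm⟩
    | smul a x _ hx =>
      obtain ⟨x', rfl⟩ := hx
      exact ⟨WittVector.frobenius a • x', (hV a x').symm⟩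
  have hnoeth : IsNoetherian (WittVector p k)
      (M ⧸ Submodule.span (WittVector p k) (Set.range V)) :=
    isNoetherian_of_isNoetherianRing_of_finite _ _
  let Q := Submodule.span (WittVector p k) (Set.range V)
  let f : ℕ →o Submodule (WittVector p k) (M ⧸ Q) :=
    ⟨fun c => (K c).map Q.mkQ, fun a b hab => Submodule.map_mono (hKmono hab)⟩
  obtain ⟨c, hc⟩ := (monotone_stabilizes_iff_noetherian.2 hnoeth) f
  -- decomposition
  have hdecomp : ∀ x : M, (∃ n : ℕ, (⇑F)^[n] x = 0) →
      ∃ x' : M, (∃ n : ℕ, (⇑F)^[n] x' = 0) ∧ (⇑F)^[c] x = V ((⇑F)^[c] x') := by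
    rintro x ⟨n, hn⟩
    have hx1 : x ∈ K (max c n) := (hKmono (le_max_right c n)) ((hKmem n x).2 hn)
    have hx2 : Q.mkQ x ∈ f c := by
      rw [hc (max c n) (le_max_left c n)]
      exact Submodule.mem_map_of_mem hx1
    obtain ⟨z, hz, hzx⟩ := hx2
    have hxz : x - z ∈ Q := by
      rw [← Submodule.Quotient.mk_eq_zero, Submodule.Quotient.mk_sub]
      have : Q.mkQ z = Q.mkQ x := hzx
      simp only [Submodule.mkQ_apply] at this
      rw [this, sub_self]
    obtain ⟨x', hx'⟩ := hrange _ hxz
    have hz' : z ∈ K (max c n) := hKmono (le_max_left c n) hz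
    have hVx' : V x' ∈ K (max c n) := by
      rw [← hx']; exact (K (max c n)).sub_mem hx1 hz'
    refine ⟨x', ⟨max c n, ?_⟩, ?_⟩
    · apply hVinj
      rw [map_zero, ← (hcomm.iterate_left (max c n)) x']
      exact hVx'
    · have : x = z + V x' := by rw [← hx']; abel
      rw [this, hFadd, (hKmem c z).1 hz, zero_add, (hcomm.iterate_left c) x']
  have hpow : ∀ (n : ℕ) (x : M), (∃ n : ℕ, (⇑F)^[n] x = 0) → ∃ y, (⇑F)^[c] x = (⇑V)^[n] y := by
    intro n
    induction n with
    | zero => intro x _; exact ⟨(⇑F)^[c] x, rfl⟩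
    | succ n ih =>
      intro x hx
      obtain ⟨x', hx', hxx'⟩ := hdecomp x hx
      obtain ⟨y, hy⟩ := ih x' hx'
      exact ⟨y, by rw [hxx', hy, Function.iterate_succ_apply']⟩
  have h1 : ∀ x : M, (∃ n : ℕ, (⇑F)^[n] x = 0) → (⇑F)^[c] x = 0 :=
    fun x hx => hsep _ fun n => hpow n x hx
  refine ⟨⟨c, h1⟩, fun x hx hFx => ?_⟩
  obtain ⟨m, y, hy⟩ := hx c
  have hy2 : (⇑F)^[c] y = 0 := by
    apply h1
    refine ⟨c + 1, ?_⟩
    rw [Function.iterate_succ_apply', ← hy, (hcomm.iterate_right m) x, hFx, hVzero]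
  rw [hy2] at hy
  have hinj : Function.Injective ((⇑V)^[m]) := hVinj.iterate m
  apply hinj
  rw [hy, hVzero]

end Groth.Agent.H15.DieudFrob
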