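import Mathlib

namespace Groth.Agent.H15.DieudStable

universe u v w

theorem main
    (p : ℕ) [Fact p.Prime] (k : Type u) [Field k] [CharP k p] [PerfectRing k p]
    (M : Type v) [AddCommGroup M] [Module (WittVector p k) M]
    (N : Type w) [AddCommGroup N] [Module (WittVector p k) N]
    (VM : M →+ M) (FN VN : N →+ N)
    (hVM : ∀ (a : WittVector p k) (m : M), VM (WittVector.frobenius a • m) = a • VM m)
    (hFN : ∀ (a : WittVector p k) (n : N), FN (a • n) = WittVector.frobenius a • FN n)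
    (hVN : ∀ (a : WittVector p k) (n : N), VN (WittVector.frobenius a • n) = a • VN n)
    (hFVN : ∀ n : N, FN (VN n) = (p : WittVector p k) • n)
    (hVFN : ∀ n : N, VN (FN n) = (p : WittVector p k) • n)
    (H₁ : Submodule (WittVector p k) (M →ₗ[WittVector p k] N))
    (hF : ∀ h ∈ H₁, ∃ h' ∈ H₁, ∀ m : M, h' m = FN (h (VM m)))
    (hV : ∀ h ∈ H₁, ∃ h' ∈ H₁, ∀ m : M, h' (VM m) = VN (h m))
    (hmax : ∀ S : Submodule (WittVector p k) (M →ₗ[WittVector p k] N),
      (∀ h ∈ S, ∃ h' ∈ S, ∀ m : M, h' m = FN (h (VM m))) →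
      (∀ h ∈ S, ∃ h' ∈ S, ∀ m : M, h' (VM m) = VN (h m)) → S ≤ H₁)
    (y : M →ₗ[WittVector p k] N) (x : M →ₗ[WittVector p k] N) (hx : x ∈ H₁)
    (hxy : ∀ m : M, x (VM m) = VN (y m)) :
    y ∈ H₁ := by
  have hσ : Function.Bijective (WittVector.frobenius : WittVector p k →+* WittVector p k) :=
    WittVector.frobenius_bijective p k
  let S : Submodule (WittVector p k) (M →ₗ[WittVector p k] N) :=
    { carrier := {h | ∃ h' ∈ H₁, ∀ m, h' (VM m) = VN (h m)}
      add_mem' := by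
        rintro a b ⟨a', ha', ha⟩ ⟨b', hb', hb⟩
        exact ⟨a' + b', H₁.add_mem ha' hb', fun m => by simp [ha, hb]⟩
      zero_mem' := ⟨0, H₁.zero_mem, fun m => by simp⟩
      smul_mem' := by
        rintro c a ⟨a', ha', ha⟩
        obtain ⟨c', rfl⟩ := hσ.2 c
        refine ⟨c' • a', H₁.smul_mem _ ha', fun m => ?_⟩
        simp [ha, hVN] }
  have hH₁S : H₁ ≤ S := fun h hh => hV h hh
  have hSF : ∀ h ∈ S, ∃ h' ∈ S, ∀ m : M, h' m = FN (h (VM m)) := by
    rintro h ⟨h', hh', hh⟩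
    let Fh : M →ₗ[WittVector p k] N :=
      { toFun := fun m => FN (h (VM m))
        map_add' := fun a b => by simp
        map_smul' := fun c m => by
          obtain ⟨c', rfl⟩ := hσ.2 c
          simp [hVM, hFN] }
    refine ⟨Fh, ?_, fun m => rfl⟩
    obtain ⟨h'', hh''mem, hh''⟩ := hF h' hh'
    have : h'' = (p : WittVector p k) • h := by
      ext m
      rw [hh'', hh, hFVN]; rfl
    refine ⟨(p : WittVector p k) • h, this ▸ hh''mem, fun m => ?_⟩
    show (p : WittVector p k) • h (VM m) = VN (FN (h (VM m)))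
    rw [hVFN]
  have hSV : ∀ h ∈ S, ∃ h' ∈ S, ∀ m : M, h' (VM m) = VN (h m) := by
    rintro h ⟨h', hh', hh⟩
    exact ⟨h', hH₁S hh', hh⟩
  exact hmax S hSF hSV ⟨x, hx, hxy⟩

end Groth.Agent.H15.DieudStable
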