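import Mathlib

set_option autoImplicit false

namespace Groth.Agent.H15.DoubleIdx

universe u

/-- the permutation of positions -/
def sFun (e : ℕ) (q : Fin (2 * e + 1)) : Fin (2 * e + 1) :=
  if h : q.val ≤ e then ⟨q.val + e, by omega⟩
  else if q.val = 2 * e then ⟨0, by omega⟩
  else ⟨q.val - e, by omega⟩

theorem sFun_val (e : ℕ) (q : Fin (2 * e + 1)) :
    (sFun e q).val = if q.val ≤ e then q.val + e else if q.val = 2 * e then 0 else q.val - e := by
  unfold sFun
  split_ifs <;> rfl

theorem sFun_injective (e : ℕ) (he : 1 ≤ e) : Function.Injective (sFun e) := by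
  intro q q' h
  have h' := congrArg Fin.val h
  rw [sFun_val, sFun_val] at h'
  apply Fin.ext
  have hq := q.isLt
  have hq' := q'.isLt
  split_ifs at h' <;> omega

theorem sFun_far (e : ℕ) (he : 1 ≤ e) (q : Fin (2 * e + 1)) :
    q.val + e ≤ (sFun e q).val ∨ (sFun e q).val + e ≤ q.val := by
  rw [sFun_val]
  have hq := q.isLt
  split_ifs <;> omega

theorem far_ne {α : Type u} [LinearOrder α] (e : ℕ) (x : Fin (2 * e + 1) → α)
    (hx : ∀ a : α, (Finset.univ.filter fun k => x k = a).card ≤ e)
    (σ : Equiv.Perm (Fin (2 * e + 1))) (hσ : Monotone (x ∘ σ))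
    (q q' : Fin (2 * e + 1)) (hqq : q.val + e ≤ q'.val) : x (σ q) ≠ x (σ q') := by
  intro heq
  have hle : q ≤ q' := Fin.le_def.mpr (by omega)
  have hsub : (Finset.Icc q q').map σ.toEmbedding ⊆
      Finset.univ.filter fun k => x k = x (σ q) := by
    intro k hk
    rw [Finset.mem_map] at hk
    obtain ⟨r, hr, rfl⟩ := hk
    rw [Finset.mem_Icc] at hr
    rw [Finset.mem_filter]
    refine ⟨Finset.mem_univ _, ?_⟩
    have h1 : x (σ q) ≤ x (σ r) := hσ hr.1
    have h2 : x (σ r) ≤ x (σ q') := hσ hr.2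
    exact le_antisymm (heq ▸ h2) h1
  have hcard := Finset.card_le_card hsub
  rw [Finset.card_map, Fin.card_Icc] at hcard
  have := hx (x (σ q))
  omega

theorem card_filter_perm {n : ℕ} (f : Equiv.Perm (Fin n)) (m : Fin n) :
    (Finset.univ.filter fun k => f k = m).card = 1 := by
  rw [Finset.card_eq_one]
  refine ⟨f.symm m, ?_⟩
  ext k
  simp [Equiv.eq_symm_apply]

theorem main_lin {α : Type u} [LinearOrder α] (e : ℕ) (he : 1 ≤ e)
    (x : Fin (2 * e + 1) → α)
    (hx : ∀ a : α, (Finset.univ.filter fun k => x k = a).card ≤ e) :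
    ∃ i j : Fin (2 * e + 1) → Fin (2 * e + 1),
      (∀ m : Fin (2 * e + 1),
        (Finset.univ.filter fun k => i k = m).card + (Finset.univ.filter fun k => j k = m).card = 2) ∧
      (∀ k, x (i k) ≠ x (j k)) ∧
      i 0 = j 2 ∧ i 1 = j 0 ∧ i 2 = j 1 := by
  set σ := Tuple.sort x with hσdef
  have hσ : Monotone (x ∘ σ) := Tuple.monotone_sort x
  set s : Equiv.Perm (Fin (2 * e + 1)) :=
    Equiv.ofBijective (sFun e) (Finite.injective_iff_bijective.mp (sFun_injective e he)) with hs
  -- the three special positions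
  set p1 : Fin (2 * e + 1) := ⟨e, by omega⟩ with hp1
  set p2 : Fin (2 * e + 1) := ⟨2 * e, by omega⟩ with hp2
  set τ : Equiv.Perm (Fin (2 * e + 1)) := Equiv.swap 1 p1 * Equiv.swap 2 p2 with hτ
  have v0 : ((0 : Fin (2 * e + 1))).val = 0 := rfl
  have v1 : ((1 : Fin (2 * e + 1))).val = 1 := by
    rw [Fin.val_one']; exact Nat.mod_eq_of_lt (by omega)
  have v2 : ((2 : Fin (2 * e + 1))).val = 2 := by
    change 2 % (2 * e + 1) = 2
    exact Nat.mod_eq_of_lt (by omega)
  have t0 : τ 0 = 0 := by
    rw [hτ, Equiv.Perm.mul_apply]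
    rw [Equiv.swap_apply_of_ne_of_ne (a := (2 : Fin (2 * e + 1))) (b := p2) (x := 0),
      Equiv.swap_apply_of_ne_of_ne]
    · intro h; have := congrArg Fin.val h; rw [v0, v1] at this; omega
    · intro h; have := congrArg Fin.val h; rw [v0, hp1] at this; simp at this; omega
    · intro h; have := congrArg Fin.val h; rw [v0, v2] at this; omega
    · intro h; have := congrArg Fin.val h; rw [v0, hp2] at this; simp at this; omega
  have t1 : τ 1 = p1 := by
    rw [hτ, Equiv.Perm.mul_apply]
    rw [Equiv.swap_apply_of_ne_of_ne (a := (2 : Fin (2 * e + 1))) (b := p2) (x := 1),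
      Equiv.swap_apply_left]
    · intro h; have := congrArg Fin.val h; rw [v1, v2] at this; omega
    · intro h; have := congrArg Fin.val h; rw [v1, hp2] at this; simp at this; omega
  have t2 : τ 2 = p2 := by
    rw [hτ, Equiv.Perm.mul_apply, Equiv.swap_apply_left]
    by_cases h21 : p2 = 1
    · exfalso; have := congrArg Fin.val h21; rw [v1, hp2] at this; simp only at this; omega
    · rw [Equiv.swap_apply_of_ne_of_ne h21]
      intro h; have := congrArg Fin.val h; rw [hp2, hp1] at this; simp at this; omega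
  have s0 : s 0 = p1 := by
    apply Fin.ext
    change (sFun e 0).val = _
    rw [sFun_val, v0, hp1]
    simp
  have s1 : s p1 = p2 := by
    apply Fin.ext
    change (sFun e p1).val = _
    rw [sFun_val, hp1, hp2]
    simp only
    rw [if_pos le_rfl]
    omega
  have s2 : s p2 = 0 := by
    apply Fin.ext
    change (sFun e p2).val = _
    rw [sFun_val, hp2, v0]
    simp only
    rw [if_neg (by omega)]
    simp
  refine ⟨fun k => σ (τ k), fun k => σ (s (τ k)), ?_, ?_, ?_, ?_, ?_⟩
  · intro m
    have h1 := card_filter_perm (τ.trans σ) m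
    have h2 := card_filter_perm ((τ.trans s).trans σ) m
    exact congrArg₂ (· + ·) h1 h2
  · intro k
    rcases sFun_far e he (τ k) with h | h
    · exact far_ne e x hx σ hσ _ _ h
    · exact (far_ne e x hx σ hσ _ _ h).symm
  · change σ (τ 0) = σ (s (τ 2))
    rw [t0, t2, s2]
  · change σ (τ 1) = σ (s (τ 0))
    rw [t1, t0, s0]
  · change σ (τ 2) = σ (s (τ 1))
    rw [t2, t1, s1]

theorem main {α : Type u} [DecidableEq α] (e : ℕ) (he : 1 ≤ e)
    (x : Fin (2 * e + 1) → α)
    (hx : ∀ a : α, (Finset.univ.filter fun k => x k = a).card ≤ e) :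
    ∃ i j : Fin (2 * e + 1) → Fin (2 * e + 1),
      (∀ m : Fin (2 * e + 1),
        (Finset.univ.filter fun k => i k = m).card + (Finset.univ.filter fun k => j k = m).card = 2) ∧
      (∀ k, x (i k) ≠ x (j k)) ∧
      i 0 = j 2 ∧ i 1 = j 0 ∧ i 2 = j 1 := by
  have L : LinearOrder α := IsWellOrder.linearOrder WellOrderingRel
  refine @main_lin α L e he x ?_
  intro a
  convert hx a

end Groth.Agent.H15.DoubleIdx
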