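import Mathlib

set_option autoImplicit false
open TensorProduct

namespace Groth.Agent.H15.EtDesc

universe u

section Lift

variable {ι : Type u} [Preorder ι] [IsDirected ι (· ≤ ·)] [Nonempty ι]
    (G : ι → Type u) [∀ i, CommRing (G i)] (f : ∀ i j, i ≤ j → (G i →+* G j))
    (A : Type u) [CommRing A] (g : ∀ i, G i →+* A)
    (hg : ∀ i j (h : i ≤ j), (g j).comp (f i j h) = g i)
    (hsurj : ∀ a : A, ∃ i, ∃ x : G i, g i x = a)
    (hker : ∀ i (x : G i), g i x = 0 → ∃ j, ∃ h : i ≤ j, f i j h x = 0)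

include hg hsurj in
/-- lifting a hom from a polynomial ring over `ℤ` to a finite level -/
lemma lift_poly {n : ℕ} (τ : MvPolynomial (Fin n) ℤ →+* A) :
    ∃ i, ∃ ψ : MvPolynomial (Fin n) ℤ →+* G i, (g i).comp ψ = τ := by
  choose j x hx using fun k : Fin n => hsurj (τ (MvPolynomial.X k))
  obtain ⟨i, hi⟩ := Finite.exists_le j
  refine ⟨i, MvPolynomial.eval₂Hom (Int.castRingHom (G i))
    (fun k => f (j k) i (hi k) (x k)), ?_⟩
  apply MvPolynomial.ringHom_ext
  · intro r
    exact RingHom.congr_fun (RingHom.ext_int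
      (((g i).comp (MvPolynomial.eval₂Hom (Int.castRingHom (G i))
        (fun k => f (j k) i (hi k) (x k)))).comp MvPolynomial.C) (τ.comp MvPolynomial.C)) r
  · intro k
    rw [RingHom.comp_apply, MvPolynomial.coe_eval₂Hom, MvPolynomial.eval₂_X, ← hx k]
    exact RingHom.congr_fun (hg (j k) i (hi k)) (x k)

include hg hker in
/-- killing finitely many elements at a finite level -/
lemma kill_finset {R₀ : Type*} [CommRing R₀] (τ : R₀ →+* A)
    (i : ι) (ψ : R₀ →+* G i) (hψ : (g i).comp ψ = τ) (s : Finset R₀) (hs : ∀ r ∈ s, τ r = 0) :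
    ∃ j, ∃ ψ' : R₀ →+* G j, (g j).comp ψ' = τ ∧ ∀ r ∈ s, ψ' r = 0 := by
  classical
  induction s using Finset.induction_on with
  | empty => exact ⟨i, ψ, hψ, by simp⟩
  | insert a s _ ih =>
    obtain ⟨j, ψ', h1, h2⟩ := ih (fun r hr => hs r (Finset.mem_insert_of_mem hr))
    have h0 : g j (ψ' a) = 0 := by
      have := RingHom.congr_fun h1 a
      rw [RingHom.comp_apply] at this
      rw [this]
      exact hs a (Finset.mem_insert_self a s)
    obtain ⟨k, hjk, hk⟩ := hker j (ψ' a) h0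
    refine ⟨k, (f j k hjk).comp ψ', ?_, ?_⟩
    · rw [← RingHom.comp_assoc, hg j k hjk, h1]
    · intro r hr
      rcases Finset.mem_insert.mp hr with rfl | hr'
      · exact hk
      · rw [RingHom.comp_apply, h2 r hr', map_zero]

include hg hsurj hker in
/-- lifting a hom from a finitely presented `ℤ`-algebra to a finite level -/
lemma lift_fp (A₀ : Type u) [CommRing A₀] [Algebra.FinitePresentation ℤ A₀] (τ : A₀ →+* A) :
    ∃ i, ∃ φ : A₀ →+* G i, (g i).comp φ = τ := by
  obtain ⟨n, π, hπ, t, ht⟩ := Algebra.FinitePresentation.out (R := ℤ) (A := A₀)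
  obtain ⟨i, ψ, hψ⟩ := lift_poly G f A g hg hsurj (τ.comp π.toRingHom)
  obtain ⟨j, ψ', h1, h2⟩ := kill_finset G f A g hg hker (τ.comp π.toRingHom) i ψ hψ t (by
    intro r hr
    have : r ∈ RingHom.ker π.toRingHom := by
      rw [← ht]; exact Ideal.subset_span hr
    rw [RingHom.comp_apply, RingHom.mem_ker.mp this, map_zero])
  have hle : RingHom.ker π.toRingHom ≤ RingHom.ker ψ' := by
    rw [← ht, Ideal.span_le]
    intro r hr
    exact h2 r hr
  refine ⟨j, RingHom.liftOfSurjective π.toRingHom hπ ⟨ψ', hle⟩, ?_⟩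
  apply RingHom.ext
  intro a
  obtain ⟨p, rfl⟩ := hπ a
  have e1 : (RingHom.liftOfSurjective π.toRingHom hπ ⟨ψ', hle⟩) (π.toRingHom p) = ψ' p := by
    exact RingHom.liftOfRightInverse_comp_apply π.toRingHom (Function.surjInv hπ)
      (Function.rightInverse_surjInv hπ) ⟨ψ', hle⟩ p
  rw [RingHom.comp_apply]
  refine (congrArg (g j) e1).trans ?_
  exact RingHom.congr_fun h1 p

end Lift

theorem main {ι : Type u} [Preorder ι] [IsDirected ι (· ≤ ·)] [Nonempty ι]
    (G : ι → Type u) [∀ i, CommRing (G i)] (f : ∀ i j, i ≤ j → (G i →+* G j))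
    (A : Type u) [CommRing A] (g : ∀ i, G i →+* A)
    (hg : ∀ i j (h : i ≤ j), (g j).comp (f i j h) = g i)
    (hsurj : ∀ a : A, ∃ i, ∃ x : G i, g i x = a)
    (hker : ∀ i (x : G i), g i x = 0 → ∃ j, ∃ h : i ≤ j, f i j h x = 0)
    (B : Type u) [CommRing B] [Algebra A B] [Algebra.Etale A B] :
    ∃ (i : ι) (Bi : Type u) (_ : CommRing Bi) (_ : Algebra (G i) Bi), Algebra.Etale (G i) Bi ∧
      letI : Algebra (G i) A := (g i).toAlgebra
      Nonempty (B ≃ₐ[A] A ⊗[G i] Bi) := by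
  obtain ⟨A₀, B₀, _, _, hfg, hét, ⟨e⟩⟩ := Algebra.Etale.exists_subalgebra_fg ℤ A B
  haveI : Algebra.FiniteType ℤ A₀ := (Subalgebra.fg_iff_finiteType A₀).mp hfg
  haveI : Algebra.FinitePresentation ℤ A₀ := Algebra.FinitePresentation.of_finiteType.mp this
  obtain ⟨i, φ, hφ⟩ := lift_fp G f A g hg hsurj hker A₀ (algebraMap A₀ A)
  letI : Algebra (G i) A := (g i).toAlgebra
  letI : Algebra A₀ (G i) := φ.toAlgebra
  haveI : IsScalarTower A₀ (G i) A := IsScalarTower.of_algebraMap_eq' hφ.symm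
  refine ⟨i, G i ⊗[A₀] B₀, inferInstance, inferInstance, inferInstance, ?_⟩
  exact ⟨e.trans (Algebra.TensorProduct.cancelBaseChange A₀ (G i) A A B₀).symm⟩

end Groth.Agent.H15.EtDesc
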