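import Groth.Prelude.Def_HopfRep
import Groth.Prelude.Def_Hoch
import Mathlib
set_option autoImplicit false
universe u v w
open TensorProduct
namespace Groth.Agent.H15.FundComod

variable (k : Type u) (C : Type v) [Field k] [AddCommGroup C] [Module k C] [Coalgebra k C]
variable (V : Type w) [AddCommGroup V] [Module k V] [HopfRep.Comod k C V]

omit [Coalgebra k C] [HopfRep.Comod k C V] in
theorem mem_range_rTensor_of_mem (W : Submodule k V) (x : V) (hx : x ∈ W) (c : C) :
    x ⊗ₜ[k] c ∈ LinearMap.range (W.subtype.rTensor C) :=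
  ⟨(⟨x, hx⟩ : W) ⊗ₜ[k] c, by simp⟩

theorem fund (v : V) :
    ∃ W : Submodule k V, Module.Finite k W ∧ v ∈ W ∧ HopfRep.IsSubcomod (k := k) (A := C) W := by
  classical
  let b := Module.Free.chooseBasis k C
  let ρ : V →ₗ[k] V ⊗[k] C := HopfRep.Comod.coact (k := k) (A := C) (V := V)
  let e := TensorProduct.equivFinsuppOfBasisRight (M := V) b
  let x := e (ρ v)
  have hx : ρ v = x.sum fun i m => m ⊗ₜ[k] b i := by
    rw [← TensorProduct.equivFinsuppOfBasisRight_symm_apply, LinearEquiv.symm_apply_apply]
  let W := Submodule.span k (Set.range x)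
  have hxW : ∀ i, x i ∈ W := fun i => Submodule.subset_span ⟨i, rfl⟩
  -- every element of the form (f.lTensor V) (ρ v) is in range
  have hrange : ∀ f : C →ₗ[k] C, (f.lTensor V) (ρ v) ∈ LinearMap.range (W.subtype.rTensor C) := by
    intro f
    rw [hx, Finsupp.sum, map_sum]
    refine Submodule.sum_mem _ fun i _ => ?_
    rw [LinearMap.lTensor_tmul]
    exact mem_range_rTensor_of_mem k C V W _ (hxW i) _
  have hkey : ∀ l, ρ (x l) ∈ LinearMap.range (W.subtype.rTensor C) := by
    intro l
    have hxl : x l = TensorProduct.rid k V ((b.coord l).lTensor V (ρ v)) :=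
      TensorProduct.equivFinsuppOfBasisRight_apply b (ρ v) l
    -- naturality
    have hA : ρ ∘ₗ (TensorProduct.rid k V).toLinearMap ∘ₗ (b.coord l).lTensor V =
        (TensorProduct.rid k (V ⊗[k] C)).toLinearMap ∘ₗ (b.coord l).lTensor (V ⊗[k] C) ∘ₗ ρ.rTensor C := by
      apply TensorProduct.ext'
      intro w c
      simp
    have hB : (TensorProduct.rid k (V ⊗[k] C)).toLinearMap ∘ₗ (b.coord l).lTensor (V ⊗[k] C) ∘ₗ
        (TensorProduct.assoc k V C C).symm.toLinearMap =
        ((TensorProduct.rid k C).toLinearMap ∘ₗ (b.coord l).lTensor C).lTensor V := by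
      apply TensorProduct.ext_threefold'
      intro w c c'
      simp [TensorProduct.tmul_smul]
    have hco := HopfRep.Comod.coassoc (k := k) (A := C) (V := V)
    have hco' : ρ.rTensor C (ρ v) = (TensorProduct.assoc k V C C).symm
        ((Coalgebra.comul (R := k) (A := C)).lTensor V (ρ v)) := by
      have := LinearMap.congr_fun hco v
      simp only [LinearMap.comp_apply, LinearEquiv.coe_coe] at this
      rw [← this, LinearEquiv.symm_apply_apply]
    have h1 : ρ (x l) = (TensorProduct.rid k (V ⊗[k] C))
        ((b.coord l).lTensor (V ⊗[k] C) (ρ.rTensor C (ρ v))) := by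
      rw [hxl]
      exact LinearMap.congr_fun hA (ρ v)
    rw [h1, hco']
    have h2 := LinearMap.congr_fun hB ((Coalgebra.comul (R := k) (A := C)).lTensor V (ρ v))
    simp only [LinearMap.comp_apply, LinearEquiv.coe_coe] at h2
    rw [h2, ← LinearMap.comp_apply, ← LinearMap.lTensor_comp]
    exact hrange _
  refine ⟨W, Module.Finite.span_of_finite k x.finite_range, ?_, ?_⟩
  · have h := LinearMap.congr_fun (HopfRep.Comod.counit_comp (k := k) (A := C) (V := V)) v
    simp only [LinearMap.comp_apply, LinearMap.flip_apply, TensorProduct.mk_apply] at h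
    have h' := congrArg (TensorProduct.rid k V) h
    rw [TensorProduct.rid_tmul, one_smul] at h'
    rw [← h']
    change (TensorProduct.rid k V) ((Coalgebra.counit (R := k) (A := C)).lTensor V (ρ v)) ∈ W
    rw [hx, Finsupp.sum, map_sum, map_sum]
    refine Submodule.sum_mem _ fun i _ => ?_
    rw [LinearMap.lTensor_tmul, TensorProduct.rid_tmul]
    exact W.smul_mem _ (hxW i)
  · intro w hw
    induction hw using Submodule.span_induction with
    | mem y hy =>
      obtain ⟨l, rfl⟩ := hy
      exact hkey l
    | zero => rw [map_zero]; exact Submodule.zero_mem _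
    | add y z _ _ hy hz => rw [map_add]; exact Submodule.add_mem _ hy hz
    | smul c y _ hy => rw [map_smul]; exact Submodule.smul_mem _ c hy
theorem simple_finite (hV : HopfRep.IsSimpleComod k C V) : Module.Finite k V := by
  obtain ⟨hnt, hsimple⟩ := hV
  obtain ⟨v, hv⟩ := exists_ne (0 : V)
  obtain ⟨W, hfin, hvW, hW⟩ := fund k C V v
  rcases hsimple W hW with h | h
  · rw [h, Submodule.mem_bot] at hvW
    exact absurd hvW hv
  · rw [h] at hfin
    rw [Module.Finite.iff_fg] at hfin
    exact Module.finite_def.mpr hfin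

theorem schur [IsAlgClosed k] (hV : HopfRep.IsSimpleComod k C V) (α : V →ₗ[k] V)
    (hα : Hoch.IsComodHom C α) : ∃ a : k, α = a • LinearMap.id := by
  have hfin := simple_finite k C V hV
  obtain ⟨hnt, hsimple⟩ := hV
  obtain ⟨a, ha⟩ := Module.End.exists_eigenvalue α
  refine ⟨a, ?_⟩
  let β : V →ₗ[k] V := α - a • LinearMap.id
  have hβ : HopfRep.Comod.coact (k := k) (A := C) ∘ₗ β =
      β.rTensor C ∘ₗ HopfRep.Comod.coact (k := k) (A := C) := by
    have h1 : HopfRep.Comod.coact (k := k) (A := C) ∘ₗ α =
      α.rTensor C ∘ₗ HopfRep.Comod.coact (k := k) (A := C) := hα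
    apply LinearMap.ext
    intro w
    have h2 := LinearMap.congr_fun h1 w
    simp only [LinearMap.comp_apply] at h2
    simp only [β, LinearMap.comp_apply, LinearMap.sub_apply, LinearMap.smul_apply, LinearMap.id_apply,
      map_sub, map_smul, h2, LinearMap.rTensor_sub, LinearMap.rTensor_smul, LinearMap.rTensor_id]
  have hsub : HopfRep.IsSubcomod (k := k) (A := C) (LinearMap.ker β) := by
    intro w hw
    have hex := Module.Flat.rTensor_exact C (LinearMap.exact_subtype_ker_map β)
    rw [LinearMap.exact_iff] at hex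
    rw [← hex, LinearMap.mem_ker]
    have := LinearMap.congr_fun hβ w
    simp only [LinearMap.comp_apply] at this
    rw [← this, LinearMap.mem_ker.mp hw, map_zero]
  rcases hsimple _ hsub with h | h
  · exfalso
    obtain ⟨w, hw⟩ := ha.exists_hasEigenvector
    have hw' : w ∈ LinearMap.ker β := by
      rw [LinearMap.mem_ker]
      simp only [β, LinearMap.sub_apply, LinearMap.smul_apply, LinearMap.id_apply]
      rw [hw.apply_eq_smul, sub_self]
    rw [h, Submodule.mem_bot] at hw'
    exact hw.2 hw'
  · apply LinearMap.ext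
    intro w
    have hw : w ∈ LinearMap.ker β := by rw [h]; trivial
    rw [LinearMap.mem_ker] at hw
    simp only [β, LinearMap.sub_apply] at hw
    exact sub_eq_zero.mp hw

end Groth.Agent.H15.FundComod
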