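import Mathlib

namespace Groth.Agent.H15.FFinite

open Polynomial

variable {p : ℕ}

/-- `T g`: the set of combinations `∑ i, c i ^ p * g i`. -/
def T {R : Type*} [CommRing R] (p : ℕ) {ι : Type*} [Fintype ι] (g : ι → R) : Set R :=
  {x | ∃ c : ι → R, x = ∑ i, c i ^ p * g i}

lemma add_pow_p {R : Type*} [CommRing R] (hp : p.Prime) (h0 : (p : R) = 0) (x y : R) :
    (x + y) ^ p = x ^ p + y ^ p := by
  obtain ⟨r, hr⟩ := exists_add_pow_prime_eq hp x y
  rw [hr, h0]; ring

section closure

variable {R : Type*} [CommRing R] {ι : Type*} [Fintype ι] (g : ι → R)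

lemma add_mem (hp : p.Prime) (h0 : (p : R) = 0) {x y : R} (hx : x ∈ T p g) (hy : y ∈ T p g) :
    x + y ∈ T p g := by
  obtain ⟨c, rfl⟩ := hx
  obtain ⟨d, rfl⟩ := hy
  refine ⟨fun i => c i + d i, ?_⟩
  rw [← Finset.sum_add_distrib]
  refine Finset.sum_congr rfl fun i _ => ?_
  rw [add_pow_p hp h0]; ring

lemma zero_mem (hp : p.Prime) : (0 : R) ∈ T p g := by
  refine ⟨fun _ => 0, ?_⟩
  simp [zero_pow hp.ne_zero]

lemma sum_mem (hp : p.Prime) (h0 : (p : R) = 0) {κ : Type*} (s : Finset κ) (f : κ → R)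
    (hf : ∀ k ∈ s, f k ∈ T p g) : ∑ k ∈ s, f k ∈ T p g := by
  classical
  induction s using Finset.induction_on with
  | empty => simpa using zero_mem g hp
  | insert a s ha ih =>
    rw [Finset.sum_insert ha]
    exact add_mem g hp h0 (hf a (Finset.mem_insert_self a s))
      (ih fun k hk => hf k (Finset.mem_insert_of_mem hk))

lemma mul_mem {x : R} (a : R) (hx : x ∈ T p g) : a ^ p * x ∈ T p g := by
  obtain ⟨c, rfl⟩ := hx
  refine ⟨fun i => a * c i, ?_⟩
  rw [Finset.mul_sum]
  refine Finset.sum_congr rfl fun i _ => ?_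
  rw [mul_pow]; ring

lemma gen_mem (hp : p.Prime) (i : ι) : g i ∈ T p g := by
  classical
  refine ⟨fun j => if j = i then 1 else 0, ?_⟩
  rw [Finset.sum_eq_single i]
  · simp
  · intro j _ hj; simp [hj, zero_pow hp.ne_zero]
  · intro h; exact absurd (Finset.mem_univ i) h

lemma map_mem {S : Type*} [CommRing S] (φ : R →+* S) {x : R} (hx : x ∈ T p g) :
    φ x ∈ T p (φ ∘ g) := by
  obtain ⟨c, rfl⟩ := hx
  refine ⟨fun i => φ (c i), ?_⟩
  simp [map_sum, map_mul, map_pow]

end closure

/-- `R` is F-finite (with explicit generators). -/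
def IsFFin (R : Type*) [CommRing R] (p : ℕ) : Prop :=
  ∃ (n : ℕ) (g : Fin n → R), ∀ x : R, x ∈ T p g

lemma isFFin_of_fintype {R : Type*} [CommRing R] {ι : Type*} [Fintype ι] (g : ι → R)
    (h : ∀ x : R, x ∈ T p g) : IsFFin R p := by
  classical
  let e := Fintype.equivFin ι
  refine ⟨Fintype.card ι, g ∘ e.symm, fun x => ?_⟩
  obtain ⟨c, hc⟩ := h x
  refine ⟨c ∘ e.symm, ?_⟩
  rw [hc]
  exact (Equiv.sum_comp e.symm (fun i => c i ^ p * g i)).symm

lemma isFFin_of_surjective {R S : Type*} [CommRing R] [CommRing S] (φ : R →+* S)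
    (hφ : Function.Surjective φ) (h : IsFFin R p) : IsFFin S p := by
  obtain ⟨n, g, hg⟩ := h
  refine ⟨n, φ ∘ g, fun y => ?_⟩
  obtain ⟨x, rfl⟩ := hφ y
  exact map_mem g φ (hg x)

lemma isFFin_polynomial {R : Type*} [CommRing R] (hp : p.Prime) (h0 : (p : R) = 0)
    (h : IsFFin R p) : IsFFin R[X] p := by
  obtain ⟨n, g, hg⟩ := h
  have h0' : (p : R[X]) = 0 := by
    rw [← map_natCast (C : R →+* R[X]), h0, map_zero]
  let g' : Fin n × Fin p → R[X] := fun ij => C (g ij.1) * X ^ (ij.2 : ℕ)
  refine isFFin_of_fintype g' fun f => ?_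
  rw [f.as_sum_range]
  refine sum_mem g' hp h0' _ _ fun m _ => ?_
  obtain ⟨c, hc⟩ := hg (f.coeff m)
  have hpos : 0 < p := hp.pos
  have key : monomial m (f.coeff m) =
      ∑ i, (C (c i) * X ^ (m / p)) ^ p * g' (i, ⟨m % p, Nat.mod_lt _ hpos⟩) := by
    rw [hc, ← C_mul_X_pow_eq_monomial, map_sum, Finset.sum_mul]
    refine Finset.sum_congr rfl fun i _ => ?_
    simp only [g', map_mul, map_pow, mul_pow]
    have : (X : R[X]) ^ m = (X ^ (m / p)) ^ p * X ^ (m % p) := by
      rw [← pow_mul, ← pow_add, mul_comm, Nat.div_add_mod]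
    rw [this]; ring
  rw [key]
  exact sum_mem g' hp h0' _ _ fun i _ => mul_mem g' _ (gen_mem g' hp _)

lemma isFFin_mvPolynomial {R : Type*} [CommRing R] (hp : p.Prime) (h0 : (p : R) = 0)
    (h : IsFFin R p) (n : ℕ) : IsFFin (MvPolynomial (Fin n) R) p := by
  induction n with
  | zero =>
    exact isFFin_of_surjective (MvPolynomial.isEmptyAlgEquiv R (Fin 0)).symm.toRingEquiv.toRingHom
      (MvPolynomial.isEmptyAlgEquiv R (Fin 0)).symm.surjective h
  | succ n ih =>
    have h0' : (p : MvPolynomial (Fin n) R) = 0 := by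
      rw [← map_natCast (MvPolynomial.C : R →+* MvPolynomial (Fin n) R), h0, map_zero]
    have := isFFin_polynomial hp h0' ih
    exact isFFin_of_surjective (MvPolynomial.finSuccEquiv R n).symm.toRingEquiv.toRingHom
      (MvPolynomial.finSuccEquiv R n).symm.surjective this

lemma isFFin_localization {A S : Type*} [CommRing A] [CommRing S] [Algebra A S]
    (M : Submonoid A) [IsLocalization M S] (hp : p.Prime) (h : IsFFin A p) : IsFFin S p := by
  obtain ⟨n, g, hg⟩ := h
  refine ⟨n, algebraMap A S ∘ g, fun x => ?_⟩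
  obtain ⟨a, s, rfl⟩ := IsLocalization.exists_mk'_eq M x
  have hpos : 0 < p := hp.pos
  have key : IsLocalization.mk' S a s =
      (IsLocalization.mk' S 1 s) ^ p * algebraMap A S (a * (s : A) ^ (p - 1)) := by
    rw [← IsLocalization.mk'_pow, one_pow, mul_comm, ← IsLocalization.mk'_eq_mul_mk'_one,
      IsLocalization.mk'_eq_iff_eq]
    congr 1
    have : ((s ^ p : M) : A) = (s : A) ^ (p - 1) * s := by
      rw [SubmonoidClass.coe_pow, ← pow_succ, Nat.sub_add_cancel hpos]
    rw [this]; ring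
  rw [key]
  exact mul_mem _ _ (map_mem g (algebraMap A S) (hg _))

lemma coeff_pow_char (k : Type*) [CommRing k] [Fact p.Prime] [CharP k p] (f : PowerSeries k)
    (n : ℕ) :
    PowerSeries.coeff n (f ^ p) = if p ∣ n then (PowerSeries.coeff (n / p) f) ^ p else 0 := by
  have hp : p ≠ 0 := (Fact.out : p.Prime).ne_zero
  have h : f ^ p = PowerSeries.map (frobenius k p) (PowerSeries.expand p hp f) :=
    (MvPowerSeries.map_frobenius_expand p hp).symm
  rw [h, PowerSeries.coeff_map, PowerSeries.coeff_expand]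
  split_ifs
  · rw [frobenius_def]
  · rw [map_zero]

lemma isFFin_powerSeries (k : Type*) [Field k] [Fact p.Prime] [CharP k p] [PerfectRing k p] :
    IsFFin (PowerSeries k) p := by
  have hp : p.Prime := Fact.out
  have hpos : 0 < p := hp.pos
  let g : Fin p → PowerSeries k := fun j => PowerSeries.X ^ (j : ℕ)
  refine ⟨p, g, fun f => ?_⟩
  have hsurj := surjective_frobenius k p
  choose r hr using hsurj
  refine ⟨fun j => PowerSeries.mk fun m => r (PowerSeries.coeff (p * m + j) f), ?_⟩
  ext n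
  rw [map_sum]
  rw [Finset.sum_eq_single (⟨n % p, Nat.mod_lt _ hpos⟩ : Fin p)]
  · simp only [g]
    rw [PowerSeries.coeff_mul_X_pow', if_pos (Nat.mod_le _ _), coeff_pow_char,
      if_pos (Nat.dvd_sub_mod n), PowerSeries.coeff_mk]
    have := hr (PowerSeries.coeff (p * ((n - n % p) / p) + n % p) f)
    rw [frobenius_def] at this
    rw [this, Nat.mul_div_cancel' (Nat.dvd_sub_mod n), Nat.sub_add_cancel (Nat.mod_le _ _)]
  · intro j _ hj
    simp only [g]
    rw [PowerSeries.coeff_mul_X_pow']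
    split_ifs with hle
    · rw [coeff_pow_char, if_neg]
      intro hdvd
      apply hj
      ext
      simp only
      obtain ⟨q, hq⟩ := hdvd
      have hn : n = p * q + j := by omega
      rw [hn, Nat.mul_add_mod, Nat.mod_eq_of_lt j.2]
    · rfl
  · intro h; exact absurd (Finset.mem_univ _) h

lemma finite_of_span {A B : Type*} [CommRing A] [CommRing B] (φ : A →+* B) {n : ℕ}
    (g : Fin n → B) (h : ∀ x : B, ∃ c : Fin n → A, x = ∑ i, φ (c i) * g i) : φ.Finite := by
  classical
  let _ := φ.toAlgebra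
  show Module.Finite A B
  refine ⟨⟨Finset.univ.image g, top_le_iff.mp fun x _ => ?_⟩⟩
  obtain ⟨c, rfl⟩ := h x
  refine Submodule.sum_mem _ fun i _ => ?_
  have : φ (c i) * g i = c i • g i := by
    rw [Algebra.smul_def, RingHom.algebraMap_toAlgebra]
  rw [this]
  exact Submodule.smul_mem _ _ (Submodule.subset_span (by simp))

lemma finite_of_isFFin {S : Type*} [CommRing S] (φ : S →+* S) (hφ : ∀ x, φ x = x ^ p)
    (h : IsFFin S p) : φ.Finite := by
  obtain ⟨n, g, hg⟩ := h
  refine finite_of_span φ g fun x => ?_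
  obtain ⟨c, hc⟩ := hg x
  exact ⟨c, by simp only [hφ]; exact hc⟩

theorem main (p : ℕ) [Fact p.Prime]
    (k : Type*) [Field k] [Finite k] [CharP k p]
    (A : Type*) [CommRing A] [Algebra (PowerSeries k) A] [Algebra.FiniteType (PowerSeries k) A]
    (P : Ideal A) [P.IsPrime] [CharP (Localization.AtPrime P) p] :
    (frobenius (Localization.AtPrime P) p).Finite := by
  have hp : p.Prime := Fact.out
  have h1 : IsFFin (PowerSeries k) p := isFFin_powerSeries k
  have h0 : (p : PowerSeries k) = 0 := by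
    rw [← map_natCast (PowerSeries.C : k →+* PowerSeries k), CharP.cast_eq_zero, map_zero]
  obtain ⟨n, f, hf⟩ := Algebra.FiniteType.iff_quotient_mvPolynomial''.mp
    (inferInstance : Algebra.FiniteType (PowerSeries k) A)
  have h2 := isFFin_mvPolynomial hp h0 h1 n
  have h3 : IsFFin A p := isFFin_of_surjective f.toRingHom hf h2
  have h4 : IsFFin (Localization.AtPrime P) p := isFFin_localization P.primeCompl hp h3
  exact finite_of_isFFin _ (fun x => frobenius_def p x) h4

end Groth.Agent.H15.FFinite
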