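import Mathlib
open MvPowerSeries

namespace Groth.Agent.H15.FGInv

variable {R : Type*} [CommRing R]

/-- substitution vector `(X, h)` -/
noncomputable abbrev av (h : PowerSeries R) : Fin 2 → PowerSeries R := ![PowerSeries.X, h]

theorem hasSubst_av {h : PowerSeries R} (hh : PowerSeries.constantCoeff h = 0) : HasSubst (av h) := by
  apply hasSubst_of_constantCoeff_zero
  intro i
  fin_cases i
  · simp [av, PowerSeries.X]
  · exact hh

theorem prod_av (d : Fin 2 →₀ ℕ) (h : PowerSeries R) :
    (d.prod fun s e => (av h s) ^ e) = PowerSeries.X ^ (d 0) * h ^ (d 1) := by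
  rw [Finsupp.prod_fintype _ _ (fun i => pow_zero _), Fin.prod_univ_two]
  rfl

theorem coeff_subst_av (F : MvPowerSeries (Fin 2) R) {h : PowerSeries R}
    (hh : PowerSeries.constantCoeff h = 0) (n : ℕ) :
    PowerSeries.coeff n (F.subst (av h)) =
      ∑ᶠ d : Fin 2 →₀ ℕ, coeff d F * PowerSeries.coeff n (PowerSeries.X ^ (d 0) * h ^ (d 1)) := by
  rw [PowerSeries.coeff, coeff_subst (hasSubst_av hh)]
  apply finsum_congr
  intro d
  rw [prod_av, smul_eq_mul]

theorem finite_av (F : MvPowerSeries (Fin 2) R) {h : PowerSeries R}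
    (hh : PowerSeries.constantCoeff h = 0) (n : ℕ) :
    (Function.support fun d : Fin 2 →₀ ℕ =>
      coeff d F * PowerSeries.coeff n (PowerSeries.X ^ (d 0) * h ^ (d 1))).Finite := by
  have := coeff_subst_finite (hasSubst_av hh) F (Finsupp.single () n)
  rw [Function.HasFiniteSupport] at this
  convert this using 2
  ext d
  rw [prod_av, smul_eq_mul]
  rfl

theorem coeff_term_congr {h h' : PowerSeries R} (m : ℕ)
    (H : ∀ k < m, PowerSeries.coeff k h = PowerSeries.coeff k h') (d0 e : ℕ) :
    ∀ k < m, PowerSeries.coeff k (PowerSeries.X ^ d0 * h ^ e) =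
      PowerSeries.coeff k (PowerSeries.X ^ d0 * h' ^ e) := by
  have h1 : (PowerSeries.X : PowerSeries R) ^ m ∣ h - h' :=
    PowerSeries.X_pow_dvd_iff.mpr (fun k hk => by rw [map_sub, H k hk, sub_self])
  have h2 : (PowerSeries.X : PowerSeries R) ^ m ∣
      PowerSeries.X ^ d0 * h ^ e - PowerSeries.X ^ d0 * h' ^ e := by
    rw [← mul_sub]
    exact Dvd.dvd.mul_left (h1.trans (sub_dvd_pow_sub_pow h h' e)) _
  intro k hk
  have := PowerSeries.X_pow_dvd_iff.mp h2 k hk
  rwa [map_sub, sub_eq_zero] at this

theorem subst_congr (F : MvPowerSeries (Fin 2) R) {h h' : PowerSeries R}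
    (hh : PowerSeries.constantCoeff h = 0) (hh' : PowerSeries.constantCoeff h' = 0) (m : ℕ)
    (H : ∀ k < m, PowerSeries.coeff k h = PowerSeries.coeff k h') :
    ∀ k < m, PowerSeries.coeff k (F.subst (av h)) = PowerSeries.coeff k (F.subst (av h')) := by
  intro k hk
  rw [coeff_subst_av F hh, coeff_subst_av F hh']
  apply finsum_congr
  intro d
  rw [coeff_term_congr m H (d 0) (d 1) k hk]

theorem sum_zero_pow (e : ℕ) :
    ∑ i ∈ Finset.range e, (0 : R) ^ i * 0 ^ (e - 1 - i) = if e = 1 then 1 else 0 := by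
  rcases e with _ | _ | e
  · simp
  · simp
  · rw [if_neg (by omega)]
    apply Finset.sum_eq_zero
    intro i hi
    rcases i with _ | i
    · rw [pow_zero, one_mul, zero_pow (by omega)]
    · rw [zero_pow (by omega), zero_mul]

theorem coeff_term_add (h : PowerSeries R) (hh : PowerSeries.constantCoeff h = 0) (n : ℕ)
    (hn : 1 ≤ n) (c : R) (d0 e : ℕ) :
    PowerSeries.coeff n (PowerSeries.X ^ d0 * (h + PowerSeries.C c * PowerSeries.X ^ n) ^ e) =
      PowerSeries.coeff n (PowerSeries.X ^ d0 * h ^ e) + (if d0 = 0 ∧ e = 1 then c else 0) := by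
  set B : PowerSeries R := PowerSeries.C c * PowerSeries.X ^ n with hB
  set φ : PowerSeries R := PowerSeries.X ^ d0 *
    ∑ i ∈ Finset.range e, (h + B) ^ i * h ^ (e - 1 - i) with hφ
  have hgeom : (h + B) ^ e = h ^ e + (∑ i ∈ Finset.range e, (h + B) ^ i * h ^ (e - 1 - i)) * B := by
    have := (Commute.all (h + B) h).geom_sum₂_mul e
    rw [add_sub_cancel_left] at this
    rw [this]; ring
  have h1 : PowerSeries.X ^ d0 * (h + B) ^ e = PowerSeries.X ^ d0 * h ^ e +
      PowerSeries.C c * (φ * PowerSeries.X ^ n) := by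
    rw [hgeom, hφ, hB]; ring
  rw [h1, map_add, PowerSeries.coeff_C_mul]
  congr 1
  have h2 : PowerSeries.coeff n (φ * PowerSeries.X ^ n) = PowerSeries.constantCoeff φ := by
    have := PowerSeries.coeff_mul_X_pow φ n 0
    rw [zero_add] at this
    rw [this, PowerSeries.coeff_zero_eq_constantCoeff_apply]
  rw [h2, hφ, map_mul, map_pow, PowerSeries.constantCoeff_X, map_sum]
  have hB0 : PowerSeries.constantCoeff B = 0 := by
    rw [hB, map_mul, map_pow, PowerSeries.constantCoeff_X, zero_pow (by omega), mul_zero]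
  simp only [map_mul, map_pow, map_add, hh, hB0, add_zero]
  rw [sum_zero_pow]
  by_cases hd : d0 = 0
  · subst hd
    by_cases he : e = 1
    · simp [he]
    · simp [he]
  · rw [zero_pow hd]
    simp [hd]

theorem single_iff (d : Fin 2 →₀ ℕ) : (d 0 = 0 ∧ d 1 = 1) ↔ d = Finsupp.single 1 1 := by
  constructor
  · rintro ⟨h0, h1⟩
    ext i
    fin_cases i
    · simpa using h0
    · simpa using h1
  · rintro rfl
    simp

theorem subst_add_term (F : MvPowerSeries (Fin 2) R) (h : PowerSeries R)
    (hh : PowerSeries.constantCoeff h = 0) (n : ℕ) (hn : 1 ≤ n) (c : R) :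
    PowerSeries.coeff n (F.subst (av (h + PowerSeries.C c * PowerSeries.X ^ n))) =
      PowerSeries.coeff n (F.subst (av h)) + coeff (Finsupp.single 1 1) F * c := by
  classical
  have hh' : PowerSeries.constantCoeff (h + PowerSeries.C c * PowerSeries.X ^ n) = 0 := by
    rw [map_add, hh, map_mul, map_pow, PowerSeries.constantCoeff_X, zero_pow (by omega), mul_zero,
      add_zero]
  rw [coeff_subst_av F hh', coeff_subst_av F hh]
  have hterm : ∀ d : Fin 2 →₀ ℕ,
      coeff d F * PowerSeries.coeff n (PowerSeries.X ^ (d 0) *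
        (h + PowerSeries.C c * PowerSeries.X ^ n) ^ (d 1)) =
      coeff d F * PowerSeries.coeff n (PowerSeries.X ^ (d 0) * h ^ (d 1)) +
        (if d = Finsupp.single 1 1 then coeff d F * c else 0) := by
    intro d
    rw [coeff_term_add h hh n hn c, mul_add]
    congr 1
    by_cases hd : d = Finsupp.single 1 1
    · rw [if_pos hd, if_pos ((single_iff d).mpr hd)]
    · rw [if_neg hd, if_neg (fun hc => hd ((single_iff d).mp hc)), mul_zero]
  rw [finsum_congr hterm, finsum_add_distrib (finite_av F hh n)]
  · congr 1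
    rw [finsum_eq_single _ (Finsupp.single 1 1)]
    · rw [if_pos rfl]
    · intro d hd
      rw [if_neg hd]
  · apply Set.Finite.subset (Set.finite_singleton (Finsupp.single 1 1))
    intro d hd
    rw [Function.mem_support] at hd
    by_contra hne
    apply hd
    rw [if_neg (fun hc => hne (by rw [hc]; exact Set.mem_singleton _))]


section construct
variable (F : MvPowerSeries (Fin 2) R)

/-- coefficients of the right inverse -/
noncomputable def gFun : ℕ → R
  | 0 => 0
  | n + 1 => - PowerSeries.coeff (n + 1)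
      (F.subst (av (∑ i : Fin (n + 1), PowerSeries.C (gFun i.1) * PowerSeries.X ^ i.1)))

/-- truncation -/
noncomputable def T (n : ℕ) : PowerSeries R :=
  ∑ i : Fin n, PowerSeries.C (gFun F i.1) * PowerSeries.X ^ i.1

theorem T_succ (n : ℕ) : T F (n + 1) = T F n + PowerSeries.C (gFun F n) * PowerSeries.X ^ n := by
  unfold T
  rw [Fin.sum_univ_castSucc]
  rfl

theorem constantCoeff_T (n : ℕ) : PowerSeries.constantCoeff (T F n) = 0 := by
  unfold T
  rw [map_sum]
  apply Finset.sum_eq_zero
  intro i _
  rw [map_mul, map_pow, PowerSeries.constantCoeff_X, PowerSeries.constantCoeff_C]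
  rcases hi : i.1 with _ | j
  · rw [gFun, zero_mul]
  · rw [zero_pow (by omega), mul_zero]

theorem gFun_succ (n : ℕ) :
    gFun F (n + 1) = - PowerSeries.coeff (n + 1) (F.subst (av (T F (n + 1)))) := by
  rw [gFun]
  rfl

theorem coeff_T {n k : ℕ} (hk : k < n) : PowerSeries.coeff k (T F n) = gFun F k := by
  classical
  unfold T
  rw [map_sum, Finset.sum_eq_single (⟨k, hk⟩ : Fin n)]
  · rw [PowerSeries.coeff_C_mul, PowerSeries.coeff_X_pow, if_pos rfl, mul_one]
  · intro i _ hi
    rw [PowerSeries.coeff_C_mul, PowerSeries.coeff_X_pow, if_neg, mul_zero]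
    intro h
    apply hi
    ext
    exact h.symm
  · intro h
    exact absurd (Finset.mem_univ _) h

theorem Z (hF0 : constantCoeff F = 0) (hF1 : coeff (Finsupp.single 1 1) F = 1) (n : ℕ) :
    PowerSeries.coeff n (F.subst (av (T F (n + 1)))) = 0 := by
  rcases n with _ | n
  · rw [PowerSeries.coeff_zero_eq_constantCoeff_apply]
    apply constantCoeff_subst_eq_zero (hasSubst_av (constantCoeff_T F 1)) _ hF0
    intro i
    fin_cases i
    · simp [av, PowerSeries.X]
    · exact constantCoeff_T F 1
  · rw [T_succ F (n + 1), subst_add_term F _ (constantCoeff_T F (n + 1)) (n + 1) (by omega), hF1,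
      one_mul, gFun_succ, add_neg_cancel]

/-- the right inverse -/
noncomputable def g : PowerSeries R := PowerSeries.mk (gFun F)

theorem constantCoeff_g : PowerSeries.constantCoeff (g F) = 0 := by
  rw [← PowerSeries.coeff_zero_eq_constantCoeff_apply, g, PowerSeries.coeff_mk, gFun]

theorem right_inv (hF0 : constantCoeff F = 0) (hF1 : coeff (Finsupp.single 1 1) F = 1) :
    F.subst ![PowerSeries.X, g F] = (0 : PowerSeries R) := by
  ext n
  have H : ∀ k < n + 1, PowerSeries.coeff k (g F) = PowerSeries.coeff k (T F (n + 1)) := by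
    intro k hk
    rw [coeff_T F hk, g, PowerSeries.coeff_mk]
  have := subst_congr F (constantCoeff_g F) (constantCoeff_T F (n + 1)) (n + 1) H n (Nat.lt_succ_self n)
  rw [map_zero]
  exact this.trans (Z F hF0 hF1 n)

end construct

section group
variable (F : FormalGroup R)

theorem main : ∃ g : PowerSeries R, g.constantCoeff = 0 ∧
      F.toPowerSeries.subst ![PowerSeries.X, g] = (0 : PowerSeries R) ∧
      F.toPowerSeries.subst ![g, PowerSeries.X] = (0 : PowerSeries R) ∧
      ∀ k : PowerSeries R, k.constantCoeff = 0 →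
        (F.toPowerSeries.subst ![PowerSeries.X, k] = (0 : PowerSeries R) ∨
          F.toPowerSeries.subst ![k, PowerSeries.X] = (0 : PowerSeries R)) → k = g := by
  set γ := g F.toPowerSeries with hγ
  have hγ0 : PowerSeries.constantCoeff γ = 0 := constantCoeff_g _
  have hR : F.toPowerSeries.subst ![PowerSeries.X, γ] = (0 : PowerSeries R) :=
    right_inv _ F.zero_constantCoeff F.lin_coeff_Y
  have hγS : PowerSeries.HasSubst γ := PowerSeries.HasSubst.of_constantCoeff_zero' hγ0
  have hXS : PowerSeries.HasSubst (PowerSeries.X : PowerSeries R) := PowerSeries.HasSubst.X'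
  have h0S : PowerSeries.HasSubst (0 : PowerSeries R) := PowerSeries.HasSubst.zero
  set γγ : PowerSeries R := PowerSeries.subst γ γ with hγγ
  have hγγ0 : PowerSeries.constantCoeff γγ = 0 := by
    rw [hγγ, PowerSeries.subst]
    exact constantCoeff_subst_eq_zero hγS.const (fun _ => hγ0) hγ0
  have hγγS : PowerSeries.HasSubst γγ := PowerSeries.HasSubst.of_constantCoeff_zero' hγγ0
  -- step 1
  have h1 : F.toPowerSeries.subst ![γ, γγ] = (0 : PowerSeries R) := by
    have e1 : PowerSeries.subst γ (F.toPowerSeries.subst ![PowerSeries.X, γ] : PowerSeries R) = 0 := by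
      rw [hR, ← PowerSeries.coe_substAlgHom hγS, map_zero]
    rw [PowerSeries.subst, subst_comp_subst_apply (hasSubst_av hγ0) hγS.const] at e1
    rw [← e1]
    congr 1
    funext s
    fin_cases s
    · simp [← PowerSeries.subst_def, PowerSeries.subst_X hγS]
    · simp [← PowerSeries.subst_def, hγγ]
  -- step 2
  have h2 : γγ = PowerSeries.X := by
    calc γγ = F.toPowerSeries.subst ![(0 : PowerSeries R), γγ] := (F.zero_add hγγS).symm
      _ = F.toPowerSeries.subst ![F.toPowerSeries.subst ![PowerSeries.X, γ], γγ] := by rw [hR]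
      _ = F.toPowerSeries.subst ![PowerSeries.X, F.toPowerSeries.subst ![γ, γγ]] :=
          F.assoc' hXS hγS hγγS
      _ = F.toPowerSeries.subst ![PowerSeries.X, (0 : PowerSeries R)] := by rw [h1]
      _ = PowerSeries.X := F.add_zero hXS
  have hL : F.toPowerSeries.subst ![γ, PowerSeries.X] = (0 : PowerSeries R) := by
    rw [← h2]; exact h1
  refine ⟨γ, hγ0, hR, hL, ?_⟩
  intro k hk0 hk
  have hkS : PowerSeries.HasSubst k := PowerSeries.HasSubst.of_constantCoeff_zero' hk0
  rcases hk with hk | hk
  · calc k = F.toPowerSeries.subst ![(0 : PowerSeries R), k] := (F.zero_add hkS).symm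
      _ = F.toPowerSeries.subst ![F.toPowerSeries.subst ![γ, PowerSeries.X], k] := by rw [hL]
      _ = F.toPowerSeries.subst ![γ, F.toPowerSeries.subst ![PowerSeries.X, k]] :=
          F.assoc' hγS hXS hkS
      _ = F.toPowerSeries.subst ![γ, (0 : PowerSeries R)] := by rw [hk]
      _ = γ := F.add_zero hγS
  · calc k = F.toPowerSeries.subst ![k, (0 : PowerSeries R)] := (F.add_zero hkS).symm
      _ = F.toPowerSeries.subst ![k, F.toPowerSeries.subst ![PowerSeries.X, γ]] := by rw [hR]
      _ = F.toPowerSeries.subst ![F.toPowerSeries.subst ![k, PowerSeries.X], γ] :=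
          (F.assoc' hkS hXS hγS).symm
      _ = F.toPowerSeries.subst ![(0 : PowerSeries R), γ] := by rw [hk]
      _ = γ := F.zero_add hγS

end group

end Groth.Agent.H15.FGInv
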