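import Mathlib
import Groth.Agent.H15.CommonZero

set_option autoImplicit false

namespace Groth.Agent.H15.FanoLin

open MvPolynomial Groth.Agent.H15.CommonZero

variable {k : Type*} [Field k]

/-- first-order Taylor expansion -/
theorem taylor {σ : Type*} [Fintype σ] [DecidableEq σ] (p : MvPolynomial σ k) (u w : σ → k) :
    ∃ R : Polynomial k, ∀ t : k,
      eval (u + t • w) p = eval u p + t * ∑ i, w i * eval u (pderiv i p) + t ^ 2 * R.eval t := by
  induction p using MvPolynomial.induction_on with
  | C a => exact ⟨0, fun t => by simp⟩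
  | add p q hp hq =>
    obtain ⟨Rp, hRp⟩ := hp
    obtain ⟨Rq, hRq⟩ := hq
    refine ⟨Rp + Rq, fun t => ?_⟩
    simp only [map_add, hRp t, hRq t, Polynomial.eval_add, mul_add, Finset.sum_add_distrib]
    ring
  | mul_X p j hp =>
    obtain ⟨R, hR⟩ := hp
    set B := ∑ i, w i * eval u (pderiv i p) with hB
    refine ⟨Polynomial.C (u j) * R + Polynomial.C (B * w j) + Polynomial.X * Polynomial.C (w j) * R,
      fun t => ?_⟩
    have h1 : ∑ i, w i * eval u (pderiv i (p * X j)) = B * u j + eval u p * w j := by
      have : ∀ i, w i * eval u (pderiv i (p * X j)) =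
          w i * eval u (pderiv i p) * u j + (if i = j then eval u p * w j else 0) := by
        intro i
        rw [Derivation.leibniz, pderiv_X]
        simp only [smul_eq_mul, map_add, map_mul, eval_X, Pi.single_apply]
        by_cases h : i = j
        · subst h; simp; ring
        · rw [if_neg h, if_neg (fun h' => h h'.symm)]; simp; ring
      simp only [this, Finset.sum_add_distrib, Finset.sum_ite_eq', Finset.mem_univ, if_true, hB,
        Finset.sum_mul]
    simp only [map_mul, eval_X]
    rw [hR t, h1]
    simp only [Pi.add_apply, Pi.smul_apply, smul_eq_mul, Polynomial.eval_add, Polynomial.eval_mul,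
      Polynomial.eval_C, Polynomial.eval_X]
    ring

/-- tangency: if `f` vanishes on a subspace `U`, the gradient at `u ∈ U` kills `U`. -/
theorem tangency [Infinite k] {σ : Type*} [Fintype σ] [DecidableEq σ] (f : MvPolynomial σ k)
    (U : Submodule k (σ → k)) (hU : ∀ u ∈ U, eval u f = 0) (u w : σ → k) (hu : u ∈ U) (hw : w ∈ U) :
    ∑ i, w i * eval u (pderiv i f) = 0 := by
  obtain ⟨R, hR⟩ := taylor f u w
  set B := ∑ i, w i * eval u (pderiv i f) with hB
  have hpoly : Polynomial.X * (Polynomial.C B + Polynomial.X * R) = 0 := by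
    apply Polynomial.funext
    intro t
    have h1 := hR t
    rw [hU _ (U.add_mem hu (U.smul_mem t hw)), hU u hu] at h1
    simp only [Polynomial.eval_mul, Polynomial.eval_X, Polynomial.eval_add, Polynomial.eval_C,
      Polynomial.eval_zero]
    linear_combination -h1
  have h2 : Polynomial.C B + Polynomial.X * R = 0 := by
    rcases mul_eq_zero.mp hpoly with h | h
    · exact absurd h Polynomial.X_ne_zero
    · exact h
  have h3 := congrArg (Polynomial.eval 0) h2
  simpa using h3

theorem main [IsAlgClosed k]
    (n d : ℕ) (hd : 2 ≤ d) (f : MvPolynomial (Fin (n + 1)) k) (hf : f.IsHomogeneous d)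
    (U : Submodule k (Fin (n + 1) → k)) (hU : ∀ u ∈ U, MvPolynomial.eval u f = 0)
    (hsm : ∀ u ∈ U, u ≠ 0 → ∃ i : Fin (n + 1), MvPolynomial.eval u (MvPolynomial.pderiv i f) ≠ 0) :
    2 * Module.finrank k ↥U ≤ n + 1 := by
  classical
  by_contra hlt
  push Not at hlt
  have hinf : Infinite k := IsAlgClosed.instInfinite
  obtain ⟨U', hU'⟩ := Submodule.exists_isCompl U
  have hdim : Module.finrank k U + Module.finrank k U' = n + 1 := by
    rw [Submodule.finrank_add_eq_of_isCompl hU', Module.finrank_fin_fun]
  have hqs : Module.finrank k U' < Module.finrank k U := by omega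
  let b := Module.finBasis k U
  let b' := Module.finBasis k U'
  let g : Fin (n + 1) → MvPolynomial (Fin (Module.finrank k U)) k :=
    fun j => ∑ l, C ((b l : Fin (n + 1) → k) j) * X l
  let H : Fin (Module.finrank k U') → MvPolynomial (Fin (Module.finrank k U)) k :=
    fun a => ∑ i, C ((b' a : Fin (n + 1) → k) i) * aeval g (pderiv i f)
  let β : (Fin (Module.finrank k U) → k) → (Fin (n + 1) → k) :=
    fun y => ∑ l, y l • (b l : Fin (n + 1) → k)
  have hgev : ∀ y : Fin (Module.finrank k U) → k, (fun j => eval y (g j)) = β y := by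
    intro y
    funext j
    simp only [g, β, map_sum, map_mul, eval_C, eval_X, Finset.sum_apply, Pi.smul_apply,
      smul_eq_mul]
    exact Finset.sum_congr rfl fun l _ => mul_comm _ _
  have hsub : ∀ (y : Fin (Module.finrank k U) → k) (p : MvPolynomial (Fin (n + 1)) k),
      eval y (aeval g p) = eval (β y) p := by
    intro y p
    have h1 := MvPolynomial.comp_aeval_apply (f := g) (MvPolynomial.aeval y : _ →ₐ[k] k) p
    simp only [MvPolynomial.aeval_eq_eval] at h1
    rw [h1, hgev]
  have hHev : ∀ a y, eval y (H a) =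
      ∑ i, (b' a : Fin (n + 1) → k) i * eval (β y) (pderiv i f) := by
    intro a y
    simp only [H, map_sum, map_mul, eval_C, hsub]
  have hβ0 : β 0 = 0 := by simp [β]
  have hH0 : ∀ a, eval (0 : Fin (Module.finrank k U) → k) (H a) = 0 := by
    intro a
    rw [hHev, hβ0]
    refine Finset.sum_eq_zero fun i _ => ?_
    have hhom : (pderiv i f).IsHomogeneous (d - 1) := hf.pderiv
    have : eval (0 : Fin (n + 1) → k) (pderiv i f) = 0 := by
      rw [MvPolynomial.eval_zero, MvPolynomial.constantCoeff_eq]
      by_contra hne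
      have := hhom hne
      simp at this
      omega
    rw [this, mul_zero]
  obtain ⟨y, hy0, hy⟩ := exists_common_zero k _ _ hqs H hH0
  set u : Fin (n + 1) → k := β y with hu
  have huU : u ∈ U := by
    simp only [hu, β]
    exact U.sum_mem fun l _ => U.smul_mem _ (b l).2
  have hu0 : u ≠ 0 := by
    intro h0
    apply hy0
    have h1 : ∑ l, y l • b l = 0 := by
      apply Subtype.ext
      rw [Submodule.coe_sum]
      simpa [hu, β] using h0
    funext l
    exact Fintype.linearIndependent_iff.mp b.linearIndependent y h1 l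
  obtain ⟨i, hi⟩ := hsm u huU hu0
  -- the gradient functional
  let γ : (Fin (n + 1) → k) →ₗ[k] k :=
    { toFun := fun w => ∑ i, w i * eval u (pderiv i f)
      map_add' := fun w w' => by simp [add_mul, Finset.sum_add_distrib]
      map_smul' := fun c w => by simp [Finset.mul_sum, mul_assoc] }
  have hγU : ∀ w ∈ U, γ w = 0 := fun w hw => tangency f U hU u w huU hw
  have hγb' : ∀ a, γ (b' a : Fin (n + 1) → k) = 0 := by
    intro a
    have := hy a
    rw [hHev] at this
    exact this
  have hγU' : ∀ w ∈ U', γ w = 0 := by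
    intro w hw
    have h2 : w = ∑ a, b'.repr ⟨w, hw⟩ a • (b' a : Fin (n + 1) → k) := by
      have h3 : ((∑ a, b'.repr ⟨w, hw⟩ a • b' a : U') : Fin (n + 1) → k) =
          ∑ a, b'.repr ⟨w, hw⟩ a • (b' a : Fin (n + 1) → k) := by
        rw [Submodule.coe_sum]; rfl
      rw [← h3, b'.sum_repr]
    rw [h2, map_sum]
    refine Finset.sum_eq_zero fun a _ => ?_
    rw [map_smul, hγb', smul_zero]
  have hγ : ∀ w, γ w = 0 := by
    intro w
    have hw : w ∈ U ⊔ U' := by rw [hU'.sup_eq_top]; trivial
    obtain ⟨w1, hw1, w2, hw2, rfl⟩ := Submodule.mem_sup.mp hw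
    rw [map_add, hγU w1 hw1, hγU' w2 hw2, add_zero]
  apply hi
  have := hγ (Pi.single i 1)
  simpa [γ, Pi.single_apply] using this

end Groth.Agent.H15.FanoLin
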