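import Mathlib

namespace Groth.Agent.H15.FibProdBC

open TensorProduct

universe u

/-- universal injectivity of a faithfully flat algebra map -/
theorem lTensor_injective_of_faithfullyFlat (R B C R' : Type u) [CommRing R] [CommRing B] [CommRing C]
    [CommRing R'] [Algebra R B] [Algebra R C] [Algebra R R'] [Algebra B C] [IsScalarTower R B C]
    [Module.FaithfullyFlat B C] :
    Function.Injective ((IsScalarTower.toAlgHom R B C).toLinearMap.lTensor R') := by
  rw [LinearMap.lTensor_inj_iff_rTensor_inj]
  have h1 := Module.FaithfullyFlat.tensorProduct_mk_injective (A := B) (B := C) (B ⊗[R] R')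
  let e := TensorProduct.AlgebraTensorModule.cancelBaseChange R B B C R'
  have h2 : ∀ n : B ⊗[R] R', e (TensorProduct.mk B C (B ⊗[R] R') 1 n) =
      ((IsScalarTower.toAlgHom R B C).toLinearMap.rTensor R') n := by
    intro n
    induction n using TensorProduct.induction_on with
    | zero => simp
    | tmul b r =>
      simp only [TensorProduct.mk_apply, LinearMap.rTensor_tmul, AlgHom.toLinearMap_apply,
        IsScalarTower.coe_toAlgHom']
      rw [TensorProduct.AlgebraTensorModule.cancelBaseChange_tmul, Algebra.smul_def, mul_one]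
    | add x y hx hy => simp only [map_add, hx, hy]
  intro x y hxy
  apply h1
  apply e.injective
  rw [h2, h2, hxy]

theorem main (R A B R' : Type u) [CommRing R] [CommRing A]
    [CommRing B] [CommRing R'] [Algebra R A] [Algebra R B] [Algebra R R'] [Module.Flat R B]
    (I : Ideal A) [Algebra B (A ⧸ I)] [IsScalarTower R B (A ⧸ I)] [Module.Finite B (A ⧸ I)] [Module.Flat B (A ⧸ I)]
    (hinj : Function.Injective (algebraMap B (A ⧸ I))) :
    Function.Injective (Algebra.TensorProduct.map (AlgHom.id R' R')
        ((AlgHom.snd R B A).comp (AlgHom.equalizer ((IsScalarTower.toAlgHom R B (A ⧸ I)).comp (AlgHom.fst R B A))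
          ((Ideal.Quotient.mkₐ R I).comp (AlgHom.snd R B A))).val)) ∧
    ∀ (b : TensorProduct R R' B) (a : TensorProduct R R' A),
      Algebra.TensorProduct.map (AlgHom.id R' R') (IsScalarTower.toAlgHom R B (A ⧸ I)) b =
        Algebra.TensorProduct.map (AlgHom.id R' R') (Ideal.Quotient.mkₐ R I) a →
      ∃ x : TensorProduct R R' ↥(AlgHom.equalizer ((IsScalarTower.toAlgHom R B (A ⧸ I)).comp (AlgHom.fst R B A))
          ((Ideal.Quotient.mkₐ R I).comp (AlgHom.snd R B A))),
        Algebra.TensorProduct.map (AlgHom.id R' R') ((AlgHom.fst R B A).comp (AlgHom.equalizer ((IsScalarTower.toAlgHom R B (A ⧸ I)).comp (AlgHom.fst R B A))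
          ((Ideal.Quotient.mkₐ R I).comp (AlgHom.snd R B A))).val) x = b ∧
        Algebra.TensorProduct.map (AlgHom.id R' R') ((AlgHom.snd R B A).comp (AlgHom.equalizer ((IsScalarTower.toAlgHom R B (A ⧸ I)).comp (AlgHom.fst R B A))
          ((Ideal.Quotient.mkₐ R I).comp (AlgHom.snd R B A))).val) x = a := by
  -- abbreviations
  set j : B →ₐ[R] (A ⧸ I) := IsScalarTower.toAlgHom R B (A ⧸ I) with hj
  set π : A →ₐ[R] (A ⧸ I) := Ideal.Quotient.mkₐ R I with hπ
  set P := AlgHom.equalizer (j.comp (AlgHom.fst R B A)) (π.comp (AlgHom.snd R B A)) with hP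
  -- conversion between algebra map and lTensor
  have hconv : ∀ {X Y : Type u} [CommRing X] [CommRing Y] [Algebra R X] [Algebra R Y] (g : X →ₐ[R] Y)
      (x : R' ⊗[R] X), Algebra.TensorProduct.map (AlgHom.id R' R') g x = g.toLinearMap.lTensor R' x := by
    intro X Y _ _ _ _ g x
    induction x using TensorProduct.induction_on with
    | zero => simp
    | tmul r x => simp
    | add x y hx hy => simp only [map_add, hx, hy]
  -- faithfully flat
  have : FaithfulSMul B (A ⧸ I) := (faithfulSMul_iff_algebraMap_injective B (A ⧸ I)).2 hinj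
  have : Algebra.IsIntegral B (A ⧸ I) := Algebra.IsIntegral.of_finite B (A ⧸ I)
  have hff : Module.FaithfullyFlat B (A ⧸ I) :=
    Module.FaithfullyFlat.of_comap_surjective (Algebra.IsIntegral.comap_surjective B (A ⧸ I))
  have hjinj : Function.Injective (j.toLinearMap.lTensor R') :=
    lTensor_injective_of_faithfullyFlat R B (A ⧸ I) R'
  have hCflat : Module.Flat R (A ⧸ I) := Module.Flat.trans R B (A ⧸ I)
  -- linear maps
  let fstL : (B × A) →ₗ[R] B := LinearMap.fst R B A
  let sndL : (B × A) →ₗ[R] A := LinearMap.snd R B A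
  let inlL : B →ₗ[R] (B × A) := LinearMap.inl R B A
  let inrL : A →ₗ[R] (B × A) := LinearMap.inr R B A
  let d : (B × A) →ₗ[R] (A ⧸ I) := j.toLinearMap ∘ₗ fstL - π.toLinearMap ∘ₗ sndL
  let ι : P →ₗ[R] (B × A) := P.val.toLinearMap
  have hd : Function.Surjective d := by
    intro c
    obtain ⟨a, rfl⟩ := Ideal.Quotient.mk_surjective c
    refine ⟨(0, -a), ?_⟩
    simp [d, fstL, sndL, π]
  have hexact : Function.Exact ι d := by
    intro y
    constructor
    · intro hy
      have hy' : y ∈ P := by
        rw [hP, AlgHom.mem_equalizer]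
        have : j y.1 - π y.2 = 0 := hy
        simpa using sub_eq_zero.1 this
      exact ⟨⟨y, hy'⟩, rfl⟩
    · rintro ⟨x, rfl⟩
      have hx : x.1 ∈ AlgHom.equalizer (j.comp (AlgHom.fst R B A)) (π.comp (AlgHom.snd R B A)) := x.2
      rw [AlgHom.mem_equalizer] at hx
      have : j (x.1).1 = π (x.1).2 := by simpa using hx
      show j (x.1).1 - π (x.1).2 = 0
      rw [this, sub_self]
  have hιinj : Function.Injective (ι.lTensor R') :=
    LinearMap.lTensor_injective_of_exact_of_flat d hd ι Subtype.val_injective hexact R'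
  have hexact' : Function.Exact (ι.lTensor R') (d.lTensor R') := lTensor_exact R' hexact hd
  have hdl : ∀ y, d.lTensor R' y = j.toLinearMap.lTensor R' (fstL.lTensor R' y) -
      π.toLinearMap.lTensor R' (sndL.lTensor R' y) := by
    intro y
    simp only [d, LinearMap.lTensor_sub, LinearMap.lTensor_comp, LinearMap.sub_apply,
      LinearMap.comp_apply]
  have hid : ∀ y, y = inlL.lTensor R' (fstL.lTensor R' y) + inrL.lTensor R' (sndL.lTensor R' y) := by
    intro y
    have h0 : inlL ∘ₗ fstL + inrL ∘ₗ sndL = LinearMap.id := by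
      ext x <;> simp [inlL, inrL, fstL, sndL]
    have : y = (inlL ∘ₗ fstL + inrL ∘ₗ sndL).lTensor R' y := by
      rw [h0, LinearMap.lTensor_id, LinearMap.id_apply]
    rw [LinearMap.lTensor_add, LinearMap.add_apply, LinearMap.lTensor_comp, LinearMap.lTensor_comp,
      LinearMap.comp_apply, LinearMap.comp_apply] at this
    exact this
  have hfstι : ∀ x, ((AlgHom.fst R B A).comp P.val).toLinearMap.lTensor R' x =
      fstL.lTensor R' (ι.lTensor R' x) := by
    intro x
    rw [← LinearMap.comp_apply, ← LinearMap.lTensor_comp]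
    rfl
  have hsndι : ∀ x, ((AlgHom.snd R B A).comp P.val).toLinearMap.lTensor R' x =
      sndL.lTensor R' (ι.lTensor R' x) := by
    intro x
    rw [← LinearMap.comp_apply, ← LinearMap.lTensor_comp]
    rfl
  refine ⟨?_, ?_⟩
  · intro x x' hxx'
    rw [hconv, hconv, hsndι, hsndι] at hxx'
    apply hιinj
    rw [← sub_eq_zero, ← map_sub] at hxx' ⊢
    rw [← map_sub] at hxx'
    set y := ι.lTensor R' (x - x') with hy
    have hdy : d.lTensor R' y = 0 := hexact'.apply_apply_eq_zero _
    rw [hdl, hxx', map_zero, sub_zero] at hdy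
    have hfy : fstL.lTensor R' y = 0 := hjinj (by rw [hdy, map_zero])
    rw [hid y, hfy, hxx', map_zero, map_zero, add_zero]
  · intro b a hba
    rw [hconv, hconv] at hba
    set y := inlL.lTensor R' b + inrL.lTensor R' a with hy
    have hf : fstL.lTensor R' y = b := by
      rw [hy, map_add, ← LinearMap.comp_apply, ← LinearMap.comp_apply, ← LinearMap.lTensor_comp,
        ← LinearMap.lTensor_comp]
      have h1 : fstL ∘ₗ inlL = LinearMap.id := by ext; simp [fstL, inlL]
      have h2 : fstL ∘ₗ inrL = 0 := by ext; simp [fstL, inrL]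
      rw [h1, h2]; simp
    have hs : sndL.lTensor R' y = a := by
      rw [hy, map_add, ← LinearMap.comp_apply, ← LinearMap.comp_apply, ← LinearMap.lTensor_comp,
        ← LinearMap.lTensor_comp]
      have h1 : sndL ∘ₗ inlL = 0 := by ext; simp [sndL, inlL]
      have h2 : sndL ∘ₗ inrL = LinearMap.id := by ext; simp [sndL, inrL]
      rw [h1, h2]; simp
    have hdy : d.lTensor R' y = 0 := by
      rw [hdl, hf, hs, hba, sub_self]
    obtain ⟨x, hx⟩ := (hexact' y).1 hdy
    refine ⟨x, ?_, ?_⟩
    · rw [hconv, hfstι, hx, hf]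
    · rw [hconv, hsndι, hx, hs]

end Groth.Agent.H15.FibProdBC
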