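import Mathlib
set_option autoImplicit false
universe u
open CategoryTheory AlgebraicGeometry Limits

namespace Groth.Agent.H15.FinFib

theorem finFib {X Y : Scheme.{u}} (f : X ⟶ Y) [IsProper f] :
    ∃ U : Y.Opens, (U : Set Y) = {y : Y | (f.base ⁻¹' {y}).Finite} ∧ IsFinite (f ∣_ U) := by
  let V : Y.Opens := ⟨_, (f.isClosedMap _ f.quasiFiniteLocus.isOpen.isClosed_compl).isOpen_compl⟩
  have hfin : IsFinite (f ∣_ V) := by
    suffices LocallyQuasiFinite (f ∣_ V) from .of_isProper_of_locallyQuasiFinite _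
    rw [← Scheme.Hom.quasiFiniteLocus_eq_top_iff]
    ext x
    have : f.QuasiFiniteAt ((f ⁻¹ᵁ V).ι x) := by by_contra H; exact x.2 ⟨_, H, rfl⟩
    rw [← Scheme.Hom.quasiFiniteAt_comp_iff_of_isOpenImmersion, ← morphismRestrict_ι,
      Scheme.Hom.quasiFiniteAt_comp_iff] at this
    simpa
  refine ⟨V, ?_, hfin⟩
  ext y
  constructor
  · intro hy
    let y' : V.toScheme := ⟨y, hy⟩
    have hy' : V.ι y' = y := rfl
    have h1 := (f ∣_ V).finite_preimage_singleton y'
    have hι : ∀ x' : (f ⁻¹ᵁ V).toScheme, V.ι ((f ∣_ V) x') = f ((f ⁻¹ᵁ V).ι x') := by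
      intro x'
      rw [← Scheme.Hom.comp_apply, ← Scheme.Hom.comp_apply, morphismRestrict_ι]
    have h2 : f.base ⁻¹' {y} = (f ⁻¹ᵁ V).ι '' ((f ∣_ V) ⁻¹' {y'}) := by
      ext x
      constructor
      · intro hx
        have hxV : x ∈ Set.range (f ⁻¹ᵁ V).ι := by
          rw [Scheme.Opens.range_ι]
          change f.base x ∈ V
          rw [show f.base x = y from hx]; exact hy
        obtain ⟨x', rfl⟩ := hxV
        refine ⟨x', ?_, rfl⟩
        apply V.ι.isOpenEmbedding.injective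
        have hx2 : f ((f ⁻¹ᵁ V).ι x') = y := hx
        rw [hι, hy']
        exact hx2
      · rintro ⟨x', hx', rfl⟩
        have hx2 : (f ∣_ V) x' = y' := hx'
        change f ((f ⁻¹ᵁ V).ι x') = y
        rw [← hι, hx2, hy']
    rw [Set.mem_ofPred_eq, h2]
    exact h1.image _
  · intro hx
    change (f ⁻¹' {y}).Finite at hx
    suffices ∀ x, f x = y → f.QuasiFiniteAt x by simpa [V, not_imp_not]
    rintro x rfl
    have : Finite (f.fiber (f x)) := (f.fiberHomeo (f x)).finite_iff.mpr ‹_›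
    exact Scheme.Hom.quasiFiniteAt_iff_isOpen_singleton_asFiber.mpr (isOpen_discrete _)

end Groth.Agent.H15.FinFib
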