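import Mathlib
import Groth.Prelude.Def_Fitting
import Groth.Agent.Lib.Helper22.Fitting

set_option autoImplicit false
universe u

namespace Groth.Agent.H15.FittJac

open TensorProduct MvPolynomial Groth.Agent.Helper22.FitCore

variable (A : Type u) [CommRing A] (n : ℕ) (f : Fin n → MvPolynomial (Fin n) A)

/-- chain rule in the quotient -/
theorem chain (J₀ : Ideal (MvPolynomial (Fin n) A)) (p : MvPolynomial (Fin n) A) :
    KaehlerDifferential.D A (MvPolynomial (Fin n) A ⧸ J₀) (Ideal.Quotient.mk J₀ p) =
      ∑ k, Ideal.Quotient.mk J₀ (pderiv k p) • KaehlerDifferential.D A (MvPolynomial (Fin n) A ⧸ J₀)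
        (Ideal.Quotient.mk J₀ (X k)) := by
  classical
  have e1 := (KaehlerDifferential.mvPolynomialBasis A (Fin n)).sum_repr
    (KaehlerDifferential.D A _ p)
  simp only [KaehlerDifferential.mvPolynomialBasis_repr_apply,
    KaehlerDifferential.mvPolynomialBasis_apply] at e1
  have e2 := congrArg (KaehlerDifferential.map A A (MvPolynomial (Fin n) A)
    (MvPolynomial (Fin n) A ⧸ J₀)) e1
  rw [map_sum] at e2
  simp only [map_smul, KaehlerDifferential.map_D, Ideal.Quotient.algebraMap_eq] at e2
  rw [← e2]
  apply Finset.sum_congr rfl
  intro k _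
  exact (algebraMap_smul (MvPolynomial (Fin n) A ⧸ J₀) (pderiv k p)
    (KaehlerDifferential.D A (MvPolynomial (Fin n) A ⧸ J₀) (Ideal.Quotient.mk J₀ (X k))))

theorem main :
    Fitt.ideal (MvPolynomial (Fin n) A ⧸ Ideal.span (Set.range f))
      (KaehlerDifferential A (MvPolynomial (Fin n) A ⧸ Ideal.span (Set.range f))) 0 =
    Ideal.span {Ideal.Quotient.mk (Ideal.span (Set.range f))
      (Matrix.det (Matrix.of fun i j : Fin n => MvPolynomial.pderiv j (f i)))} := by
  classical
  set I := Ideal.span (Set.range f) with hI
  set B := MvPolynomial (Fin n) A ⧸ I with hB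
  let x : Fin n → KaehlerDifferential A B := fun j =>
    KaehlerDifferential.D A B (Ideal.Quotient.mk I (X j))
  let Jb : Matrix (Fin n) (Fin n) B := Matrix.of fun i j => Ideal.Quotient.mk I (pderiv j (f i))
  have hdet : Ideal.Quotient.mk I (Matrix.det (Matrix.of fun i j : Fin n => pderiv j (f i))) =
      Jb.det := by
    rw [RingHom.map_det]
    rfl
  rw [hdet]
  have hx : Submodule.span B (Set.range x) = ⊤ := by
    rw [eq_top_iff, ← KaehlerDifferential.span_range_derivation, Submodule.span_le]
    rintro _ ⟨s, rfl⟩
    obtain ⟨p, rfl⟩ := Ideal.Quotient.mk_surjective s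
    rw [chain]
    apply Submodule.sum_mem
    intro k _
    exact Submodule.smul_mem _ _ (Submodule.subset_span ⟨k, rfl⟩)
  have hrow : ∀ i, Jb i ∈ Rel (R := B) x := by
    intro i
    rw [mem_Rel]
    have := chain A n I (f i)
    rw [Ideal.Quotient.eq_zero_iff_mem.mpr (Ideal.subset_span (Set.mem_range_self i)), map_zero] at this
    exact this.symm
  apply le_antisymm
  · rw [Groth.Agent.Helper22.Fitting.ideal_eq_Jdet x hx 0]
    unfold Jdet
    rw [Ideal.span_le]
    rintro d ⟨a, s, hs, ha, rfl⟩
    have hs0 : s = ∅ := Finset.card_eq_zero.mp (Nat.le_zero.mp hs)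
    subst hs0
    -- each row of a is a combination of rows of Jb
    have hrel : ∀ r : Fin n → B, r ∈ Rel (R := B) x →
        r ∈ Submodule.span B (Set.range fun i => Jb i) := by
      intro r hr
      rw [mem_Rel] at hr
      have hsurj : Function.Surjective (algebraMap (MvPolynomial (Fin n) A) B) :=
        Ideal.Quotient.mk_surjective
      have hex := KaehlerDifferential.exact_kerCotangentToTensor_mapBaseChange A
        (MvPolynomial (Fin n) A) B hsurj
      let ω : B ⊗[MvPolynomial (Fin n) A] Ω[(MvPolynomial (Fin n) A)⁄A] :=
        ∑ j, r j ⊗ₜ KaehlerDifferential.D A (MvPolynomial (Fin n) A) (X j)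
      have h0 : KaehlerDifferential.mapBaseChange A (MvPolynomial (Fin n) A) B ω = 0 := by
        simp only [ω, map_sum, KaehlerDifferential.mapBaseChange_tmul, KaehlerDifferential.map_D]
        exact hr
      obtain ⟨c, hc⟩ := (hex _).mp h0
      obtain ⟨⟨g, hg⟩, rfl⟩ := Ideal.toCotangent_surjective _ c
      rw [KaehlerDifferential.kerCotangentToTensor_toCotangent] at hc
      have hgI : g ∈ I := by
        have := RingHom.mem_ker.mp hg
        exact Ideal.Quotient.eq_zero_iff_mem.mp this
      have hrk : ∀ k, r k = Ideal.Quotient.mk I (pderiv k g) := by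
        intro k
        have := congrArg (fun z => ((KaehlerDifferential.mvPolynomialBasis A (Fin n)).baseChange B).repr
          z k) hc
        simp only [ω, map_sum, Module.Basis.baseChange_repr_tmul,
          KaehlerDifferential.mvPolynomialBasis_repr_apply] at this
        rw [Finsupp.finsetSum_apply] at this
        simp only [Module.Basis.baseChange_repr_tmul,
          KaehlerDifferential.mvPolynomialBasis_repr_apply, pderiv_X, Pi.single_apply] at this
        rw [Finset.sum_eq_single k] at this
        · simp only [if_true] at this
          rw [Algebra.smul_def, mul_one, Algebra.smul_def, map_one, one_mul] at this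
          rw [← Ideal.Quotient.algebraMap_eq]
          exact this.symm ▸ (by simp)
        · intro b _ hb
          simp [hb]
        · intro h; exact absurd (Finset.mem_univ k) h
      have hmem : ∀ g ∈ I, (fun k => Ideal.Quotient.mk I (pderiv k g)) ∈
          Submodule.span B (Set.range fun i => Jb i) := by
        intro g hg
        induction hg using Submodule.span_induction with
        | mem g hg =>
          obtain ⟨i, rfl⟩ := hg
          exact Submodule.subset_span ⟨i, rfl⟩
        | zero =>
          convert Submodule.zero_mem _ using 1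
          ext k; simp
        | add g g' _ _ h1 h2 =>
          convert Submodule.add_mem _ h1 h2 using 1
          ext k; simp
        | smul h g hg h1 =>
          have : (fun k => Ideal.Quotient.mk I (pderiv k (h • g))) =
              Ideal.Quotient.mk I h • (fun k => Ideal.Quotient.mk I (pderiv k g)) := by
            ext k
            simp only [smul_eq_mul, Pi.smul_apply, Derivation.leibniz, map_add, map_mul]
            rw [Ideal.Quotient.eq_zero_iff_mem.mpr hg]
            ring
          rw [this]
          exact Submodule.smul_mem _ _ h1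
      have : r = fun k => Ideal.Quotient.mk I (pderiv k g) := funext hrk
      rw [this]
      exact hmem g hgI
    have hrows : ∀ i, ∃ c : Fin n → B, ∑ l, c l • Jb l = a i := by
      intro i
      have := hrel (a i) (ha i (by simp))
      rw [Submodule.mem_span_range_iff_exists_fun] at this
      exact this
    choose C hC using hrows
    have haC : a = Matrix.of C * Jb := by
      ext i j
      rw [← hC i]
      simp [Matrix.mul_apply, Finset.sum_apply]
    rw [haC, Matrix.det_mul]
    exact Ideal.mul_mem_left _ _ (Ideal.mem_span_singleton_self _)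
  · rw [Ideal.span_le, Set.singleton_subset_iff]
    unfold Fitt.ideal
    refine Ideal.subset_span ⟨n, x, Jb, hx, fun i _ => ?_, rfl⟩
    have := hrow i
    rw [mem_Rel] at this
    exact this

end Groth.Agent.H15.FittJac
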