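import Mathlib

universe u

open TensorProduct

namespace Groth.Agent.H15.FlatRes

section Mod

variable {R : Type u} [CommRing R]

/-- the multiplication map `I ⊗ N → N` -/
noncomputable def mulMap (I : Ideal R) (N : Type u) [AddCommGroup N] [Module R N] : (I ⊗[R] N) →ₗ[R] N :=
  (TensorProduct.lid R N).toLinearMap ∘ₗ LinearMap.rTensor N I.subtype

lemma mulMap_tmul (I : Ideal R) (N : Type u) [AddCommGroup N] [Module R N] (a : I) (n : N) :
    mulMap I N (a ⊗ₜ n) = (a : R) • n := by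
  simp [mulMap]

lemma mulMap_natural (I : Ideal R) {N N' : Type u} [AddCommGroup N] [Module R N]
    [AddCommGroup N'] [Module R N'] (f : N →ₗ[R] N') (y : I ⊗[R] N) :
    mulMap I N' (LinearMap.lTensor I f y) = f (mulMap I N y) := by
  induction y using TensorProduct.induction_on with
  | zero => simp
  | tmul a n => simp [mulMap_tmul]
  | add y₁ y₂ h₁ h₂ => simp only [map_add, h₁, h₂]

lemma mulMap_mem (I : Ideal R) (N : Type u) [AddCommGroup N] [Module R N] (y : I ⊗[R] N) :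
    mulMap I N y ∈ (I • ⊤ : Submodule R N) := by
  induction y using TensorProduct.induction_on with
  | zero => simp
  | tmul a n =>
    rw [mulMap_tmul]
    exact Submodule.smul_mem_smul a.2 Submodule.mem_top
  | add y₁ y₂ h₁ h₂ =>
    rw [map_add]
    exact Submodule.add_mem _ h₁ h₂

lemma exists_mulMap_eq (I : Ideal R) (N : Type u) [AddCommGroup N] [Module R N] (n : N)
    (hn : n ∈ (I • ⊤ : Submodule R N)) : ∃ y : I ⊗[R] N, mulMap I N y = n := by
  refine Submodule.smul_induction_on (p := fun n => ∃ y : I ⊗[R] N, mulMap I N y = n) hn ?_ ?_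
  · intro a ha m _
    exact ⟨(⟨a, ha⟩ : I) ⊗ₜ m, mulMap_tmul I N _ _⟩
  · rintro x y ⟨y₁, h₁⟩ ⟨y₂, h₂⟩
    exact ⟨y₁ + y₂, by rw [map_add, h₁, h₂]⟩

lemma one_tmul_eq_zero_iff (I : Ideal R) (N : Type u) [AddCommGroup N] [Module R N] (n : N) :
    ((1 : R ⧸ I) ⊗ₜ[R] n = 0) ↔ n ∈ (I • ⊤ : Submodule R N) := by
  rw [← (TensorProduct.quotTensorEquivQuotSMul N I).map_eq_zero_iff,
    TensorProduct.quotTensorEquivQuotSMul_mk_one_tmul, Submodule.Quotient.mk_eq_zero]

/-- The key flatness lemma. -/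
theorem flat_of_exact {M P₁ P₂ P₃ : Type u} [AddCommGroup M] [Module R M]
    [AddCommGroup P₁] [Module R P₁] [AddCommGroup P₂] [Module R P₂] [AddCommGroup P₃] [Module R P₃]
    (d₁ : P₁ →ₗ[R] M) (d₂ : P₂ →ₗ[R] P₁) (d₃ : P₃ →ₗ[R] P₂)
    [Module.Flat R P₁]
    (hs : Function.Surjective d₁) (h12 : ∀ p, d₁ p = 0 → ∃ q, d₂ q = p)
    (h012 : ∀ q, d₁ (d₂ q) = 0) (h023 : ∀ r, d₂ (d₃ r) = 0)
    (hten : ∀ (I : Ideal R) (z : (R ⧸ I) ⊗[R] P₂), LinearMap.lTensor (R ⧸ I) d₂ z = 0 →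
      ∃ w, LinearMap.lTensor (R ⧸ I) d₃ w = z) :
    Module.Flat R M := by
  rw [Module.Flat.iff_rTensor_injective']
  intro I
  rw [injective_iff_map_eq_zero]
  intro x hx
  have hx' : mulMap I M x = 0 := by
    change (TensorProduct.lid R M) (LinearMap.rTensor M I.subtype x) = 0
    rw [hx, map_zero]
  obtain ⟨y, rfl⟩ := LinearMap.lTensor_surjective I hs x
  rw [mulMap_natural] at hx'
  obtain ⟨q, hq⟩ := h12 _ hx'
  have h1 : LinearMap.lTensor (R ⧸ I) d₂ ((1 : R ⧸ I) ⊗ₜ[R] q) = 0 := by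
    rw [LinearMap.lTensor_tmul, hq, one_tmul_eq_zero_iff]
    exact mulMap_mem I P₁ y
  obtain ⟨w, hw⟩ := hten I _ h1
  obtain ⟨r, rfl⟩ := TensorProduct.mk_surjective R P₃ (R ⧸ I) Ideal.Quotient.mk_surjective w
  have h2 : (1 : R ⧸ I) ⊗ₜ[R] (q - d₃ r) = 0 := by
    rw [TensorProduct.tmul_sub, ← hw]
    simp
  rw [one_tmul_eq_zero_iff] at h2
  obtain ⟨y', hy'⟩ := exists_mulMap_eq I P₂ _ h2
  have hinj : Function.Injective (mulMap I P₁) := by
    have := (Module.Flat.iff_rTensor_injective' (R := R) (M := P₁)).1 inferInstance I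
    exact (TensorProduct.lid R P₁).injective.comp this
  have h3 : y = LinearMap.lTensor I d₂ y' := by
    apply hinj
    rw [mulMap_natural, hy', map_sub, hq, h023, sub_zero]
  rw [h3, ← LinearMap.comp_apply, ← LinearMap.lTensor_comp]
  have h4 : d₁ ∘ₗ d₂ = 0 := LinearMap.ext h012
  rw [h4, LinearMap.lTensor_zero, LinearMap.zero_apply]

end Mod

section Cx

open CategoryTheory MonoidalCategory

theorem main (R : Type u) [CommRing R]
    (d : ℕ) (hd : 1 ≤ d) (K : ChainComplex (ModuleCat.{u} R) ℕ)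
    (hflat : ∀ i : ℕ, 1 ≤ i → i ≤ d → Module.Flat R (K.X i))
    (hK : K.Acyclic)
    (hbc : ∀ I : Ideal R,
      (((tensorLeft (ModuleCat.of R (R ⧸ I))).mapHomologicalComplex (ComplexShape.down ℕ)).obj K).Acyclic) :
    Module.Flat R (K.X 0) := by
  have : Module.Flat R (K.X 1) := hflat 1 le_rfl hd
  refine flat_of_exact (K.d 1 0).hom (K.d 2 1).hom (K.d 3 2).hom ?_ ?_ ?_ ?_ ?_
  · have h0 := hK 0
    rw [HomologicalComplex.exactAt_iff' K 1 0 0 (by simp) (by simp)] at h0
    have : Epi (K.d 1 0) := (ShortComplex.exact_iff_epi _ (by simp; rfl)).1 h0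
    exact (ModuleCat.epi_iff_surjective _).1 this
  · intro p hp
    have h1 := hK 1
    rw [HomologicalComplex.exactAt_iff' K 2 1 0 (by simp) (by simp),
      ShortComplex.moduleCat_exact_iff] at h1
    exact h1 p hp
  · intro q
    have := K.d_comp_d 2 1 0
    exact congrArg (fun f => f.hom q) this
  · intro r
    have := K.d_comp_d 3 2 1
    exact congrArg (fun f => f.hom r) this
  · intro I z hz
    have h2 := hbc I 2
    rw [HomologicalComplex.exactAt_iff' _ 3 2 1 (by simp) (by simp),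
      ShortComplex.moduleCat_exact_iff] at h2
    exact h2 z hz

end Cx

end Groth.Agent.H15.FlatRes
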