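import Mathlib
set_option autoImplicit false
universe u

namespace Groth.Agent.H15.FracSub

theorem fracAux {A Q : Type u} [CommRing A] [CommRing Q] [Algebra A Q] [IsFractionRing A Q] (B : Subalgebra A Q) :
    (∀ a : A, a ∈ nonZeroDivisors A → algebraMap A B a ∈ nonZeroDivisors B) ∧
    (∀ b : B, b ∈ nonZeroDivisors B → ∃ r u : A, r ∈ nonZeroDivisors A ∧ u ∈ nonZeroDivisors A ∧
      (b : Q) * algebraMap A Q u = algebraMap A Q r) := by
  have hinj : Function.Injective (algebraMap A Q) := IsFractionRing.injective A Q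
  constructor
  · intro a ha
    have hu : IsUnit (algebraMap A Q a) := IsLocalization.map_units Q ⟨a, ha⟩
    rw [mem_nonZeroDivisors_iff_right]
    intro x hx
    have h1 : (x : Q) * algebraMap A Q a = 0 := by
      have := congrArg (Subtype.val) hx
      simpa using this
    have h2 : (x : Q) = 0 := by
      have := hu.mul_left_eq_zero.mp h1
      exact this
    exact Subtype.ext h2
  · intro b hb
    obtain ⟨⟨r, u⟩, hru⟩ := IsLocalization.surj (nonZeroDivisors A) (b : Q)
    refine ⟨r, u, ?_, u.2, hru⟩
    rw [mem_nonZeroDivisors_iff_right]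
    intro c hc
    have h1 : (algebraMap A Q c) * (b : Q) * algebraMap A Q u = 0 := by
      rw [mul_assoc, hru, ← map_mul, hc, map_zero]
    have hu : IsUnit (algebraMap A Q u) := IsLocalization.map_units Q u
    have h2 : algebraMap A Q c * (b : Q) = 0 := hu.mul_left_eq_zero.mp h1
    have h3 : (algebraMap A B c) * b = 0 := by
      apply Subtype.ext
      simpa using h2
    have h4 : algebraMap A B c = 0 := (mem_nonZeroDivisors_iff_right.mp hb) _ h3
    have h5 : algebraMap A Q c = 0 := by
      have := congrArg Subtype.val h4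
      simpa using this
    exact hinj (by rw [h5, map_zero])

theorem isFractionRing_sub {A Q : Type u} [CommRing A] [CommRing Q] [Algebra A Q] [IsFractionRing A Q]
    (B : Subalgebra A Q) : IsFractionRing B Q := by
  obtain ⟨h1, h2⟩ := fracAux B
  rw [IsFractionRing, isLocalization_iff]
  refine ⟨?_, ?_, ?_⟩
  · rintro ⟨b, hb⟩
    obtain ⟨r, u, hr, hu, hru⟩ := h2 b hb
    have hr' : IsUnit (algebraMap A Q r) := IsLocalization.map_units Q ⟨r, hr⟩
    rw [← hru] at hr'
    exact isUnit_of_mul_isUnit_left hr'
  · intro q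
    obtain ⟨⟨a, s⟩, has⟩ := IsLocalization.surj (nonZeroDivisors A) q
    refine ⟨⟨algebraMap A B a, ⟨algebraMap A B s, h1 s s.2⟩⟩, ?_⟩
    simpa using has
  · intro x y hxy
    refine ⟨1, ?_⟩
    have : x = y := Subtype.ext hxy
    rw [this]

end Groth.Agent.H15.FracSub
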