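import Mathlib
import Groth.Prelude.Def_ArtFun3
import Groth.Agent.H15.ArtInd

universe u v

open CategoryTheory
open scoped TensorProduct

namespace Groth.Agent.H15.FreeSmall

open ArtFun ArtFun.Art IsLocalRing

variable (R : Type u) [CommRing R] [IsArtinianRing R] [IsLocalRing R]
  (k : Type u) [Field k] [Algebra R k] (hk : Function.Surjective (algebraMap R k))

/-- The base ring as an object. -/
noncomputable abbrev RA : Art R k :=
  { carrier := R
    res := Algebra.ofId R k
    res_surjective := hk }

variable (M : Type u) [AddCommGroup M] [Module R M] [Module.Finite R M]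

include hk in
theorem free_of_small
    (h : ∀ (A' A : Art R k) (p : A' ⟶ A), IsSmallExt p →
      Function.Injective
        (LinearMap.lTensor M (((RingHom.ker p.toAlgHom).restrictScalars R).subtype))) :
    Module.Free R M := by
  classical
  let P : Ideal (RA R k hk) → Prop := fun I =>
    Function.Injective (LinearMap.lTensor M (show ↥I →ₗ[R] R from I.subtype))
  have hP : ∀ I : Ideal (RA R k hk), I ≤ maximalIdeal (RA R k hk) → P I := by
    apply Groth.Agent.H15.ArtEps.ideal_induction (RA R k hk) P
    · intro x y _
      haveI : Subsingleton (M ⊗[R] ↥(⊥ : Ideal (RA R k hk))) := by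
        infer_instance
      exact Subsingleton.elim _ _
    · intro J x hPJ hxJ hxm hmx
      have hJm : J ≤ maximalIdeal (RA R k hk) := by
        intro j hj
        by_contra hnm
        have hu : IsUnit j := by
          by_contra hnu
          exact hnm ((IsLocalRing.mem_maximalIdeal _).2 hnu)
        obtain ⟨v, hv⟩ := hu.exists_left_inv
        have h1 : x = (v * x) * j := by rw [mul_right_comm, hv, one_mul]
        exact hxJ (h1 ▸ Ideal.mul_mem_left _ _ hj)
      have hIm : J ⊔ Ideal.span {x} ≤ maximalIdeal (RA R k hk) :=
        sup_le hJm ((Ideal.span_singleton_le_iff_mem _).2 hxm)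
      let μ := quotMk (RA R k hk) (J ⊔ Ideal.span {x}) hIm
      have hkerμ : RingHom.ker μ.toAlgHom = J ⊔ Ideal.span {x} := by
        ext r
        rw [RingHom.mem_ker]
        exact Ideal.Quotient.eq_zero_iff_mem
      have hJker : J ≤ RingHom.ker μ.toAlgHom := le_sup_left.trans hkerμ.ge
      have hsm : IsSmallExt (quotFactor hJm μ hJker) :=
        Groth.Agent.H15.ArtInd.isSmallExt_quotFactor μ (quotMk_surjective _ _ _) J x hkerμ hxJ hxm hmx
          hJm hJker
      have hinj := h _ _ _ hsm
      -- the maps
      let a : ↥J →ₗ[R] ↥(J ⊔ Ideal.span {x}) := Submodule.inclusion le_sup_left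
      let b : ↥(J ⊔ Ideal.span {x}) →ₗ[R]
          ↥((RingHom.ker (quotFactor hJm μ hJker).toAlgHom).restrictScalars R) :=
        { toFun := fun i => ⟨quotMk (RA R k hk) J hJm (i : R), by
            change Ideal.Quotient.mk (J ⊔ Ideal.span {x}) (i : R) = 0
            exact Ideal.Quotient.eq_zero_iff_mem.2 i.2⟩
          map_add' := fun i j => Subtype.ext (map_add _ _ _)
          map_smul' := fun r i => Subtype.ext (by
            change Ideal.Quotient.mk J (r * (i : R)) = r • Ideal.Quotient.mk J (i : R)
            rw [map_mul]
            rfl) }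
      have hexact : Function.Exact a b := by
        intro i
        constructor
        · intro hi
          have h1 : Ideal.Quotient.mk J (i : R) = 0 := congrArg Subtype.val hi
          exact ⟨⟨(i : R), Ideal.Quotient.eq_zero_iff_mem.1 h1⟩, Subtype.ext rfl⟩
        · rintro ⟨j, rfl⟩
          apply Subtype.ext
          exact Ideal.Quotient.eq_zero_iff_mem.2 j.2
      have hbsurj : Function.Surjective b := by
        rintro ⟨z, hz⟩
        obtain ⟨r, rfl⟩ := quotMk_surjective (RA R k hk) J hJm z
        have hz' : Ideal.Quotient.mk (J ⊔ Ideal.span {x}) r = 0 := hz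
        have hr : r ∈ J ⊔ Ideal.span {x} := Ideal.Quotient.eq_zero_iff_mem.1 hz'
        exact ⟨⟨r, hr⟩, Subtype.ext rfl⟩
      have hex := lTensor_exact M hexact hbsurj
      let e : R →ₗ[R] (quot (RA R k hk) J hJm).carrier := (Ideal.Quotient.mkₐ R J).toLinearMap
      intro t₁ t₂ ht
      rw [← sub_eq_zero] at ht ⊢
      rw [← map_sub] at ht
      generalize t₁ - t₂ = t at ht
      have hcomm : (((RingHom.ker (quotFactor hJm μ hJker).toAlgHom).restrictScalars R).subtype) ∘ₗ b =
          e ∘ₗ (show ↥(J ⊔ Ideal.span {x}) →ₗ[R] R from (J ⊔ Ideal.span {x}).subtype) := by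
        apply LinearMap.ext
        intro i
        rfl
      have h1 : LinearMap.lTensor M b t = 0 := by
        apply hinj
        rw [map_zero, ← LinearMap.comp_apply, ← LinearMap.lTensor_comp, hcomm,
          LinearMap.lTensor_comp, LinearMap.comp_apply, ht, map_zero]
      obtain ⟨y, rfl⟩ := (hex t).1 h1
      have h2 : LinearMap.lTensor M (show ↥J →ₗ[R] R from J.subtype) y = 0 := by
        rw [← ht, ← LinearMap.comp_apply, ← LinearMap.lTensor_comp]
        rfl
      have h3 : y = 0 := hPJ (h2.trans (map_zero _).symm)
      rw [h3, map_zero]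
  have hmax := hP (maximalIdeal (RA R k hk)) le_rfl
  have : IsNoetherianRing R := inferInstance
  have : Module.FinitePresentation R M := Module.finitePresentation_of_finite R M
  apply Module.free_of_maximalIdeal_rTensor_injective
  rw [← LinearMap.lTensor_inj_iff_rTensor_inj]
  exact hmax

end Groth.Agent.H15.FreeSmall
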