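import Mathlib

namespace Groth.Agent.H15.FrobFixBC

open TensorProduct Polynomial

universe u

/-- a finite-dimensional `k`-subspace of a field extension closed under `p`-th powers consists of
algebraic elements -/
theorem mem_range_of_pow_mem {k k' : Type u} [Field k] [IsAlgClosed k] [Field k'] [Algebra k k']
    (p : ℕ) (hp : p.Prime) (L : Submodule k k') [FiniteDimensional k L]
    (hpow : ∀ z ∈ L, z ^ p ∈ L) (z : k') (hz : z ∈ L) : z ∈ Set.range (algebraMap k k') := by
  classical
  set m := Module.finrank k L with hm
  have hiter : ∀ i : ℕ, z ^ (p ^ i) ∈ L := by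
    intro i
    induction i with
    | zero => simpa using hz
    | succ i ih => rw [pow_succ, pow_mul]; exact hpow _ ih
  let g : Fin (m + 1) → L := fun i => ⟨z ^ (p ^ (i : ℕ)), hiter i⟩
  have hnli : ¬ LinearIndependent k g := by
    intro hli
    have := hli.fintype_card_le_finrank
    rw [Fintype.card_fin] at this
    omega
  rw [Fintype.not_linearIndependent_iff] at hnli
  obtain ⟨c, hc, i₀, hi₀⟩ := hnli
  let P : k[X] := ∑ i : Fin (m + 1), Polynomial.C (c i) * X ^ (p ^ (i : ℕ))
  have hP0 : P ≠ 0 := by
    intro h0
    have h1 : P.coeff (p ^ (i₀ : ℕ)) = c i₀ := by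
      simp only [P, Polynomial.finsetSum_coeff, Polynomial.coeff_C_mul_X_pow]
      rw [Finset.sum_eq_single i₀]
      · simp
      · intro b _ hb
        rw [if_neg]
        intro h
        exact hb (Fin.ext (Nat.pow_right_injective hp.two_le h)).symm
      · intro h; exact absurd (Finset.mem_univ _) h
    rw [h0, Polynomial.coeff_zero] at h1
    exact hi₀ h1.symm
  have hPz : Polynomial.aeval z P = 0 := by
    have h2 := congrArg (fun y : L => (y : k')) hc
    simp only [Submodule.coe_sum, Submodule.coe_smul, ZeroMemClass.coe_zero, g] at h2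
    simp only [P, map_sum, map_mul, Polynomial.aeval_C, map_pow, Polynomial.aeval_X]
    rw [← h2]
    refine Finset.sum_congr rfl fun i _ => ?_
    rw [Algebra.smul_def]
  have halg : IsAlgebraic k z := ⟨P, hP0, hPz⟩
  have hint : IsIntegral k z := halg.isIntegral
  have hdeg := IsAlgClosed.degree_eq_one_of_irreducible k (minpoly.irreducible hint)
  exact minpoly.mem_range_of_degree_eq_one k z hdeg

theorem main {k k' V : Type u} [Field k] [IsAlgClosed k] [Field k']
    [Algebra k k'] (p : ℕ) [Fact p.Prime] [CharP k p]
    [AddCommGroup V] [Module k V] [FiniteDimensional k V] (F : V →+ V)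
    (F' : k' ⊗[k] V →+ k' ⊗[k] V) (hF' : ∀ (c : k') (v : V), F' (c ⊗ₜ[k] v) = (c ^ p) ⊗ₜ[k] F v) :
    Set.BijOn (fun v : V => (1 : k') ⊗ₜ[k] v) {v : V | F v = v} {w : k' ⊗[k] V | F' w = w} := by
  classical
  have hp : p.Prime := Fact.out
  have hchar : CharP k' p := charP_of_injective_algebraMap (algebraMap k k').injective p
  set n := Module.finrank k V with hn
  let e : Module.Basis (Fin n) k V := Module.finBasis k V
  let eb : Module.Basis (Fin n) k' (k' ⊗[k] V) := Algebra.TensorProduct.basis k' e
  have hrepr : ∀ (c : k') (v : V) (i : Fin n), eb.repr (c ⊗ₜ[k] v) i = c * algebraMap k k' (e.repr v i) := by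
    intro c v i
    simp [eb, Algebra.TensorProduct.basis_repr_tmul]
  have hinj : Function.Injective (fun v : V => (1 : k') ⊗ₜ[k] v) := by
    intro v v' hvv'
    apply e.repr.injective
    ext i
    have := congrArg (fun w => eb.repr w i) hvv'
    simp only [hrepr, one_mul] at this
    exact (algebraMap k k').injective this
  refine ⟨?_, hinj.injOn, ?_⟩
  · intro v hv
    simp only [Set.mem_ofPred_eq] at hv ⊢
    rw [hF', one_pow, hv]
  · intro w hw
    simp only [Set.mem_ofPred_eq] at hw
    set x : Fin n → k' := fun i => eb.repr w i with hx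
    have hwsum : w = ∑ j, x j ⊗ₜ[k] e j := by
      conv_lhs => rw [← eb.sum_repr w]
      refine Finset.sum_congr rfl fun j _ => ?_
      rw [hx]
      simp only [eb]
      rw [Algebra.TensorProduct.basis_repr_symm_apply']
    -- the equations
    have heq : ∀ i, x i = ∑ j, x j ^ p * algebraMap k k' (e.repr (F (e j)) i) := by
      intro i
      have h1 : eb.repr (F' w) i = x i := by rw [hw]
      rw [← h1]
      conv_lhs => rw [hwsum, map_sum, map_sum, Finsupp.coe_finsetSum, Finset.sum_apply]
      refine Finset.sum_congr rfl fun j _ => ?_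
      rw [hF', hrepr]
    -- the span of coordinates
    let L : Submodule k k' := Submodule.span k (Set.range x)
    have hLfin : FiniteDimensional k L := FiniteDimensional.span_of_finite k (Set.finite_range x)
    set m := Module.finrank k L with hm
    let y : Module.Basis (Fin m) k L := Module.finBasis k L
    let L' : Submodule k k' := Submodule.span k (Set.range fun l => ((y l : L) : k') ^ p)
    have hpowL' : ∀ z ∈ L, z ^ p ∈ L' := by
      intro z hz
      have h1 : z = ∑ l, (y.repr ⟨z, hz⟩ l) • ((y l : L) : k') := by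
        have := congrArg (fun t : L => (t : k')) (y.sum_repr ⟨z, hz⟩)
        simp only [Submodule.coe_sum, Submodule.coe_smul] at this
        exact this.symm
      rw [h1, sum_pow_char]
      refine Submodule.sum_mem _ fun l _ => ?_
      rw [Algebra.smul_def, mul_pow, ← map_pow, ← Algebra.smul_def]
      exact Submodule.smul_mem _ _ (Submodule.subset_span ⟨l, rfl⟩)
    have hLL' : L ≤ L' := by
      refine Submodule.span_le.2 ?_
      rintro _ ⟨i, rfl⟩
      rw [SetLike.mem_coe, heq i]
      refine Submodule.sum_mem _ fun j _ => ?_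
      rw [mul_comm, ← Algebra.smul_def]
      exact Submodule.smul_mem _ _ (hpowL' _ (Submodule.subset_span ⟨j, rfl⟩))
    have hL'fin : FiniteDimensional k L' :=
      FiniteDimensional.span_of_finite k (Set.finite_range _)
    have hrank : Module.finrank k L' ≤ Module.finrank k L := by
      have := finrank_range_le_card (R := k) (fun l => ((y l : L) : k') ^ p)
      rw [Fintype.card_fin] at this
      exact this
    have hLeq : L = L' := Submodule.eq_of_le_of_finrank_le hLL' hrank
    have hpow : ∀ z ∈ L, z ^ p ∈ L := fun z hz => hLeq ▸ hpowL' z hz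
    have hxk : ∀ i, ∃ ξ : k, algebraMap k k' ξ = x i := fun i =>
      mem_range_of_pow_mem p hp L hpow (x i) (Submodule.subset_span ⟨i, rfl⟩)
    choose ξ hξ using hxk
    have hwv : (1 : k') ⊗ₜ[k] (∑ i, ξ i • e i) = w := by
      rw [hwsum, TensorProduct.tmul_sum]
      refine Finset.sum_congr rfl fun i _ => ?_
      rw [TensorProduct.tmul_smul, TensorProduct.smul_tmul', ← hξ i, Algebra.smul_def, mul_one]
    refine ⟨∑ i, ξ i • e i, ?_, hwv⟩
    simp only [Set.mem_ofPred_eq]
    apply hinj
    show (1 : k') ⊗ₜ[k] F (∑ i, ξ i • e i) = (1 : k') ⊗ₜ[k] (∑ i, ξ i • e i)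
    have := hF' 1 (∑ i, ξ i • e i)
    rw [one_pow] at this
    rw [← this, hwv, hw]

end Groth.Agent.H15.FrobFixBC
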