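import Mathlib
import Groth.Agent.H15.HopfTransl

set_option autoImplicit false
universe u v

namespace Groth.Agent.H15.FrobRed

open Groth.Agent.H15.HopfTransl WithConv

variable (k : Type u) [Field k] [IsAlgClosed k] (p : ℕ) [Fact p.Prime] [CharP k p]
  (A : Type v) [CommRing A] [HopfAlgebra k A] [Module.Finite k A]

/-- every maximal ideal is idempotent as soon as the augmentation ideal is -/
lemma maximal_le_sq (hI : RingHom.ker (Bialgebra.counitAlgHom k A) ≤
      RingHom.ker (Bialgebra.counitAlgHom k A) ^ 2)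
    (M : Ideal A) [hM : M.IsMaximal] : M ≤ M ^ 2 := by
  have hft : Algebra.FiniteType k A := inferInstance
  obtain ⟨g, hg⟩ := exists_point k A M
  have h1 : RingHom.ker (Bialgebra.counitAlgHom k A) = RingHom.ker (1 : G k A).ofConv := rfl
  have h2 := comap_ker (1 : G k A) (toConv g)
  rw [mul_one, ofConv_toConv, hg] at h2
  -- `M = comap e I`
  rw [← h2, ← h1]
  intro x hx
  rw [Ideal.mem_comap] at hx
  have hx2 := hI hx
  rw [pow_two] at hx2 ⊢
  -- pull back along the inverse
  have hmap : ∀ y ∈ RingHom.ker (Bialgebra.counitAlgHom k A) * RingHom.ker (Bialgebra.counitAlgHom k A),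
      (Lequiv (toConv g)).symm y ∈
        Ideal.comap (Lequiv (toConv g)).toRingEquiv (RingHom.ker (Bialgebra.counitAlgHom k A)) *
        Ideal.comap (Lequiv (toConv g)).toRingEquiv (RingHom.ker (Bialgebra.counitAlgHom k A)) := by
    intro y hy
    refine Submodule.mul_induction_on hy ?_ ?_
    · intro a ha b hb
      rw [map_mul]
      refine Ideal.mul_mem_mul ?_ ?_
      · rw [Ideal.mem_comap]
        simpa using ha
      · rw [Ideal.mem_comap]
        simpa using hb
    · intro a b ha hb
      rw [map_add]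
      exact Ideal.add_mem _ ha hb
  have := hmap _ hx2
  simpa using this

theorem reduced_of_le_sq (hI : RingHom.ker (Bialgebra.counitAlgHom k A) ≤
      RingHom.ker (Bialgebra.counitAlgHom k A) ^ 2) : IsReduced A := by
  have hart : IsArtinianRing A := IsArtinianRing.of_finite k A
  have hnoeth : IsNoetherianRing A := inferInstance
  constructor
  intro x hx
  by_contra hne
  have hann : (Submodule.span A {x}).annihilator ≠ ⊤ := by
    intro h
    have h1 : (1 : A) ∈ (Submodule.span A {x}).annihilator := by rw [h]; trivial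
    rw [Submodule.mem_annihilator_span_singleton] at h1
    exact hne (by simpa using h1)
  obtain ⟨M, hM, hle⟩ := Ideal.exists_le_maximal _ hann
  have hxM : x ∈ M := by
    obtain ⟨n, hn⟩ := hx
    exact hM.isPrime.mem_of_pow_mem n (by rw [hn]; exact M.zero_mem)
  have hsq := maximal_le_sq k A hI M
  rw [pow_two] at hsq
  obtain ⟨r, hr1, hr2⟩ := Submodule.exists_sub_one_mem_and_smul_eq_zero_of_fg_of_le_smul M M
    (IsNoetherian.noetherian M) (by rwa [smul_eq_mul])
  have hrx : r ∈ (Submodule.span A {x}).annihilator := by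
    rw [Submodule.mem_annihilator_span_singleton]
    exact hr2 x hxM
  have hrM := hle hrx
  have : (1 : A) ∈ M := by
    have := M.sub_mem hrM hr1
    simpa using this
  exact hM.ne_top ((Ideal.eq_top_iff_one M).2 this)

omit [CharP k p] in
include k in
theorem exists_pow_eq_of_reduced [IsReduced A] (n : ℕ) (x : A) : ∃ y : A, y ^ p ^ n = x := by
  have hart : IsArtinianRing A := IsArtinianRing.of_finite k A
  have hpn : 0 < p ^ n := pow_pos (Fact.out : p.Prime).pos n
  have key : ∀ m : MaximalSpectrum A, ∃ d : k,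
      (Ideal.Quotient.mk m.asIdeal (algebraMap k A d)) ^ p ^ n = Ideal.Quotient.mk m.asIdeal x := by
    intro m
    have hmax := m.isMaximal
    have : IsDomain (A ⧸ m.asIdeal) := Ideal.Quotient.isDomain _
    have hint : Algebra.IsIntegral k (A ⧸ m.asIdeal) := Algebra.IsIntegral.of_finite k _
    obtain ⟨c, hc⟩ := (IsAlgClosed.algebraMap_bijective_of_isIntegral (k := k)
      (K := A ⧸ m.asIdeal)).2 (Ideal.Quotient.mk m.asIdeal x)
    obtain ⟨d, hd⟩ := IsAlgClosed.exists_pow_nat_eq c hpn
    refine ⟨d, ?_⟩
    rw [← hc, ← hd, map_pow]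
    rfl
  choose d hd using key
  let e := IsArtinianRing.equivPi A
  refine ⟨e.symm (fun m => Ideal.Quotient.mk m.asIdeal (algebraMap k A (d m))), ?_⟩
  apply e.injective
  rw [map_pow, AlgEquiv.apply_symm_apply]
  funext m
  rw [Pi.pow_apply, hd m, IsArtinianRing.equivPi_apply]

theorem main (n : ℕ) (hn : 1 ≤ n) :
    Ideal.span ((fun f : A => f ^ p ^ n) '' (RingHom.ker (Bialgebra.counitAlgHom k A) : Set A)) =
      RingHom.ker (Bialgebra.counitAlgHom k A) ↔ IsReduced A := by
  set I := RingHom.ker (Bialgebra.counitAlgHom k A) with hI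
  have hp2 : 2 ≤ p ^ n := by
    have h2 : 2 ≤ p := (Fact.out : p.Prime).two_le
    calc 2 ≤ p := h2
      _ = p ^ 1 := (pow_one p).symm
      _ ≤ p ^ n := Nat.pow_le_pow_right (by omega) hn
  constructor
  · intro h
    apply reduced_of_le_sq k A
    rw [← hI]
    conv_lhs => rw [← h]
    rw [Ideal.span_le]
    rintro _ ⟨f, hf, rfl⟩
    exact Ideal.pow_le_pow_right hp2 (Ideal.pow_mem_pow hf _)
  · intro hred
    apply le_antisymm
    · rw [Ideal.span_le]
      rintro _ ⟨f, hf, rfl⟩
      exact I.pow_mem_of_mem hf _ (by omega)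
    · intro x hx
      obtain ⟨y, hy⟩ := exists_pow_eq_of_reduced k p A n x
      apply Ideal.subset_span
      refine ⟨y, ?_, hy⟩
      have hx' : Bialgebra.counitAlgHom k A x = 0 := hx
      show Bialgebra.counitAlgHom k A y = 0
      rw [← hy, map_pow] at hx'
      exact pow_eq_zero_iff (by omega) |>.1 hx'

end Groth.Agent.H15.FrobRed
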