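import Mathlib
open Polynomial

namespace Groth.Agent.H15.FunEqRat

variable {k : Type*} [Field k]

/-- Core polynomial lemma. -/
theorem core {K : Type*} [Field K] [Algebra k K] (s : K) (hs : Transcendental k s)
    (P Q : k[X]) (hcop : IsCoprime P Q) (hQ0 : Q.eval 0 ≠ 0) (hP0 : P.eval 0 = Q.eval 0)
    (c : K) (hc0 : c ≠ 0) (hc : c * aeval s Q = aeval s P)
    (hId : (P.map (algebraMap k K)).comp (C s + C c * X) * (Q.map (algebraMap k K)) =
      C c * (P.map (algebraMap k K)) * (Q.map (algebraMap k K)).comp (C s + C c * X)) :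
    Q = C (Q.eval 0) ∧ P = C (P.coeff 1) * X + C (Q.eval 0) := by
  classical
  set PK := P.map (algebraMap k K) with hPK
  set QK := Q.map (algebraMap k K) with hQK
  set ℓ : K[X] := C s + C c * X with hℓ
  have hinj : Function.Injective (aeval (R := k) s) := transcendental_iff_injective.mp hs
  have hQne : Q ≠ 0 := by
    intro h; apply hQ0; rw [h]; simp
  have hPne : P ≠ 0 := by
    intro h; apply hQ0; rw [← hP0, h]; simp
  have hmapinj : Function.Injective (Polynomial.map (algebraMap k K)) :=
    Polynomial.map_injective _ (algebraMap k K).injective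
  have hQKne : QK ≠ 0 := by
    intro h; apply hQne; apply hmapinj; rw [Polynomial.map_zero]; exact h
  have hPKne : PK ≠ 0 := by
    intro h; apply hPne; apply hmapinj; rw [Polynomial.map_zero]; exact h
  have hℓdeg : ℓ.natDegree = 1 := by
    rw [hℓ, add_comm]
    exact Polynomial.natDegree_linear hc0
  have hℓlc : ℓ.leadingCoeff = c := by
    rw [hℓ, add_comm]
    exact Polynomial.leadingCoeff_linear hc0
  have hcopK : IsCoprime PK QK := hcop.map (Polynomial.mapRingHom (algebraMap k K))
  have hcopℓ : IsCoprime (PK.comp ℓ) (QK.comp ℓ) := hcopK.map (Polynomial.compRingHom ℓ)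
  -- QK.comp ℓ ∣ QK
  have hdvd : QK.comp ℓ ∣ QK := by
    apply hcopℓ.symm.dvd_of_dvd_mul_left
    rw [hId]
    exact Dvd.intro_left _ rfl
  have hdegcomp : (QK.comp ℓ).natDegree = QK.natDegree := by
    rw [Polynomial.natDegree_comp, hℓdeg, mul_one]
  obtain ⟨r, hr⟩ := hdvd
  have hrne : r ≠ 0 := by
    intro h; rw [h, mul_zero] at hr; exact hQKne hr
  have hcompne : QK.comp ℓ ≠ 0 := by
    intro h; rw [h, zero_mul] at hr; exact hQKne hr
  have hrdeg : r.natDegree = 0 := by
    have := congrArg Polynomial.natDegree hr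
    rw [Polynomial.natDegree_mul hcompne hrne, hdegcomp] at this
    omega
  obtain ⟨r0, hr0⟩ : ∃ r0 : K, r = C r0 := ⟨r.coeff 0, Polynomial.eq_C_of_natDegree_eq_zero hrdeg⟩
  subst hr0
  have hr0ne : r0 ≠ 0 := by
    intro h; apply hrne; rw [h, map_zero]
  set e := Q.natDegree with he
  have heK : QK.natDegree = e := by
    rw [hQK, Polynomial.natDegree_map]
  -- leading coefficients
  have hlc : c ^ e * r0 = 1 := by
    have := congrArg Polynomial.leadingCoeff hr
    rw [Polynomial.leadingCoeff_mul, Polynomial.leadingCoeff_C,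
      Polynomial.leadingCoeff_comp (by rw [hℓdeg]; exact one_ne_zero), hℓlc, heK] at this
    have hlcne : QK.leadingCoeff ≠ 0 := Polynomial.leadingCoeff_ne_zero.mpr hQKne
    have h2 : QK.leadingCoeff * (c ^ e * r0) = QK.leadingCoeff * 1 := by
      rw [mul_one, ← mul_assoc]; exact this.symm
    exact mul_left_cancel₀ hlcne h2
  -- evaluate at 0
  have hev : algebraMap k K (Q.eval 0) = aeval s Q * r0 := by
    have := congrArg (Polynomial.eval 0) hr
    rw [Polynomial.eval_mul, Polynomial.eval_C, Polynomial.eval_comp] at this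
    have hℓ0 : ℓ.eval 0 = s := by simp [hℓ]
    rw [hℓ0] at this
    have h1 : QK.eval 0 = algebraMap k K (Q.eval 0) := by
      rw [hQK, Polynomial.eval_map, Polynomial.eval₂_at_zero]
      simp [Polynomial.coeff_zero_eq_eval_zero]
    have h2 : QK.eval s = aeval s Q := by
      rw [hQK, Polynomial.eval_map]; rfl
    rw [← h1, this, h2]
  -- Q^{e+1} = C q0 * P^e
  have hkey : Q ^ (e + 1) = C (Q.eval 0) * P ^ e := by
    apply hinj
    rw [map_pow, map_mul, map_pow, Polynomial.aeval_C, hev, ← hc]
    calc aeval s Q ^ (e + 1) = aeval s Q ^ (e + 1) * (c ^ e * r0) := by rw [hlc, mul_one]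
      _ = aeval s Q * r0 * (c * aeval s Q) ^ e := by ring
  have hQdvd : Q ∣ C (Q.eval 0) := by
    have h1 : Q ∣ C (Q.eval 0) * P ^ e := by
      rw [← hkey, pow_succ]; exact Dvd.intro_left _ rfl
    exact (hcop.symm.pow_right (n := e)).dvd_of_dvd_mul_right h1
  have hQdeg : Q.natDegree = 0 := by
    have := Polynomial.natDegree_le_of_dvd hQdvd (by simpa using hQ0)
    simpa using this
  have hQC : Q = C (Q.eval 0) := by
    rw [← Polynomial.coeff_zero_eq_eval_zero]
    exact Polynomial.eq_C_of_natDegree_eq_zero hQdeg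
  refine ⟨hQC, ?_⟩
  -- now P
  have hQKC : QK = C (algebraMap k K (Q.eval 0)) := by
    rw [hQK]; conv_lhs => rw [hQC]
    rw [Polynomial.map_C]
  have hq0K : algebraMap k K (Q.eval 0) ≠ 0 := by
    intro h; exact hQ0 ((algebraMap k K).injective (by rw [h, map_zero]))
  have hId2 : PK.comp ℓ = C c * PK := by
    have h1 := hId
    rw [hQKC, Polynomial.C_comp] at h1
    have hCne : (C (algebraMap k K (Q.eval 0)) : K[X]) ≠ 0 := by
      rw [Ne, Polynomial.C_eq_zero]; exact hq0K
    exact mul_right_cancel₀ hCne h1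
  set d := P.natDegree with hd
  have hdK : PK.natDegree = d := by rw [hPK, Polynomial.natDegree_map]
  have hcd : c ^ d = c := by
    have := congrArg Polynomial.leadingCoeff hId2
    rw [Polynomial.leadingCoeff_mul, Polynomial.leadingCoeff_C,
      Polynomial.leadingCoeff_comp (by rw [hℓdeg]; exact one_ne_zero), hℓlc, hdK] at this
    have hlcne : PK.leadingCoeff ≠ 0 := Polynomial.leadingCoeff_ne_zero.mpr hPKne
    have h2 : PK.leadingCoeff * c ^ d = PK.leadingCoeff * c := by rw [this]; ring
    exact mul_left_cancel₀ hlcne h2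
  have hQs : aeval s Q = algebraMap k K (Q.eval 0) := by
    conv_lhs => rw [hQC]
    rw [Polynomial.aeval_C]
  have hdle : d ≤ 1 := by
    by_contra hcon
    rw [not_le] at hcon
    have h1 : c ^ (d - 1) = 1 := by
      have : c ^ (d - 1) * c = 1 * c := by
        rw [one_mul, ← pow_succ, Nat.sub_add_cancel (by omega)]; exact hcd
      exact mul_right_cancel₀ hc0 this
    have h2 : P ^ (d - 1) = C (Q.eval 0 ^ (d - 1)) := by
      apply hinj
      rw [map_pow, Polynomial.aeval_C, map_pow, ← hc, hQs, mul_pow, h1, one_mul]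
    have h3 := congrArg Polynomial.natDegree h2
    rw [Polynomial.natDegree_pow, Polynomial.natDegree_C, ← hd] at h3
    have : 0 < (d - 1) * d := Nat.mul_pos (by omega) (by omega)
    omega
  have hP1 := Polynomial.eq_X_add_C_of_natDegree_le_one hdle
  rw [Polynomial.coeff_zero_eq_eval_zero, hP0] at hP1
  exact hP1

variable (k : Type*) [Field k]

abbrev K1 := FractionRing (MvPolynomial (Fin 1) k)

noncomputable def g : MvPolynomial (Fin 2) k →+* RatFunc (K1 k) :=
  (algebraMap (Polynomial (K1 k)) (RatFunc (K1 k))).comp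
    ((Polynomial.mapRingHom (algebraMap (MvPolynomial (Fin 1) k) (K1 k))).comp
      ((MvPolynomial.finSuccEquiv k 1 : MvPolynomial (Fin 2) k →+* _).comp
        (MvPolynomial.renameEquiv k (Equiv.swap (0 : Fin 2) 1) : MvPolynomial (Fin 2) k →+* _)))

theorem g_inj : Function.Injective (g k) := by
  unfold g
  simp only [RingHom.coe_comp]
  refine (RatFunc.algebraMap_injective (K1 k)).comp ?_
  refine (Polynomial.map_injective _ (IsFractionRing.injective _ _)).comp ?_
  refine (MvPolynomial.finSuccEquiv k 1).injective.comp ?_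
  exact (MvPolynomial.renameEquiv k (Equiv.swap (0 : Fin 2) 1)).injective

noncomputable def s : K1 k := algebraMap (MvPolynomial (Fin 1) k) (K1 k) (MvPolynomial.X 0)

theorem g_X0 : g k (MvPolynomial.X 0) = algebraMap (K1 k) (RatFunc (K1 k)) (s k) := by
  unfold g s
  simp only [RingHom.coe_comp, Function.comp_apply, RingHom.coe_coe, MvPolynomial.renameEquiv_apply,
    MvPolynomial.rename_X, Equiv.swap_apply_left]
  rw [show (1 : Fin 2) = Fin.succ 0 from rfl, MvPolynomial.finSuccEquiv_X_succ]
  simp [RatFunc.algebraMap_C]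

theorem g_X1 : g k (MvPolynomial.X 1) = RatFunc.X := by
  unfold g
  simp only [RingHom.coe_comp, Function.comp_apply, RingHom.coe_coe, MvPolynomial.renameEquiv_apply,
    MvPolynomial.rename_X, Equiv.swap_apply_right]
  rw [MvPolynomial.finSuccEquiv_X_zero]
  simp [RatFunc.algebraMap_X]

theorem g_C (a : k) : g k (MvPolynomial.C a) =
    algebraMap (K1 k) (RatFunc (K1 k)) (algebraMap k (K1 k) a) := by
  unfold g
  simp only [RingHom.coe_comp, Function.comp_apply, RingHom.coe_coe, MvPolynomial.renameEquiv_apply,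
    MvPolynomial.rename_C]
  rw [show (MvPolynomial.C a : MvPolynomial (Fin 2) k) = algebraMap k _ a from rfl, AlgEquiv.commutes]
  rw [Polynomial.algebraMap_apply, Polynomial.coe_mapRingHom, Polynomial.map_C, RatFunc.algebraMap_C]
  congr 1

theorem s_transc : Transcendental k (s k) := by
  unfold s
  rw [transcendental_algebraMap_iff (IsFractionRing.injective (MvPolynomial (Fin 1) k) (K1 k))]
  exact MvPolynomial.transcendental_X k 0


theorem main (k : Type) [Field k] (F : RatFunc k)
    (h0 : F.denom.eval 0 ≠ 0) (h1 : F.num.eval 0 = F.denom.eval 0)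
    (hFE : RatFunc.eval (algebraMap k (FractionRing (MvPolynomial (Fin 2) k)))
        (algebraMap (MvPolynomial (Fin 2) k) (FractionRing (MvPolynomial (Fin 2) k)) (MvPolynomial.X 0) +
          algebraMap (MvPolynomial (Fin 2) k) (FractionRing (MvPolynomial (Fin 2) k)) (MvPolynomial.X 1) *
            RatFunc.eval (algebraMap k (FractionRing (MvPolynomial (Fin 2) k)))
              (algebraMap (MvPolynomial (Fin 2) k) (FractionRing (MvPolynomial (Fin 2) k)) (MvPolynomial.X 0)) F) F =
      RatFunc.eval (algebraMap k (FractionRing (MvPolynomial (Fin 2) k)))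
          (algebraMap (MvPolynomial (Fin 2) k) (FractionRing (MvPolynomial (Fin 2) k)) (MvPolynomial.X 0)) F *
        RatFunc.eval (algebraMap k (FractionRing (MvPolynomial (Fin 2) k)))
          (algebraMap (MvPolynomial (Fin 2) k) (FractionRing (MvPolynomial (Fin 2) k)) (MvPolynomial.X 1)) F) :
    ∃ a : k, F = 1 + RatFunc.C a * RatFunc.X := by
  classical
  set L := FractionRing (MvPolynomial (Fin 2) k) with hL
  set M := RatFunc (K1 k) with hM
  set P := F.num with hP
  set Q := F.denom with hQ
  set f : k →+* L := algebraMap k L with hf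
  set x0 : L := algebraMap (MvPolynomial (Fin 2) k) L (MvPolynomial.X 0) with hx0
  set x1 : L := algebraMap (MvPolynomial (Fin 2) k) L (MvPolynomial.X 1) with hx1
  let ψ : L →+* M := IsFractionRing.lift (g_inj k)
  have hψ : ∀ r, ψ (algebraMap (MvPolynomial (Fin 2) k) L r) = g k r :=
    fun r => IsFractionRing.lift_algebraMap (g_inj k) r
  let A : (K1 k)[X] →+* M := algebraMap (K1 k)[X] M
  have hAinj : Function.Injective A := RatFunc.algebraMap_injective (K1 k)
  have hAC : A.comp Polynomial.C = algebraMap (K1 k) M := by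
    ext z
    simp only [RingHom.coe_comp, Function.comp_apply, A]
    rw [RatFunc.algebraMap_C, RatFunc.algebraMap_eq_C]
  have hf' : ψ.comp f = (algebraMap (K1 k) M).comp (algebraMap k (K1 k)) := by
    ext a
    simp only [RingHom.coe_comp, Function.comp_apply, hf]
    rw [IsScalarTower.algebraMap_apply k (MvPolynomial (Fin 2) k) L, hψ, MvPolynomial.algebraMap_eq, g_C]
  set PK := P.map (algebraMap k (K1 k)) with hPK
  set QK := Q.map (algebraMap k (K1 k)) with hQK
  have key : ∀ (a : L) (p : k[X]), ψ (p.eval₂ f a) =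
      (p.map (algebraMap k (K1 k))).eval₂ (algebraMap (K1 k) M) (ψ a) := by
    intro a p
    rw [Polynomial.hom_eval₂, hf', Polynomial.eval₂_map]
  have E3 : ∀ (p ℓ' : (K1 k)[X]), p.eval₂ (algebraMap (K1 k) M) (A ℓ') = A (p.comp ℓ') := by
    intro p ℓ'
    rw [Polynomial.comp, Polynomial.hom_eval₂, hAC]
  have evalψ : ∀ (a : L) (ℓ' : (K1 k)[X]), ψ a = A ℓ' →
      ψ (RatFunc.eval f a F) = A (PK.comp ℓ') / A (QK.comp ℓ') := by
    intro a ℓ' ha
    unfold RatFunc.eval
    rw [map_div₀, key, key, ha, E3, E3]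
  have hψx0 : ψ x0 = A (C (s k)) := by
    rw [hx0, hψ, g_X0]
    simp only [A]
    rw [RatFunc.algebraMap_C, RatFunc.algebraMap_eq_C]
  have hψx1 : ψ x1 = A X := by
    rw [hx1, hψ, g_X1]
    simp only [A]
    rw [RatFunc.algebraMap_X]
  set c : K1 k := PK.eval (s k) / QK.eval (s k) with hc
  have hcψ : ψ (RatFunc.eval f x0 F) = A (C c) := by
    have hACz : ∀ z, A (C z) = algebraMap (K1 k) M z := fun z => RingHom.congr_fun hAC z
    rw [evalψ x0 _ hψx0, Polynomial.comp_C, Polynomial.comp_C, hACz, hACz, hACz, hc, map_div₀]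
  set ℓ : (K1 k)[X] := C (s k) + C c * X with hℓ
  have harg : ψ (x0 + x1 * RatFunc.eval f x0 F) = A ℓ := by
    rw [map_add, map_mul, hψx0, hψx1, hcψ, hℓ, map_add, map_mul, mul_comm]
  have hFE' := congrArg ψ hFE
  rw [map_mul, evalψ _ _ harg, hcψ, evalψ x1 _ hψx1, Polynomial.comp_X, Polynomial.comp_X] at hFE'
  -- nonvanishing
  have hst := s_transc k
  have hinj : Function.Injective (aeval (R := k) (s k)) := transcendental_iff_injective.mp hst
  have hQne : Q ≠ 0 := RatFunc.denom_ne_zero F
  have hPne : P ≠ 0 := by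
    intro h; apply h0; rw [← h1, h]; simp
  have hevP : PK.eval (s k) = aeval (s k) P := by rw [hPK, Polynomial.eval_map_algebraMap]
  have hevQ : QK.eval (s k) = aeval (s k) Q := by rw [hQK, Polynomial.eval_map_algebraMap]
  have hPs : aeval (s k) P ≠ 0 := by
    intro h; apply hPne; apply hinj; rw [h, map_zero]
  have hQs : aeval (s k) Q ≠ 0 := by
    intro h; apply hQne; apply hinj; rw [h, map_zero]
  have hc0 : c ≠ 0 := by
    rw [hc, hevP, hevQ]; exact div_ne_zero hPs hQs
  have hcc : c * aeval (s k) Q = aeval (s k) P := by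
    rw [hc, hevP, hevQ, div_mul_cancel₀ _ hQs]
  have hmapinj : Function.Injective (Polynomial.map (algebraMap k (K1 k))) :=
    Polynomial.map_injective _ (algebraMap k (K1 k)).injective
  have hQKne : QK ≠ 0 := by
    intro h; apply hQne; apply hmapinj; rw [Polynomial.map_zero]; exact h
  have hPKne : PK ≠ 0 := by
    intro h; apply hPne; apply hmapinj; rw [Polynomial.map_zero]; exact h
  have hAQ : A QK ≠ 0 := fun h => hQKne (hAinj (by rw [h, map_zero]))
  have hAP : A PK ≠ 0 := fun h => hPKne (hAinj (by rw [h, map_zero]))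
  have hACc : A (C c) ≠ 0 := fun h => hc0 (Polynomial.C_injective (hAinj (by rw [h, map_zero, map_zero])))
  have hRHS : A (C c) * (A PK / A QK) ≠ 0 := mul_ne_zero hACc (div_ne_zero hAP hAQ)
  have hden : A (QK.comp ℓ) ≠ 0 := by
    intro h
    rw [h, div_zero] at hFE'
    exact hRHS hFE'.symm
  have hId : PK.comp ℓ * QK = C c * PK * QK.comp ℓ := by
    apply hAinj
    rw [map_mul, map_mul, map_mul]
    rw [div_eq_iff hden] at hFE'
    rw [hFE']
    have hcan : A PK / A QK * A QK = A PK := div_mul_cancel₀ _ hAQ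
    calc A (C c) * (A PK / A QK) * A (QK.comp ℓ) * A QK
        = A (C c) * (A PK / A QK * A QK) * A (QK.comp ℓ) := by ring
      _ = A (C c) * A PK * A (QK.comp ℓ) := by rw [hcan]
  obtain ⟨hQC, hPC⟩ := core (s k) hst P Q (RatFunc.isCoprime_num_denom F) h0 h1 c hc0 hcc hId
  obtain ⟨p1, hp1⟩ : ∃ p1, P.coeff 1 = p1 := ⟨_, rfl⟩
  rw [hp1] at hPC
  refine ⟨p1 / Q.eval 0, ?_⟩
  have hq0 : (RatFunc.C (Q.eval 0) : RatFunc k) ≠ 0 := by
    intro h
    exact h0 (RatFunc.C_injective (by rw [h, map_zero]))
  rw [← RatFunc.num_div_denom F, ← hP, ← hQ, hPC]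
  conv_lhs => rw [hQC]
  simp only [map_add, map_mul, RatFunc.algebraMap_C, RatFunc.algebraMap_X, Polynomial.eval_C]
  rw [div_eq_iff hq0, map_div₀]
  field_simp
  ring

end Groth.Agent.H15.FunEqRat
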