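import Groth.Agent.H15.DetNZD
set_option autoImplicit false
universe u
namespace Groth.Agent.H15.DetNZD

theorem glinj (A : Type u) [CommRing A] [Nontrivial A] (n : ℕ) (hn : 0 < n) :
    Function.Injective (fun p : Aˣ × ℤ =>
        Units.map (algebraMap A (Localization.Away (Matrix.mvPolynomialX (Fin n) (Fin n) A).det)).toMonoidHom p.1 *
          (IsLocalization.Away.algebraMap_isUnit (S := Localization.Away (Matrix.mvPolynomialX (Fin n) (Fin n) A).det)
            (Matrix.mvPolynomialX (Fin n) (Fin n) A).det).unit ^ p.2) := by
  classical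
  have : Nonempty (Fin n) := ⟨⟨0, hn⟩⟩
  set d := (Matrix.mvPolynomialX (Fin n) (Fin n) A).det with hd
  set u := (IsLocalization.Away.algebraMap_isUnit (S := Localization.Away d) d).unit with hu
  -- evaluation at the identity matrix
  let g : MvPolynomial (Fin n × Fin n) A →+* A :=
    (MvPolynomial.aeval (fun ij : Fin n × Fin n => ((1 : Matrix (Fin n) (Fin n) A) ij.1 ij.2))).toRingHom
  have hgd : g d = 1 := by
    show (MvPolynomial.aeval _) d = 1
    rw [hd, AlgHom.map_det]
    have : (MvPolynomial.aeval (fun ij : Fin n × Fin n => ((1 : Matrix (Fin n) (Fin n) A) ij.1 ij.2))).mapMatrix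
          (Matrix.mvPolynomialX (Fin n) (Fin n) A) = 1 := by
      ext i j
      simp
    rw [this, Matrix.det_one]
  let φ : Localization.Away d →+* A := IsLocalization.Away.lift d (g := g) (by rw [hgd]; exact isUnit_one)
  have hφa : ∀ a : A, φ (algebraMap A (Localization.Away d) a) = a := by
    intro a
    rw [IsScalarTower.algebraMap_apply A (MvPolynomial (Fin n × Fin n) A) (Localization.Away d)]
    simp only [φ, IsLocalization.Away.lift_eq]
    simp [g]
  have hφu : Units.map φ.toMonoidHom u = 1 := by
    ext
    simp only [Units.coe_map, hu, IsUnit.unit_spec, Units.val_one]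
    show φ (algebraMap _ _ d) = 1
    simp only [φ, IsLocalization.Away.lift_eq, hgd]
  -- injectivity of P → L
  have hinj : Function.Injective (algebraMap (MvPolynomial (Fin n × Fin n) A) (Localization.Away d)) := by
    apply IsLocalization.injective (M := Submonoid.powers d)
    exact Submonoid.powers_le.mpr (detnzd A n)
  -- u has infinite order
  have hpow : ∀ m : ℕ, 0 < m → u ^ m ≠ 1 := by
    intro m hm h
    have h1 : algebraMap (MvPolynomial (Fin n × Fin n) A) (Localization.Away d) (d ^ m) =
        algebraMap (MvPolynomial (Fin n × Fin n) A) (Localization.Away d) 1 := by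
      rw [map_pow, map_one]
      have := congrArg Units.val h
      simpa [hu] using this
    have h2 : d ^ m = 1 := hinj h1
    -- evaluate at zero
    have h3 := congrArg (MvPolynomial.aeval (fun _ : Fin n × Fin n => (0 : A))) h2
    rw [map_pow, map_one, hd, AlgHom.map_det] at h3
    have : (MvPolynomial.aeval (fun _ : Fin n × Fin n => (0 : A))).mapMatrix
          (Matrix.mvPolynomialX (Fin n) (Fin n) A) = 0 := by
      ext i j
      simp
    rw [this, Matrix.det_zero, zero_pow hm.ne'] at h3
    exact zero_ne_one h3
  rintro ⟨a, e⟩ ⟨a', e'⟩ h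
  simp only at h
  have h1 := congrArg (Units.map φ.toMonoidHom) h
  simp only [map_mul, map_zpow, hφu, one_zpow, mul_one] at h1
  have haa : a = a' := by
    ext
    have := congrArg Units.val h1
    simpa [hφa] using this
  subst haa
  have h2 : u ^ e = u ^ e' := mul_left_cancel h
  have h3 : u ^ (e - e') = 1 := by
    rw [zpow_sub, h2, mul_inv_cancel]
  have h4 : e - e' = 0 := by
    by_contra hne
    have h5 : u ^ (e - e').natAbs = 1 := by
      rcases Int.natAbs_eq (e - e') with h6 | h6
      · rw [← zpow_natCast, ← h6, h3]
      · have : ((e - e').natAbs : ℤ) = -(e - e') := by omega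
        rw [← zpow_natCast, this, zpow_neg, h3, inv_one]
    exact hpow _ (Int.natAbs_pos.mpr hne) h5
  have : e = e' := by omega
  subst this
  rfl
end Groth.Agent.H15.DetNZD
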