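import Mathlib
import Groth.Prelude.Def_DeRham

set_option autoImplicit false
universe u

namespace Groth.Agent.H15.GmDR

/-! The first block (`Dl`, `Dl_monomial`, `Dl_coeff`, `Dl_leibniz`) is copied from the team's
`Groth/Agent/S19632.lean` (by lead). -/

open LaurentPolynomial in
/-- formal derivative on Laurent polynomials, as a linear map -/
noncomputable def Dl (k : Type u) [Field k] : LaurentPolynomial k →ₗ[k] LaurentPolynomial k :=
  (AddMonoidAlgebra.coeffLinearEquiv k).symm.toLinearMap ∘ₗ
    (Finsupp.lsum k (fun n : ℤ => (n : k) • (Finsupp.lsingle (n - 1) : k →ₗ[k] (ℤ →₀ k)))) ∘ₗ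
    (AddMonoidAlgebra.coeffLinearEquiv k).toLinearMap

open LaurentPolynomial in
lemma Dl_monomial (k : Type u) [Field k] (a : k) (n : ℤ) :
    Dl k (C a * T n) = C ((n : k) * a) * T (n - 1) := by
  rw [← single_eq_C_mul_T, ← single_eq_C_mul_T]
  apply AddMonoidAlgebra.coeff_injective
  have h1 : (AddMonoidAlgebra.coeffLinearEquiv k) (AddMonoidAlgebra.single n a : LaurentPolynomial k)
      = Finsupp.single n a := rfl
  simp only [Dl, LinearMap.comp_apply, LinearEquiv.coe_coe, h1, Finsupp.lsum_single]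
  show ((n : k) • (Finsupp.lsingle (n - 1) : k →ₗ[k] (ℤ →₀ k))) a = Finsupp.single (n - 1) ((n : k) * a)
  rw [LinearMap.smul_apply, Finsupp.lsingle_apply, Finsupp.smul_single, smul_eq_mul]

open LaurentPolynomial in
lemma Dl_coeff (k : Type u) [Field k] (f : LaurentPolynomial k) (n : ℤ) :
    (Dl k f).coeff (n - 1) = (n : k) * f.coeff n := by
  induction f using LaurentPolynomial.induction_on' with
  | add p q hp hq => rw [map_add, AddMonoidAlgebra.coeff_add, AddMonoidAlgebra.coeff_add,
      Finsupp.add_apply, Finsupp.add_apply, hp, hq, mul_add]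
  | C_mul_T m a =>
    rw [Dl_monomial, ← single_eq_C_mul_T, ← single_eq_C_mul_T, AddMonoidAlgebra.coeff_single,
      AddMonoidAlgebra.coeff_single, Finsupp.single_apply, Finsupp.single_apply]
    by_cases h : m = n
    · subst h; simp
    · have : ¬ (m - 1 = n - 1) := fun h' => h (by omega)
      simp [h, this]

open LaurentPolynomial in
lemma Dl_leibniz (k : Type u) [Field k] (p q : LaurentPolynomial k) :
    Dl k (p * q) = p • Dl k q + q • Dl k p := by
  have key : ∀ (x y : k) (m n : ℤ), (C x * T m) * (C y * T n) = (C (x * y) * T (m + n) : LaurentPolynomial k) := by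
    intro x y m n
    rw [T_add, map_mul]; ring
  induction p using LaurentPolynomial.induction_on' with
  | add p₁ p₂ h₁ h₂ => rw [add_mul, map_add, h₁, h₂, map_add, add_smul, smul_add]; abel
  | C_mul_T m x =>
    induction q using LaurentPolynomial.induction_on' with
    | add q₁ q₂ h₁ h₂ => rw [mul_add, map_add, h₁, h₂, map_add, add_smul, smul_add]; abel
    | C_mul_T n y =>
      rw [key, Dl_monomial, Dl_monomial, Dl_monomial, smul_eq_mul, smul_eq_mul, key, key]
      have e1 : m + (n - 1) = m + n - 1 := by ring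
      have e2 : n + (m - 1) = m + n - 1 := by ring
      rw [e1, e2, ← add_mul, ← map_add]
      congr 2
      push_cast; ring


open LaurentPolynomial exteriorPower

variable (k : Type u) [Field k]

/-- the derivation `d/dT` -/
noncomputable def Dv : Derivation k (LaurentPolynomial k) (LaurentPolynomial k) :=
  Derivation.mk' (Dl k) (Dl_leibniz k)

theorem Dv_apply (f : LaurentPolynomial k) : Dv k f = Dl k f := rfl

theorem Dv_T1 : Dv k (T 1) = 1 := by
  show Dl k (T 1) = 1
  have := Dl_monomial k 1 1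
  simpa using this

theorem compDer_apply' (ω₀ : Ω[LaurentPolynomial k⁄k]) (b : LaurentPolynomial k) :
    (LinearMap.toSpanSingleton (LaurentPolynomial k) _ ω₀).compDer (Dv k) b = Dv k b • ω₀ := rfl

theorem der_eq_zero_of_T1 {M : Type*} [AddCommGroup M] [Module (LaurentPolynomial k) M]
    [Module k M] [IsScalarTower k (LaurentPolynomial k) M]
    (E : Derivation k (LaurentPolynomial k) M) (h : E (T 1) = 0) : ∀ f, E f = 0 := by
  have hm1 : E (T (-1)) = 0 := by
    have h1 : (T (-1) : LaurentPolynomial k) * T 1 = 1 := by rw [← T_add]; simp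
    rw [Derivation.leibniz_of_mul_eq_one E h1, h, smul_zero]
  have hT : ∀ n : ℤ, E (T n) = 0 := by
    intro n
    induction n using Int.induction_on with
    | zero => rw [T_zero]; exact Derivation.map_one_eq_zero E
    | succ n ih => rw [T_add, Derivation.leibniz, ih, h, smul_zero, smul_zero, add_zero]
    | pred n ih =>
      rw [sub_eq_add_neg, T_add, Derivation.leibniz, ih, hm1, smul_zero, smul_zero, add_zero]
  intro f
  induction f using LaurentPolynomial.induction_on' with
  | add p q hp hq => rw [map_add, hp, hq, add_zero]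
  | C_mul_T n a => rw [← smul_eq_C_mul, Derivation.map_smul, hT, smul_zero]

theorem D_eq (b : LaurentPolynomial k) :
    KaehlerDifferential.D k (LaurentPolynomial k) b =
      Dv k b • KaehlerDifferential.D k (LaurentPolynomial k) (T 1) := by
  set ω₀ := KaehlerDifferential.D k (LaurentPolynomial k) (T 1) with hω₀
  have h := der_eq_zero_of_T1 k (KaehlerDifferential.D k (LaurentPolynomial k) -
    (LinearMap.toSpanSingleton (LaurentPolynomial k) _ ω₀).compDer (Dv k)) (by
      rw [Derivation.sub_apply, compDer_apply', Dv_T1, one_smul, sub_self]) b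
  rw [Derivation.sub_apply, compDer_apply', sub_eq_zero] at h
  exact h

theorem span_top :
    Submodule.span (LaurentPolynomial k) {KaehlerDifferential.D k (LaurentPolynomial k) (T 1)} = ⊤ := by
  rw [eq_top_iff, ← KaehlerDifferential.span_range_derivation k (LaurentPolynomial k), Submodule.span_le]
  rintro _ ⟨b, rfl⟩
  exact Submodule.mem_span_singleton.mpr ⟨Dv k b, (D_eq k b).symm⟩

theorem ext_zero (m : ℕ) (hm : 2 ≤ m) (x : ⋀[LaurentPolynomial k]^m (Ω[LaurentPolynomial k⁄k])) :
    x = 0 := by
  obtain ⟨n, rfl⟩ := Nat.exists_eq_add_of_le' hm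
  have h := ιMulti_span_of_span (LaurentPolynomial k) (n + 2) (Ω[LaurentPolynomial k⁄k]) (span_top k)
  have hle : Submodule.span (LaurentPolynomial k)
      (ιMulti (LaurentPolynomial k) (n + 2) ''
        {a | Set.range a ⊆ {KaehlerDifferential.D k (LaurentPolynomial k) (T 1)}}) ≤ ⊥ := by
    rw [Submodule.span_le]
    rintro _ ⟨a, ha, rfl⟩
    have h0 : a 0 = KaehlerDifferential.D k (LaurentPolynomial k) (T 1) := ha ⟨0, rfl⟩
    have h1 : a 1 = KaehlerDifferential.D k (LaurentPolynomial k) (T 1) := ha ⟨1, rfl⟩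
    have : ιMulti (LaurentPolynomial k) (n + 2) a = 0 :=
      (ιMulti (LaurentPolynomial k) (n + 2)).map_eq_zero_of_eq a (h0.trans h1.symm) (by simp)
    rw [this]; exact Submodule.zero_mem _
  rw [h] at hle
  exact (Submodule.mem_bot _).mp (hle trivial)


section main

variable [CharZero k]

/-- decomposition of a Laurent polynomial into a derivative and a multiple of `T⁻¹` -/
theorem decomp (f : LaurentPolynomial k) :
    ∃ (b : LaurentPolynomial k) (c : k), f = Dv k b + C c * T (-1) := by
  induction f using LaurentPolynomial.induction_on' with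
  | add p q hp hq =>
    obtain ⟨b₁, c₁, h₁⟩ := hp
    obtain ⟨b₂, c₂, h₂⟩ := hq
    refine ⟨b₁ + b₂, c₁ + c₂, ?_⟩
    rw [h₁, h₂, map_add, map_add, add_mul]; abel
  | C_mul_T n a =>
    by_cases hn : n = -1
    · subst hn
      exact ⟨0, a, by rw [map_zero, zero_add]⟩
    · refine ⟨C (a / ((n : k) + 1)) * T (n + 1), 0, ?_⟩
      have hne : ((n : k) + 1) ≠ 0 := by
        have : ((n + 1 : ℤ) : k) ≠ 0 := Int.cast_ne_zero.mpr (by omega)
        simpa using this
      rw [map_zero, zero_mul, add_zero, Dv_apply, Dl_monomial, add_sub_cancel_right]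
      congr 2
      push_cast
      field_simp

omit [CharZero k] in
theorem coeff_Dv_neg_one (b : LaurentPolynomial k) : (Dv k b).coeff (-1) = 0 := by
  show (Dl k b).coeff (-1) = 0
  have := Dl_coeff k b 0
  simpa using this

omit [CharZero k] in
theorem coeff_C_mul_T (c : k) : (C c * T (-1) : LaurentPolynomial k).coeff (-1) = c := by
  rw [← single_eq_C_mul_T, AddMonoidAlgebra.coeff_single, Finsupp.single_eq_same]

/-- "division by `dT`" on one-forms -/
noncomputable def Phi : ↥(⋀[LaurentPolynomial k]^1 (Ω[LaurentPolynomial k⁄k])) →ₗ[LaurentPolynomial k]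
    LaurentPolynomial k :=
  (Dv k).liftKaehlerDifferential ∘ₗ
    (oneEquiv (LaurentPolynomial k) (Ω[LaurentPolynomial k⁄k])).toLinearMap

omit [CharZero k] in
theorem Phi_ιMulti (a : Fin 1 → Ω[LaurentPolynomial k⁄k]) :
    Phi k (ιMulti (LaurentPolynomial k) 1 a) = (Dv k).liftKaehlerDifferential (a 0) := by
  simp [Phi]

theorem main
    (d : ∀ p : ℕ, ↥(⋀[LaurentPolynomial k]^p (Ω[LaurentPolynomial k⁄k])) →ₗ[k]
      ↥(⋀[LaurentPolynomial k]^(p + 1) (Ω[LaurentPolynomial k⁄k])))
    (hd : DeRham.IsDiff (KaehlerDifferential.D k (LaurentPolynomial k)) d) :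
    DeRham.cocycles d 1 = ⊤ ∧
    IsCompl (DeRham.coboundaries d 1)
      (Submodule.span k {DeRham.gen (KaehlerDifferential.D k (LaurentPolynomial k)) 1
        (LaurentPolynomial.T (-1)) (fun _ => LaurentPolynomial.T 1)}) ∧
    DeRham.gen (KaehlerDifferential.D k (LaurentPolynomial k)) 1
        (LaurentPolynomial.T (-1)) (fun _ => LaurentPolynomial.T 1) ∉ DeRham.coboundaries d 1 ∧
    ∀ i : ℕ, DeRham.cocycles d (i + 2) ≤ DeRham.coboundaries d (i + 2) := by
  set D := KaehlerDifferential.D k (LaurentPolynomial k) with hD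
  set g := DeRham.gen D 1 (T (-1)) (fun _ => T 1) with hg
  have hcb : DeRham.coboundaries d 1 = LinearMap.range (d 0) := rfl
  have h0 : ∀ z : ↥(⋀[LaurentPolynomial k]^0 (Ω[LaurentPolynomial k⁄k])),
      z = DeRham.gen D 0 (zeroEquiv (LaurentPolynomial k) (Ω[LaurentPolynomial k⁄k]) z) Fin.elim0 := by
    intro z
    apply (zeroEquiv (LaurentPolynomial k) (Ω[LaurentPolynomial k⁄k])).injective
    rw [DeRham.gen, map_smul, zeroEquiv_ιMulti, smul_eq_mul, mul_one]
  have hΦd : ∀ z, Phi k (d 0 z) =
      Dv k (zeroEquiv (LaurentPolynomial k) (Ω[LaurentPolynomial k⁄k]) z) := by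
    intro z
    conv_lhs => rw [h0 z]
    rw [hd.1 0, Phi_ιMulti, Fin.cons_zero, Derivation.liftKaehlerDifferential_comp_D]
  have hΦg : Phi k g = T (-1) := by
    rw [hg, DeRham.gen, map_smul, Phi_ιMulti, Derivation.liftKaehlerDifferential_comp_D, Dv_T1,
      smul_eq_mul, mul_one]
  have hΦk : ∀ (c : k) (x : ↥(⋀[LaurentPolynomial k]^1 (Ω[LaurentPolynomial k⁄k]))),
      Phi k (c • x) = c • Phi k x := fun c x => LinearMap.map_smul_of_tower _ c x
  refine ⟨?_, ⟨?_, ?_⟩, ?_, ?_⟩
  · rw [eq_top_iff]
    intro x _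
    show d 1 x = 0
    exact ext_zero k 2 le_rfl _
  · rw [hcb, Submodule.disjoint_def]
    intro x hx1 hx2
    obtain ⟨z, rfl⟩ := hx1
    obtain ⟨c, hc⟩ := Submodule.mem_span_singleton.mp hx2
    have h1 : Dv k (zeroEquiv (LaurentPolynomial k) (Ω[LaurentPolynomial k⁄k]) z) = C c * T (-1) := by
      rw [← hΦd, ← hc, hΦk, hΦg, smul_eq_C_mul]
    have h2 : c = 0 := by
      have := congrArg (fun f : LaurentPolynomial k => f.coeff (-1)) h1
      simp only [coeff_Dv_neg_one, coeff_C_mul_T] at this
      exact this.symm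
    rw [← hc, h2, zero_smul]
  · rw [hcb, Submodule.codisjoint_iff_exists_add_eq]
    intro z
    have hmem : oneEquiv (LaurentPolynomial k) (Ω[LaurentPolynomial k⁄k]) z ∈
        Submodule.span (LaurentPolynomial k) {D (T 1)} := by
      rw [hD, span_top]; trivial
    obtain ⟨f, hf⟩ := Submodule.mem_span_singleton.mp hmem
    obtain ⟨b, c, hbc⟩ := decomp k f
    refine ⟨d 0 (DeRham.gen D 0 b Fin.elim0), c • g, ⟨_, rfl⟩,
      Submodule.smul_mem _ _ (Submodule.mem_span_singleton_self _), ?_⟩
    apply (oneEquiv (LaurentPolynomial k) (Ω[LaurentPolynomial k⁄k])).injective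
    have e1 : oneEquiv (LaurentPolynomial k) (Ω[LaurentPolynomial k⁄k]) (c • g) =
        (C c * T (-1)) • D (T 1) := by
      have e0 : oneEquiv (LaurentPolynomial k) (Ω[LaurentPolynomial k⁄k]) (c • g) =
          c • oneEquiv (LaurentPolynomial k) (Ω[LaurentPolynomial k⁄k]) g :=
        (oneEquiv (LaurentPolynomial k) (Ω[LaurentPolynomial k⁄k])).toLinearMap.map_smul_of_tower c g
      rw [e0, hg, DeRham.gen, map_smul, oneEquiv_ιMulti, ← smul_eq_C_mul, smul_assoc]
    rw [map_add, e1, hd.1 0, oneEquiv_ιMulti, Fin.cons_zero, ← hf, hbc, add_smul, hD, D_eq k b]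
  · rw [hcb]
    rintro ⟨z, hz⟩
    have h1 : Dv k (zeroEquiv (LaurentPolynomial k) (Ω[LaurentPolynomial k⁄k]) z) = C 1 * T (-1) := by
      rw [← hΦd, hz, hΦg, map_one, one_mul]
    have := congrArg (fun f : LaurentPolynomial k => f.coeff (-1)) h1
    simp only [coeff_Dv_neg_one, coeff_C_mul_T] at this
    exact zero_ne_one this
  · intro i x _
    rw [ext_zero k (i + 2) (by omega) x]
    exact Submodule.zero_mem _

end main

end Groth.Agent.H15.GmDR
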