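import Mathlib

set_option autoImplicit false

namespace Groth.Agent.H15.GrComp

open DirectSum

section ring
variable {ι : Type*} [AddCommGroup ι] [DecidableEq ι]
variable {A : Type*} [CommRing A] {σ : Type*} [SetLike σ A] [AddSubmonoidClass σ A]
  (𝒜 : ι → σ) [GradedRing 𝒜]

/-- homogeneous component -/
noncomputable def cA (r : A) (i : ι) : A := (DirectSum.decompose 𝒜 r i : A)

theorem cA_mem (r : A) (i : ι) : cA 𝒜 r i ∈ 𝒜 i := (DirectSum.decompose 𝒜 r i).2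

theorem cA_add (r r' : A) (i : ι) : cA 𝒜 (r + r') i = cA 𝒜 r i + cA 𝒜 r' i := by
  simp [cA, DirectSum.decompose_add]

theorem cA_sub (r r' : A) (i : ι) : cA 𝒜 (r - r') i = cA 𝒜 r i - cA 𝒜 r' i := by
  have := cA_add 𝒜 (r - r') r' i
  rw [sub_add_cancel] at this
  rw [this, add_sub_cancel_right]

theorem cA_sum {κ : Type*} (s : Finset κ) (f : κ → A) (i : ι) :
    cA 𝒜 (∑ j ∈ s, f j) i = ∑ j ∈ s, cA 𝒜 (f j) i := by
  classical
  induction s using Finset.induction_on with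
  | empty => simp [cA]
  | insert a s ha ih => rw [Finset.sum_insert ha, Finset.sum_insert ha, cA_add, ih]

theorem cA_of_mem {r : A} {e : ι} (hr : r ∈ 𝒜 e) (d : ι) :
    cA 𝒜 r d = if e = d then r else 0 := by
  by_cases h : e = d
  · subst h; rw [if_pos rfl]; exact DirectSum.decompose_of_mem_same 𝒜 hr
  · rw [if_neg h]; exact DirectSum.decompose_of_mem_ne 𝒜 hr h

theorem cA_one_zero : cA 𝒜 (1 : A) 0 = 1 := by
  rw [cA_of_mem 𝒜 (SetLike.GradedOne.one_mem) 0, if_pos rfl]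

theorem sum_cA (r : A) : ∃ s : Finset ι, r = ∑ i ∈ s, cA 𝒜 r i := by
  classical
  exact ⟨_, (DirectSum.sum_support_decompose 𝒜 r).symm⟩

theorem cA_eq_zero_of_notMem {r : A} {s : Finset ι} (hs : r = ∑ i ∈ s, cA 𝒜 r i) {d : ι}
    (hd : d ∉ s) : cA 𝒜 r d = 0 := by
  classical
  have h1 : cA 𝒜 r d = cA 𝒜 (∑ i ∈ s, cA 𝒜 r i) d := by rw [← hs]
  rw [h1, cA_sum]
  refine Finset.sum_eq_zero (fun i hi => ?_)
  rw [cA_of_mem 𝒜 (cA_mem 𝒜 r i), if_neg]
  intro h; exact hd (h ▸ hi)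

end ring

section module
variable {ι : Type*} [AddCommGroup ι] [DecidableEq ι]
variable {A : Type*} [CommRing A] {σ : Type*} [SetLike σ A] [AddSubmonoidClass σ A]
  (𝒜 : ι → σ) [GradedRing 𝒜]
  {P : Type*} [AddCommGroup P] [Module A P]
  {τ : Type*} [SetLike τ P] [AddSubmonoidClass τ P] (ℳ : ι → τ) [DirectSum.Decomposition ℳ]
  [SetLike.GradedSMul 𝒜 ℳ]

noncomputable def cM (m : P) (i : ι) : P := (DirectSum.decompose ℳ m i : P)

theorem cM_mem (m : P) (i : ι) : cM ℳ m i ∈ ℳ i := (DirectSum.decompose ℳ m i).2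

theorem cM_zero (i : ι) : cM ℳ (0 : P) i = 0 := by
  simp [cM]

theorem cM_add (m m' : P) (i : ι) : cM ℳ (m + m') i = cM ℳ m i + cM ℳ m' i := by
  simp [cM, DirectSum.decompose_add]

theorem cM_sum {κ : Type*} (s : Finset κ) (f : κ → P) (i : ι) :
    cM ℳ (∑ j ∈ s, f j) i = ∑ j ∈ s, cM ℳ (f j) i := by
  classical
  induction s using Finset.induction_on with
  | empty => simp [cM]
  | insert a s ha ih => rw [Finset.sum_insert ha, Finset.sum_insert ha, cM_add, ih]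

theorem cM_of_mem {m : P} {e : ι} (hm : m ∈ ℳ e) (d : ι) :
    cM ℳ m d = if e = d then m else 0 := by
  by_cases h : e = d
  · subst h; rw [if_pos rfl]; exact DirectSum.decompose_of_mem_same ℳ hm
  · rw [if_neg h]; exact DirectSum.decompose_of_mem_ne ℳ hm h

theorem sum_cM (m : P) : ∃ s : Finset ι, m = ∑ i ∈ s, cM ℳ m i := by
  classical
  exact ⟨_, (DirectSum.sum_support_decompose ℳ m).symm⟩

theorem cM_smul (a : A) {x : P} {e : ι} (hx : x ∈ ℳ e) (d : ι) :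
    cM ℳ (a • x) d = cA 𝒜 a (d - e) • x := by
  classical
  obtain ⟨s, hs⟩ := sum_cA 𝒜 a
  conv_lhs => rw [hs, Finset.sum_smul]
  rw [cM_sum]
  have hterm : ∀ i ∈ s, cM ℳ (cA 𝒜 a i • x) d = if i = d - e then cA 𝒜 a i • x else 0 := by
    intro i _
    have hmem : cA 𝒜 a i • x ∈ ℳ (i + e) := by
      have := SetLike.GradedSMul.smul_mem (cA_mem 𝒜 a i) hx
      simpa using this
    rw [cM_of_mem ℳ hmem]
    by_cases h : i + e = d
    · rw [if_pos h, if_pos (eq_sub_of_add_eq h)]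
    · rw [if_neg h, if_neg (fun h' => h (by rw [h', sub_add_cancel]))]
  rw [Finset.sum_congr rfl hterm, Finset.sum_ite_eq']
  by_cases hmem : d - e ∈ s
  · rw [if_pos hmem]
  · rw [if_neg hmem, cA_eq_zero_of_notMem 𝒜 hs hmem, zero_smul]

end module

section mul
variable {ι : Type*} [AddCommGroup ι] [DecidableEq ι]
variable {A : Type*} [CommRing A] {σ : Type*} [SetLike σ A] [AddSubmonoidClass σ A]
  (𝒜 : ι → σ) [GradedRing 𝒜]

theorem cA_mul (a : A) {x : A} {e : ι} (hx : x ∈ 𝒜 e) (d : ι) :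
    cA 𝒜 (a * x) d = cA 𝒜 a (d - e) * x := by
  classical
  obtain ⟨s, hs⟩ := sum_cA 𝒜 a
  conv_lhs => rw [hs, Finset.sum_mul]
  rw [cA_sum]
  have hterm : ∀ i ∈ s, cA 𝒜 (cA 𝒜 a i * x) d = if i = d - e then cA 𝒜 a i * x else 0 := by
    intro i _
    have hmem : cA 𝒜 a i * x ∈ 𝒜 (i + e) := SetLike.GradedMul.mul_mem (cA_mem 𝒜 a i) hx
    rw [cA_of_mem 𝒜 hmem]
    by_cases h : i + e = d
    · rw [if_pos h, if_pos (eq_sub_of_add_eq h)]
    · rw [if_neg h, if_neg (fun h' => h (by rw [h', sub_add_cancel]))]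
  rw [Finset.sum_congr rfl hterm, Finset.sum_ite_eq']
  by_cases hmem : d - e ∈ s
  · rw [if_pos hmem]
  · rw [if_neg hmem, cA_eq_zero_of_notMem 𝒜 hs hmem, zero_mul]

end mul

end Groth.Agent.H15.GrComp
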