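import Mathlib
import Groth.Agent.H15.GrComp

set_option autoImplicit false

namespace Groth.Agent.H15.TorusFree

open DirectSum Groth.Agent.H15.GrComp

section nongraded

variable {A : Type*} [CommRing A] {P : Type*} [AddCommGroup P] [Module A P]

/-- Nakayama: generation up to an element `≡ 1 mod m`. -/
theorem exists_smul_mem_span [Module.Finite A P] (m : Ideal A) {n : ℕ} (f : Fin n → P)
    (hsp : Submodule.span A (Set.range f) ⊔ m • (⊤ : Submodule A P) = ⊤) :
    ∃ a : A, a - 1 ∈ m ∧ ∀ p : P, a • p ∈ Submodule.span A (Set.range f) := by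
  set N := Submodule.span A (Set.range f) with hN
  have htop : (⊤ : Submodule A (P ⧸ N)) ≤ m • (⊤ : Submodule A (P ⧸ N)) := by
    intro q _
    obtain ⟨p, rfl⟩ := Submodule.Quotient.mk_surjective N q
    have hp : p ∈ N ⊔ m • (⊤ : Submodule A P) := by rw [hsp]; trivial
    obtain ⟨x, hx, y, hy, rfl⟩ := Submodule.mem_sup.mp hp
    have h1 : (Submodule.Quotient.mk (x + y) : P ⧸ N) = N.mkQ y := by
      rw [Submodule.Quotient.mk_add, (Submodule.Quotient.mk_eq_zero N).mpr hx, zero_add]; rfl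
    rw [h1]
    have : N.mkQ y ∈ Submodule.map N.mkQ (m • (⊤ : Submodule A P)) := ⟨y, hy, rfl⟩
    rw [Submodule.map_smul''] at this
    exact Submodule.smul_mono le_rfl le_top this
  obtain ⟨a, ha, hann⟩ := Submodule.exists_sub_one_mem_and_smul_eq_zero_of_fg_of_le_smul m
    (⊤ : Submodule A (P ⧸ N)) Module.Finite.fg_top htop
  refine ⟨a, ha, fun p => ?_⟩
  have := hann (Submodule.Quotient.mk p) trivial
  rw [← Submodule.Quotient.mk_smul, Submodule.Quotient.mk_eq_zero] at this
  exact this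

/-- projectivity: relations are killed by an element `≡ 1 mod m`. -/
theorem exists_kills_relations [Module.Finite A P] [Module.Projective A P] (m : Ideal A)
    [hm : m.IsMaximal] {n : ℕ} (f : Fin n → P)
    (hli : LinearIndependent (A ⧸ m)
      (fun i => (Submodule.Quotient.mk (f i) : P ⧸ (m • (⊤ : Submodule A P))))) :
    ∃ δ : A, δ - 1 ∈ m ∧ ∀ c : Fin n → A, ∑ i, c i • f i = 0 → ∀ i, δ * c i = 0 := by
  classical
  obtain ⟨r, F, g, -, -, hFg⟩ := Module.Finite.exists_comp_eq_id_of_projective A P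
  let kk := A ⧸ m
  let _ : Field kk := Ideal.Quotient.field m
  let mk : A →+* kk := Ideal.Quotient.mk m
  have hmk : Function.Surjective mk := Ideal.Quotient.mk_surjective
  let v : Fin n → (Fin r → kk) := fun i l => mk (g (f i) l)
  -- expansion of an element via F and g
  have hexp : ∀ y : P, y = ∑ l, g y l • F (Pi.single l 1) := by
    intro y
    have h1 : y = F (g y) := by
      have := LinearMap.congr_fun hFg y
      simpa using this.symm
    have h2 : g y = ∑ l, g y l • (Pi.single l 1 : Fin r → A) := by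
      ext l'
      simp [Finset.sum_apply, Pi.single_apply]
    conv_lhs => rw [h1, h2]
    simp [map_sum]
  have hv : LinearIndependent kk v := by
    rw [Fintype.linearIndependent_iff]
    intro cbar hc
    choose c hcc using fun i => hmk (cbar i)
    set y := ∑ i, c i • f i with hy
    have hgy : ∀ l, g y l ∈ m := by
      intro l
      rw [← Ideal.Quotient.eq_zero_iff_mem]
      have h1 : g y l = ∑ i, c i * g (f i) l := by
        simp [hy, map_sum, Finset.sum_apply]
      have h2 := congrFun hc l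
      simp only [Finset.sum_apply, Pi.smul_apply, smul_eq_mul, Pi.zero_apply, v] at h2
      rw [h1, map_sum]
      simp only [map_mul]
      rw [← h2]
      refine Finset.sum_congr rfl fun i _ => ?_
      rw [← hcc i]
    have hymem : y ∈ m • (⊤ : Submodule A P) := by
      rw [hexp y]
      exact Submodule.sum_mem _ fun l _ => Submodule.smul_mem_smul (hgy l) trivial
    have h0 : ∑ i, cbar i • (Submodule.Quotient.mk (f i) : P ⧸ (m • (⊤ : Submodule A P))) = 0 := by
      have h3 : (Submodule.Quotient.mk y : P ⧸ (m • (⊤ : Submodule A P))) = 0 :=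
        (Submodule.Quotient.mk_eq_zero _).mpr hymem
      rw [← h3, hy]
      have : (Submodule.Quotient.mk (∑ i, c i • f i) : P ⧸ (m • (⊤ : Submodule A P))) =
          ∑ i, (Submodule.Quotient.mk (c i • f i) : P ⧸ (m • (⊤ : Submodule A P))) :=
        map_sum (Submodule.mkQ _) _ _
      rw [this]
      refine Finset.sum_congr rfl fun i _ => ?_
      rw [← hcc i]
      exact Module.Quotient.mk_smul_mk P m (c i) (f i)
    exact Fintype.linearIndependent_iff.mp hli cbar h0
  let T : (Fin n → kk) →ₗ[kk] (Fin r → kk) := Fintype.linearCombination kk v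
  have hT : LinearMap.ker T = ⊥ :=
    LinearMap.ker_eq_bot.mpr (linearIndependent_iff_injective_fintypeLinearCombination.mp hv)
  obtain ⟨Lbar, hL⟩ := T.exists_leftInverse_of_injective hT
  have hLv : ∀ i, Lbar (v i) = Pi.single i 1 := by
    intro i
    have h1 : T (Pi.single i 1) = v i := by
      simp [T, Fintype.linearCombination_apply_single]
    rw [← h1]
    exact LinearMap.congr_fun hL _
  choose L hLL using fun (i : Fin n) (l : Fin r) => hmk (Lbar (Pi.single l 1) i)
  let D : Matrix (Fin n) (Fin n) A := fun i i' => ∑ l, L i l * g (f i') l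
  have hDmap : D.map mk = 1 := by
    ext i i'
    rw [Matrix.map_apply]
    show mk (∑ l, L i l * g (f i') l) = _
    simp only [map_sum, map_mul, hLL]
    have h1 : v i' = ∑ l, v i' l • (Pi.single l 1 : Fin r → kk) := by
      ext l'
      simp [Finset.sum_apply, Pi.single_apply]
    have h2 : Lbar (v i') i = ∑ l, v i' l * Lbar (Pi.single l 1) i := by
      conv_lhs => rw [h1]
      simp [map_sum, Finset.sum_apply]
    have h3 : ∑ l, Lbar (Pi.single l 1) i * mk (g (f i') l) = Lbar (v i') i := by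
      rw [h2]
      refine Finset.sum_congr rfl fun l _ => ?_
      rw [mul_comm]
    rw [h3, hLv i', Matrix.one_apply, Pi.single_apply]
  refine ⟨D.det, ?_, fun c hc i => ?_⟩
  · rw [← Ideal.Quotient.eq_zero_iff_mem, map_sub, map_one, RingHom.map_det]
    have : (mk.mapMatrix D) = D.map mk := rfl
    rw [this, hDmap, Matrix.det_one, sub_self]
  · have hDc : D.mulVec c = 0 := by
      ext i
      simp only [Matrix.mulVec, dotProduct, D, Pi.zero_apply]
      have h1 : ∑ i', (∑ l, L i l * g (f i') l) * c i' =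
          ∑ l, L i l * g (∑ i', c i' • f i') l := by
        simp only [map_sum, map_smul, Finset.sum_apply, Pi.smul_apply, smul_eq_mul,
          Finset.mul_sum, Finset.sum_mul]
        rw [Finset.sum_comm]
        refine Finset.sum_congr rfl fun l _ => Finset.sum_congr rfl fun i' _ => ?_
        ring
      rw [h1, hc]
      simp
    have h2 : (D.adjugate * D).mulVec c = 0 := by
      rw [← Matrix.mulVec_mulVec, hDc, Matrix.mulVec_zero]
    rw [Matrix.adjugate_mul] at h2
    have := congrFun h2 i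
    simpa [Matrix.smul_mulVec, Matrix.one_mulVec] using this

end nongraded

section graded

variable {ι : Type*} [AddCommGroup ι] [DecidableEq ι]
variable {A : Type*} [CommRing A] {σ : Type*} [SetLike σ A] [AddSubmonoidClass σ A]
  {P : Type*} [AddCommGroup P] [Module A P]
  {τ : Type*} [SetLike τ P] [AddSubmonoidClass τ P]

theorem cM_comb (𝒜 : ι → σ) [GradedRing 𝒜] (ℳ : ι → τ) [DirectSum.Decomposition ℳ]
    [SetLike.GradedSMul 𝒜 ℳ] {n : ℕ} (wt : Fin n → ι) (f : Fin n → P)
    (hf : ∀ i, f i ∈ ℳ (wt i)) (c : Fin n → A) (j : ι) :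
    cM ℳ (∑ i, c i • f i) j = ∑ i, cA 𝒜 (c i) (j - wt i) • f i := by
  rw [cM_sum]
  exact Finset.sum_congr rfl fun i _ => cM_smul 𝒜 ℳ (c i) (hf i) j

theorem span_homog (𝒜 : ι → σ) [GradedRing 𝒜] (ℳ : ι → τ) [DirectSum.Decomposition ℳ]
    [SetLike.GradedSMul 𝒜 ℳ] {n : ℕ} (wt : Fin n → ι) (f : Fin n → P)
    (hf : ∀ i, f i ∈ ℳ (wt i)) {x : P} (hx : x ∈ Submodule.span A (Set.range f)) (j : ι) :
    cM ℳ x j ∈ Submodule.span A (Set.range f) := by
  obtain ⟨c, rfl⟩ := (Submodule.mem_span_range_iff_exists_fun A).mp hx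
  rw [cM_comb 𝒜 ℳ wt f hf]
  exact Submodule.sum_mem _ fun i _ => Submodule.smul_mem _ _ (Submodule.subset_span ⟨i, rfl⟩)

theorem star1 (𝒜 : ι → σ) [GradedRing 𝒜] (ℳ : ι → τ) [DirectSum.Decomposition ℳ]
    [SetLike.GradedSMul 𝒜 ℳ] {n : ℕ} (wt : Fin n → ι) (f : Fin n → P)
    (hf : ∀ i, f i ∈ ℳ (wt i)) (a : A)
    (h : ∀ p : P, a • p ∈ Submodule.span A (Set.range f)) (e : ι) (p : P) :
    cA 𝒜 a e • p ∈ Submodule.span A (Set.range f) := by
  classical
  obtain ⟨s, hs⟩ := sum_cM ℳ p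
  rw [hs, Finset.smul_sum]
  refine Submodule.sum_mem _ fun d _ => ?_
  have h1 := cM_smul 𝒜 ℳ a (cM_mem ℳ p d) (e + d)
  rw [add_sub_cancel_right] at h1
  rw [← h1]
  exact span_homog 𝒜 ℳ wt f hf (h _) _

theorem star2 (𝒜 : ι → σ) [GradedRing 𝒜] (ℳ : ι → τ) [DirectSum.Decomposition ℳ]
    [SetLike.GradedSMul 𝒜 ℳ] {n : ℕ} (wt : Fin n → ι) (f : Fin n → P)
    (hf : ∀ i, f i ∈ ℳ (wt i)) (δ : A)
    (h : ∀ c : Fin n → A, ∑ i, c i • f i = 0 → ∀ i, δ * c i = 0) (e : ι)
    (c : Fin n → A) (hc : ∑ i, c i • f i = 0) (i : Fin n) : cA 𝒜 δ e * c i = 0 := by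
  classical
  have hrel : ∀ j : ι, ∑ i, cA 𝒜 (c i) (j - wt i) • f i = 0 := by
    intro j
    rw [← cM_comb 𝒜 ℳ wt f hf, hc, cM_zero]
  have hkill : ∀ t : ι, cA 𝒜 δ e * cA 𝒜 (c i) t = 0 := by
    intro t
    have h1 := h _ (hrel (t + wt i)) i
    rw [add_sub_cancel_right] at h1
    have h2 := cA_mul 𝒜 δ (cA_mem 𝒜 (c i) t) (e + t)
    rw [add_sub_cancel_right] at h2
    rw [← h2, h1]
    simp [cA]
  obtain ⟨s, hs⟩ := sum_cA 𝒜 (c i)
  rw [hs, Finset.mul_sum]
  exact Finset.sum_eq_zero fun t _ => hkill t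

end graded

theorem main
    {k : Type*} [Field k] {M : Type*} [AddCommGroup M] [DecidableEq M]
    {A : Type*} [CommRing A] [Algebra k A] (𝒜 : M → Submodule k A) [GradedAlgebra 𝒜]
    {P : Type*} [AddCommGroup P] [Module A P] [Module k P] [IsScalarTower k A P]
    (ℳ : M → Submodule k P) [Decomposition ℳ] [SetLike.GradedSMul 𝒜 ℳ]
    [Module.Finite A P] [Module.Projective A P]
    (m : Ideal A) [m.IsMaximal] (hm : m.IsHomogeneous 𝒜)
    {n : ℕ} (wt : Fin n → M) (f : Fin n → P) (hf : ∀ i, f i ∈ ℳ (wt i))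
    (hli : LinearIndependent (A ⧸ m)
      (fun i => (Submodule.Quotient.mk (f i) : P ⧸ (m • (⊤ : Submodule A P)))))
    (hsp : Submodule.span A (Set.range f) ⊔ m • (⊤ : Submodule A P) = ⊤) :
    ∃ s : A, SetLike.IsHomogeneousElem 𝒜 s ∧ s ∉ m ∧
      (∀ p : P, ∃ (N : ℕ) (c : Fin n → A), s ^ N • p = ∑ i, c i • f i) ∧
      (∀ c : Fin n → A, ∑ i, c i • f i = 0 → ∃ N : ℕ, ∀ i, s ^ N * c i = 0) := by
  obtain ⟨a, ha, hgen⟩ := exists_smul_mem_span m f hsp
  obtain ⟨δ, hδ, hrel⟩ := exists_kills_relations m f hli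
  have hcomp : ∀ b : A, b - 1 ∈ m → cA 𝒜 b 0 ∉ m := by
    intro b hb hmem
    have h1 : cA 𝒜 (b - 1) 0 ∈ m := hm 0 hb
    rw [cA_sub, cA_one_zero] at h1
    have : (1 : A) ∈ m := by
      have := m.sub_mem hmem h1
      simpa using this
    exact (Ideal.IsPrime.ne_top (Ideal.IsMaximal.isPrime ‹_›)) ((Ideal.eq_top_iff_one m).mpr this)
  have ha0 := hcomp a ha
  have hδ0 := hcomp δ hδ
  refine ⟨cA 𝒜 a 0 * cA 𝒜 δ 0, ⟨0 + 0, SetLike.GradedMul.mul_mem (cA_mem 𝒜 a 0) (cA_mem 𝒜 δ 0)⟩,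
    ?_, ?_, ?_⟩
  · intro hmem
    rcases (Ideal.IsMaximal.isPrime ‹_›).mem_or_mem hmem with h | h
    · exact ha0 h
    · exact hδ0 h
  · intro p
    have h1 : (cA 𝒜 a 0 * cA 𝒜 δ 0) • p ∈ Submodule.span A (Set.range f) := by
      rw [mul_comm, mul_smul]
      exact Submodule.smul_mem _ _ (star1 𝒜 ℳ wt f hf a hgen 0 p)
    obtain ⟨c, hc⟩ := (Submodule.mem_span_range_iff_exists_fun A).mp h1
    exact ⟨1, c, by rw [pow_one, hc]⟩
  · intro c hc
    refine ⟨1, fun i => ?_⟩
    rw [pow_one, mul_assoc, star2 𝒜 ℳ wt f hf δ hrel 0 c hc i, mul_zero]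

end Groth.Agent.H15.TorusFree
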