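import Mathlib
import Groth.Agent.H15.GrComp
import Groth.Agent.H15.TorusFree

set_option autoImplicit false

namespace Groth.Agent.H15.GrPrimeFree

open DirectSum Groth.Agent.H15.GrComp

section nongraded

variable {A : Type*} [CommRing A] {P : Type*} [AddCommGroup P] [Module A P]

/-- independence of the subfamily indexed by `S` modulo `m`. -/
def IndS (m : Ideal A) {N : ℕ} (g : Fin N → P) (S : Finset (Fin N)) : Prop :=
  ∀ c : Fin N → A, ∑ j ∈ S, c j • g j ∈ m • (⊤ : Submodule A P) → ∀ j ∈ S, c j ∈ m

/-- independence modulo `m`. -/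
def Ind (m : Ideal A) {n : ℕ} (f : Fin n → P) : Prop :=
  ∀ c : Fin n → A, ∑ i, c i • f i ∈ m • (⊤ : Submodule A P) → ∀ i, c i ∈ m

theorem exists_selection (m : Ideal A) [hm : m.IsPrime] {N : ℕ} (g : Fin N → P)
    (hg : Submodule.span A (Set.range g) = ⊤) :
    ∃ S : Finset (Fin N), IndS m g S ∧ ∃ t : A, t ∉ m ∧
      ∀ p : P, t • p ∈ Submodule.span A (g '' (S : Set (Fin N))) ⊔ m • (⊤ : Submodule A P) := by
  classical
  have hne : {S : Finset (Fin N) | IndS m g S}.Nonempty := ⟨∅, fun c _ j hj => by simp at hj⟩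
  obtain ⟨S, hS⟩ := (Set.toFinite {S : Finset (Fin N) | IndS m g S}).exists_maximal hne
  have hSind : IndS m g S := hS.prop
  refine ⟨S, hSind, ?_⟩
  set W := Submodule.span A (g '' (S : Set (Fin N))) ⊔ m • (⊤ : Submodule A P) with hW
  have hmW : m • (⊤ : Submodule A P) ≤ W := le_sup_right
  have hgW : ∀ j ∈ S, g j ∈ W := fun j hj =>
    le_sup_left (a := Submodule.span A (g '' (S : Set (Fin N))))
      (Submodule.subset_span ⟨j, hj, rfl⟩)
  -- for each j there is t_j ∉ m with t_j g_j ∈ W
  have hkey : ∀ j : Fin N, ∃ tj : A, tj ∉ m ∧ tj • g j ∈ W := by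
    intro j
    by_cases hj : j ∈ S
    · exact ⟨1, fun h => hm.ne_top ((Ideal.eq_top_iff_one m).mpr h), by
        rw [one_smul]; exact hgW j hj⟩
    · have hnot : ¬ IndS m g (insert j S) := by
        intro hind
        have := hS.le_of_ge hind (Finset.subset_insert j S)
        exact hj (this (Finset.mem_insert_self j S))
      unfold IndS at hnot
      push Not at hnot
      obtain ⟨c, hc, j', hj', hcj'⟩ := hnot
      rw [Finset.sum_insert hj] at hc
      have hcj : c j ∉ m := by
        intro hcjm
        have h1 : c j • g j ∈ m • (⊤ : Submodule A P) := Submodule.smul_mem_smul hcjm trivial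
        have h2 : ∑ j ∈ S, c j • g j ∈ m • (⊤ : Submodule A P) := by
          have := Submodule.sub_mem _ hc h1
          simpa using this
        have h3 := hSind c h2
        rcases Finset.mem_insert.mp hj' with rfl | h
        · exact hcj' hcjm
        · exact hcj' (h3 j' h)
      refine ⟨c j, hcj, ?_⟩
      have h1 : ∑ j ∈ S, c j • g j ∈ W :=
        Submodule.sum_mem _ fun j' hj' => Submodule.smul_mem _ _ (hgW j' hj')
      have h2 : c j • g j = (c j • g j + ∑ j ∈ S, c j • g j) - ∑ j ∈ S, c j • g j := by abel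
      rw [h2]
      exact Submodule.sub_mem _ (hmW hc) h1
  choose tj htj htjW using hkey
  refine ⟨∏ j, tj j, ?_, ?_⟩
  · intro hmem
    obtain ⟨j, _, hj⟩ := (Ideal.IsPrime.prod_mem_iff).mp hmem
    exact htj j hj
  · intro p
    have hp : p ∈ Submodule.span A (Set.range g) := by rw [hg]; trivial
    obtain ⟨a, rfl⟩ := (Submodule.mem_span_range_iff_exists_fun A).mp hp
    rw [Finset.smul_sum]
    refine Submodule.sum_mem _ fun j _ => ?_
    have : (∏ j, tj j) • a j • g j = (a j * ∏ j' ∈ Finset.univ.erase j, tj j') • (tj j • g j) := by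
      rw [← Finset.mul_prod_erase Finset.univ tj (Finset.mem_univ j)]
      simp only [smul_smul]
      congr 1; ring
    rw [this]
    exact Submodule.smul_mem _ _ (htjW j)

theorem exists_smul_mem_span_of_prime [Module.Finite A P] (m : Ideal A) [hm : m.IsPrime]
    (N : Submodule A P) (t : A) (ht : t ∉ m)
    (hsp : ∀ p : P, t • p ∈ N ⊔ m • (⊤ : Submodule A P)) :
    ∃ a : A, a ∉ m ∧ ∀ p : P, a • p ∈ N := by
  let φ : Module.End A (P ⧸ N) := algebraMap A (Module.End A (P ⧸ N)) t
  have hrange : LinearMap.range φ ≤ m • (⊤ : Submodule A (P ⧸ N)) := by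
    rintro _ ⟨q, rfl⟩
    obtain ⟨p, rfl⟩ := Submodule.Quotient.mk_surjective N q
    obtain ⟨x, hx, y, hy, hxy⟩ := Submodule.mem_sup.mp (hsp p)
    have h1 : φ (Submodule.Quotient.mk p) = N.mkQ y := by
      show t • (Submodule.Quotient.mk p : P ⧸ N) = _
      rw [← Submodule.Quotient.mk_smul, ← hxy, Submodule.Quotient.mk_add,
        (Submodule.Quotient.mk_eq_zero N).mpr hx, zero_add]; rfl
    rw [h1]
    have : N.mkQ y ∈ Submodule.map N.mkQ (m • (⊤ : Submodule A P)) := ⟨y, hy, rfl⟩
    rw [Submodule.map_smul''] at this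
    exact Submodule.smul_mono le_rfl le_top this
  obtain ⟨q, hqm, -, hqc, hq0⟩ :=
    LinearMap.exists_monic_and_natDegree_eq_and_coeff_mem_pow_and_aeval_eq_zero A φ m hrange
  refine ⟨q.eval t, ?_, fun p => ?_⟩
  · -- q.eval t ≡ t ^ deg mod m
    intro hmem
    rw [Polynomial.eval_eq_sum_range, Finset.sum_range_succ, hqm.coeff_natDegree, one_mul] at hmem
    have h1 : ∑ x ∈ Finset.range q.natDegree, q.coeff x * t ^ x ∈ m := by
      refine Ideal.sum_mem _ fun x hx => Ideal.mul_mem_right _ _ ?_
      have h2 := hqc x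
      have hlt : x < q.natDegree := Finset.mem_range.mp hx
      have : m ^ (q.natDegree - x) ≤ m := by
        obtain ⟨e, he⟩ : ∃ e, q.natDegree - x = e + 1 := ⟨q.natDegree - x - 1, by omega⟩
        rw [he]
        exact Ideal.pow_le_self (by omega)
      exact this h2
    have h3 : t ^ q.natDegree ∈ m := by
      have := Ideal.sub_mem _ hmem h1
      simpa using this
    exact ht (hm.mem_of_pow_mem _ h3)
  · have h1 : Polynomial.aeval φ q = algebraMap A (Module.End A (P ⧸ N)) (q.eval t) :=
      Polynomial.aeval_algebraMap_apply_eq_algebraMap_eval t q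
    rw [h1] at hq0
    have h2 := LinearMap.congr_fun hq0 (Submodule.Quotient.mk p)
    have h3 : (q.eval t) • (Submodule.Quotient.mk p : P ⧸ N) = 0 := h2
    rw [← Submodule.Quotient.mk_smul, Submodule.Quotient.mk_eq_zero] at h3
    exact h3

/-- projectivity: relations among an independent family are killed by an element outside `m`. -/
theorem exists_kills_relations_of_prime [Module.Finite A P] [Module.Projective A P] (m : Ideal A)
    [hm : m.IsPrime] {n : ℕ} (f : Fin n → P) (hind : Ind m f) :
    ∃ δ : A, δ ∉ m ∧ ∀ c : Fin n → A, ∑ i, c i • f i = 0 → ∀ i, δ * c i = 0 := by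
  classical
  obtain ⟨r, F, g, -, -, hFg⟩ := Module.Finite.exists_comp_eq_id_of_projective A P
  let D := A ⧸ m
  let K := FractionRing D
  let mk : A →+* D := Ideal.Quotient.mk m
  have hmk : Function.Surjective mk := Ideal.Quotient.mk_surjective
  let ι : D →+* K := algebraMap D K
  have hι : Function.Injective ι := IsFractionRing.injective D K
  let v : Fin n → (Fin r → K) := fun i l => ι (mk (g (f i) l))
  have hexp : ∀ y : P, y = ∑ l, g y l • F (Pi.single l 1) := by
    intro y
    have h1 : y = F (g y) := by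
      have := LinearMap.congr_fun hFg y
      simpa using this.symm
    have h2 : g y = ∑ l, g y l • (Pi.single l 1 : Fin r → A) := by
      ext l'
      simp [Finset.sum_apply, Pi.single_apply]
    conv_lhs => rw [h1, h2]
    simp [map_sum]
  -- independence over `D`
  have hindD : ∀ e : Fin n → D, (∀ l, ∑ i, e i * mk (g (f i) l) = 0) → ∀ i, e i = 0 := by
    intro e he
    choose c hcc using fun i => hmk (e i)
    set y := ∑ i, c i • f i with hy
    have hgy : ∀ l, g y l ∈ m := by
      intro l
      rw [← Ideal.Quotient.eq_zero_iff_mem]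
      have h1 : g y l = ∑ i, c i * g (f i) l := by
        simp [hy, map_sum, Finset.sum_apply]
      show mk (g y l) = 0
      rw [h1, map_sum, ← he l]
      refine Finset.sum_congr rfl fun i _ => ?_
      rw [map_mul, hcc i]
    have hymem : y ∈ m • (⊤ : Submodule A P) := by
      rw [hexp y]
      exact Submodule.sum_mem _ fun l _ => Submodule.smul_mem_smul (hgy l) trivial
    intro i
    have := hind c hymem i
    rw [← hcc i]
    exact Ideal.Quotient.eq_zero_iff_mem.mpr this
  have hv : LinearIndependent K v := by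
    rw [Fintype.linearIndependent_iff]
    intro cbar hc
    obtain ⟨b, hb⟩ := IsLocalization.exist_integer_multiples (nonZeroDivisors D) Finset.univ cbar
    choose e he using fun i => hb i (Finset.mem_univ i)
    have hb0 : ι (b : D) ≠ 0 := by
      intro h0
      exact nonZeroDivisors.ne_zero b.2 (hι (by rw [h0, map_zero]))
    have he0 : ∀ i, e i = 0 := by
      apply hindD
      intro l
      apply hι
      rw [map_zero, map_sum]
      have h2 := congrFun hc l
      simp only [Finset.sum_apply, Pi.smul_apply, smul_eq_mul, Pi.zero_apply, v] at h2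
      calc ∑ i, ι (e i * mk (g (f i) l)) = ∑ i, ι (b : D) * (cbar i * ι (mk (g (f i) l))) := by
            refine Finset.sum_congr rfl fun i _ => ?_
            rw [map_mul, he i, Algebra.smul_def]
            ring
        _ = ι (b : D) * ∑ i, cbar i * ι (mk (g (f i) l)) := by rw [Finset.mul_sum]
        _ = 0 := by rw [h2, mul_zero]
    intro i
    have h3 := he i
    rw [he0 i, map_zero, Algebra.smul_def] at h3
    rcases mul_eq_zero.mp h3.symm with h | h
    · exact absurd h hb0
    · exact h
  let T : (Fin n → K) →ₗ[K] (Fin r → K) := Fintype.linearCombination K v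
  have hT : LinearMap.ker T = ⊥ :=
    LinearMap.ker_eq_bot.mpr (linearIndependent_iff_injective_fintypeLinearCombination.mp hv)
  obtain ⟨Lbar, hL⟩ := T.exists_leftInverse_of_injective hT
  have hLv : ∀ i, Lbar (v i) = Pi.single i 1 := by
    intro i
    have h1 : T (Pi.single i 1) = v i := by
      simp [T, Fintype.linearCombination_apply_single]
    rw [← h1]
    exact LinearMap.congr_fun hL _
  -- clear denominators of `Lbar`
  obtain ⟨b, hb⟩ := IsLocalization.exist_integer_multiples (nonZeroDivisors D)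
    (Finset.univ : Finset (Fin n × Fin r)) (fun il => Lbar (Pi.single il.2 1) il.1)
  choose ℓ hℓ using fun il => hb il (Finset.mem_univ il)
  choose L hLL using fun il => hmk (ℓ il)
  obtain ⟨t, htb⟩ := hmk (b : D)
  have htm : t ∉ m := by
    intro h
    have : mk t = 0 := Ideal.Quotient.eq_zero_iff_mem.mpr h
    rw [htb] at this
    exact nonZeroDivisors.ne_zero b.2 this
  let Dm : Matrix (Fin n) (Fin n) A := fun i i' => ∑ l, L (i, l) * g (f i') l
  have hDmap : Dm.map mk = (b : D) • (1 : Matrix (Fin n) (Fin n) D) := by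
    ext i i'
    rw [Matrix.map_apply]
    show mk (∑ l, L (i, l) * g (f i') l) = _
    apply hι
    simp only [map_sum, map_mul, hLL]
    have h1 : v i' = ∑ l, v i' l • (Pi.single l 1 : Fin r → K) := by
      ext l'
      simp [Finset.sum_apply, Pi.single_apply]
    have h2 : Lbar (v i') i = ∑ l, v i' l * Lbar (Pi.single l 1) i := by
      conv_lhs => rw [h1]
      simp [map_sum, Finset.sum_apply]
    have h3 : ∑ l, ι (ℓ (i, l)) * ι (mk (g (f i') l)) = ι (b : D) * Lbar (v i') i := by
      rw [h2, Finset.mul_sum]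
      refine Finset.sum_congr rfl fun l _ => ?_
      rw [hℓ (i, l), Algebra.smul_def]
      show ι (b : D) * Lbar (Pi.single l 1) i * ι (mk (g (f i') l)) = _
      ring
    rw [h3, hLv i', Matrix.smul_apply, Matrix.one_apply, Pi.single_apply, smul_eq_mul]
    by_cases h : i = i'
    · rw [if_pos h, if_pos h]; simp
    · rw [if_neg h, if_neg h]; simp
  refine ⟨Dm.det, ?_, fun c hc i => ?_⟩
  · intro hmem
    have h1 : mk Dm.det = 0 := Ideal.Quotient.eq_zero_iff_mem.mpr hmem
    rw [RingHom.map_det] at h1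
    have h2 : (mk.mapMatrix Dm) = Dm.map mk := rfl
    rw [h2, hDmap, Matrix.det_smul, Matrix.det_one, mul_one] at h1
    have h3 : (b : D) = 0 := by
      by_contra hne
      exact (pow_ne_zero _ hne) h1
    exact nonZeroDivisors.ne_zero b.2 h3
  · have hDc : Dm.mulVec c = 0 := by
      ext i
      simp only [Matrix.mulVec, dotProduct, Dm, Pi.zero_apply]
      have h1 : ∑ i', (∑ l, L (i, l) * g (f i') l) * c i' =
          ∑ l, L (i, l) * g (∑ i', c i' • f i') l := by
        simp only [map_sum, map_smul, Finset.sum_apply, Pi.smul_apply, smul_eq_mul,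
          Finset.mul_sum, Finset.sum_mul]
        rw [Finset.sum_comm]
        refine Finset.sum_congr rfl fun l _ => Finset.sum_congr rfl fun i' _ => ?_
        ring
      rw [h1, hc]
      simp
    have h2 : (Dm.adjugate * Dm).mulVec c = 0 := by
      rw [← Matrix.mulVec_mulVec, hDc, Matrix.mulVec_zero]
    rw [Matrix.adjugate_mul] at h2
    have := congrFun h2 i
    simpa [Matrix.smul_mulVec, Matrix.one_mulVec] using this

end nongraded

section graded

variable {ι : Type*} [AddCommGroup ι] [DecidableEq ι]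
variable {A : Type*} [CommRing A] {σ : Type*} [SetLike σ A] [AddSubmonoidClass σ A]
  {P : Type*} [AddCommGroup P] [Module A P]
  {τ : Type*} [SetLike τ P] [AddSubmonoidClass τ P]

/-- existence of finitely many homogeneous generators -/
theorem exists_homog_gens (ℳ : ι → τ) [DirectSum.Decomposition ℳ] [Module.Finite A P] :
    ∃ (N : ℕ) (x : Fin N → P) (dg : Fin N → ι), (∀ i, x i ∈ ℳ (dg i)) ∧
      Submodule.span A (Set.range x) = ⊤ := by
  classical
  obtain ⟨S, hS⟩ := (Module.Finite.fg_top (R := A) (M := P))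
  let T : Finset P := S.biUnion (fun g => (DFinsupp.support (DirectSum.decompose ℳ g)).image
    (fun d => cM ℳ g d))
  have hT : ∀ t ∈ T, ∃ d, t ∈ ℳ d := by
    intro t ht
    simp only [T, Finset.mem_biUnion, Finset.mem_image] at ht
    obtain ⟨g, _, d, _, rfl⟩ := ht
    exact ⟨d, cM_mem ℳ g d⟩
  have hspan : Submodule.span A (T : Set P) = ⊤ := by
    rw [eq_top_iff, ← hS]
    apply Submodule.span_le.mpr
    intro g hg
    have hg' : g = ∑ i ∈ DFinsupp.support (DirectSum.decompose ℳ g), cM ℳ g i :=
      (DirectSum.sum_support_decompose ℳ g).symm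
    rw [hg']
    refine Submodule.sum_mem _ (fun d hd => Submodule.subset_span ?_)
    simp only [T, Finset.coe_biUnion, Set.mem_iUnion, Finset.coe_image]
    exact ⟨g, hg, d, hd, rfl⟩
  choose dg hdg using fun i : Fin T.card => hT _ (T.equivFin.symm i).2
  refine ⟨T.card, fun i => (T.equivFin.symm i : P), dg, hdg, ?_⟩
  have : Set.range (fun i => (T.equivFin.symm i : P)) = (T : Set P) := by
    ext m
    constructor
    · rintro ⟨i, rfl⟩; exact (T.equivFin.symm i).2
    · intro hm; exact ⟨T.equivFin ⟨m, hm⟩, by simp⟩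
  rw [this, hspan]

theorem prime_main (𝒜 : ι → σ) [GradedRing 𝒜] (ℳ : ι → τ) [DirectSum.Decomposition ℳ]
    [SetLike.GradedSMul 𝒜 ℳ] [Module.Finite A P] [Module.Projective A P]
    (m : Ideal A) [hm : m.IsPrime] :
    ∃ (n : ℕ) (wt : Fin n → ι) (f : Fin n → P), (∀ i, f i ∈ ℳ (wt i)) ∧ ∃ a δ : A, a ∉ m ∧ δ ∉ m ∧
      (∀ (e : ι) (p : P), cA 𝒜 a e • p ∈ Submodule.span A (Set.range f)) ∧
      (∀ (e : ι) (c : Fin n → A), ∑ i, c i • f i = 0 → ∀ i, cA 𝒜 δ e * c i = 0) := by
  classical
  obtain ⟨N, x, dg, hx, hspan⟩ := exists_homog_gens (A := A) ℳ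
  obtain ⟨S, hS, t, ht, htsp⟩ := exists_selection m x hspan
  let e : {j // j ∈ S} ≃ Fin S.card := S.equivFin
  let f : Fin S.card → P := fun i => x (e.symm i).1
  let wt : Fin S.card → ι := fun i => dg (e.symm i).1
  have hf : ∀ i, f i ∈ ℳ (wt i) := fun i => hx _
  have hrange : Set.range f = x '' (S : Set (Fin N)) := by
    ext y
    constructor
    · rintro ⟨i, rfl⟩; exact ⟨(e.symm i).1, (e.symm i).2, rfl⟩
    · rintro ⟨j, hj, rfl⟩; exact ⟨e ⟨j, hj⟩, by simp [f]⟩
  have hind : Ind m f := by
    intro c hc i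
    let chat : Fin N → A := fun j => if h : j ∈ S then c (e ⟨j, h⟩) else 0
    have h1 : ∑ j ∈ S, chat j • x j = ∑ i, c i • f i := by
      rw [← Finset.sum_coe_sort S (fun j => chat j • x j)]
      rw [← Equiv.sum_comp e (fun i => c i • f i)]
      refine Finset.sum_congr rfl fun j _ => ?_
      simp only [chat, f, dif_pos j.2, Equiv.symm_apply_apply]
    have h2 := hS chat (by rw [h1]; exact hc) (e.symm i).1 (e.symm i).2
    simpa [chat, dif_pos (e.symm i).2] using h2
  rw [← hrange] at htsp
  obtain ⟨a, ha, hgen⟩ := exists_smul_mem_span_of_prime m (Submodule.span A (Set.range f)) t ht htsp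
  obtain ⟨δ, hδ, hrel⟩ := exists_kills_relations_of_prime m f hind
  exact ⟨S.card, wt, f, hf, a, δ, ha, hδ,
    fun e p => TorusFree.star1 𝒜 ℳ wt f hf a hgen e p,
    fun e c hc i => TorusFree.star2 𝒜 ℳ wt f hf δ hrel e c hc i⟩

end graded

section mvpoly

open MvPolynomial

variable {R : Type*} [CommRing R] (n : ℕ)

/-- the weights of the standard torus action -/
def w : Fin n → (Fin n → ℤ) := fun i => Pi.single i 1

attribute [local instance] MvPolynomial.weightedGradedAlgebra

lemma weight_eq_zero_iff (mm : Fin n →₀ ℕ) : Finsupp.weight (w n) mm = 0 ↔ mm = 0 := by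
  constructor
  · intro h
    ext i
    have h1 := congrFun h i
    rw [Finsupp.weight_apply, Finsupp.sum_fintype _ _ (fun j => by simp)] at h1
    have h2 : (∑ j, mm j • w n j) i = (mm i : ℤ) := by
      rw [Finset.sum_apply]
      rw [Finset.sum_eq_single i]
      · simp [w]
      · intro j _ hj
        simp [w, Pi.single_apply, hj.symm]
      · intro h; exact absurd (Finset.mem_univ i) h
    rw [h2] at h1
    simpa using h1
  · rintro rfl; simp

lemma cA_zero_eq (b : MvPolynomial (Fin n) R) :
    cA (weightedHomogeneousSubmodule R (w n)) b 0 = C (constantCoeff b) := by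
  have h1 : cA (weightedHomogeneousSubmodule R (w n)) b 0 = weightedHomogeneousComponent (w n) 0 b :=
    MvPolynomial.weightedDecomposition.decompose'_apply R (w n) b 0
  rw [h1]
  ext mm
  rw [coeff_weightedHomogeneousComponent, coeff_C]
  by_cases h : mm = 0
  · subst h; simp [constantCoeff_eq]
  · rw [if_neg (fun h' => h ((weight_eq_zero_iff n mm).mp h')), if_neg (fun h' => h h'.symm)]

theorem main {P : Type*} [AddCommGroup P] [Module (MvPolynomial (Fin n) R) P] [Module R P]
    [IsScalarTower R (MvPolynomial (Fin n) R) P]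
    (ℳ : (Fin n → ℤ) → Submodule R P) [DirectSum.Decomposition ℳ]
    [SetLike.GradedSMul (MvPolynomial.weightedHomogeneousSubmodule R
      (fun i : Fin n => (Pi.single i 1 : Fin n → ℤ))) ℳ]
    [Module.Finite (MvPolynomial (Fin n) R) P] [Module.Projective (MvPolynomial (Fin n) R) P]
    (p : PrimeSpectrum R) :
    ∃ r : R, r ∉ p.asIdeal ∧ ∃ (m : ℕ) (d : Fin m → (Fin n → ℤ)) (f : Fin m → P),
      (∀ i, f i ∈ ℳ (d i)) ∧
      (∀ q : P, ∃ (N : ℕ) (c : Fin m → MvPolynomial (Fin n) R),
        (MvPolynomial.C r : MvPolynomial (Fin n) R) ^ N • q = ∑ i, c i • f i) ∧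
      (∀ c : Fin m → MvPolynomial (Fin n) R, ∑ i, c i • f i = 0 →
        ∃ N : ℕ, ∀ i, (MvPolynomial.C r : MvPolynomial (Fin n) R) ^ N * c i = 0) := by
  let 𝔪 : Ideal (MvPolynomial (Fin n) R) := Ideal.comap (constantCoeff (R := R)) p.asIdeal
  have h𝔪 : 𝔪.IsPrime := Ideal.comap_isPrime _ _
  have hgs : SetLike.GradedSMul (weightedHomogeneousSubmodule R (w n)) ℳ := ‹_›
  obtain ⟨m, wt, f, hf, a, δ, ha, hδ, hgen, hrel⟩ :=
    prime_main (weightedHomogeneousSubmodule R (w n)) ℳ 𝔪
  have ha' : constantCoeff a ∉ p.asIdeal := ha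
  have hδ' : constantCoeff δ ∉ p.asIdeal := hδ
  refine ⟨constantCoeff a * constantCoeff δ, ?_, m, wt, f, hf, ?_, ?_⟩
  · intro hmem
    rcases p.isPrime.mem_or_mem hmem with h | h
    · exact ha' h
    · exact hδ' h
  · intro q
    have h1 : (C (constantCoeff a * constantCoeff δ) : MvPolynomial (Fin n) R) • q ∈
        Submodule.span (MvPolynomial (Fin n) R) (Set.range f) := by
      rw [map_mul, mul_comm, mul_smul, ← cA_zero_eq, ← cA_zero_eq]
      exact Submodule.smul_mem _ _ (hgen 0 q)
    obtain ⟨c, hc⟩ := (Submodule.mem_span_range_iff_exists_fun _).mp h1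
    exact ⟨1, c, by rw [pow_one, hc]⟩
  · intro c hc
    refine ⟨1, fun i => ?_⟩
    rw [pow_one, map_mul, mul_assoc, ← cA_zero_eq n δ, hrel 0 c hc i, mul_zero]

end mvpoly

end Groth.Agent.H15.GrPrimeFree
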