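import Mathlib

set_option autoImplicit false

namespace Groth.Agent.H15.GrProjFree

universe u

open DirectSum

section ring
variable {R : Type u} [CommRing R] {σ : Type u} [SetLike σ R] [AddSubmonoidClass σ R]
  (𝒜 : ℤ → σ) [GradedRing 𝒜]

/-- homogeneous component -/
noncomputable def cA (r : R) (i : ℤ) : R := (DirectSum.decompose 𝒜 r i : R)

theorem cA_mem (r : R) (i : ℤ) : cA 𝒜 r i ∈ 𝒜 i := (DirectSum.decompose 𝒜 r i).2

theorem cA_add (r r' : R) (i : ℤ) : cA 𝒜 (r + r') i = cA 𝒜 r i + cA 𝒜 r' i := by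
  simp [cA, DirectSum.decompose_add]

theorem cA_sum {ι : Type*} (s : Finset ι) (f : ι → R) (i : ℤ) :
    cA 𝒜 (∑ j ∈ s, f j) i = ∑ j ∈ s, cA 𝒜 (f j) i := by
  classical
  induction s using Finset.induction_on with
  | empty => simp [cA]
  | insert a s ha ih => rw [Finset.sum_insert ha, Finset.sum_insert ha, cA_add, ih]

theorem cA_of_mem {r : R} {e : ℤ} (hr : r ∈ 𝒜 e) (d : ℤ) :
    cA 𝒜 r d = if e = d then r else 0 := by
  by_cases h : e = d
  · subst h; rw [if_pos rfl]; exact DirectSum.decompose_of_mem_same 𝒜 hr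
  · rw [if_neg h]; exact DirectSum.decompose_of_mem_ne 𝒜 hr h

theorem sum_cA (r : R) : ∃ s : Finset ℤ, r = ∑ i ∈ s, cA 𝒜 r i := by
  classical
  exact ⟨_, (DirectSum.sum_support_decompose 𝒜 r).symm⟩

/-- all components below `N` vanish -/
def Ord (N : ℤ) (r : R) : Prop := ∀ d < N, cA 𝒜 r d = 0

theorem ord_sum {ι : Type*} (s : Finset ι) (f : ι → R) (N : ℤ) (h : ∀ j ∈ s, Ord 𝒜 N (f j)) :
    Ord 𝒜 N (∑ j ∈ s, f j) := by
  intro d hd
  rw [cA_sum]
  exact Finset.sum_eq_zero (fun j hj => h j hj d hd)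

theorem ord_mul {A B : ℤ} {q a : R} (hq : Ord 𝒜 A q) (ha : Ord 𝒜 B a) : Ord 𝒜 (A + B) (q * a) := by
  intro d hd
  obtain ⟨s, hs⟩ := sum_cA 𝒜 q
  obtain ⟨t, ht⟩ := sum_cA 𝒜 a
  rw [hs, ht, Finset.sum_mul_sum, cA_sum]
  refine Finset.sum_eq_zero (fun i _ => ?_)
  rw [cA_sum]
  refine Finset.sum_eq_zero (fun j _ => ?_)
  have hmem : cA 𝒜 q i * cA 𝒜 a j ∈ 𝒜 (i + j) :=
    SetLike.GradedMul.mul_mem (cA_mem 𝒜 q i) (cA_mem 𝒜 a j)
  rw [cA_of_mem 𝒜 hmem]
  by_cases hij : i + j = d
  · rw [if_pos hij]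
    by_cases hi : i < A
    · rw [hq i hi, zero_mul]
    · have hj : j < B := by omega
      rw [ha j hj, mul_zero]
  · rw [if_neg hij]

theorem eq_zero_of_ord (r : R) (h : ∀ N : ℕ, Ord 𝒜 N r) : r = 0 := by
  obtain ⟨s, hs⟩ := sum_cA 𝒜 r
  rw [hs]
  refine Finset.sum_eq_zero (fun i _ => ?_)
  have := h (i.toNat + 1) i (by
    push_cast
    have := Int.self_le_toNat i
    omega)
  exact this

theorem ord_zero (hneg : ∀ i : ℤ, i < 0 → ∀ x ∈ 𝒜 i, x = 0) (r : R) : Ord 𝒜 0 r :=
  fun d hd => hneg d hd _ (cA_mem 𝒜 r d)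

theorem ord_one (hneg : ∀ i : ℤ, i < 0 → ∀ x ∈ 𝒜 i, x = 0) (r : R) (h0 : cA 𝒜 r 0 = 0) :
    Ord 𝒜 1 r := by
  intro d hd
  rcases lt_or_eq_of_le (show d ≤ 0 by omega) with h | h
  · exact ord_zero 𝒜 hneg r d h
  · rw [h]; exact h0

end ring

section module
variable {R : Type u} [CommRing R] {σ : Type u} [SetLike σ R] [AddSubmonoidClass σ R]
  (𝒜 : ℤ → σ) [GradedRing 𝒜]
  {M : Type u} [AddCommGroup M] [Module R M]
  {τ : Type u} [SetLike τ M] [AddSubmonoidClass τ M] (ℳ : ℤ → τ) [DirectSum.Decomposition ℳ]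
  [SetLike.GradedSMul 𝒜 ℳ]

noncomputable def cM (m : M) (i : ℤ) : M := (DirectSum.decompose ℳ m i : M)

theorem cM_mem (m : M) (i : ℤ) : cM ℳ m i ∈ ℳ i := (DirectSum.decompose ℳ m i).2

theorem cM_zero (i : ℤ) : cM ℳ (0 : M) i = 0 := by
  simp [cM]

theorem cM_add (m m' : M) (i : ℤ) : cM ℳ (m + m') i = cM ℳ m i + cM ℳ m' i := by
  simp [cM, DirectSum.decompose_add]

theorem cM_sum {ι : Type*} (s : Finset ι) (f : ι → M) (i : ℤ) :
    cM ℳ (∑ j ∈ s, f j) i = ∑ j ∈ s, cM ℳ (f j) i := by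
  classical
  induction s using Finset.induction_on with
  | empty => simp [cM]
  | insert a s ha ih => rw [Finset.sum_insert ha, Finset.sum_insert ha, cM_add, ih]

theorem cM_of_mem {m : M} {e : ℤ} (hm : m ∈ ℳ e) (d : ℤ) :
    cM ℳ m d = if e = d then m else 0 := by
  by_cases h : e = d
  · subst h; rw [if_pos rfl]; exact DirectSum.decompose_of_mem_same ℳ hm
  · rw [if_neg h]; exact DirectSum.decompose_of_mem_ne ℳ hm h

theorem sum_cM (m : M) : ∃ s : Finset ℤ, m = ∑ i ∈ s, cM ℳ m i := by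
  classical
  exact ⟨_, (DirectSum.sum_support_decompose ℳ m).symm⟩

theorem cM_smul (a : R) {x : M} {e : ℤ} (hx : x ∈ ℳ e) (d : ℤ) :
    cM ℳ (a • x) d = cA 𝒜 a (d - e) • x := by
  classical
  obtain ⟨s, hs⟩ := sum_cA 𝒜 a
  conv_lhs => rw [hs, Finset.sum_smul]
  rw [cM_sum]
  have hterm : ∀ i ∈ s, cM ℳ (cA 𝒜 a i • x) d = if i = d - e then cA 𝒜 a i • x else 0 := by
    intro i _
    have hmem : cA 𝒜 a i • x ∈ ℳ (i + e) := by
      have := SetLike.GradedSMul.smul_mem (cA_mem 𝒜 a i) hx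
      simpa using this
    rw [cM_of_mem ℳ hmem]
    by_cases h : i + e = d
    · rw [if_pos h, if_pos (by omega)]
    · rw [if_neg h, if_neg (by omega)]
  rw [Finset.sum_congr rfl hterm, Finset.sum_ite_eq']
  by_cases hmem : d - e ∈ s
  · rw [if_pos hmem]
  · rw [if_neg hmem]
    have : cA 𝒜 a (d - e) = 0 := by
      have h1 : cA 𝒜 a (d - e) = cA 𝒜 (∑ i ∈ s, cA 𝒜 a i) (d - e) := by rw [← hs]
      rw [h1, cA_sum]
      refine Finset.sum_eq_zero (fun i hi => ?_)
      rw [cA_of_mem 𝒜 (cA_mem 𝒜 a i), if_neg]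
      intro h; exact hmem (h ▸ hi)
    rw [this, zero_smul]

/-- existence of finitely many homogeneous generators -/
theorem exists_homog_gens [Module.Finite R M] :
    ∃ (n : ℕ) (x : Fin n → M), (∀ i, SetLike.IsHomogeneousElem ℳ (x i)) ∧
      Submodule.span R (Set.range x) = ⊤ := by
  classical
  obtain ⟨S, hS⟩ := (Module.Finite.fg_top (R := R) (M := M))
  let T : Finset M := S.biUnion (fun g => (DFinsupp.support (DirectSum.decompose ℳ g)).image
    (fun d => cM ℳ g d))
  have hT : ∀ t ∈ T, SetLike.IsHomogeneousElem ℳ t := by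
    intro t ht
    simp only [T, Finset.mem_biUnion, Finset.mem_image] at ht
    obtain ⟨g, _, d, _, rfl⟩ := ht
    exact ⟨d, cM_mem ℳ g d⟩
  have hspan : Submodule.span R (T : Set M) = ⊤ := by
    rw [eq_top_iff, ← hS]
    apply Submodule.span_le.mpr
    intro g hg
    have hg' : g = ∑ i ∈ DFinsupp.support (DirectSum.decompose ℳ g), cM ℳ g i :=
      (DirectSum.sum_support_decompose ℳ g).symm
    rw [hg']
    refine Submodule.sum_mem _ (fun d hd => Submodule.subset_span ?_)
    simp only [T, Finset.coe_biUnion, Set.mem_iUnion, Finset.coe_image]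
    exact ⟨g, hg, d, hd, rfl⟩
  refine ⟨T.card, fun i => (T.equivFin.symm i : M), fun i => hT _ (T.equivFin.symm i).2, ?_⟩
  have : Set.range (fun i => (T.equivFin.symm i : M)) = (T : Set M) := by
    ext m
    constructor
    · rintro ⟨i, rfl⟩; exact (T.equivFin.symm i).2
    · intro hm; exact ⟨T.equivFin ⟨m, hm⟩, by simp⟩
  rw [this, hspan]

theorem linearIndependent_of_minimal {k : Type u} [Field k] [Algebra k R]
    (hneg : ∀ i : ℤ, i < 0 → ∀ x ∈ 𝒜 i, x = 0)
    (h0 : ∀ x ∈ 𝒜 0, ∃ c : k, algebraMap k R c = x)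
    [Module.Projective R M] (n : ℕ) (x : Fin n → M)
    (hx : ∀ i, SetLike.IsHomogeneousElem ℳ (x i))
    (hspan : Submodule.span R (Set.range x) = ⊤)
    (hmin : ∀ m < n, ¬ ∃ y : Fin m → M, (∀ i, SetLike.IsHomogeneousElem ℳ (y i)) ∧
      Submodule.span R (Set.range y) = ⊤) :
    LinearIndependent R x := by
  classical
  choose e he using hx
  set π : (Fin n → R) →ₗ[R] M := Fintype.linearCombination R x with hπ
  have hπsurj : Function.Surjective π := by
    rw [← LinearMap.range_eq_top, hπ, Fintype.range_linearCombination, hspan]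
  obtain ⟨s, hs⟩ := Module.projective_lifting_property π LinearMap.id hπsurj
  set Q : (Fin n → R) →ₗ[R] (Fin n → R) := LinearMap.id - s ∘ₗ π with hQ
  have hπQ : ∀ z, π (Q z) = 0 := by
    intro z
    have := LinearMap.congr_fun hs (π z)
    simp only [LinearMap.comp_apply, LinearMap.id_apply] at this
    rw [hQ, LinearMap.sub_apply, map_sub, LinearMap.comp_apply, LinearMap.id_apply, this, sub_self]
  have hQker : ∀ a, π a = 0 → Q a = a := by
    intro a ha
    rw [hQ, LinearMap.sub_apply, LinearMap.comp_apply, ha, map_zero, LinearMap.id_apply, sub_zero]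
  let q : Fin n → Fin n → R := fun i j => Q (fun j' => if i = j' then 1 else 0) j
  -- Step A
  have hA : ∀ i j, cA 𝒜 (q i j) 0 = 0 := by
    intro i j₀
    by_contra hne
    set u := cA 𝒜 (q i j₀) 0 with hu
    obtain ⟨c, hc⟩ := h0 u (cA_mem 𝒜 _ 0)
    have hc0 : c ≠ 0 := by
      rintro rfl
      rw [map_zero] at hc
      exact hne hc.symm
    set v : R := algebraMap k R c⁻¹ with hv
    have hvu : v * u = 1 := by
      rw [hv, ← hc, ← map_mul, inv_mul_cancel₀ hc0, map_one]
    have hrel : ∑ j, q i j • x j = 0 := by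
      have := hπQ (fun j' => if i = j' then 1 else 0)
      rw [hπ, Fintype.linearCombination_apply] at this
      exact this
    have hrel' : ∑ j, cA 𝒜 (q i j) (e j₀ - e j) • x j = 0 := by
      have h1 := congrArg (fun m => cM ℳ m (e j₀)) hrel
      simp only [cM_zero] at h1
      rw [cM_sum] at h1
      rw [← h1]
      refine Finset.sum_congr rfl (fun j _ => ?_)
      rw [cM_smul 𝒜 ℳ _ (he j)]
    have hxj : x j₀ ∈ Submodule.span R (x '' {j₀}ᶜ) := by
      have h2 : u • x j₀ = - ∑ j ∈ Finset.univ.erase j₀, cA 𝒜 (q i j) (e j₀ - e j) • x j := by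
        rw [← Finset.add_sum_erase _ _ (Finset.mem_univ j₀), sub_self] at hrel'
        exact eq_neg_of_add_eq_zero_left hrel'
      have h3 : x j₀ = v • (u • x j₀) := by rw [smul_smul, hvu, one_smul]
      rw [h3, h2]
      refine Submodule.smul_mem _ _ (Submodule.neg_mem _ (Submodule.sum_mem _ (fun j hj => ?_)))
      refine Submodule.smul_mem _ _ (Submodule.subset_span ⟨j, ?_, rfl⟩)
      simpa using (Finset.mem_erase.mp hj).1
    have hspan' : Submodule.span R (x '' {j₀}ᶜ) = ⊤ := by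
      rw [eq_top_iff, ← hspan]
      apply Submodule.span_le.mpr
      rintro _ ⟨j, rfl⟩
      by_cases hj : j = j₀
      · rw [hj]; exact hxj
      · exact Submodule.subset_span ⟨j, by simpa using hj, rfl⟩
    cases n with
    | zero => exact j₀.elim0
    | succ m =>
      apply hmin m (Nat.lt_succ_self m)
      refine ⟨x ∘ j₀.succAbove, fun i => ⟨_, he _⟩, ?_⟩
      rw [Set.range_comp, Fin.range_succAbove, hspan']
  -- Step B
  rw [Fintype.linearIndependent_iff]
  intro a ha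
  have hπa : π a = 0 := by
    rw [hπ, Fintype.linearCombination_apply]; exact ha
  have hQa : ∀ j, a j = ∑ i, a i * q i j := by
    intro j
    have h1 := congrFun (hQker a hπa) j
    rw [LinearMap.pi_apply_eq_sum_univ Q a, Finset.sum_apply] at h1
    rw [← h1]
    refine Finset.sum_congr rfl (fun i _ => ?_)
    simp [q]
  have hord : ∀ N : ℕ, ∀ j, Ord 𝒜 N (a j) := by
    intro N
    induction N with
    | zero => intro j; exact ord_zero 𝒜 hneg _
    | succ N ih =>
      intro j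
      rw [hQa j]
      refine ord_sum 𝒜 _ _ _ (fun i _ => ?_)
      have := ord_mul 𝒜 (ih i) (ord_one 𝒜 hneg _ (hA i j))
      push_cast
      exact this
  intro j
  exact eq_zero_of_ord 𝒜 _ (fun N => hord N j)

theorem main {k : Type u} [Field k] [Algebra k R]
    (hneg : ∀ i : ℤ, i < 0 → ∀ x ∈ 𝒜 i, x = 0)
    (h0 : ∀ x ∈ 𝒜 0, ∃ c : k, algebraMap k R c = x)
    [Module.Finite R M] :
    Module.Projective R M ↔
      ∃ (ι : Type u) (b : Module.Basis ι R M), ∀ i : ι, SetLike.IsHomogeneousElem ℳ (b i) := by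
  classical
  constructor
  · intro hproj
    have hex := exists_homog_gens (R := R) ℳ
    let n := Nat.find hex
    obtain ⟨x, hx, hspan⟩ := Nat.find_spec hex
    have hmin : ∀ m < n, ¬ ∃ y : Fin m → M, (∀ i, SetLike.IsHomogeneousElem ℳ (y i)) ∧
        Submodule.span R (Set.range y) = ⊤ := fun m hm => Nat.find_min hex hm
    have hli := linearIndependent_of_minimal 𝒜 ℳ hneg h0 n x hx hspan hmin
    let b : Module.Basis (Fin n) R M := Module.Basis.mk hli hspan.ge
    refine ⟨ULift.{u} (Fin n), b.reindex Equiv.ulift.symm, fun i => ?_⟩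
    rw [Module.Basis.reindex_apply, Module.Basis.mk_apply]
    exact hx _
  · rintro ⟨ι, b, -⟩
    exact Module.Projective.of_basis b

end module

end Groth.Agent.H15.GrProjFree
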