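import Mathlib

namespace Groth.Agent.H15.GrSemi

open DirectSum

universe u

section A
variable {k : Type u} [Field k] {R : Type u} [CommRing R] [Algebra k R]
  (𝒜 : ℤ → Submodule k R) [GradedAlgebra 𝒜]

lemma mem_range_of_isIntegral [IsAlgClosed k] {K : Type*} [Field K] [Algebra k K] (u : K)
    (hu : IsIntegral k u) : ∃ c : k, algebraMap k K c = u := by
  have hq : (minpoly k u).leadingCoeff = 1 := minpoly.monic hu
  have h : (minpoly k u).degree = 1 :=
    IsAlgClosed.degree_eq_one_of_irreducible k (minpoly.irreducible hu)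
  have h2 : Polynomial.aeval u (minpoly k u) = 0 := minpoly.aeval k u
  rw [Polynomial.eq_X_add_C_of_degree_eq_one h, hq, Polynomial.C_1, one_mul, Polynomial.aeval_add,
    Polynomial.aeval_X, Polynomial.aeval_C, add_eq_zero_iff_eq_neg] at h2
  exact ⟨-(minpoly k u).coeff 0, by rw [map_neg]; exact h2.symm⟩

lemma exists_eq_mul_of_mem_span {n : ℤ} {x : R} (hx : x ∈ 𝒜 n) {j : ℤ} {v : R}
    (hv : v ∈ 𝒜 (n + j)) (hvx : v ∈ Ideal.span {x}) : ∃ z ∈ 𝒜 j, v = x * z := by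
  obtain ⟨r, rfl⟩ := Ideal.mem_span_singleton'.mp hvx
  refine ⟨decompose 𝒜 r j, SetLike.coe_mem _, ?_⟩
  have := DirectSum.coe_decompose_mul_add_of_left_mem 𝒜 (b := r) hx (j := j)
  rw [← this, mul_comm x r, DirectSum.decompose_of_mem_same 𝒜 hv]

lemma span_singleton_homogeneous {n : ℤ} {x : R} (hx : x ∈ 𝒜 n) :
    (Ideal.span {x}).IsHomogeneous 𝒜 := by
  apply Ideal.homogeneous_span
  rintro _ ⟨⟩
  exact ⟨n, hx⟩

end A


section A2
variable {k : Type u} [Field k] {R : Type u} [CommRing R] [IsDomain R] [Algebra k R]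
  (𝒜 : ℤ → Submodule k R) [GradedAlgebra 𝒜]

lemma withBot_aux (d : WithBot ℕ∞) (h : d + 1 ≤ 1) : d ≤ ((0 : ℕ) : WithBot ℕ∞) := by
  induction d using WithBot.recBotCoe with
  | bot => exact bot_le
  | coe a =>
    have h' : ((a + 1 : ℕ∞) : WithBot ℕ∞) ≤ ((1 : ℕ∞) : WithBot ℕ∞) := by exact_mod_cast h
    have h'' : a + 1 ≤ 1 := WithBot.coe_le_coe.mp h'
    have : a = 0 := by
      induction a using ENat.recTopCoe with
      | top => simp at h''
      | coe n =>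
        have : (n + 1 : ℕ) ≤ 1 := by exact_mod_cast h''
        have : n = 0 := by omega
        simp [this]
    rw [this]; rfl

/-- finiteness of the quotient by a nonzero element in dimension one. -/
lemma finite_quot [Algebra.FiniteType k R] (h1 : ringKrullDim R = 1) {x : R} (hx0 : x ≠ 0) :
    Module.Finite k (R ⧸ Ideal.span {x}) := by
  have hx' : x ∈ nonZeroDivisors R := mem_nonZeroDivisors_of_ne_zero hx0
  have h2 := ringKrullDim_quotient_succ_le_of_nonZeroDivisor hx'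
  rw [h1] at h2
  have h3 : Ring.KrullDimLE 0 (R ⧸ Ideal.span {x}) := by
    rw [Ring.krullDimLE_iff]
    exact withBot_aux _ h2
  exact (Module.finite_iff_krullDimLE_zero k (R ⧸ Ideal.span {x})).mpr h3


theorem prop_dep [IsAlgClosed k] [Algebra.FiniteType k R]
    (h0 : 𝒜 0 = Submodule.span k {(1 : R)}) (h1 : ringKrullDim R = 1)
    {n : ℤ} (hn : 0 < n) {x : R} (hx : x ∈ 𝒜 n) (hx0 : x ≠ 0) {y : R} (hy : y ∈ 𝒜 n) :
    ∃ c : k, y = c • x := by
  have hfin : Module.Finite k (R ⧸ Ideal.span {x}) := finite_quot h1 hx0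
  have hhom : (Ideal.span {x}).IsHomogeneous 𝒜 := span_singleton_homogeneous 𝒜 hx
  let π : R →ₗ[k] (R ⧸ Ideal.span {x}) := (Ideal.Quotient.mkₐ k (Ideal.span {x})).toLinearMap
  have hπ : ∀ r, π r = 0 ↔ r ∈ Ideal.span {x} := fun r => Ideal.Quotient.eq_zero_iff_mem
  -- (a) finite generation of graded pieces in degrees m * n
  have hstep : ∀ m : ℕ, (𝒜 (((m + 1 : ℕ) : ℤ) * n)) ⊓ LinearMap.ker π =
      (𝒜 ((m : ℤ) * n)).map (LinearMap.mulLeft k x) := by
    intro m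
    have hdeg : ((m + 1 : ℕ) : ℤ) * n = n + (m : ℤ) * n := by push_cast; ring
    apply le_antisymm
    · rintro v ⟨hv1, hv2⟩
      rw [SetLike.mem_coe, hdeg] at hv1
      have hv3 : v ∈ Ideal.span {x} := (hπ v).mp hv2
      obtain ⟨z, hz, rfl⟩ := exists_eq_mul_of_mem_span 𝒜 hx hv1 hv3
      exact ⟨z, hz, rfl⟩
    · rintro _ ⟨z, hz, rfl⟩
      refine ⟨?_, ?_⟩
      · rw [SetLike.mem_coe, hdeg]
        exact SetLike.mul_mem_graded hx hz
      · exact (hπ _).mpr (Ideal.mul_mem_right _ _ (Ideal.subset_span rfl))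
  have hFG : ∀ m : ℕ, (𝒜 ((m : ℤ) * n)).FG := by
    intro m
    induction m with
    | zero =>
      have : ((0 : ℕ) : ℤ) * n = 0 := by simp
      rw [this, h0]
      exact Submodule.fg_span_singleton _
    | succ m ih =>
      apply Submodule.fg_of_fg_map_of_fg_inf_ker π
      · exact IsNoetherian.noetherian _
      · rw [hstep m]
        exact ih.map _
  -- (b) stabilization
  let W : ℕ → Submodule k (R ⧸ Ideal.span {x}) :=
    fun j => (⨆ (m : ℕ) (_ : j ≤ m), 𝒜 ((m : ℤ) * n)).map π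
  have hWanti : ∀ i j, i ≤ j → W j ≤ W i := by
    intro i j hij
    apply Submodule.map_mono
    apply iSup₂_le
    intro m hm
    exact le_iSup₂_of_le m (le_trans hij hm) le_rfl
  obtain ⟨j0, hj0⟩ := IsArtinian.monotone_stabilizes
    (⟨fun j => OrderDual.toDual (W j), fun i j hij => hWanti i j hij⟩ :
      ℕ →o (Submodule k (R ⧸ Ideal.span {x}))ᵒᵈ)
  have hWeq : W (j0 + 1) = W (j0 + 2) := by
    have e1 := hj0 (j0 + 1) (by omega)
    have e2 := hj0 (j0 + 2) (by omega)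
    exact OrderDual.toDual.injective (e1.symm.trans e2)
  have hsub : ∀ v ∈ 𝒜 (((j0 + 1 : ℕ) : ℤ) * n), v ∈ Ideal.span {x} := by
    intro v hv
    have hv1 : π v ∈ W (j0 + 1) :=
      Submodule.mem_map_of_mem (Submodule.mem_iSup_of_mem (j0 + 1)
        (Submodule.mem_iSup_of_mem le_rfl hv))
    rw [hWeq] at hv1
    obtain ⟨w, hw, hwv⟩ := hv1
    have hw0 : ((decompose 𝒜 w (((j0 + 1 : ℕ) : ℤ) * n) : 𝒜 _) : R) = 0 := by
      have hle : (⨆ (m : ℕ) (_ : j0 + 2 ≤ m), 𝒜 ((m : ℤ) * n)) ≤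
          LinearMap.ker (GradedAlgebra.proj 𝒜 (((j0 + 1 : ℕ) : ℤ) * n)) := by
        apply iSup₂_le
        intro m hm z hz
        rw [LinearMap.mem_ker, GradedAlgebra.proj_apply]
        apply DirectSum.decompose_of_mem_ne 𝒜 hz
        intro heq
        have h3 : (m : ℤ) = ((j0 + 1 : ℕ) : ℤ) := mul_right_cancel₀ hn.ne' heq
        have h4 : m = j0 + 1 := by exact_mod_cast h3
        omega
      have := hle hw
      rwa [LinearMap.mem_ker, GradedAlgebra.proj_apply] at this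
    have hdiff : v - w ∈ Ideal.span {x} := by
      rw [← hπ, map_sub, hwv, sub_self]
    have := hhom (((j0 + 1 : ℕ) : ℤ) * n) hdiff
    rw [DirectSum.decompose_sub, DirectSum.sub_apply, AddSubgroupClass.coe_sub, hw0, sub_zero,
      DirectSum.decompose_of_mem_same 𝒜 hv] at this
    exact this
  -- (c) integrality of y / x
  let K := FractionRing R
  let ι : R →ₗ[k] K := (IsScalarTower.toAlgHom k R K).toLinearMap
  have hι : ∀ r, ι r = algebraMap R K r := fun r => rfl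
  let u : K := algebraMap R K y / algebraMap R K x
  have hxK : algebraMap R K x ≠ 0 := by
    intro h
    exact hx0 ((IsFractionRing.injective R K) (by rw [h, map_zero]))
  let N : Submodule k K := (𝒜 (((j0 + 1 : ℕ) : ℤ) * n)).map ι
  have hN0 : N ≠ ⊥ := by
    intro hbot
    have hxm : x ^ (j0 + 1) ∈ 𝒜 (((j0 + 1 : ℕ) : ℤ) * n) := by
      have := SetLike.pow_mem_graded (j0 + 1) hx
      simpa [nsmul_eq_mul] using this
    have : ι (x ^ (j0 + 1)) ∈ N := Submodule.mem_map_of_mem hxm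
    rw [hbot, Submodule.mem_bot, hι, map_pow] at this
    exact hxK (pow_eq_zero_iff (by omega) |>.mp this)
  have hNfg : N.FG := (hFG (j0 + 1)).map ι
  have hNu : ∀ w ∈ N, u • w ∈ N := by
    rintro _ ⟨v, hv, rfl⟩
    have hdeg : ((j0 + 1 : ℕ) : ℤ) * n = n + (j0 : ℤ) * n := by push_cast; ring
    have hv' : v ∈ 𝒜 (n + (j0 : ℤ) * n) := by rw [← hdeg]; exact hv
    obtain ⟨z, hz, rfl⟩ := exists_eq_mul_of_mem_span 𝒜 hx hv' (hsub v hv)
    refine ⟨y * z, ?_, ?_⟩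
    · rw [SetLike.mem_coe, hdeg]
      exact SetLike.mul_mem_graded hy hz
    · rw [hι, hι, map_mul, map_mul, smul_eq_mul]
      show _ = algebraMap R K y / algebraMap R K x * _
      rw [div_mul_eq_mul_div, eq_div_iff hxK]
      ring
  have hint : IsIntegral k u := isIntegral_of_smul_mem_submodule N hN0 hNfg u hNu
  obtain ⟨c, hc⟩ := mem_range_of_isIntegral u hint
  refine ⟨c, ?_⟩
  apply IsFractionRing.injective R K
  rw [Algebra.smul_def, map_mul, ← IsScalarTower.algebraMap_apply, hc]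
  show _ = algebraMap R K y / algebraMap R K x * _
  rw [div_mul_cancel₀ _ hxK]

end A2

section B
variable {k : Type u} [Field k] [IsAlgClosed k] {R : Type u} [CommRing R] [IsDomain R] [Algebra k R]
  (𝒜 : ℤ → Submodule k R) [GradedAlgebra 𝒜]

theorem piece_dep [Algebra.FiniteType k R] (hpos : ∀ n : ℤ, n < 0 → 𝒜 n = ⊥)
    (h0 : 𝒜 0 = Submodule.span k {(1 : R)}) (h1 : ringKrullDim R = 1)
    {n : ℤ} {x : R} (hx : x ∈ 𝒜 n) (hx0 : x ≠ 0) {y : R} (hy : y ∈ 𝒜 n) :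
    ∃ c : k, y = c • x := by
  rcases lt_trichotomy n 0 with hn | hn | hn
  · rw [hpos n hn, Submodule.mem_bot] at hx
    exact absurd hx hx0
  · subst hn
    rw [h0, Submodule.mem_span_singleton] at hx hy
    obtain ⟨a, rfl⟩ := hx
    obtain ⟨b, rfl⟩ := hy
    have ha : a ≠ 0 := by
      rintro rfl
      simp at hx0
    refine ⟨b / a, ?_⟩
    rw [smul_smul, div_mul_cancel₀ _ ha]
  · exact prop_dep 𝒜 h0 h1 hn hx hx0 hy

lemma ne_bot_iff (i : ℤ) : 𝒜 i ≠ ⊥ ↔ ∃ z ∈ 𝒜 i, z ≠ 0 := Submodule.ne_bot_iff _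

lemma ne_bot_add {i j : ℤ} (hi : 𝒜 i ≠ ⊥) (hj : 𝒜 j ≠ ⊥) : 𝒜 (i + j) ≠ ⊥ := by
  rw [ne_bot_iff] at hi hj ⊢
  obtain ⟨a, ha, ha0⟩ := hi
  obtain ⟨b, hb, hb0⟩ := hj
  exact ⟨a * b, SetLike.mul_mem_graded ha hb, mul_ne_zero ha0 hb0⟩

lemma ne_bot_zero : 𝒜 0 ≠ ⊥ := by
  rw [ne_bot_iff]
  exact ⟨1, SetLike.one_mem_graded 𝒜, one_ne_zero⟩

lemma ne_bot_nsmul {i : ℤ} (hi : 𝒜 i ≠ ⊥) (q : ℕ) : 𝒜 ((q : ℤ) * i) ≠ ⊥ := by
  induction q with
  | zero => simpa using ne_bot_zero 𝒜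
  | succ q ih =>
    have : ((q + 1 : ℕ) : ℤ) * i = (q : ℤ) * i + i := by push_cast; ring
    rw [this]
    exact ne_bot_add 𝒜 ih hi

/-- there is a nonzero piece in positive degree -/
lemma exists_pos_ne_bot (hpos : ∀ n : ℤ, n < 0 → 𝒜 n = ⊥)
    (h0 : 𝒜 0 = Submodule.span k {(1 : R)}) (h1 : ringKrullDim R = 1) :
    ∃ a : ℕ, 0 < a ∧ 𝒜 (a : ℤ) ≠ ⊥ := by
  by_contra hcon
  push Not at hcon
  have hall : ∀ n : ℤ, n ≠ 0 → 𝒜 n = ⊥ := by
    intro n hn
    rcases lt_or_gt_of_ne hn with h | h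
    · exact hpos n h
    · obtain ⟨a, rfl⟩ := Int.eq_ofNat_of_zero_le h.le
      exact hcon a (by exact_mod_cast h)
  have hr : ∀ r : R, ∃ c : k, r = c • (1 : R) := by
    intro r
    classical
    have hsum := DirectSum.sum_support_decompose 𝒜 r
    have hr0 : r ∈ 𝒜 0 := by
      rw [← hsum]
      apply Submodule.sum_mem
      intro i _
      by_cases hi : i = 0
      · subst hi; exact SetLike.coe_mem _
      · have : ((decompose 𝒜 r i : 𝒜 i) : R) ∈ 𝒜 i := SetLike.coe_mem _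
        have h2 : ((decompose 𝒜 r i : 𝒜 i) : R) ∈ (⊥ : Submodule k R) := hall i hi ▸ this
        rw [Submodule.mem_bot] at h2
        rw [h2]; exact Submodule.zero_mem _
    rw [h0, Submodule.mem_span_singleton] at hr0
    obtain ⟨c, hc⟩ := hr0
    exact ⟨c, hc.symm⟩
  have hfield : IsField R := by
    refine ⟨⟨0, 1, zero_ne_one⟩, mul_comm, ?_⟩
    intro a ha
    obtain ⟨c, rfl⟩ := hr a
    have hc : c ≠ 0 := by
      rintro rfl
      simp at ha
    refine ⟨c⁻¹ • 1, ?_⟩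
    rw [smul_mul_smul_comm, mul_one, mul_inv_cancel₀ hc, one_smul]
  have := ringKrullDim_eq_zero_of_isField hfield
  rw [h1] at this
  exact one_ne_zero this

theorem main_struct [Algebra.FiniteType k R] (hpos : ∀ n : ℤ, n < 0 → 𝒜 n = ⊥)
    (h0 : 𝒜 0 = Submodule.span k {(1 : R)}) (h1 : ringKrullDim R = 1) :
    ∃ H : AddSubmonoid ℕ, Nonempty (R ≃+* AddMonoidAlgebra k H) ∧ (𝒜 1 ≠ ⊥ → H = ⊤) := by
  classical
  have hdep : ∀ {n : ℤ} {x : R}, x ∈ 𝒜 n → x ≠ 0 → ∀ {y : R}, y ∈ 𝒜 n → ∃ c : k, y = c • x :=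
    fun hx hx0 _ hy => piece_dep 𝒜 hpos h0 h1 hx hx0 hy
  let H : AddSubmonoid ℕ :=
    { carrier := {h | 𝒜 (h : ℤ) ≠ ⊥}
      zero_mem' := by simpa using ne_bot_zero 𝒜
      add_mem' := fun {a b} ha hb => by
        show 𝒜 ((a + b : ℕ) : ℤ) ≠ ⊥
        push_cast; exact ne_bot_add 𝒜 ha hb }
  have hHmem : ∀ h : ℕ, h ∈ H ↔ 𝒜 (h : ℤ) ≠ ⊥ := fun h => Iff.rfl
  have hex : ∃ g : ℕ, 0 < g ∧ ∃ a b : ℕ, a ∈ H ∧ b ∈ H ∧ a = b + g := by
    obtain ⟨a, ha, hane⟩ := exists_pos_ne_bot 𝒜 hpos h0 h1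
    exact ⟨a, ha, a, 0, hane, H.zero_mem, by simp⟩
  obtain ⟨hD0, a, b, haH, hbH, hab⟩ := Nat.find_spec hex
  have hDmin : ∀ g, g < Nat.find hex → ¬ (0 < g ∧ ∃ a b : ℕ, a ∈ H ∧ b ∈ H ∧ a = b + g) :=
    fun g hg => Nat.find_min hex hg
  generalize Nat.find hex = D at hD0 hab hDmin
  have hdvd : ∀ h ∈ H, D ∣ h := by
    intro h hh
    by_contra hnd
    have hr : 0 < h % D := Nat.pos_of_ne_zero (fun h0 => hnd (Nat.dvd_of_mod_eq_zero h0))
    refine hDmin (h % D) (Nat.mod_lt _ hD0) ⟨hr, h + (h / D) • b, (h / D) • a, ?_, ?_, ?_⟩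
    · exact H.add_mem hh (H.nsmul_mem hbH _)
    · exact H.nsmul_mem haH _
    · have h3 := Nat.div_add_mod h D
      rw [hab, smul_eq_mul, smul_eq_mul]
      nlinarith
  obtain ⟨x, hx, hx0⟩ := (ne_bot_iff 𝒜 _).mp ((hHmem a).mp haH)
  obtain ⟨y, hy, hy0⟩ := (ne_bot_iff 𝒜 _).mp ((hHmem b).mp hbH)
  have hexE : ∀ h : H, ∃ e ∈ 𝒜 ((h : ℕ) : ℤ), e * y ^ ((h : ℕ) / D) = x ^ ((h : ℕ) / D) := by
    rintro ⟨h, hh⟩
    obtain ⟨z, hz, hz0⟩ := (ne_bot_iff 𝒜 _).mp ((hHmem h).mp hh)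
    obtain ⟨m, hm⟩ := hdvd h hh
    have hmD : h / D = m := by rw [hm, Nat.mul_div_cancel_left _ hD0]
    simp only [hmD]
    have hzy : z * y ^ m ∈ 𝒜 ((m : ℤ) * a) := by
      have h1 := SetLike.mul_mem_graded hz (SetLike.pow_mem_graded m hy)
      have hdeg : (h : ℤ) + m • (b : ℤ) = (m : ℤ) * a := by
        rw [hm, hab, nsmul_eq_mul]; push_cast; ring
      rwa [hdeg] at h1
    have hxm : x ^ m ∈ 𝒜 ((m : ℤ) * a) := by
      have := SetLike.pow_mem_graded m hx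
      rwa [nsmul_eq_mul] at this
    obtain ⟨c, hc⟩ := hdep hzy (mul_ne_zero hz0 (pow_ne_zero _ hy0)) hxm
    exact ⟨c • z, Submodule.smul_mem _ _ hz, by rw [smul_mul_assoc, hc]⟩
  choose E hE1 hE2 using hexE
  have hE0 : ∀ h, E h ≠ 0 := fun h he => by
    have := hE2 h
    rw [he, zero_mul] at this
    exact pow_ne_zero _ hx0 this.symm
  let F : Multiplicative H →* R :=
    { toFun := fun h => E (Multiplicative.toAdd h)
      map_one' := by
        have := hE2 0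
        simpa using this
      map_mul' := fun p q => by
        have e1 := hE2 (Multiplicative.toAdd p)
        have e2 := hE2 (Multiplicative.toAdd q)
        have e3 := hE2 (Multiplicative.toAdd p + Multiplicative.toAdd q)
        have hdiv : (((Multiplicative.toAdd p + Multiplicative.toAdd q : H)) : ℕ) / D =
            ((Multiplicative.toAdd p : H) : ℕ) / D + ((Multiplicative.toAdd q : H) : ℕ) / D := by
          rw [AddSubmonoid.coe_add]
          exact Nat.add_div_of_dvd_right (hdvd _ (Multiplicative.toAdd p).2)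
        show E (Multiplicative.toAdd p + Multiplicative.toAdd q) = _
        apply mul_right_cancel₀ (pow_ne_zero
          ((((Multiplicative.toAdd p + Multiplicative.toAdd q : H)) : ℕ) / D) hy0)
        rw [e3, hdiv, pow_add, pow_add, mul_mul_mul_comm, e1, e2] }
  have hF : ∀ h : H, F (Multiplicative.ofAdd h) = E h := fun h => rfl
  let Φ : AddMonoidAlgebra k H →ₐ[k] R := AddMonoidAlgebra.lift k R H F
  have hΦ : ∀ f, Φ f = f.coeff.sum fun h c => c • E h :=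
    fun f => AddMonoidAlgebra.lift_apply F f
  have hinj : Function.Injective Φ := by
    rw [injective_iff_map_eq_zero]
    intro f hf
    rw [← AddMonoidAlgebra.coeff_eq_zero]
    ext h
    rw [hΦ] at hf
    have h2 := congrArg (GradedAlgebra.proj 𝒜 ((h : ℕ) : ℤ)) hf
    rw [map_zero, Finsupp.sum, map_sum] at h2
    rw [Finset.sum_eq_single h] at h2
    · rw [map_smul, GradedAlgebra.proj_apply, DirectSum.decompose_of_mem_same 𝒜 (hE1 h)] at h2
      have := (smul_eq_zero.mp h2).resolve_right (hE0 h)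
      simpa using this
    · intro h' _ hne
      rw [map_smul, GradedAlgebra.proj_apply, DirectSum.decompose_of_mem_ne 𝒜 (hE1 h'), smul_zero]
      intro heq
      apply hne
      exact Subtype.ext (by exact_mod_cast heq)
    · intro hns
      rw [Finsupp.notMem_support_iff.mp hns, zero_smul, map_zero]
  have hsurj : Function.Surjective Φ := by
    intro r
    have hsum := DirectSum.sum_support_decompose 𝒜 r
    have : r ∈ Φ.range := by
      rw [← hsum]
      apply Subalgebra.sum_mem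
      intro i _
      by_cases hz : ((decompose 𝒜 r i : 𝒜 i) : R) = 0
      · rw [hz]; exact Subalgebra.zero_mem _
      · have hi : 𝒜 i ≠ ⊥ := (ne_bot_iff 𝒜 i).mpr ⟨_, SetLike.coe_mem _, hz⟩
        have hi0 : 0 ≤ i := by
          by_contra hneg
          push Not at hneg
          exact hi (hpos i hneg)
        obtain ⟨h, rfl⟩ := Int.eq_ofNat_of_zero_le hi0
        obtain ⟨c, hc⟩ := hdep (hE1 ⟨h, hi⟩) (hE0 ⟨h, hi⟩)
          (SetLike.coe_mem (decompose 𝒜 r (h : ℤ)))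
        rw [hc]
        refine ⟨AddMonoidAlgebra.single ⟨h, hi⟩ c, ?_⟩
        show AddMonoidAlgebra.lift k R H F _ = _
        rw [AddMonoidAlgebra.lift_single, hF]
    exact this
  refine ⟨H, ⟨(AlgEquiv.ofBijective Φ ⟨hinj, hsurj⟩).symm.toRingEquiv⟩, ?_⟩
  intro h1ne
  rw [eq_top_iff]
  intro n _
  have := ne_bot_nsmul 𝒜 h1ne n
  rw [mul_one] at this
  exact this

theorem main [Algebra.FiniteType k R] (hpos : ∀ n : ℤ, n < 0 → 𝒜 n = ⊥)
    (h0 : 𝒜 0 = Submodule.span k {(1 : R)}) (h1 : ringKrullDim R = 1) :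
    (∃ H : AddSubmonoid ℕ, Nonempty (R ≃+* AddMonoidAlgebra k H)) ∧
    (Ideal.span (⋃ n ∈ Set.Ioi (0 : ℤ), (𝒜 n : Set R)) =
      Ideal.span ((𝒜 1 : Submodule k R) : Set R) → Nonempty (R ≃+* Polynomial k)) := by
  obtain ⟨H, ⟨e⟩, hH⟩ := main_struct 𝒜 hpos h0 h1
  refine ⟨⟨H, ⟨e⟩⟩, fun hgen => ?_⟩
  have h1ne : 𝒜 1 ≠ ⊥ := by
    intro hbot
    obtain ⟨a, ha, hane⟩ := exists_pos_ne_bot 𝒜 hpos h0 h1
    obtain ⟨z, hz, hz0⟩ := (ne_bot_iff 𝒜 _).mp hane
    have hzmem : z ∈ Ideal.span (⋃ n ∈ Set.Ioi (0 : ℤ), (𝒜 n : Set R)) :=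
      Ideal.subset_span (Set.mem_biUnion (show (a : ℤ) ∈ Set.Ioi 0 by simpa using ha) hz)
    rw [hgen, hbot] at hzmem
    simp at hzmem
    exact hz0 hzmem
  have := hH h1ne
  subst this
  exact ⟨e.trans ((AddMonoidAlgebra.domCongr k k AddSubmonoid.topEquiv).toRingEquiv.trans
    (Polynomial.toFinsuppIso k).symm)⟩

end B

end Groth.Agent.H15.GrSemi
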