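import Mathlib

set_option autoImplicit false

namespace Groth.Agent.H15.GraphLap

open Finset

variable {F : Type*} [Field F] {n : ℕ} {E : Type*} [Fintype E] [DecidableEq E]
  (s t : E → Fin n) (c : E → F) (μ : Fin n → F)

/-- incidence matrix -/
def D : Matrix E (Fin n) F := fun p i => (if s p = i then 1 else 0) - (if t p = i then 1 else 0)

/-- weighted difference map -/
def Ψ : (Fin n → F) →ₗ[F] (E → F) where
  toFun x p := c p * (x (t p) * (μ (t p))⁻¹ - x (s p) * (μ (s p))⁻¹)
  map_add' x y := by funext p; simp only [Pi.add_apply]; ring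
  map_smul' a x := by funext p; simp only [Pi.smul_apply, smul_eq_mul, RingHom.id_apply]; ring

/-- the weighted Laplacian-like map -/
def L : (Fin n → F) →ₗ[F] (Fin n → F) := (D s t (F := F)).transpose.mulVecLin.comp (Ψ s t c μ)

theorem D_mulVec (y : Fin n → F) (p : E) : (D s t (F := F)).mulVec y p = y (s p) - y (t p) := by
  simp only [Matrix.mulVec, dotProduct, D, sub_mul, ite_mul, one_mul, zero_mul,
    Finset.sum_sub_distrib, Finset.sum_ite_eq, Finset.mem_univ, if_true]

theorem L_apply (x : Fin n → F) (i : Fin n) :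
    L s t c μ x i = ∑ p, ((if s p = i then 1 else 0) - (if t p = i then 1 else 0)) *
      (c p * (x (t p) * (μ (t p))⁻¹ - x (s p) * (μ (s p))⁻¹)) := by
  simp only [L, LinearMap.comp_apply, Matrix.mulVecLin_apply, Matrix.mulVec, dotProduct,
    Matrix.transpose_apply, D, Ψ, LinearMap.coe_mk, AddHom.coe_mk]

theorem finrank_ker_L_le (hn : 0 < n) (hc : ∀ p, c p ≠ 0) (hμ : ∀ i, μ i ≠ 0)
    (hconn : ∀ y : Fin n → F, (∀ p, y (s p) = y (t p)) → ∀ i j, y i = y j) :
    Module.finrank F (LinearMap.ker (L s t c μ)) ≤ Fintype.card E + 2 - n := by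
  classical
  set DT : (E → F) →ₗ[F] (Fin n → F) := (D s t (F := F)).transpose.mulVecLin with hDT
  set Dm : (Fin n → F) →ₗ[F] (E → F) := (D s t (F := F)).mulVecLin with hDm
  -- kernel of D is at most one-dimensional
  have hkerD : Module.finrank F (LinearMap.ker Dm) ≤ 1 := by
    have h1 : (fun _ => 1 : Fin n → F) ∈ LinearMap.ker Dm := by
      rw [LinearMap.mem_ker]
      funext p
      rw [hDm, Matrix.mulVecLin_apply, D_mulVec]
      simp
    apply finrank_le_one (⟨_, h1⟩ : LinearMap.ker Dm)
    rintro ⟨y, hy⟩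
    rw [LinearMap.mem_ker, hDm, Matrix.mulVecLin_apply] at hy
    have hyp : ∀ p, y (s p) = y (t p) := by
      intro p
      have := congrFun hy p
      rw [D_mulVec] at this
      simpa [sub_eq_zero] using this
    have hconst := hconn y hyp
    refine ⟨y ⟨0, hn⟩, ?_⟩
    apply Subtype.ext
    funext i
    simp only [SetLike.val_smul, Pi.smul_apply, smul_eq_mul, mul_one]
    exact hconst _ _
  have hrn := LinearMap.finrank_range_add_finrank_ker Dm
  have hrnT := LinearMap.finrank_range_add_finrank_ker DT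
  have hrank : Module.finrank F (LinearMap.range DT) = Module.finrank F (LinearMap.range Dm) := by
    have := Matrix.rank_transpose (D s t (F := F))
    simpa [Matrix.rank] using this
  have hdimE : Module.finrank F (E → F) = Fintype.card E := by simp
  have hdimn : Module.finrank F (Fin n → F) = n := by simp
  -- the restricted map
  set f : LinearMap.ker (L s t c μ) →ₗ[F] (E → F) := (Ψ s t c μ).domRestrict _ with hf
  have hrange : LinearMap.range f ≤ LinearMap.ker DT := by
    rintro _ ⟨⟨x, hx⟩, rfl⟩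
    rw [LinearMap.mem_ker] at hx ⊢
    exact hx
  have hμker : μ ∈ LinearMap.ker (L s t c μ) := by
    rw [LinearMap.mem_ker]
    have : Ψ s t c μ μ = 0 := by
      funext p
      simp only [Ψ, LinearMap.coe_mk, AddHom.coe_mk, Pi.zero_apply]
      rw [mul_inv_cancel₀ (hμ _), mul_inv_cancel₀ (hμ _), sub_self, mul_zero]
    simp only [L, LinearMap.comp_apply, this, map_zero]
  have hkerf : Module.finrank F (LinearMap.ker f) ≤ 1 := by
    have h1 : (⟨μ, hμker⟩ : LinearMap.ker (L s t c μ)) ∈ LinearMap.ker f := by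
      rw [LinearMap.mem_ker]
      funext p
      simp only [hf, LinearMap.domRestrict_apply, Ψ, LinearMap.coe_mk, AddHom.coe_mk, Pi.zero_apply]
      rw [mul_inv_cancel₀ (hμ _), mul_inv_cancel₀ (hμ _), sub_self, mul_zero]
    apply finrank_le_one (⟨_, h1⟩ : LinearMap.ker f)
    rintro ⟨⟨x, hx⟩, hxf⟩
    rw [LinearMap.mem_ker] at hxf
    have hyp : ∀ p, (fun i => x i * (μ i)⁻¹) (s p) = (fun i => x i * (μ i)⁻¹) (t p) := by
      intro p
      have := congrFun hxf p
      simp only [hf, LinearMap.domRestrict_apply, Ψ, LinearMap.coe_mk, AddHom.coe_mk,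
        Pi.zero_apply] at this
      rcases mul_eq_zero.mp this with h | h
      · exact absurd h (hc p)
      · exact (sub_eq_zero.mp h).symm
    have hconst := hconn (fun i => x i * (μ i)⁻¹) hyp
    refine ⟨x ⟨0, hn⟩ * (μ ⟨0, hn⟩)⁻¹, ?_⟩
    apply Subtype.ext
    apply Subtype.ext
    funext i
    simp only [SetLike.val_smul, Pi.smul_apply, smul_eq_mul]
    have : x i * (μ i)⁻¹ = x ⟨0, hn⟩ * (μ ⟨0, hn⟩)⁻¹ := hconst i ⟨0, hn⟩
    rw [← this, mul_assoc, inv_mul_cancel₀ (hμ i), mul_one]
  have hrnf := LinearMap.finrank_range_add_finrank_ker f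
  have hle := Submodule.finrank_mono hrange
  omega

end Groth.Agent.H15.GraphLap
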