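import Mathlib
set_option autoImplicit false
universe u

namespace Groth.Agent.H15.Hesse

open Polynomial

theorem cubic_coeffs {k : Type u} [Field k] (c3 c2 c1 c0 d3 d2 d1 d0 : k)
    (h : C c3 * X ^ 3 + C c2 * X ^ 2 + C c1 * X + C c0 =
      (C d3 * X ^ 3 + C d2 * X ^ 2 + C d1 * X + C d0 : k[X])) :
    c3 = d3 ∧ c2 = d2 ∧ c1 = d1 ∧ c0 = d0 := by
  refine ⟨?_, ?_, ?_, ?_⟩
  · have := congrArg (fun f => f.coeff 3) h
    simpa [coeff_X, coeff_C, coeff_X_pow] using this
  · have := congrArg (fun f => f.coeff 2) h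
    simpa [coeff_X, coeff_C, coeff_X_pow] using this
  · have := congrArg (fun f => f.coeff 1) h
    simpa [coeff_X, coeff_C, coeff_X_pow] using this
  · have := congrArg (fun f => f.coeff 0) h
    simpa [coeff_X, coeff_C, coeff_X_pow] using this

theorem hesse {k : Type u} [Field k] (h3 : (3 : k) ≠ 0)
    (β a b c : k) (hb : b ≠ 0) (hab : a ^ 3 ≠ b ^ 3) (lam x₀ : k)
    (hflex : (X : k[X]) ^ 3 + (C (-a / b) * X + C (-c / b)) ^ 3 + C β - 3 * X * (C (-a / b) * X + C (-c / b)) =
      C lam * (X - C x₀) ^ 3) :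
    ∃ γ : k, β = γ ^ 3 := by
  set p : k := -a / b with hp
  set q : k := -c / b with hq
  have hL : (X : k[X]) ^ 3 + (C p * X + C q) ^ 3 + C β - 3 * X * (C p * X + C q) =
      C (1 + p ^ 3) * X ^ 3 + C (3 * p ^ 2 * q - 3 * p) * X ^ 2 + C (3 * p * q ^ 2 - 3 * q) * X +
        C (q ^ 3 + β) := by
    simp only [map_add, map_sub, map_mul, map_pow, map_one, map_ofNat]
    ring
  have hR : C lam * (X - C x₀) ^ 3 =
      (C lam * X ^ 3 + C (-(3 * lam * x₀)) * X ^ 2 + C (3 * lam * x₀ ^ 2) * X +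
        C (-(lam * x₀ ^ 3)) : k[X]) := by
    simp only [map_neg, map_mul, map_pow, map_ofNat]
    ring
  rw [hL, hR] at hflex
  obtain ⟨e3, e2, e1, e0⟩ := cubic_coeffs _ _ _ _ _ _ _ _ hflex
  have hlam : lam ≠ 0 := by
    rw [← e3]
    intro h0
    apply hab
    have : p ^ 3 = -1 := by linear_combination h0
    rw [hp] at this
    field_simp at this
    linear_combination -this
  -- divide by 3
  have e2' : p * (p * q - 1) = -(lam * x₀) := by
    have : (3 : k) * (p * (p * q - 1)) = 3 * (-(lam * x₀)) := by linear_combination e2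
    exact mul_left_cancel₀ h3 this
  have e1' : q * (p * q - 1) = lam * x₀ ^ 2 := by
    have : (3 : k) * (q * (p * q - 1)) = 3 * (lam * x₀ ^ 2) := by linear_combination e1
    exact mul_left_cancel₀ h3 this
  have hprod : (p * q - 1) * (q + p * x₀) = 0 := by linear_combination e1' + x₀ * e2'
  rcases mul_eq_zero.mp hprod with hs | hy
  · -- p q = 1, so x₀ = 0
    have hx0 : x₀ = 0 := by
      rw [hs, mul_zero] at e2'
      have : lam * x₀ = 0 := by linear_combination e2'
      exact (mul_eq_zero.mp this).resolve_left hlam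
    refine ⟨-q, ?_⟩
    rw [hx0] at e0
    linear_combination e0
  · refine ⟨-x₀, ?_⟩
    have hq' : q = -(p * x₀) := by linear_combination hy
    rw [← e3, hq'] at e0
    linear_combination e0

end Groth.Agent.H15.Hesse
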