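import Mathlib
import Groth.Agent.H15.FrobKerV

set_option autoImplicit false
universe u v

open MvPolynomial

namespace Groth.Agent.H15.TruncRank

variable {k : Type u} [Field k] {d : ℕ}

lemma coeff_eq_zero_of_mem_span (p : ℕ) (F : MvPolynomial (Fin d) k)
    (hF : F ∈ Ideal.span (Set.range fun i : Fin d => (X i : MvPolynomial (Fin d) k) ^ p))
    (a : Fin d →₀ ℕ) (ha : ∀ i, a i < p) : coeff a F = 0 := by
  classical
  induction hF using Submodule.span_induction generalizing a with
  | mem x hx =>
    obtain ⟨i, rfl⟩ := hx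
    show coeff a (X i ^ p) = 0
    rw [X_pow_eq_monomial, coeff_monomial, if_neg]
    intro h
    have := ha i
    rw [← h] at this
    simp at this
  | zero => simp
  | add x y _ _ hx hy => rw [coeff_add, hx a ha, hy a ha, add_zero]
  | smul g x _ hx =>
    rw [smul_eq_mul, coeff_mul]
    refine Finset.sum_eq_zero fun bc hbc => ?_
    have hbc : bc.1 + bc.2 = a := Finset.HasAntidiagonal.mem_antidiagonal.1 hbc
    have : ∀ i, bc.2 i < p := by
      intro i
      have h1 : bc.2 i ≤ a i := by
        rw [← hbc]; simp
      exact lt_of_le_of_lt h1 (ha i)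
    rw [hx bc.2 this, mul_zero]

theorem card_small (p : ℕ) (hp : 0 < p) :
    Nat.card {n : Fin d →₀ ℕ | ∀ i, n i ≤ p - 1} = p ^ d := by
  have e : {n : Fin d →₀ ℕ | ∀ i, n i ≤ p - 1} ≃ (Fin d → Fin p) :=
    { toFun := fun n i => ⟨n.1 i, by have := n.2 i; omega⟩
      invFun := fun f => ⟨Finsupp.equivFunOnFinite.symm (fun i => (f i : ℕ)), by
        intro i
        have := (f i).2
        simp only [Finsupp.equivFunOnFinite_symm_apply_apply]
        omega⟩
      left_inv := by
        intro n
        apply Subtype.ext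
        ext i
        simp
      right_inv := by
        intro f
        funext i
        simp }
  rw [Nat.card_congr e]
  simp

theorem finrank_trunc (p : ℕ) (hp : 0 < p) :
    Module.finrank k (MvPolynomial (Fin d) k ⧸
      Ideal.span (Set.range fun i : Fin d => (X i : MvPolynomial (Fin d) k) ^ p)) = p ^ d := by
  classical
  set J := Ideal.span (Set.range fun i : Fin d => (X i : MvPolynomial (Fin d) k) ^ p) with hJ
  let f : restrictDegree (Fin d) k (p - 1) →ₗ[k] (MvPolynomial (Fin d) k ⧸ J) :=
    ((Ideal.Quotient.mkₐ k J).toLinearMap) ∘ₗ (restrictDegree (Fin d) k (p - 1)).subtype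
  have hinj : Function.Injective f := by
    rw [← LinearMap.ker_eq_bot, LinearMap.ker_eq_bot']
    intro F hF
    have h1 : (F : MvPolynomial (Fin d) k) ∈ J := by
      rw [← Ideal.Quotient.eq_zero_iff_mem]
      exact hF
    apply Subtype.ext
    ext a
    rw [Submodule.coe_zero, coeff_zero]
    by_cases ha : ∀ i, a i < p
    · exact coeff_eq_zero_of_mem_span p _ h1 a ha
    · by_contra hne
      have h2 := (mem_restrictDegree _ _ _).1 F.2 a (mem_support_iff.2 hne)
      apply ha
      intro i
      have := h2 i
      omega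
  have hsurj : Function.Surjective f := by
    intro y
    obtain ⟨F, rfl⟩ := Ideal.Quotient.mk_surjective y
    let F₁ : MvPolynomial (Fin d) k :=
      ∑ a ∈ F.support.filter (fun a => ∀ i, a i < p), monomial a (coeff a F)
    have hF₁ : F₁ ∈ restrictDegree (Fin d) k (p - 1) := by
      refine Submodule.sum_mem _ fun a ha => ?_
      rw [Finset.mem_filter] at ha
      rw [mem_restrictDegree]
      intro s hs i
      have hs' := support_monomial_subset hs
      rw [Finset.mem_singleton] at hs'
      rw [hs']
      have := ha.2 i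
      omega
    have hcoeff : ∀ a : Fin d →₀ ℕ, (∀ i, a i < p) → coeff a (F - F₁) = 0 := by
      intro a ha
      rw [coeff_sub, coeff_sum]
      simp only [coeff_monomial]
      rw [Finset.sum_ite_eq' (F.support.filter fun a => ∀ i, a i < p) a (fun a => coeff a F)]
      by_cases h : a ∈ F.support
      · rw [if_pos (Finset.mem_filter.2 ⟨h, ha⟩), sub_self]
      · rw [if_neg (fun h' => h (Finset.mem_filter.1 h').1)]
        rw [notMem_support_iff.1 h, sub_zero]
    refine ⟨⟨F₁, hF₁⟩, ?_⟩
    show Ideal.Quotient.mk J F₁ = Ideal.Quotient.mk J F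
    rw [Ideal.Quotient.eq, ← neg_sub]
    exact J.neg_mem (Groth.Agent.H15.FrobKerV.mem_span_X_pow p _ hcoeff)
  have e := LinearEquiv.ofBijective f ⟨hinj, hsurj⟩
  rw [← e.finrank_eq]
  have b := basisRestrictSupport (σ := Fin d) k {n | ∀ i, n i ≤ p - 1}
  show Module.finrank k (restrictSupport k {n : Fin d →₀ ℕ | ∀ i, n i ≤ p - 1}) = _
  rw [Module.finrank_eq_nat_card_basis b]
  exact card_small p hp

end Groth.Agent.H15.TruncRank
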