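import Mathlib
import Groth.Agent.H15.FrobKerV
import Groth.Agent.H15.TruncRank

set_option autoImplicit false
universe u v

open MvPolynomial

namespace Groth.Agent.H15.HtOne

theorem main (k : Type u) [Field k] (p : ℕ) [Fact p.Prime] [CharP k p] (A : Type v) [CommRing A]
    [HopfAlgebra k A] [Module.Finite k A]
    (h1 : ∀ f : A, Bialgebra.counitAlgHom k A f = 0 → f ^ p = 0) :
    Module.finrank k A =
      p ^ Module.finrank k (RingHom.ker (Bialgebra.counitAlgHom k A)).Cotangent := by
  classical
  have hp : 0 < p := (Fact.out : p.Prime).pos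
  have hnt : Nontrivial A := (Bialgebra.counitAlgHom k A).toRingHom.domain_nontrivial
  have hloc : IsLocalRing A := by
    apply IsLocalRing.of_isUnit_or_isUnit_one_sub_self
    intro a
    by_cases ha : Bialgebra.counitAlgHom k A a = 0
    · right
      exact IsNilpotent.isUnit_one_sub ⟨p, h1 a ha⟩
    · left
      set c := Bialgebra.counitAlgHom k A a with hc
      have hn : IsNilpotent (a - algebraMap k A c) := by
        refine ⟨p, h1 _ ?_⟩
        rw [map_sub, AlgHom.commutes, ← hc]
        simp
      have hu : IsUnit (algebraMap k A c) := (IsUnit.mk0 c ha).map (algebraMap k A)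
      have := hn.isUnit_add_left_of_commute hu (Commute.all _ _)
      simpa using this
  obtain ⟨e⟩ := Groth.Agent.H15.FrobKerV.main k p A _ rfl
  set J := Ideal.span ((fun a : A => a ^ p) ''
    (RingHom.ker (Bialgebra.counitAlgHom k A).toRingHom : Set A)) with hJ
  have hJbot : J = ⊥ := by
    rw [hJ, Ideal.span_eq_bot]
    rintro x ⟨a, ha, rfl⟩
    exact h1 a ha
  have e2 : (A ⧸ J) ≃ₗ[k] A := (Submodule.quotEquivOfEqBot J hJbot).restrictScalars k
  rw [← e2.finrank_eq, e.toLinearEquiv.finrank_eq, Groth.Agent.H15.TruncRank.finrank_trunc p hp]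
  rfl

end Groth.Agent.H15.HtOne
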