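import Mathlib

namespace Groth.Agent.H15.JacMinors

universe u

theorem det_mul_expand {S : Type u} [CommRing S] {r m : ℕ} (P : Matrix (Fin r) (Fin m) S)
    (Q : Matrix (Fin m) (Fin r) S) :
    (P * Q).det = ∑ h : Fin r → Fin m, (∏ i, P i (h i)) * (Q.submatrix h id).det := by
  have h1 : (P * Q) = Matrix.of (fun i => ∑ j, P i j • Q j) := by
    ext i k
    simp [Matrix.mul_apply]
  rw [h1]
  have h2 := (Matrix.detRowAlternating : (Fin r → S) [⋀^Fin r]→ₗ[S] S).toMultilinearMap.map_sum
    (fun i j => P i j • Q j)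
  have h3 : (Matrix.of (fun i => ∑ j, P i j • Q j)).det =
      (Matrix.detRowAlternating : (Fin r → S) [⋀^Fin r]→ₗ[S] S).toMultilinearMap
        (fun i => ∑ j, P i j • Q j) := rfl
  rw [h3, h2]
  refine Finset.sum_congr rfl fun h _ => ?_
  rw [MultilinearMap.map_smul_univ, smul_eq_mul]
  rfl

section
variable {S : Type u} [CommRing S] {n m l r : ℕ}

/-- the ideal of `r × r` minors of a matrix -/
def minors (J : Matrix (Fin m) (Fin n) S) (r : ℕ) : Ideal S :=
  Ideal.span {d : S | ∃ (ρ : Fin r → Fin m) (γ : Fin r → Fin n), Function.Injective ρ ∧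
    Function.Injective γ ∧ d = (J.submatrix ρ γ).det}

theorem le_aux (D : Fin n → S → S)
    (hadd : ∀ i a b, D i (a + b) = D i a + D i b)
    (hmul : ∀ i a b, D i (a * b) = a * D i b + b * D i a)
    (f : Fin m → S) (g : Fin l → S)
    (hg : ∀ s, g s ∈ Ideal.span (Set.range f)) :
    minors (Matrix.of fun (j : Fin l) (i : Fin n) => D i (g j)) r ≤
      minors (Matrix.of fun (j : Fin m) (i : Fin n) => D i (f j)) r ⊔ Ideal.span (Set.range f) := by
  classical
  set T := minors (Matrix.of fun (j : Fin m) (i : Fin n) => D i (f j)) r ⊔ Ideal.span (Set.range f)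
    with hT
  have hfT : ∀ j, f j ∈ T := fun j => Ideal.mem_sup_right (Ideal.subset_span ⟨j, rfl⟩)
  have hsum : ∀ i (t : Finset (Fin m)) (F : Fin m → S), D i (∑ j ∈ t, F j) = ∑ j ∈ t, D i (F j) := by
    intro i t F
    induction t using Finset.induction_on with
    | empty =>
      have h0 : D i 0 = 0 := by
        have := hadd i 0 0
        rw [add_zero] at this
        exact left_eq_add.1 this
      simpa using h0
    | insert a t ha ih => rw [Finset.sum_insert ha, Finset.sum_insert ha, hadd, ih]
  have hU : ∀ s, ∃ u : Fin m → S, ∑ j, u j * f j = g s := fun s =>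
    Ideal.mem_span_range_iff_exists_fun.1 (hg s)
  choose U hU using hU
  set Jf : Matrix (Fin m) (Fin n) S := Matrix.of fun (j : Fin m) (i : Fin n) => D i (f j) with hJf
  set Um : Matrix (Fin l) (Fin m) S := Matrix.of U with hUm
  refine Ideal.span_le.2 ?_
  rintro d ⟨ρ, γ, hρ, hγ, rfl⟩
  -- congruence of entries
  have hentry : ∀ s i, Ideal.Quotient.mk T (D i (g s)) = Ideal.Quotient.mk T ((Um * Jf) s i) := by
    intro s i
    rw [← hU s, hsum, Matrix.mul_apply, map_sum, map_sum]
    refine Finset.sum_congr rfl fun j _ => ?_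
    rw [hmul, map_add, map_mul (Ideal.Quotient.mk T) (f j), Ideal.Quotient.eq_zero_iff_mem.2 (hfT j),
      zero_mul, add_zero]
    rfl
  have hdet : Ideal.Quotient.mk T ((Matrix.of fun (j : Fin l) (i : Fin n) => D i (g j)).submatrix ρ γ).det =
      Ideal.Quotient.mk T (((Um * Jf).submatrix ρ γ).det) := by
    rw [RingHom.map_det, RingHom.map_det]
    congr 1
    ext a b
    simp only [RingHom.mapMatrix_apply, Matrix.map_apply, Matrix.submatrix_apply, Matrix.of_apply]
    exact hentry (ρ a) (γ b)
  have hmem : ((Um * Jf).submatrix ρ γ).det ∈ T := by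
    have : (Um * Jf).submatrix ρ γ = (Um.submatrix ρ id) * (Jf.submatrix id γ) := by
      ext a b
      simp [Matrix.mul_apply]
    rw [this, det_mul_expand]
    refine Ideal.sum_mem _ fun h _ => Ideal.mul_mem_left _ _ ?_
    by_cases hh : Function.Injective h
    · refine Ideal.mem_sup_left (Ideal.subset_span ⟨h, γ, hh, hγ, ?_⟩)
      rfl
    · rw [Function.Injective] at hh
      push Not at hh
      obtain ⟨a, b, hab, hne⟩ := hh
      have : ((Jf.submatrix id γ).submatrix h id).det = 0 := by
        apply Matrix.det_zero_of_row_eq hne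
        ext c
        simp [hab]
      rw [this]
      exact Ideal.zero_mem _
  have := (Ideal.Quotient.eq.1 hdet)
  have h2 := T.add_mem this hmem
  rwa [sub_add_cancel] at h2

theorem main_aux (D : Fin n → S → S)
    (hadd : ∀ i a b, D i (a + b) = D i a + D i b)
    (hmul : ∀ i a b, D i (a * b) = a * D i b + b * D i a)
    (f : Fin m → S) (g : Fin l → S)
    (hfg : Ideal.span (Set.range f) = Ideal.span (Set.range g)) :
    minors (Matrix.of fun (j : Fin m) (i : Fin n) => D i (f j)) r ⊔ Ideal.span (Set.range f) =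
      minors (Matrix.of fun (j : Fin l) (i : Fin n) => D i (g j)) r ⊔ Ideal.span (Set.range g) := by
  apply le_antisymm
  · refine sup_le ?_ (hfg ▸ le_sup_right)
    exact le_aux D hadd hmul g f (fun s => hfg ▸ Ideal.subset_span ⟨s, rfl⟩)
  · refine sup_le ?_ (hfg ▸ le_sup_right)
    exact le_aux D hadd hmul f g (fun s => hfg ▸ Ideal.subset_span ⟨s, rfl⟩)

end

theorem main (k : Type u) [Field k] (n m l r : ℕ)
    (f : Fin m → MvPowerSeries (Fin n) k) (g : Fin l → MvPowerSeries (Fin n) k)
    (hfg : Ideal.span (Set.range f) = Ideal.span (Set.range g)) :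
    Ideal.span {d : MvPowerSeries (Fin n) k | ∃ (ρ : Fin r → Fin m) (γ : Fin r → Fin n), Function.Injective ρ ∧ Function.Injective γ ∧
          d = ((Matrix.of fun (j : Fin m) (i : Fin n) => MvPowerSeries.pderiv k i (f j)).submatrix ρ γ).det} ⊔ Ideal.span (Set.range f) =
      Ideal.span {d : MvPowerSeries (Fin n) k | ∃ (ρ : Fin r → Fin l) (γ : Fin r → Fin n), Function.Injective ρ ∧ Function.Injective γ ∧
          d = ((Matrix.of fun (j : Fin l) (i : Fin n) => MvPowerSeries.pderiv k i (g j)).submatrix ρ γ).det} ⊔ Ideal.span (Set.range g) :=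
  main_aux (fun i x => MvPowerSeries.pderiv k i x) (fun i a b => map_add _ a b)
    (fun i a b => by simp [Derivation.leibniz]) f g hfg

end Groth.Agent.H15.JacMinors
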