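import Mathlib
import Groth.Prelude.Def_W4c2quivmodsheafKron

universe u v w

open Module

namespace Groth.Agent.H15.KronTwo

variable {K : Type u} [Field K] {V : Type v} {W : Type w}
  [AddCommGroup V] [Module K V] [FiniteDimensional K V]
  [AddCommGroup W] [Module K W] [FiniteDimensional K W]

theorem main [Infinite K] (f : Fin 2 → (V →ₗ[K] W)) (k : ℕ)
    (hV : Module.finrank K V = k) (hW : Module.finrank K W = k)
    (hf : KronMod.IsSemistable f) :
    ∃ z : Fin 2 → K, Function.Bijective ((∑ j, z j • f j : V →ₗ[K] W) : V → W) := by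
  classical
  by_contra hno
  push Not at hno
  have hdim : finrank K V = finrank K W := by rw [hV, hW]
  have hk : 0 < k := by
    have := hf.1
    rw [hV, hW] at this
    omega
  have hbij : ∀ g : V →ₗ[K] W, Function.Injective g → Function.Bijective g := fun g hg =>
    ⟨hg, (LinearMap.injective_iff_surjective_of_finrank_eq_finrank hdim).1 hg⟩
  have hsum : ∀ a b : K, (∑ j, (![a, b] : Fin 2 → K) j • f j) = a • f 0 + b • f 1 := by
    intro a b
    rw [Fin.sum_univ_two]
    rfl
  have hker : ∀ t : K, ∃ v : V, v ≠ 0 ∧ v ∈ LinearMap.ker (f 0 + t • f 1) := by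
    intro t
    by_contra hcon
    push Not at hcon
    have hinj : Function.Injective (f 0 + t • f 1) := by
      rw [← LinearMap.ker_eq_bot, eq_bot_iff]
      intro v hv
      by_contra hv0
      exact hcon v hv0 hv
    have := hno ![1, t]
    rw [hsum, one_smul] at this
    exact this (hbij _ hinj)
  let N : K → Submodule K V := fun t => LinearMap.ker (f 0 + t • f 1)
  let V' : Submodule K V := ⨆ t, N t
  let W' : Submodule K W := V'.map (f 1)
  have hNle : ∀ t, N t ≤ V' := fun t => le_iSup N t
  have hrel : ∀ t (v : V), v ∈ N t → f 0 v = f 1 (-(t • v)) := by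
    intro t v hv
    have h1 : f 0 v + t • f 1 v = 0 := hv
    rw [map_neg, map_smul]
    exact eq_neg_of_add_eq_zero_left h1
  have hsub : KronMod.IsSubrep f V' W' := by
    intro j
    fin_cases j
    · change V'.map (f 0) ≤ W'
      rw [Submodule.map_iSup]
      refine iSup_le fun t => ?_
      rintro w ⟨v, hv, rfl⟩
      rw [hrel t v hv]
      exact Submodule.mem_map_of_mem (hNle t ((N t).neg_mem ((N t).smul_mem t hv)))
    · exact le_rfl
  have hV'ne : V' ≠ ⊥ := by
    obtain ⟨v, hv0, hv⟩ := hker 0
    intro h
    have : v ∈ V' := hNle 0 hv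
    rw [h, Submodule.mem_bot] at this
    exact hv0 this
  by_cases htop : V' = ⊤ ∧ W' = ⊤
  · have hs : Function.Surjective (f 1) := by
      rw [← LinearMap.range_eq_top, ← Submodule.map_top, ← htop.1]
      exact htop.2
    have hb : Function.Bijective (f 1) :=
      ⟨(LinearMap.injective_iff_surjective_of_finrank_eq_finrank hdim).2 hs, hs⟩
    have := hno ![0, 1]
    rw [hsum, zero_smul, one_smul, zero_add] at this
    exact this hb
  · have h1 := hf.2 V' W' hsub (fun h => hV'ne h.1) htop
    rw [hV, hW] at h1
    have h2 : finrank K V' ≤ finrank K W' := Nat.le_of_mul_le_mul_left h1 hk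
    let φ₁ : V' →ₗ[K] W := (f 1).domRestrict V'
    have hrange : LinearMap.range φ₁ = W' := LinearMap.range_domRestrict _ _
    have hinj : Function.Injective φ₁ := by
      rw [← LinearMap.ker_eq_bot]
      have h3 := LinearMap.finrank_range_add_finrank_ker φ₁
      rw [hrange] at h3
      have h4 : finrank K (LinearMap.ker φ₁) = 0 := by omega
      exact Submodule.finrank_eq_zero.1 h4
    let e : V' ≃ₗ[K] LinearMap.range φ₁ := LinearEquiv.ofInjective φ₁ hinj
    have hφ₀ : ∀ v : V', f 0 v ∈ LinearMap.range φ₁ := by
      intro v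
      rw [hrange]
      exact hsub 0 (Submodule.mem_map_of_mem v.2)
    let φ₀ : V' →ₗ[K] LinearMap.range φ₁ :=
      LinearMap.codRestrict (LinearMap.range φ₁) ((f 0).domRestrict V') hφ₀
    let g : Module.End K V' := (e.symm : LinearMap.range φ₁ →ₗ[K] V') ∘ₗ φ₀
    have heig : ∀ t : K, g.HasEigenvalue (-t) := by
      intro t
      obtain ⟨v, hv0, hv⟩ := hker t
      let v' : V' := ⟨v, hNle t hv⟩
      apply Module.End.hasEigenvalue_of_hasEigenvector (x := v')
      refine ⟨?_, fun h => hv0 (congrArg Subtype.val h)⟩
      rw [Module.End.mem_eigenspace_iff]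
      apply e.injective
      change e (e.symm (φ₀ v')) = e ((-t) • v')
      rw [LinearEquiv.apply_symm_apply]
      apply Subtype.ext
      change f 0 v = f 1 ((-t) • v)
      rw [hrel t v hv, neg_smul]
    have hfin := g.finite_hasEigenvalue
    have hinf : Set.Infinite {μ : K | g.HasEigenvalue μ} := by
      have : {μ : K | g.HasEigenvalue μ} = Set.univ := by
        ext μ
        simp only [Set.mem_ofPred_eq, Set.mem_univ, iff_true]
        have := heig (-μ)
        rwa [neg_neg] at this
      rw [this]
      exact Set.infinite_univ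
    exact hinf hfin

end Groth.Agent.H15.KronTwo
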