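import Groth.Prelude.Def_W4c1nerontoraddGraph
import Mathlib
set_option autoImplicit false
universe u

namespace Groth.Agent.H15.LabGraphAux

open Finset

variable {V E : Type u} [Fintype V] [Fintype E] [DecidableEq V] [DecidableEq E]

theorem sum_mul_mdeg (ends : E → V × V) (l : E → ℕ) (φ : V → ℤ)
    (hφ : LabGraph.IsCartier ends l φ) :
    ∑ v, φ v * LabGraph.mdeg ends l φ v =
      -∑ e, (l e : ℤ) * ((φ (ends e).1 - φ (ends e).2) / (l e : ℤ)) ^ 2 := by
  unfold LabGraph.mdeg
  simp_rw [Finset.mul_sum]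
  rw [Finset.sum_comm, ← Finset.sum_neg_distrib]
  apply Finset.sum_congr rfl
  intro e _
  obtain ⟨d, hd⟩ := hφ e
  have h2 : φ (ends e).2 - φ (ends e).1 = (l e : ℤ) * (-d) := by rw [mul_neg, ← hd]; ring
  by_cases hl : (l e : ℤ) = 0
  · simp [hl]
  · rw [hd, h2, Int.mul_ediv_cancel_left _ hl, Int.mul_ediv_cancel_left _ hl]
    simp_rw [mul_add, mul_ite, mul_zero]
    rw [Finset.sum_add_distrib, Finset.sum_ite_eq, Finset.sum_ite_eq]
    simp only [mem_univ, if_true]
    have : φ (ends e).1 = φ (ends e).2 + (l e : ℤ) * d := by linarith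
    rw [this]
    ring

theorem mdeg_eq_zero_iff (ends : E → V × V) (l : E → ℕ) (hl : ∀ e, 0 < l e)
    (hconn : LabGraph.Connected ends) (φ : V → ℤ) (hφ : LabGraph.IsCartier ends l φ) :
    (∀ v : V, LabGraph.mdeg ends l φ v = 0) ↔ ∀ v w : V, φ v = φ w := by
  constructor
  · intro h
    have h1 := sum_mul_mdeg ends l φ hφ
    have h0 : ∑ v, φ v * LabGraph.mdeg ends l φ v = 0 :=
      Finset.sum_eq_zero fun v _ => by rw [h v, mul_zero]
    rw [h0] at h1
    have hnn : ∀ e ∈ (univ : Finset E),
        0 ≤ (l e : ℤ) * ((φ (ends e).1 - φ (ends e).2) / (l e : ℤ)) ^ 2 :=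
      fun e _ => mul_nonneg (by positivity) (sq_nonneg _)
    have h2 : ∑ e, (l e : ℤ) * ((φ (ends e).1 - φ (ends e).2) / (l e : ℤ)) ^ 2 = 0 := by linarith
    have h3 := (Finset.sum_eq_zero_iff_of_nonneg hnn).mp h2
    have hedge : ∀ e, φ (ends e).1 = φ (ends e).2 := by
      intro e
      have := h3 e (mem_univ e)
      have hle : (l e : ℤ) ≠ 0 := by exact_mod_cast (hl e).ne'
      have h4 := (mul_eq_zero.mp this).resolve_left hle
      have h5 : (φ (ends e).1 - φ (ends e).2) / (l e : ℤ) = 0 := pow_eq_zero_iff (two_ne_zero) |>.mp h4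
      obtain ⟨d, hd⟩ := hφ e
      rw [hd, Int.mul_ediv_cancel_left _ hle] at h5
      rw [h5, mul_zero] at hd
      linarith
    have hadj : ∀ v w, LabGraph.Adj ends v w → φ v = φ w := by
      rintro v w ⟨e, he | he⟩
      · have := hedge e
        rw [he] at this
        exact this
      · have := hedge e
        rw [he] at this
        exact this.symm
    intro v w
    have := hconn.2 v w
    induction this with
    | refl => rfl
    | tail _ hab ih => exact ih.trans (hadj _ _ hab)
  · intro h v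
    unfold LabGraph.mdeg
    apply Finset.sum_eq_zero
    intro e _
    rw [h (ends e).1 (ends e).2]
    simp

end Groth.Agent.H15.LabGraphAux
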