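import Mathlib

set_option autoImplicit false
universe u

namespace Groth.Agent.H15.LatMat

open Matrix

variable (O : Type u) [CommRing O] [IsDomain O] (K : Type u) [Field K] [Algebra O K]
  [IsFractionRing O K]

/-- the standard basis vector lies in `O^n` -/
theorem single_mem (n : ℕ) (j : Fin n) :
    (Pi.single j (1 : K) : Fin n → K) ∈
      Submodule.pi Set.univ (fun _ : Fin n => (1 : Submodule O K)) := by
  classical
  rw [Submodule.mem_pi]
  intro i _
  by_cases h : i = j
  · subst h
    rw [Pi.single_eq_same]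
    exact Submodule.one_le.mp le_rfl
  · rw [Pi.single_eq_of_ne h]
    exact Submodule.zero_mem _

/-- an `O`-linear map between lattices containing `O^n` is given by the matrix of images of the
standard basis -/
theorem formula (n : ℕ) (M N : Submodule O (Fin n → K))
    (hM1 : Submodule.pi Set.univ (fun _ : Fin n => (1 : Submodule O K)) ≤ M)
    (φ : ↥M →ₗ[O] ↥N) (x : ↥M) :
    ((φ x : ↥N) : Fin n → K) =
      (Matrix.of fun i j => ((φ ⟨Pi.single j (1 : K), hM1 (single_mem O K n j)⟩ : ↥N) : Fin n → K) i).mulVec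
        (x : Fin n → K) := by
  classical
  obtain ⟨d, hd⟩ := IsLocalization.exist_integer_multiples (nonZeroDivisors O) Finset.univ
    (fun i => (x : Fin n → K) i)
  choose c hc using fun i => hd i (Finset.mem_univ i)
  have hd0 : algebraMap O K (d : O) ≠ 0 := by
    intro h0
    have := (IsFractionRing.injective O K) (h0.trans (map_zero _).symm)
    exact nonZeroDivisors.coe_ne_zero d this
  set e : Fin n → ↥M := fun j => ⟨Pi.single j (1 : K), hM1 (single_mem O K n j)⟩ with he
  have hx : (d : O) • x = ∑ i, c i • e i := by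
    apply Subtype.ext
    rw [Submodule.coe_smul, Submodule.coe_sum]
    ext k
    rw [Pi.smul_apply, Finset.sum_apply]
    simp only [Submodule.coe_smul, Pi.smul_apply, he]
    rw [Finset.sum_eq_single k]
    · rw [Pi.single_eq_same, Algebra.smul_def (c k), mul_one, hc k]
    · intro b _ hb
      rw [Pi.single_eq_of_ne (Ne.symm hb), smul_zero]
    · intro h; exact absurd (Finset.mem_univ k) h
  have h1 := congrArg (fun z => ((φ z : ↥N) : Fin n → K)) hx
  simp only [map_smul, map_sum, Submodule.coe_smul, Submodule.coe_sum] at h1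
  ext k
  have h2 := congrFun h1 k
  rw [Pi.smul_apply, Finset.sum_apply] at h2
  simp only [Pi.smul_apply] at h2
  have h3 : (d : O) • (Matrix.of fun i j => ((φ (e j) : ↥N) : Fin n → K) i).mulVec
      (x : Fin n → K) k = ∑ i, c i • ((φ (e i) : ↥N) : Fin n → K) k := by
    rw [Matrix.mulVec, dotProduct, Finset.smul_sum]
    apply Finset.sum_congr rfl
    intro i _
    rw [Matrix.of_apply, Algebra.smul_def, Algebra.smul_def, hc i, Algebra.smul_def]
    ring
  rw [← h3, Algebra.smul_def, Algebra.smul_def] at h2
  exact mul_left_cancel₀ hd0 h2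

theorem main (n : ℕ) (M N : Submodule O (Fin n → K))
    (hM1 : Submodule.pi Set.univ (fun _ : Fin n => (1 : Submodule O K)) ≤ M)
    (hM2 : M ≤ Submodule.pi Set.univ (fun _ : Fin n => (Subalgebra.toSubmodule (integralClosure O K))))
    (hN1 : Submodule.pi Set.univ (fun _ : Fin n => (1 : Submodule O K)) ≤ N)
    (hN2 : N ≤ Submodule.pi Set.univ (fun _ : Fin n => (Subalgebra.toSubmodule (integralClosure O K))))
    (φ : ↥M ≃ₗ[O] ↥N) :
    ∃ A : Matrix (Fin n) (Fin n) ↥(integralClosure O K), IsUnit A ∧
      ∀ x : ↥M, ((φ x : ↥N) : Fin n → K) =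
        (A.map (algebraMap ↥(integralClosure O K) K)).mulVec (x : Fin n → K) := by
  classical
  set eM : Fin n → ↥M := fun j => ⟨Pi.single j (1 : K), hM1 (single_mem O K n j)⟩ with heM
  set eN : Fin n → ↥N := fun j => ⟨Pi.single j (1 : K), hN1 (single_mem O K n j)⟩ with heN
  let AK : Matrix (Fin n) (Fin n) K := Matrix.of fun i j => ((φ (eM j) : ↥N) : Fin n → K) i
  let BK : Matrix (Fin n) (Fin n) K := Matrix.of fun i j => ((φ.symm (eN j) : ↥M) : Fin n → K) i
  have hA : ∀ i j, AK i j ∈ integralClosure O K := by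
    intro i j
    have := hN2 (φ (eM j)).2
    rw [Submodule.mem_pi] at this
    exact this i (Set.mem_univ i)
  have hB : ∀ i j, BK i j ∈ integralClosure O K := by
    intro i j
    have := hM2 (φ.symm (eN j)).2
    rw [Submodule.mem_pi] at this
    exact this i (Set.mem_univ i)
  let A : Matrix (Fin n) (Fin n) ↥(integralClosure O K) := Matrix.of fun i j => ⟨AK i j, hA i j⟩
  let B : Matrix (Fin n) (Fin n) ↥(integralClosure O K) := Matrix.of fun i j => ⟨BK i j, hB i j⟩
  have hAmap : A.map (algebraMap ↥(integralClosure O K) K) = AK := by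
    ext i j; rfl
  have hBmap : B.map (algebraMap ↥(integralClosure O K) K) = BK := by
    ext i j; rfl
  have hfA : ∀ x : ↥M, ((φ x : ↥N) : Fin n → K) = AK.mulVec (x : Fin n → K) := fun x =>
    formula O K n M N hM1 φ.toLinearMap x
  have hfB : ∀ y : ↥N, ((φ.symm y : ↥M) : Fin n → K) = BK.mulVec (y : Fin n → K) := fun y =>
    formula O K n N M hN1 φ.symm.toLinearMap y
  have hAB : AK * BK = 1 := by
    ext i j
    have h1 := hfA (φ.symm (eN j))
    rw [LinearEquiv.apply_symm_apply, hfB, Matrix.mulVec_mulVec] at h1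
    have h2 := congrFun h1 i
    simp only [heN] at h2
    rw [Matrix.mulVec_single_one, Matrix.col_apply] at h2
    rw [Matrix.one_apply, ← h2, Pi.single_apply]
  refine ⟨A, ?_, fun x => by rw [hAmap]; exact hfA x⟩
  have hAB' : A * B = 1 := by
    have hinj := Matrix.map_injective (m := Fin n) (n := Fin n)
      (f := algebraMap ↥(integralClosure O K) K) (Subtype.val_injective)
    apply hinj
    change (A * B).map (algebraMap ↥(integralClosure O K) K) =
      (1 : Matrix (Fin n) (Fin n) ↥(integralClosure O K)).map (algebraMap ↥(integralClosure O K) K)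
    rw [Matrix.map_mul, hAmap, hBmap, hAB, Matrix.map_one _ (map_zero _) (map_one _)]
  rw [Matrix.isUnit_iff_isUnit_det]
  exact Matrix.isUnit_det_of_right_inverse hAB'

end Groth.Agent.H15.LatMat
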