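import Mathlib

set_option autoImplicit false

namespace Groth.Agent.H15.Lattice

open Finset

theorem cons_zero_eq_single (s : ℕ) (D : ℤ) :
    (Fin.cons D (0 : Fin s → ℤ) : Fin (s + 1) → ℤ) = Pi.single 0 D := by
  funext i
  refine Fin.cases ?_ (fun k => ?_) i
  · simp
  · rw [Fin.cons_succ, Pi.single_eq_of_ne (Fin.succ_ne_zero k)]
    rfl

theorem normal_form (s : ℕ) (d : Fin (s + 1) → ℤ) :
    ∃ e : (Fin (s + 1) → ℤ) ≃ₗ[ℤ] (Fin (s + 1) → ℤ), e d = Pi.single 0 (Finset.univ.gcd d) := by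
  classical
  by_cases hD0 : Finset.univ.gcd d = 0
  · refine ⟨LinearEquiv.refl _ _, ?_⟩
    have hd0 : d = 0 := by
      funext i
      exact (Finset.gcd_eq_zero_iff.mp hD0) i (Finset.mem_univ i)
    rw [hD0, hd0]; simp
  · obtain ⟨a, ha⟩ := Finset.gcd_eq_sum_mul (Finset.univ : Finset (Fin (s + 1))) d
    have hdvd : ∀ i, Finset.univ.gcd d ∣ d i := fun i => Finset.gcd_dvd (Finset.mem_univ i)
    choose d' hd' using hdvd
    set D := Finset.univ.gcd d with hD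
    have h1 : ∑ i, d' i * a i = 1 := by
      have : D * ∑ i, d' i * a i = D * 1 := by
        rw [mul_one, Finset.mul_sum]
        conv_rhs => rw [ha]
        apply Finset.sum_congr rfl
        intro i _
        conv_rhs => rw [hd' i]
        ring
      exact mul_left_cancel₀ hD0 this
    let lam : (Fin (s + 1) → ℤ) →ₗ[ℤ] ℤ :=
      ∑ i, a i • (LinearMap.proj i : (Fin (s + 1) → ℤ) →ₗ[ℤ] ℤ)
    have lam_apply : ∀ x, lam x = ∑ i, a i * x i := by
      intro x; simp [lam, LinearMap.sum_apply]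
    have hlam : lam d' = 1 := by
      rw [lam_apply, ← h1]; exact Finset.sum_congr rfl (fun i _ => mul_comm _ _)
    have hdD : d = D • d' := by
      funext i; simp [hd' i]
    let W : Submodule ℤ (Fin (s + 1) → ℤ) := LinearMap.ker lam
    let π : (Fin (s + 1) → ℤ) →ₗ[ℤ] W :=
      LinearMap.codRestrict W
        (LinearMap.id - (LinearMap.toSpanSingleton ℤ (Fin (s + 1) → ℤ) d').comp lam)
        (fun x => by
          rw [LinearMap.mem_ker]
          simp only [LinearMap.sub_apply, LinearMap.id_coe, id_eq, LinearMap.comp_apply,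
            LinearMap.toSpanSingleton_apply, map_sub, map_smul, hlam, smul_eq_mul, mul_one,
            sub_self])
    have hπ : ∀ x, ((π x : W) : Fin (s + 1) → ℤ) = x - lam x • d' := by
      intro x
      simp only [π, LinearMap.codRestrict_apply, LinearMap.sub_apply, LinearMap.id_coe, id_eq,
        LinearMap.comp_apply, LinearMap.toSpanSingleton_apply]
    let f : (Fin (s + 1) → ℤ) →ₗ[ℤ] ℤ × W := lam.prod π
    let g : ℤ × W →ₗ[ℤ] (Fin (s + 1) → ℤ) :=
      (LinearMap.toSpanSingleton ℤ (Fin (s + 1) → ℤ) d').coprod W.subtype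
    have hf : ∀ x, f x = (lam x, π x) := fun x => rfl
    have hg : ∀ (t : ℤ) (w : W), g (t, w) = t • d' + (w : Fin (s + 1) → ℤ) := by
      intro t w
      simp only [g, LinearMap.coprod_apply, LinearMap.toSpanSingleton_apply,
        Submodule.subtype_apply]
    have hgf : ∀ x, g (f x) = x := by
      intro x
      rw [hf, hg, hπ]
      abel
    have hfg : ∀ p, f (g p) = p := by
      rintro ⟨t, w⟩
      have hw : lam (w : Fin (s + 1) → ℤ) = 0 := w.2
      have h4 : lam (t • d' + (w : Fin (s + 1) → ℤ)) = t := by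
        rw [map_add, map_smul, hlam, hw, smul_eq_mul, mul_one, add_zero]
      rw [hg, hf]
      apply Prod.ext
      · exact h4
      · apply Subtype.ext
        rw [hπ, h4]
        abel
    let e₁ : (Fin (s + 1) → ℤ) ≃ₗ[ℤ] ℤ × W :=
      LinearEquiv.ofLinearMap f g (LinearMap.ext fun p => hfg p) (LinearMap.ext fun x => hgf x)
    have hfr : Module.finrank ℤ W = s := by
      have h2 := e₁.finrank_eq
      rw [Module.finrank_prod, Module.finrank_self, Module.finrank_fin_fun] at h2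
      omega
    let eW : W ≃ₗ[ℤ] (Fin s → ℤ) :=
      LinearEquiv.ofFinrankEq W (Fin s → ℤ) (by rw [hfr, Module.finrank_fin_fun])
    let e : (Fin (s + 1) → ℤ) ≃ₗ[ℤ] (Fin (s + 1) → ℤ) :=
      e₁ ≪≫ₗ (LinearEquiv.prodCongr (LinearEquiv.refl ℤ ℤ) eW) ≪≫ₗ
        Fin.consLinearEquiv ℤ (fun _ : Fin (s + 1) => ℤ)
    refine ⟨e, ?_⟩
    have hlamd : lam d = D := by rw [hdD, map_smul, hlam, smul_eq_mul, mul_one]
    have hπd : π d = 0 := by
      apply Subtype.ext
      rw [hπ, hlamd, ← hdD, sub_self]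
      rfl
    have h3 : e₁ d = (D, 0) := Prod.ext hlamd hπd
    show Fin.consLinearEquiv ℤ (fun _ : Fin (s + 1) => ℤ)
      ((LinearEquiv.prodCongr (LinearEquiv.refl ℤ ℤ) eW) (e₁ d)) = _
    rw [h3]
    simp only [LinearEquiv.prodCongr_apply, LinearEquiv.refl_apply, map_zero,
      Fin.consLinearEquiv_apply]
    exact cons_zero_eq_single s D


/-! ### ZMod lemmas -/

theorem gdvd (δ : ℕ) (a : ℤ) : Int.gcd δ a ∣ δ :=
  Int.natCast_dvd_natCast.mp (Int.gcd_dvd_left (δ : ℤ) a)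

theorem ker_cast (δ : ℕ) (a : ℤ) (y : ZMod δ)
    (hy : ZMod.castHom (gdvd δ a) (ZMod (Int.gcd δ a)) y = 0) :
    ∃ t : ℤ, y = ((a * t : ℤ) : ZMod δ) := by
  obtain ⟨n, rfl⟩ := ZMod.intCast_surjective y
  rw [map_intCast, ZMod.intCast_zmod_eq_zero_iff_dvd] at hy
  obtain ⟨q, hq⟩ := hy
  have hb := Int.gcd_eq_gcd_ab (δ : ℤ) a
  refine ⟨Int.gcdB δ a * q, ?_⟩
  rw [ZMod.intCast_eq_intCast_iff_dvd_sub]
  refine ⟨- Int.gcdA δ a * q, ?_⟩
  rw [hq, hb]; ring

theorem cast_dvd_eq_zero (δ : ℕ) (a n : ℤ) (h : (Int.gcd δ a : ℤ) ∣ n) :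
    ZMod.castHom (gdvd δ a) (ZMod (Int.gcd δ a)) ((n : ℤ) : ZMod δ) = 0 := by
  rw [map_intCast, ZMod.intCast_zmod_eq_zero_iff_dvd]
  exact h

/-! ### The main computation -/

section main

variable {s δ : ℕ} {g : ℤ} (hδ : (δ : ℤ) ∣ 2 * (g - 1)) {d : Fin (s + 1) → ℤ}

/-- the generating set -/
abbrev S (s δ : ℕ) (g : ℤ) (d : Fin (s + 1) → ℤ) : Set ((Fin (s + 1) → ℤ) →+ ZMod δ) :=
  {φ | ∃ b : LinearMap.BilinForm ℤ (Fin (s + 1) → ℤ), b.IsSymm ∧
      ∀ x, φ x = ((b d x + (1 - g) * b x x : ℤ) : ZMod δ)}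

include hδ in
theorem psi_add (b : LinearMap.BilinForm ℤ (Fin (s + 1) → ℤ)) (hb : b.IsSymm)
    (x y : Fin (s + 1) → ℤ) :
    ((b d (x + y) + (1 - g) * b (x + y) (x + y) : ℤ) : ZMod δ) =
      ((b d x + (1 - g) * b x x : ℤ) : ZMod δ) + ((b d y + (1 - g) * b y y : ℤ) : ZMod δ) := by
  rw [← Int.cast_add, ZMod.intCast_eq_intCast_iff_dvd_sub]
  obtain ⟨q, hq⟩ := hδ
  refine ⟨q * b x y, ?_⟩
  have hsym : b y x = b x y := hb.eq y x
  simp only [map_add, LinearMap.add_apply, hsym]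
  linear_combination (b x y) * hq

/-- the additive map attached to a symmetric form -/
noncomputable def psiHom (b : LinearMap.BilinForm ℤ (Fin (s + 1) → ℤ)) (hb : b.IsSymm) :
    (Fin (s + 1) → ℤ) →+ ZMod δ :=
  AddMonoidHom.mk' (fun x => ((b d x + (1 - g) * b x x : ℤ) : ZMod δ)) (psi_add hδ b hb)

theorem hom_ext' (e : (Fin (s + 1) → ℤ) ≃ₗ[ℤ] (Fin (s + 1) → ℤ)) {A : Type*} [AddCommGroup A]
    (f f' : (Fin (s + 1) → ℤ) →+ A)
    (h : ∀ j, f (e.symm (Pi.single j 1)) = f' (e.symm (Pi.single j 1))) : f = f' := by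
  have h2 : f.toIntLinearMap ∘ₗ e.symm.toLinearMap = f'.toIntLinearMap ∘ₗ e.symm.toLinearMap := by
    apply (Pi.basisFun ℤ (Fin (s + 1))).ext
    intro j
    simpa using h j
  refine DFunLike.ext _ _ (fun x => ?_)
  have := LinearMap.congr_fun h2 (e x)
  simpa using this

/-- linear extension along the basis -/
noncomputable def lin (e : (Fin (s + 1) → ℤ) ≃ₗ[ℤ] (Fin (s + 1) → ℤ)) (y : Fin (s + 1) → ZMod δ) :
    (Fin (s + 1) → ℤ) →+ ZMod δ :=
  AddMonoidHom.mk' (fun x => ∑ i, ((e x i : ℤ) : ZMod δ) * y i) (by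
    intro x x'
    simp only [map_add, Pi.add_apply, Int.cast_add, add_mul, Finset.sum_add_distrib])

theorem lin_basis (e : (Fin (s + 1) → ℤ) ≃ₗ[ℤ] (Fin (s + 1) → ℤ)) (y : Fin (s + 1) → ZMod δ)
    (j : Fin (s + 1)) : lin e y (e.symm (Pi.single j 1)) = y j := by
  classical
  show ∑ i, ((e (e.symm (Pi.single j 1)) i : ℤ) : ZMod δ) * y i = y j
  rw [LinearEquiv.apply_symm_apply, Finset.sum_eq_single j]
  · simp
  · intro i _ hij
    rw [Pi.single_eq_of_ne hij]; simp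
  · intro h; exact absurd (Finset.mem_univ j) h

/-- the comparison map -/
noncomputable def Psi (s δ : ℕ) (a₁ a₂ : ℤ) (v : Fin (s + 1) → (Fin (s + 1) → ℤ)) :
    ((Fin (s + 1) → ℤ) →+ ZMod δ) →+ ZMod (Int.gcd δ a₁) × (Fin s → ZMod (Int.gcd δ a₂)) where
  toFun φ := (ZMod.castHom (gdvd δ a₁) (ZMod (Int.gcd δ a₁)) (φ (v 0)),
    fun k => ZMod.castHom (gdvd δ a₂) (ZMod (Int.gcd δ a₂)) (φ (v k.succ)))
  map_zero' := by
    apply Prod.ext
    · exact map_zero (ZMod.castHom (gdvd δ a₁) (ZMod (Int.gcd δ a₁)))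
    · funext k; exact map_zero (ZMod.castHom (gdvd δ a₂) (ZMod (Int.gcd δ a₂)))
  map_add' φ φ' := by
    apply Prod.ext
    · exact map_add (ZMod.castHom (gdvd δ a₁) (ZMod (Int.gcd δ a₁))) _ _
    · funext k; exact map_add (ZMod.castHom (gdvd δ a₂) (ZMod (Int.gcd δ a₂))) _ _

theorem Psi_surjective (e : (Fin (s + 1) → ℤ) ≃ₗ[ℤ] (Fin (s + 1) → ℤ)) (a₁ a₂ : ℤ) :
    Function.Surjective (Psi s δ a₁ a₂ (fun j => e.symm (Pi.single j 1))) := by
  rintro ⟨y₀, y⟩
  obtain ⟨z₀, hz₀⟩ := ZMod.castHom_surjective (gdvd δ a₁) y₀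
  choose z hz using fun k => ZMod.castHom_surjective (gdvd δ a₂) (y k)
  refine ⟨lin e (Fin.cons z₀ z), ?_⟩
  apply Prod.ext
  · show ZMod.castHom (gdvd δ a₁) (ZMod (Int.gcd δ a₁)) (lin e (Fin.cons z₀ z) (e.symm (Pi.single 0 1))) = y₀
    rw [lin_basis, Fin.cons_zero, hz₀]
  · funext k
    show ZMod.castHom (gdvd δ a₂) (ZMod (Int.gcd δ a₂)) (lin e (Fin.cons z₀ z) (e.symm (Pi.single k.succ 1))) = y k
    rw [lin_basis, Fin.cons_succ, hz]

include hδ in
theorem ker_Psi (e : (Fin (s + 1) → ℤ) ≃ₗ[ℤ] (Fin (s + 1) → ℤ))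
    (he : e d = Pi.single 0 (Finset.univ.gcd d)) :
    (Psi s δ (Finset.univ.gcd d + 1 - g) (Int.gcd (g - 1) (Finset.univ.gcd d))
      (fun j => e.symm (Pi.single j 1))).ker = AddSubgroup.closure (S s δ g d) := by
  classical
  set D := Finset.univ.gcd d with hD
  set v : Fin (s + 1) → (Fin (s + 1) → ℤ) := fun j => e.symm (Pi.single j 1) with hv
  have hdv : d = D • v 0 := by
    have h1 : (Pi.single 0 D : Fin (s + 1) → ℤ) = D • Pi.single 0 1 := by
      rw [← Pi.single_smul, smul_eq_mul, mul_one]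
    rw [hv]
    simp only
    rw [← map_smul, ← h1, ← he, LinearEquiv.symm_apply_apply]
  have hm₂D : ((Int.gcd (δ : ℤ) (Int.gcd (g - 1) D) : ℕ) : ℤ) ∣ D :=
    (Int.gcd_dvd_right (δ : ℤ) _).trans (Int.gcd_dvd_right (g - 1) D)
  have hm₂g : ((Int.gcd (δ : ℤ) (Int.gcd (g - 1) D) : ℕ) : ℤ) ∣ 1 - g := by
    have : ((Int.gcd (δ : ℤ) (Int.gcd (g - 1) D) : ℕ) : ℤ) ∣ g - 1 :=
      (Int.gcd_dvd_right (δ : ℤ) _).trans (Int.gcd_dvd_left (g - 1) D)
    have h : (1 - g) = -(g - 1) := by ring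
    rw [h]; exact (dvd_neg).mpr this
  apply le_antisymm
  · -- ker ≤ closure
    intro φ hφ
    rw [AddMonoidHom.mem_ker] at hφ
    have hφ1 : ZMod.castHom (gdvd δ (D + 1 - g)) (ZMod (Int.gcd δ (D + 1 - g))) (φ (v 0)) = 0 := congrArg Prod.fst hφ
    have hφ2 : ∀ k : Fin s, ZMod.castHom (gdvd δ (Int.gcd (g - 1) D)) (ZMod (Int.gcd δ (Int.gcd (g - 1) D))) (φ (v k.succ)) = 0 :=
      fun k => congrFun (congrArg Prod.snd hφ) k
    obtain ⟨t₀, ht₀⟩ := ker_cast δ _ _ hφ1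
    choose t ht using fun k => ker_cast δ _ _ (hφ2 k)
    have hbez := Int.gcd_eq_gcd_ab (g - 1) D
    set A := Int.gcdA (g - 1) D
    set B := Int.gcdB (g - 1) D
    let γ : Fin (s + 1) → ℤ := Fin.cons t₀ (fun k => - A * t k)
    let β : Fin (s + 1) → ℤ := Fin.cons 0 (fun k => B * t k)
    let M : Matrix (Fin (s + 1)) (Fin (s + 1)) ℤ := fun i j =>
      if i = j then γ i else if i = 0 then β j else if j = 0 then β i else 0
    have hMsymm : ∀ i j, M i j = M j i := by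
      intro i j
      simp only [M]
      by_cases hij : i = j
      · subst hij; rfl
      · have hji : ¬ j = i := fun h => hij h.symm
        rw [if_neg hij, if_neg hji]
        by_cases hi : i = 0
        · have hj : ¬ j = 0 := fun h => hij (hi.trans h.symm)
          rw [if_pos hi, if_neg hj, if_pos hi]
        · rw [if_neg hi]
          by_cases hj : j = 0
          · rw [if_pos hj, if_pos hj]
          · rw [if_neg hj, if_neg hj, if_neg hi]
    have hB0symm : (Matrix.toBilin' M).IsSymm := by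
      rw [LinearMap.BilinForm.isSymm_iff_basis (Pi.basisFun ℤ (Fin (s + 1)))]
      intro i j
      simp only [Pi.basisFun_apply, Matrix.toBilin'_single]
      exact hMsymm i j
    let b : LinearMap.BilinForm ℤ (Fin (s + 1) → ℤ) :=
      (Matrix.toBilin' M).comp e.toLinearMap e.toLinearMap
    have hb_apply : ∀ x y, b x y = Matrix.toBilin' M (e x) (e y) := fun x y => rfl
    have hb : b.IsSymm := ⟨fun x y => by rw [hb_apply, hb_apply, hB0symm.eq]⟩
    have hbv : ∀ i j, b (v i) (v j) = M i j := by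
      intro i j
      rw [hb_apply, hv]
      simp only [LinearEquiv.apply_symm_apply, Matrix.toBilin'_single]
    have hbd : ∀ j, b d (v j) = D * M 0 j := by
      intro j
      rw [hdv, map_smul, LinearMap.smul_apply, hbv, smul_eq_mul]
    have hφeq : φ = psiHom hδ (d := d) b hb := by
      apply hom_ext' e
      intro j
      show φ (v j) = ((b d (v j) + (1 - g) * b (v j) (v j) : ℤ) : ZMod δ)
      rw [hbd, hbv]
      refine Fin.cases ?_ (fun k => ?_) j
      · rw [ht₀]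
        have : M 0 0 = t₀ := by simp [M, γ]
        rw [this]
        congr 1; ring
      · rw [ht k]
        have hne : ¬ (0 : Fin (s + 1)) = k.succ := (Fin.succ_ne_zero k).symm
        have h1 : M 0 k.succ = B * t k := by
          simp [M, β, hne]
        have h2 : M k.succ k.succ = - A * t k := by
          simp [M, γ]
        rw [h1, h2, hbez]
        congr 1; ring
    apply AddSubgroup.subset_closure
    refine ⟨b, hb, fun x => ?_⟩
    rw [hφeq]; rfl
  · -- closure ≤ ker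
    rw [AddSubgroup.closure_le]
    rintro φ ⟨b, hb, hφ⟩
    rw [SetLike.mem_coe, AddMonoidHom.mem_ker]
    have hbd : ∀ x, b d x = D * b (v 0) x := by
      intro x
      rw [hdv, map_smul, LinearMap.smul_apply, smul_eq_mul]
    apply Prod.ext
    · show ZMod.castHom (gdvd δ (D + 1 - g)) (ZMod (Int.gcd δ (D + 1 - g))) (φ (v 0)) = 0
      rw [hφ]
      apply cast_dvd_eq_zero
      rw [hbd]
      have : D * b (v 0) (v 0) + (1 - g) * b (v 0) (v 0) = (D + 1 - g) * b (v 0) (v 0) := by ring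
      rw [this]
      exact Dvd.dvd.mul_right (Int.gcd_dvd_right (δ : ℤ) _) _
    · funext k
      show ZMod.castHom (gdvd δ (Int.gcd (g - 1) D)) (ZMod (Int.gcd δ (Int.gcd (g - 1) D))) (φ (v k.succ)) = 0
      rw [hφ]
      apply cast_dvd_eq_zero
      rw [hbd]
      exact dvd_add (Dvd.dvd.mul_right hm₂D _) (Dvd.dvd.mul_right hm₂g _)

include hδ in
theorem main1 (d : Fin (s + 1) → ℤ) :
    Nonempty ((((Fin (s + 1) → ℤ) →+ ZMod δ) ⧸ AddSubgroup.closure (S s δ g d)) ≃+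
      (ZMod (Int.gcd δ (Finset.univ.gcd d + 1 - g)) ×
        (Fin s → ZMod (Int.gcd δ (Int.gcd (g - 1) (Finset.univ.gcd d)))))) := by
  obtain ⟨e, he⟩ := normal_form s d
  rw [← ker_Psi hδ e he]
  exact ⟨QuotientAddGroup.quotientKerEquivOfSurjective _ (Psi_surjective e _ _)⟩

/-! ### The subgroup itself -/

/-- multiplication by `m` as a map `ℤ/(δ/m) → ℤ/δ` -/
noncomputable def iota (δ m : ℕ) (h : m ∣ δ) : ZMod (δ / m) →+ ZMod δ :=
  ZMod.lift (δ / m) ⟨(Int.castAddHom (ZMod δ)).comp (AddMonoidHom.mulLeft (m : ℤ)), by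
    show (((m : ℤ) * ((δ / m : ℕ) : ℤ) : ℤ) : ZMod δ) = 0
    rw [ZMod.intCast_zmod_eq_zero_iff_dvd, ← Nat.cast_mul, Nat.mul_div_cancel' h]⟩

theorem iota_intCast (δ m : ℕ) (h : m ∣ δ) (n : ℤ) :
    iota δ m h (n : ZMod (δ / m)) = (((m : ℤ) * n : ℤ) : ZMod δ) := by
  rw [iota, ZMod.lift_coe]
  rfl

theorem cast_iota (δ m : ℕ) (h : m ∣ δ) (z : ZMod (δ / m)) :
    ZMod.castHom h (ZMod m) (iota δ m h z) = 0 := by
  obtain ⟨n, rfl⟩ := ZMod.intCast_surjective z
  rw [iota_intCast, map_intCast, ZMod.intCast_zmod_eq_zero_iff_dvd]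
  exact dvd_mul_right _ _

theorem iota_injective (δ m : ℕ) (hδ0 : 0 < δ) (h : m ∣ δ) : Function.Injective (iota δ m h) := by
  rw [injective_iff_map_eq_zero]
  intro z hz
  obtain ⟨n, rfl⟩ := ZMod.intCast_surjective z
  rw [iota_intCast, ZMod.intCast_zmod_eq_zero_iff_dvd] at hz
  rw [ZMod.intCast_zmod_eq_zero_iff_dvd]
  have hm0 : (m : ℤ) ≠ 0 := by
    intro h0
    have : m = 0 := by exact_mod_cast h0
    rw [this, zero_dvd_iff] at h
    omega
  have h1 : (δ : ℤ) = (m : ℤ) * ((δ / m : ℕ) : ℤ) := by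
    rw [← Nat.cast_mul, Nat.mul_div_cancel' h]
  rw [h1] at hz
  exact Int.dvd_of_mul_dvd_mul_left hm0 hz

theorem exists_iota_eq (δ m : ℕ) (h : m ∣ δ) (y : ZMod δ)
    (hy : ZMod.castHom h (ZMod m) y = 0) : ∃ z, iota δ m h z = y := by
  obtain ⟨n, rfl⟩ := ZMod.intCast_surjective y
  rw [map_intCast, ZMod.intCast_zmod_eq_zero_iff_dvd] at hy
  obtain ⟨q, rfl⟩ := hy
  exact ⟨(q : ZMod (δ / m)), iota_intCast δ m h q⟩

/-- the parametrisation of the kernel -/
noncomputable def Theta (e : (Fin (s + 1) → ℤ) ≃ₗ[ℤ] (Fin (s + 1) → ℤ)) (a₁ a₂ : ℤ) :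
    ZMod (δ / Int.gcd δ a₁) × (Fin s → ZMod (δ / Int.gcd δ a₂)) →+
      ((Fin (s + 1) → ℤ) →+ ZMod δ) where
  toFun z := lin e (Fin.cons (iota δ _ (gdvd δ a₁) z.1) (fun k => iota δ _ (gdvd δ a₂) (z.2 k)))
  map_zero' := by
    apply hom_ext' e
    intro j
    rw [lin_basis]
    refine Fin.cases ?_ (fun k => ?_) j
    · simp
    · simp
  map_add' z z' := by
    apply hom_ext' e
    intro j
    rw [AddMonoidHom.add_apply, lin_basis, lin_basis, lin_basis]
    refine Fin.cases ?_ (fun k => ?_) j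
    · simp
    · simp

theorem Theta_basis_zero (e : (Fin (s + 1) → ℤ) ≃ₗ[ℤ] (Fin (s + 1) → ℤ)) (a₁ a₂ : ℤ)
    (z : ZMod (δ / Int.gcd δ a₁) × (Fin s → ZMod (δ / Int.gcd δ a₂))) :
    Theta e a₁ a₂ z (e.symm (Pi.single 0 1)) = iota δ _ (gdvd δ a₁) z.1 := by
  show lin e _ _ = _
  rw [lin_basis, Fin.cons_zero]

theorem Theta_basis_succ (e : (Fin (s + 1) → ℤ) ≃ₗ[ℤ] (Fin (s + 1) → ℤ)) (a₁ a₂ : ℤ)
    (z : ZMod (δ / Int.gcd δ a₁) × (Fin s → ZMod (δ / Int.gcd δ a₂))) (k : Fin s) :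
    Theta e a₁ a₂ z (e.symm (Pi.single k.succ 1)) = iota δ _ (gdvd δ a₂) (z.2 k) := by
  show lin e _ _ = _
  rw [lin_basis, Fin.cons_succ]

theorem Theta_injective (hδ0 : 0 < δ) (e : (Fin (s + 1) → ℤ) ≃ₗ[ℤ] (Fin (s + 1) → ℤ))
    (a₁ a₂ : ℤ) : Function.Injective (Theta (δ := δ) e a₁ a₂) := by
  rw [injective_iff_map_eq_zero]
  intro z hz
  apply Prod.ext
  · have h1 := Theta_basis_zero e a₁ a₂ z
    rw [hz, AddMonoidHom.zero_apply] at h1
    exact iota_injective δ _ hδ0 (gdvd δ a₁) (h1.symm.trans (map_zero (iota δ _ (gdvd δ a₁))).symm)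
  · funext k
    have h1 := Theta_basis_succ e a₁ a₂ z k
    rw [hz, AddMonoidHom.zero_apply] at h1
    exact iota_injective δ _ hδ0 (gdvd δ a₂) (h1.symm.trans (map_zero (iota δ _ (gdvd δ a₂))).symm)

theorem Theta_range (e : (Fin (s + 1) → ℤ) ≃ₗ[ℤ] (Fin (s + 1) → ℤ)) (a₁ a₂ : ℤ) :
    (Theta (δ := δ) e a₁ a₂).range = (Psi s δ a₁ a₂ (fun j => e.symm (Pi.single j 1))).ker := by
  apply le_antisymm
  · rintro φ ⟨z, rfl⟩
    rw [AddMonoidHom.mem_ker]
    apply Prod.ext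
    · show ZMod.castHom (gdvd δ a₁) (ZMod (Int.gcd δ a₁))
        (Theta e a₁ a₂ z (e.symm (Pi.single 0 1))) = 0
      rw [Theta_basis_zero, cast_iota]
    · funext k
      show ZMod.castHom (gdvd δ a₂) (ZMod (Int.gcd δ a₂))
        (Theta e a₁ a₂ z (e.symm (Pi.single k.succ 1))) = 0
      rw [Theta_basis_succ, cast_iota]
  · intro φ hφ
    rw [AddMonoidHom.mem_ker] at hφ
    have hφ1 : ZMod.castHom (gdvd δ a₁) (ZMod (Int.gcd δ a₁)) (φ (e.symm (Pi.single 0 1))) = 0 :=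
      congrArg Prod.fst hφ
    have hφ2 : ∀ k : Fin s, ZMod.castHom (gdvd δ a₂) (ZMod (Int.gcd δ a₂))
        (φ (e.symm (Pi.single k.succ 1))) = 0 :=
      fun k => congrFun (congrArg Prod.snd hφ) k
    obtain ⟨z₀, hz₀⟩ := exists_iota_eq δ _ (gdvd δ a₁) _ hφ1
    choose z hz using fun k => exists_iota_eq δ _ (gdvd δ a₂) _ (hφ2 k)
    refine ⟨(z₀, z), ?_⟩
    apply hom_ext' e
    intro j
    refine Fin.cases ?_ (fun k => ?_) j
    · rw [Theta_basis_zero, hz₀]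
    · rw [Theta_basis_succ, hz]

include hδ in
theorem main2 (hδ0 : 0 < δ) (d : Fin (s + 1) → ℤ) :
    Nonempty (AddSubgroup.closure (S s δ g d) ≃+
      (ZMod (δ / Int.gcd δ (Finset.univ.gcd d + 1 - g)) ×
        (Fin s → ZMod (δ / Int.gcd δ (Int.gcd (g - 1) (Finset.univ.gcd d)))))) := by
  obtain ⟨e, he⟩ := normal_form s d
  have h1 := ker_Psi hδ e he
  have h2 := Theta_range (δ := δ) e (Finset.univ.gcd d + 1 - g) (Int.gcd (g - 1) (Finset.univ.gcd d))
  have h3 := Theta_injective hδ0 e (Finset.univ.gcd d + 1 - g) (Int.gcd (g - 1) (Finset.univ.gcd d))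
  exact ⟨((AddMonoidHom.ofInjective h3).trans (AddEquiv.addSubgroupCongr (h2.trans h1))).symm⟩

end main

end Groth.Agent.H15.Lattice
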