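import Mathlib
import Groth.Agent.H15.FrobKer
import Groth.Agent.H15.HopfGr
import Groth.Agent.H15.HopfTransl

set_option autoImplicit false
universe u v

open scoped TensorProduct
open Coalgebra MvPolynomial

namespace Groth.Agent.H15.LieConst

open Groth.Agent.H15.FrobKer Groth.Agent.H15.HopfGr

section

variable (k : Type u) (A : Type v) [Field k] [CommRing A] [Bialgebra k A]

/-- `ε`-derivations as linear maps. -/
def IsEpsDer (τ : A →ₗ[k] k) : Prop :=
  τ 1 = 0 ∧ ∀ a b, τ (a * b) = counit (R := k) a * τ b + τ a * counit (R := k) b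

/-- Variant of `HopfGr.exists_setup` remembering that the derivations are invariant. -/
theorem exists_setup' [Algebra.FiniteType k A] (d : ℕ)
    (hd : Module.finrank k (aug k A).Cotangent = d) :
    ∃ (x : Fin d → A) (D : Fin d → Derivation k A A), (∀ j, x j ∈ aug k A) ∧
      (∀ i j, D i (x j) - (if i = j then 1 else 0) ∈ aug k A) ∧
      (∀ y ∈ aug k A, ∃ c : Fin d → k, y - ∑ j, c j • x j ∈ aug k A ^ 2) ∧
      (∀ i, ∃ τ : A →ₗ[k] k, IsEpsDer k A τ ∧ ∀ a, D i a = invLin τ a) := by
  classical
  have hfinC := finite_cotangent k A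
  let b : Module.Basis (Fin d) k (aug k A).Cotangent := Module.finBasisOfFinrankEq k _ hd
  choose x' hx' using fun j => (aug k A).toCotangent_surjective (b j)
  let x : Fin d → A := fun j => (x' j : A)
  have hxI : ∀ j, x j ∈ aug k A := fun j => (x' j).2
  let D : Fin d → Derivation k A A := fun i =>
    invDer (pointDer (b.coord i)) (pointDer_one _) (pointDer_mul _)
  have hDx : ∀ i j, counit (R := k) (D i (x j)) = if i = j then 1 else 0 := by
    intro i j
    change counit (R := k) (invLin (pointDer (b.coord i)) (x j)) = _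
    rw [counit_invLin, pointDer_of_mem, hx', Module.Basis.coord_apply, Module.Basis.repr_self,
      Finsupp.single_apply]
    by_cases h : j = i
    · subst h; simp
    · rw [if_neg h, if_neg (fun h' => h h'.symm)]
  refine ⟨x, D, hxI, ?_, ?_, ?_⟩
  · intro i j
    rw [mem_aug, map_sub, hDx]
    split_ifs
    · rw [Bialgebra.counit_one, sub_self]
    · rw [map_zero, sub_self]
  · intro y hy
    refine ⟨fun j => b.repr ((aug k A).toCotangent ⟨y, hy⟩) j, ?_⟩
    have h1 : (aug k A).toCotangent ⟨y, hy⟩ =
        (aug k A).toCotangent (∑ j, b.repr ((aug k A).toCotangent ⟨y, hy⟩) j • x' j) := by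
      conv_lhs => rw [← b.sum_repr ((aug k A).toCotangent ⟨y, hy⟩)]
      rw [map_sum]
      refine Finset.sum_congr rfl fun j _ => ?_
      rw [← hx']
      exact (((aug k A).toCotangent.restrictScalars k).map_smul _ _).symm
    rw [Ideal.toCotangent_eq] at h1
    simpa only [Submodule.coe_sum, Submodule.coe_smul_of_tower] using h1
  · intro i
    exact ⟨pointDer (b.coord i), ⟨pointDer_one _, pointDer_mul _⟩, fun a => rfl⟩

end

section Const

variable (k : Type u) (A : Type v) [Field k] [CharZero k] [CommRing A] [Bialgebra k A]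

/-- A subspace of the augmentation ideal stable under all invariant derivations lies in every
power of the augmentation ideal (characteristic zero). -/
theorem le_pow_of_stable [Algebra.FiniteType k A] (M : Submodule k A)
    (hM : ∀ a ∈ M, a ∈ aug k A)
    (hstab : ∀ τ : A →ₗ[k] k, IsEpsDer k A τ → ∀ a ∈ M, invLin τ a ∈ M) (n : ℕ) :
    ∀ a ∈ M, a ∈ aug k A ^ n := by
  classical
  obtain ⟨x, D, hx, hD, hspan, hinv⟩ := exists_setup' k A _ rfl
  have hDa : ∀ i, ∀ a ∈ M, D i a ∈ M := by
    intro i a ha
    obtain ⟨τ, hτ, hDτ⟩ := hinv i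
    rw [hDτ]
    exact hstab τ hτ a ha
  induction n with
  | zero => intro a _; rw [pow_zero, Ideal.one_eq_top]; trivial
  | succ n ih =>
    intro a haM
    rcases Nat.eq_zero_or_pos n with hn0 | hnpos
    · subst hn0
      rw [zero_add, pow_one]
      exact hM a haM
    obtain ⟨F, hF, hFmem⟩ := exists_homog (aug k A) x hx (fun b => ⟨_, sub_counit_mem k A b⟩)
      hspan n _ (ih a haM)
    -- all partial derivatives of F vanish
    have hpd : ∀ i, pderiv i F = 0 := by
      intro i
      obtain ⟨m, rfl⟩ : ∃ m, n = m + 1 := ⟨n - 1, by omega⟩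
      have hFi : (pderiv i F).IsHomogeneous m := hF.pderiv
      refine eq_zero_of_aeval_mem (aug k A) (aug_ne_top k A) x hx D hD m
        (Nat.cast_ne_zero.mpr m.factorial_ne_zero) (pderiv i F) hFi ?_
      -- D i (aeval x F) ∈ I^(m+1)
      have h1 : D i (aeval x F) ∈ aug k A ^ (m + 1) := by
        have h2 := der_mem_pow (aug k A) (D i) (m + 1) hFmem
        rw [map_sub] at h2
        have h2' := ih _ (hDa i a haM)
        have : D i (aeval x F) = D i a - (D i a - D i (aeval x F)) := by ring
        rw [this]
        exact Ideal.sub_mem _ h2' h2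
      rw [der_aeval] at h1
      -- split the sum
      have h3 : ∀ j, aeval x (pderiv j F) * (D i (x j) - (if i = j then 1 else 0)) ∈
          aug k A ^ (m + 1) := by
        intro j
        have hj : (pderiv j F).IsHomogeneous m := hF.pderiv
        rw [pow_succ]
        exact Ideal.mul_mem_mul (aeval_mem_pow (aug k A) x hx hj) (hD i j)
      have h4 : ∑ j, aeval x (pderiv j F) * D i (x j) =
          aeval x (pderiv i F) + ∑ j, aeval x (pderiv j F) *
            (D i (x j) - (if i = j then 1 else 0)) := by
        simp_rw [mul_sub, Finset.sum_sub_distrib]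
        simp
      rw [h4] at h1
      exact (Ideal.add_mem_iff_left _ (Ideal.sum_mem _ fun j _ => h3 j)).mp h1
    have hF0 : F = 0 := by
      have hE := hF.sum_X_mul_pderiv
      simp_rw [hpd, mul_zero, Finset.sum_const_zero] at hE
      have hn' : (n : k) ≠ 0 := Nat.cast_ne_zero.mpr (by omega)
      have h5 : (n : k) • F = 0 := by
        rw [Nat.cast_smul_eq_nsmul]
        exact hE.symm
      exact (smul_eq_zero.mp h5).resolve_left hn'
    rw [hF0, map_zero, sub_zero] at hFmem
    exact hFmem

end Const

section Conn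

variable (k : Type u) (A : Type v) [Field k] [CharZero k] [IsAlgClosed k] [CommRing A]
  [HopfAlgebra k A] [Algebra.FiniteType k A]

/-- For a connected group over an algebraically closed field of characteristic zero: a subspace
of the augmentation ideal stable under all invariant derivations is zero. -/
theorem eq_bot_of_stable (hconn : ∀ e : A, IsIdempotentElem e → e = 0 ∨ e = 1)
    (M : Submodule k A) (hM : ∀ a ∈ M, a ∈ aug k A)
    (hstab : ∀ τ : A →ₗ[k] k, IsEpsDer k A τ → ∀ a ∈ M, invLin τ a ∈ M) : M = ⊥ := by
  rw [eq_bot_iff]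
  intro a ha
  have h1 : a ∈ (⨅ n : ℕ, RingHom.ker (Bialgebra.counitAlgHom k A) ^ n) := by
    rw [Ideal.mem_iInf]
    intro n
    exact le_pow_of_stable k A M hM hstab n a ha
  rw [HopfTransl.main k A hconn] at h1
  exact (Submodule.mem_bot k).mpr (Ideal.mem_bot.mp h1)

end Conn

end Groth.Agent.H15.LieConst
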