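import Mathlib
import Groth.Agent.H15.LieConst
import Groth.Agent.H15.PrimTens
import Groth.Agent.H15.UnipConn
import Groth.Prelude.Def_GLin
import Groth.Prelude.Def_LieHopf

set_option autoImplicit false
universe u v w

open scoped TensorProduct
open Coalgebra

namespace Groth.Agent.H15.LieAct

open Groth.Agent.H15.FrobKer Groth.Agent.H15.PrimTens Groth.Agent.H15.LieConst HopfRep

section Gen

variable {k : Type u} [Field k] {A : Type v} [CommRing A] [Bialgebra k A]
variable {V : Type w} [CommRing V] [Algebra k V] [HopfRep.Comod k A V]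

/-- infinitesimal action of a functional on `A`. -/
noncomputable def dact (τ : A →ₗ[k] k) : V →ₗ[k] V :=
  (TensorProduct.rid k V).toLinearMap ∘ₗ τ.lTensor V ∘ₗ Comod.coact (k := k) (A := A)

theorem dact_apply (τ : A →ₗ[k] k) (v : V) :
    dact τ v = TensorProduct.rid k V (τ.lTensor V (Comod.coact (k := k) (A := A) v)) := rfl

/-- matrix coefficient map -/
noncomputable def orb (μ : V →ₗ[k] k) : V →ₗ[k] A :=
  contr V A μ ∘ₗ Comod.coact (k := k) (A := A)

theorem orb_apply (μ : V →ₗ[k] k) (v : V) :
    orb (A := A) μ v = contr V A μ (Comod.coact (k := k) (A := A) v) := rfl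

theorem counit_orb (μ : V →ₗ[k] k) (v : V) : counit (R := k) (orb (A := A) μ v) = μ v := by
  rw [orb_apply, ← contr_baseChange, LinearMap.baseChange_eq_ltensor]
  have h := LinearMap.congr_fun (Comod.counit_comp (k := k) (A := A) (V := V)) v
  rw [LinearMap.comp_apply] at h
  rw [h]
  simp

omit [Comod k A V] in
theorem contr_assoc (μ : V →ₗ[k] k) (z : V ⊗[k] A) (a : A) :
    contr V (A ⊗[k] A) μ (TensorProduct.assoc k V A A (z ⊗ₜ[k] a)) = contr V A μ z ⊗ₜ[k] a := by
  induction z using TensorProduct.induction_on with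
  | zero => simp
  | tmul w b => simp [TensorProduct.smul_tmul']
  | add x y hx hy => rw [TensorProduct.add_tmul, map_add, map_add, hx, hy, map_add,
      TensorProduct.add_tmul]

theorem contr_assoc_rTensor (μ : V →ₗ[k] k) (y : V ⊗[k] A) :
    contr V (A ⊗[k] A) μ (TensorProduct.assoc k V A A
      ((Comod.coact (k := k) (A := A) (V := V)).rTensor A y)) = (orb (A := A) μ).rTensor A y := by
  induction y using TensorProduct.induction_on with
  | zero => simp
  | tmul w a => rw [LinearMap.rTensor_tmul, contr_assoc, LinearMap.rTensor_tmul, orb_apply]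
  | add x y hx hy => simp only [map_add, hx, hy]

theorem comul_orb (μ : V →ₗ[k] k) (v : V) :
    comul (R := k) (orb (A := A) μ v) =
      (orb (A := A) μ).rTensor A (Comod.coact (k := k) (A := A) v) := by
  rw [orb_apply, ← contr_baseChange, LinearMap.baseChange_eq_ltensor, ← contr_assoc_rTensor]
  have h := LinearMap.congr_fun (Comod.coassoc (k := k) (A := A) (V := V)) v
  simp only [LinearMap.comp_apply, LinearEquiv.coe_coe] at h
  rw [h]

omit [Comod k A V] in
theorem rid_lTensor_rTensor (τ : A →ₗ[k] k) (φ : V →ₗ[k] A) (y : V ⊗[k] A) :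
    TensorProduct.rid k A (τ.lTensor A (φ.rTensor A y)) =
      φ (TensorProduct.rid k V (τ.lTensor V y)) := by
  induction y using TensorProduct.induction_on with
  | zero => simp
  | tmul w a => simp
  | add x y hx hy => simp only [map_add, hx, hy]

theorem invLin_orb (τ : A →ₗ[k] k) (μ : V →ₗ[k] k) (v : V) :
    invLin τ (orb (A := A) μ v) = orb (A := A) μ (dact τ v) := by
  rw [invLin_apply, comul_orb, rid_lTensor_rTensor, dact_apply]

theorem invLin_one (τ : A →ₗ[k] k) (h : τ 1 = 0) : invLin τ (1 : A) = 0 := by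
  rw [invLin_apply, Bialgebra.comul_one, Algebra.TensorProduct.one_def, LinearMap.lTensor_tmul,
    TensorProduct.rid_tmul, h, zero_smul]

/-- The hypothesis that subspaces of the augmentation ideal stable under invariant derivations
vanish. -/
def StableBot (k : Type u) [Field k] (A : Type v) [CommRing A] [Bialgebra k A] : Prop :=
  ∀ M : Submodule k A, (∀ a ∈ M, a ∈ aug k A) →
    (∀ τ : A →ₗ[k] k, IsEpsDer k A τ → ∀ a ∈ M, invLin τ a ∈ M) → M = ⊥

theorem coact_eq_of_dact (hbot : StableBot k A) (f : V)
    (h : ∀ τ : A →ₗ[k] k, IsEpsDer k A τ → dact (A := A) τ f = 0) :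
    Comod.coact (k := k) (A := A) f = f ⊗ₜ[k] (1 : A) := by
  let M : Submodule k A :=
    Submodule.span k (Set.range fun μ : V →ₗ[k] k => orb (A := A) μ f - μ f • (1 : A))
  have hM : M = ⊥ := by
    apply hbot
    · have : M ≤ (aug k A).restrictScalars k := by
        rw [Submodule.span_le]
        rintro _ ⟨μ, rfl⟩
        change _ ∈ aug k A
        rw [mem_aug, map_sub, counit_orb, map_smul, Bialgebra.counit_one, smul_eq_mul, mul_one,
          sub_self]
      exact fun a ha => this ha
    · intro τ hτ a ha
      induction ha using Submodule.span_induction with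
      | mem x hx =>
        obtain ⟨μ, rfl⟩ := hx
        rw [map_sub, invLin_orb, h τ hτ, map_zero, map_smul, invLin_one τ hτ.1, smul_zero,
          sub_zero]
        exact zero_mem _
      | zero => rw [map_zero]; exact zero_mem _
      | add x y _ _ hx hy => rw [map_add]; exact add_mem hx hy
      | smul c x _ hx => rw [map_smul]; exact Submodule.smul_mem _ c hx
  have h2 : ∀ μ : V →ₗ[k] k,
      contr V A μ (Comod.coact (k := k) (A := A) f - f ⊗ₜ[k] (1 : A)) = 0 := by
    intro μ
    have h3 : orb (A := A) μ f - μ f • (1 : A) ∈ M := Submodule.subset_span ⟨μ, rfl⟩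
    rw [hM, Submodule.mem_bot] at h3
    rw [map_sub, contr_tmul]
    exact h3
  exact sub_eq_zero.mp (eq_zero_of_contr _ _ h2)

/-- generic vanishing criterion by contraction with functionals. -/
theorem eq_zero_of_forall_lid_rTensor {S M : Type*} [AddCommGroup S] [Module k S]
    [AddCommGroup M] [Module k M] (y : S ⊗[k] M)
    (h : ∀ l : S →ₗ[k] k, TensorProduct.lid k M (l.rTensor M y) = 0) : y = 0 := by
  classical
  let b := Module.Free.chooseBasis k S
  let e := TensorProduct.equivFinsuppOfBasisLeft (N := M) b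
  have he : ∀ (z : S ⊗[k] M) i, e z i = TensorProduct.lid k M ((b.coord i).rTensor M z) := by
    intro z i
    induction z using TensorProduct.induction_on with
    | zero => simp
    | tmul s m =>
      rw [TensorProduct.equivFinsuppOfBasisLeft_apply_tmul_apply, LinearMap.rTensor_tmul,
        TensorProduct.lid_tmul, b.coord_apply]
    | add u v hu hv => rw [map_add, Finsupp.add_apply, hu, hv, map_add, map_add]
  apply e.injective
  rw [map_zero]
  ext i
  rw [he, h]
  rfl

theorem isSubcomod_of_dact (hbot : StableBot k A) (W : Submodule k V)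
    (h : ∀ τ : A →ₗ[k] k, IsEpsDer k A τ → ∀ v ∈ W, dact (A := A) τ v ∈ W) :
    IsSubcomod (k := k) (A := A) W := by
  let M : Submodule k A := Submodule.span k
    {a | ∃ μ : V →ₗ[k] k, (∀ w ∈ W, μ w = 0) ∧ ∃ v ∈ W, a = orb (A := A) μ v}
  have hM : M = ⊥ := by
    apply hbot
    · have : M ≤ (aug k A).restrictScalars k := by
        rw [Submodule.span_le]
        rintro _ ⟨μ, hμ, v, hv, rfl⟩
        change _ ∈ aug k A
        rw [mem_aug, counit_orb]
        exact hμ v hv
      exact fun a ha => this ha
    · intro τ hτ a ha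
      induction ha using Submodule.span_induction with
      | mem x hx =>
        obtain ⟨μ, hμ, v, hv, rfl⟩ := hx
        rw [invLin_orb]
        exact Submodule.subset_span ⟨μ, hμ, dact τ v, h τ hτ v hv, rfl⟩
      | zero => rw [map_zero]; exact zero_mem _
      | add x y _ _ hx hy => rw [map_add]; exact add_mem hx hy
      | smul c x _ hx => rw [map_smul]; exact Submodule.smul_mem _ c hx
  intro v hv
  have hex := rTensor_exact A (LinearMap.exact_subtype_mkQ W) (Submodule.mkQ_surjective W)
  refine LinearMap.mem_range.mpr (Set.mem_range.mp ((hex _).mp ?_))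
  apply eq_zero_of_forall_lid_rTensor
  intro l
  rw [← LinearMap.rTensor_comp_apply]
  have h3 : orb (A := A) (l ∘ₗ W.mkQ) v ∈ M :=
    Submodule.subset_span ⟨l ∘ₗ W.mkQ, fun w hw => by
      rw [LinearMap.comp_apply, Submodule.mkQ_apply, (Submodule.Quotient.mk_eq_zero W).mpr hw,
        map_zero], v, hv, rfl⟩
  rw [hM, Submodule.mem_bot] at h3
  exact h3

theorem lTensor_mem_of_isSubcomod (W : Submodule k V) (hW : IsSubcomod (k := k) (A := A) W)
    (τ : A →ₗ[k] k) (v : V) (hv : v ∈ W) :
    τ.lTensor V (Comod.coact (k := k) (A := A) v) ∈ LinearMap.range (W.subtype.rTensor k) := by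
  obtain ⟨z, hz⟩ := hW v hv
  refine ⟨τ.lTensor W z, ?_⟩
  rw [← hz]
  clear hz
  induction z using TensorProduct.induction_on with
  | zero => simp
  | tmul w a => simp
  | add x y hx hy => simp only [map_add, hx, hy]

end Gen

section Two

variable {k : Type u} [Field k] {A : Type v} [CommRing A] [Bialgebra k A]
variable {R₁ : Type w} [CommRing R₁] [Algebra k R₁] [HopfRep.Comod k A R₁]
variable {R₂ : Type w} [CommRing R₂] [Algebra k R₂] [HopfRep.Comod k A R₂]

omit [Comod k A R₁] [Comod k A R₂] in
theorem contr_rTensor (e : R₁ →ₗ[k] R₂) (μ : R₂ →ₗ[k] k) (z : R₁ ⊗[k] A) :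
    contr R₂ A μ (e.rTensor A z) = contr R₁ A (μ ∘ₗ e) z := by
  induction z using TensorProduct.induction_on with
  | zero => simp
  | tmul w a => simp
  | add x y hx hy => simp only [map_add, hx, hy]

theorem coact_eq_of_dact_comm (hbot : StableBot k A) (e : R₁ →ₗ[k] R₂)
    (h : ∀ τ : A →ₗ[k] k, IsEpsDer k A τ → ∀ f : R₁, dact (A := A) τ (e f) = e (dact (A := A) τ f))
    (f : R₁) :
    Comod.coact (k := k) (A := A) (e f) = e.rTensor A (Comod.coact (k := k) (A := A) f) := by
  let M : Submodule k A := Submodule.span k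
    {a | ∃ (μ : R₂ →ₗ[k] k) (g : R₁), a = orb (A := A) μ (e g) - orb (A := A) (μ ∘ₗ e) g}
  have hM : M = ⊥ := by
    apply hbot
    · have : M ≤ (aug k A).restrictScalars k := by
        rw [Submodule.span_le]
        rintro _ ⟨μ, g, rfl⟩
        change _ ∈ aug k A
        rw [mem_aug, map_sub, counit_orb, counit_orb, LinearMap.comp_apply, sub_self]
      exact fun a ha => this ha
    · intro τ hτ a ha
      induction ha using Submodule.span_induction with
      | mem x hx =>
        obtain ⟨μ, g, rfl⟩ := hx
        rw [map_sub, invLin_orb, invLin_orb, h τ hτ]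
        exact Submodule.subset_span ⟨μ, dact τ g, rfl⟩
      | zero => rw [map_zero]; exact zero_mem _
      | add x y _ _ hx hy => rw [map_add]; exact add_mem hx hy
      | smul c x _ hx => rw [map_smul]; exact Submodule.smul_mem _ c hx
  have h2 : ∀ μ : R₂ →ₗ[k] k, contr R₂ A μ (Comod.coact (k := k) (A := A) (e f) -
      e.rTensor A (Comod.coact (k := k) (A := A) f)) = 0 := by
    intro μ
    have h3 : orb (A := A) μ (e f) - orb (A := A) (μ ∘ₗ e) f ∈ M :=
      Submodule.subset_span ⟨μ, f, rfl⟩
    rw [hM, Submodule.mem_bot] at h3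
    rw [map_sub, contr_rTensor]
    exact h3
  exact sub_eq_zero.mp (eq_zero_of_contr _ _ h2)

end Two

section Lie

variable {k : Type u} [Field k] {A : Type u} [CommRing A] [HopfAlgebra k A]

/-- the `ε`-derivation attached to a functional satisfying the `ε`-Leibniz rule. -/
noncomputable def toLie (τ : A →ₗ[k] k) (h : IsEpsDer k A τ) : LieHopf.Lie k A where
  toLinearMap := (τ : A →ₗ[k] LieHopf.K k A)
  map_one_eq_zero' := h.1
  leibniz' a b := by
    rw [LieHopf.smul_def, LieHopf.smul_def]
    change τ (a * b) = counit (R := k) a * τ b + counit (R := k) b * τ a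
    rw [h.2]
    ring

theorem dlin_toLie (τ : A →ₗ[k] k) (h : IsEpsDer k A τ) : LieHopf.dlin (toLie τ h) = τ := by
  ext a
  rfl

theorem isEpsDer_dlin (ξ : LieHopf.Lie k A) : IsEpsDer k A (LieHopf.dlin ξ) := by
  refine ⟨LieHopf.dlin_one ξ, fun a b => ?_⟩
  rw [LieHopf.dlin_mul]
  change counit (R := k) a * _ + counit (R := k) b * _ = _
  ring

end Lie

section Final

variable (k : Type u) [Field k] [IsAlgClosed k] [CharZero k] (A : Type u) [CommRing A]
  [HopfAlgebra k A] [Algebra.FiniteType k A]

theorem stableBot (hU : HopfRep.IsUnipotent k A) : StableBot k A :=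
  fun M hM hs => eq_bot_of_stable k A (UnipConn.main k A hU) M hM hs

variable {k A}
variable {R : Type u} [CommRing R] [Algebra k R] [HopfRep.Comod k A R]

theorem main1 (hU : HopfRep.IsUnipotent k A) (f : R) :
    Comod.coact (k := k) (A := A) f = f ⊗ₜ[k] (1 : A) ↔
      ∀ ξ : LieHopf.Lie k A, (LieHopf.dlin ξ).lTensor R (Comod.coact (k := k) (A := A) f) = 0 := by
  constructor
  · intro h ξ
    rw [h, LinearMap.lTensor_tmul, LieHopf.dlin_one, TensorProduct.tmul_zero]
  · intro h
    apply coact_eq_of_dact (stableBot k A hU)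
    intro τ hτ
    have := h (toLie τ hτ)
    rw [dlin_toLie] at this
    rw [dact_apply, this, map_zero]

theorem main2 (hU : HopfRep.IsUnipotent k A) (W : Submodule k R) :
    IsSubcomod (k := k) (A := A) W ↔
      ∀ (ξ : LieHopf.Lie k A) (v : R), v ∈ W →
        (LieHopf.dlin ξ).lTensor R (Comod.coact (k := k) (A := A) v) ∈
          LinearMap.range (W.subtype.rTensor k) := by
  constructor
  · intro h ξ v hv
    exact lTensor_mem_of_isSubcomod W h _ v hv
  · intro h
    apply isSubcomod_of_dact (stableBot k A hU)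
    intro τ hτ v hv
    have := h (toLie τ hτ) v hv
    rw [dlin_toLie] at this
    obtain ⟨z, hz⟩ := this
    rw [dact_apply, ← hz]
    clear hz
    induction z using TensorProduct.induction_on with
    | zero => simp
    | tmul w c => simpa using W.smul_mem c w.2
    | add x y hx hy => simp only [map_add]; exact add_mem hx hy

variable {R₂ : Type u} [CommRing R₂] [Algebra k R₂] [HopfRep.Comod k A R₂]

theorem main3 (hU : HopfRep.IsUnipotent k A) (e : R →ₗ[k] R₂)
    (h : ∀ (ξ : LieHopf.Lie k A) (f : R),
      (LieHopf.dlin ξ).lTensor R₂ (Comod.coact (k := k) (A := A) (e f)) =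
        e.rTensor k ((LieHopf.dlin ξ).lTensor R (Comod.coact (k := k) (A := A) f))) (f : R) :
    Comod.coact (k := k) (A := A) (e f) = e.rTensor A (Comod.coact (k := k) (A := A) f) := by
  apply coact_eq_of_dact_comm (stableBot k A hU)
  intro τ hτ g
  have := h (toLie τ hτ) g
  rw [dlin_toLie] at this
  rw [dact_apply, this, dact_apply]
  generalize τ.lTensor R (Comod.coact (k := k) (A := A) g) = z
  induction z using TensorProduct.induction_on with
  | zero => simp
  | tmul w c => simp
  | add x y hx hy => simp only [map_add, hx, hy]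

end Final

end Groth.Agent.H15.LieAct
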