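import Mathlib
open MvPolynomial

namespace Groth.Agent.H15.LineIrr

variable {k : Type*} [Field k] {r : ℕ}

local notation "R" => MvPolynomial (Fin r) k

/-- the polynomial `G(T) = F(X_1 T, …, X_r T)` -/
noncomputable def G (F : MvPolynomial (Fin r) k) : Polynomial (MvPolynomial (Fin r) k) :=
  MvPolynomial.eval₂ (Polynomial.C.comp MvPolynomial.C)
        (fun j => Polynomial.C (MvPolynomial.X j) * Polynomial.X) F

/-- scaling `X_j ↦ t X_j` -/
noncomputable def scale (t : k) : MvPolynomial (Fin r) k →ₐ[k] MvPolynomial (Fin r) k :=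
  MvPolynomial.aeval (fun j => MvPolynomial.X j * MvPolynomial.C t)

theorem scale_comp (s t : k) : (scale (r := r) s).comp (scale t) = scale (t * s) := by
  apply MvPolynomial.algHom_ext
  intro j
  simp only [scale, AlgHom.comp_apply, aeval_X, map_mul, aeval_C, algebraMap_eq]
  ring

theorem scale_one : scale (r := r) (1 : k) = AlgHom.id k _ := by
  apply MvPolynomial.algHom_ext
  intro j
  simp [scale]

theorem eval_G (F : MvPolynomial (Fin r) k) (t : k) :
    Polynomial.eval (MvPolynomial.C t) (G F) = scale t F := by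
  unfold G
  rw [← Polynomial.coe_evalRingHom, MvPolynomial.hom_eval₂]
  unfold scale
  rw [MvPolynomial.aeval_def]
  congr 1
  · ext x
    simp
  · funext j
    simp

theorem irreducible_scale (F : MvPolynomial (Fin r) k) (hF : Irreducible F) {t : k} (ht : t ≠ 0) :
    Irreducible (scale t F) := by
  let e : MvPolynomial (Fin r) k ≃ₐ[k] MvPolynomial (Fin r) k :=
    AlgEquiv.ofAlgHom (scale t) (scale t⁻¹)
      (by rw [scale_comp, inv_mul_cancel₀ ht, scale_one])
      (by rw [scale_comp, mul_inv_cancel₀ ht, scale_one])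
  exact (MulEquiv.irreducible_iff e.toMulEquiv).mpr hF

theorem scale_zero (F : MvPolynomial (Fin r) k) :
    scale (0 : k) F = MvPolynomial.C (MvPolynomial.eval (fun _ => (0 : k)) F) := by
  unfold scale
  induction F using MvPolynomial.induction_on with
  | C a => simp
  | add p q hp hq => rw [map_add, hp, hq, map_add, map_add]
  | mul_X p j hp => rw [map_mul, hp, aeval_X, map_mul, eval_X]; simp

/-- key lemma -/
theorem key [IsAlgClosed k] (F : MvPolynomial (Fin r) k) (hF : Irreducible F)
    (hF0 : MvPolynomial.eval (fun _ => (0 : k)) F ≠ 0)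
    (A B : Polynomial (MvPolynomial (Fin r) k)) (hAB : G F = A * B)
    (hS : {t : k | IsUnit (Polynomial.eval (MvPolynomial.C t) A)}.Infinite) : IsUnit A := by
  -- all non-constant coefficients vanish
  have hcoef : ∀ (α : Fin r →₀ ℕ), α ≠ 0 → ∀ n : ℕ, MvPolynomial.coeff α (A.coeff n) = 0 := by
    intro α hα n
    set p : Polynomial k := ∑ m ∈ A.support, Polynomial.monomial m (MvPolynomial.coeff α (A.coeff m))
      with hp
    have hpc : ∀ m, p.coeff m = MvPolynomial.coeff α (A.coeff m) := by
      intro m
      rw [hp, Polynomial.finsetSum_coeff]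
      simp only [Polynomial.coeff_monomial]
      rw [Finset.sum_ite_eq' A.support m]
      split_ifs with h
      · rfl
      · rw [Polynomial.notMem_support_iff.mp h, MvPolynomial.coeff_zero]
    have hpe : ∀ t : k, p.eval t = MvPolynomial.coeff α (Polynomial.eval (MvPolynomial.C t) A) := by
      intro t
      rw [hp, Polynomial.eval_finsetSum, Polynomial.eval_eq_sum, Polynomial.sum_def,
        MvPolynomial.coeff_sum]
      apply Finset.sum_congr rfl
      intro m _
      rw [Polynomial.eval_monomial, ← map_pow, mul_comm (A.coeff m), MvPolynomial.coeff_C_mul, mul_comm]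
    have hp0 : p = 0 := by
      apply Polynomial.eq_zero_of_infinite_isRoot
      apply hS.mono
      intro t ht
      rw [Set.mem_setOf_eq] at ht ⊢
      rw [Polynomial.IsRoot, hpe]
      obtain ⟨c, _, hc⟩ := (MvPolynomial.isUnit_iff_eq_C_of_isReduced).mp ht
      rw [hc, MvPolynomial.coeff_C, if_neg (Ne.symm hα)]
    rw [← hpc, hp0, Polynomial.coeff_zero]
  -- so A comes from k[T]
  set a₀ : Polynomial k := A.map MvPolynomial.constantCoeff with ha₀
  have hA : A = a₀.map MvPolynomial.C := by
    ext n : 1
    rw [Polynomial.coeff_map, ha₀, Polynomial.coeff_map]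
    ext α
    by_cases hα : α = 0
    · subst hα
      rw [MvPolynomial.coeff_C, if_pos rfl]
      rfl
    · rw [hcoef α hα n, MvPolynomial.coeff_C, if_neg (Ne.symm hα)]
  have hG0 : ∀ t : k, Polynomial.eval (MvPolynomial.C t) (G F) ≠ 0 := by
    intro t
    rw [eval_G]
    by_cases ht : t = 0
    · subst ht
      rw [scale_zero]
      intro h
      apply hF0
      exact MvPolynomial.C_injective _ _ (by rw [h, map_zero])
    · exact (irreducible_scale F hF ht).ne_zero
  have hAe : ∀ t : k, Polynomial.eval (MvPolynomial.C t) A = MvPolynomial.C (a₀.eval t) := by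
    intro t
    rw [hA, Polynomial.eval_map, Polynomial.eval₂_hom]
  have hnoroot : ∀ t : k, a₀.eval t ≠ 0 := by
    intro t h
    apply hG0 t
    rw [hAB, Polynomial.eval_mul, hAe, h, map_zero, zero_mul]
  have hdeg : a₀.degree = 0 := by
    by_contra hne
    obtain ⟨t, ht⟩ := IsAlgClosed.exists_root a₀ hne
    exact hnoroot t ht
  obtain ⟨c, hc⟩ : ∃ c : k, a₀ = Polynomial.C c := ⟨a₀.coeff 0, Polynomial.eq_C_of_degree_eq_zero hdeg⟩
  have hc0 : c ≠ 0 := by
    intro h
    apply hnoroot 0
    rw [hc, h, map_zero, Polynomial.eval_zero]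
  rw [hA, hc, Polynomial.map_C]
  exact (Polynomial.isUnit_C).mpr ((isUnit_iff_ne_zero.mpr hc0).map MvPolynomial.C)

theorem irreducible_G [IsAlgClosed k] (F : MvPolynomial (Fin r) k) (hF : Irreducible F)
    (hF0 : MvPolynomial.eval (fun _ => (0 : k)) F ≠ 0) : Irreducible (G F) := by
  have hinf : (Set.univ \ {(0 : k)} : Set k).Infinite :=
    Set.Infinite.sdiff Set.infinite_univ (Set.finite_singleton 0)
  refine ⟨?_, ?_⟩
  · intro hu
    have : IsUnit (Polynomial.eval (MvPolynomial.C (1 : k)) (G F)) :=
      (Polynomial.evalRingHom (MvPolynomial.C (1 : k))).isUnit_map hu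
    rw [eval_G, scale_one] at this
    exact hF.not_isUnit this
  · intro A B hAB
    have hcover : (Set.univ \ {(0 : k)} : Set k) ⊆
        {t : k | IsUnit (Polynomial.eval (MvPolynomial.C t) A)} ∪
        {t : k | IsUnit (Polynomial.eval (MvPolynomial.C t) B)} := by
      intro t ht
      have ht0 : t ≠ 0 := by
        intro h; exact ht.2 (by rw [h]; rfl)
      have hirr := irreducible_scale F hF ht0
      rw [← eval_G, hAB, Polynomial.eval_mul] at hirr
      rcases hirr.isUnit_or_isUnit rfl with h | h
      · left; exact h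
      · right; exact h
    rcases Set.infinite_union.mp (hinf.mono hcover) with h | h
    · left; exact key F hF hF0 A B hAB h
    · right; exact key F hF hF0 B A (by rw [hAB, mul_comm]) h

theorem isPrimitive_G (F : MvPolynomial (Fin r) k)
    (hF0 : MvPolynomial.eval (fun _ => (0 : k)) F ≠ 0) : (G F).IsPrimitive := by
  rw [Polynomial.isPrimitive_iff_isUnit_of_C_dvd]
  intro c hc
  obtain ⟨Q, hQ⟩ := hc
  have h := congrArg (Polynomial.eval (MvPolynomial.C (0 : k))) hQ
  rw [eval_G, scale_zero, Polynomial.eval_mul, Polynomial.eval_C] at h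
  have hu : IsUnit (MvPolynomial.C (MvPolynomial.eval (fun _ => (0 : k)) F) : MvPolynomial (Fin r) k) :=
    (isUnit_iff_ne_zero.mpr hF0).map MvPolynomial.C
  rw [h] at hu
  exact isUnit_of_mul_isUnit_left hu

theorem main [IsAlgClosed k] (F : MvPolynomial (Fin r) k) (hF : Irreducible F)
    (hF0 : MvPolynomial.eval (fun _ => (0 : k)) F ≠ 0) :
    Irreducible ((G F).map
      (algebraMap (MvPolynomial (Fin r) k) (FractionRing (MvPolynomial (Fin r) k)))) :=
  ((isPrimitive_G F hF0).irreducible_iff_irreducible_map_fraction_map).mp (irreducible_G F hF hF0)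

end Groth.Agent.H15.LineIrr
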