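import Mathlib
import Groth.Prelude.Def_ArtFun4
import Groth.Agent.H15.ComplCR

universe u

open CategoryTheory AlgebraicGeometry ArtFun ArtFun.Art IsLocalRing

namespace Groth.Agent.H15.LocFun

variable {k : Type u} [Field k] (M : Scheme.{u}) (m : M ⟶ Spec (CommRingCat.of k))
  (x₀ : Spec (CommRingCat.of k) ⟶ M)

/-- The local ring at the image point. -/
noncomputable abbrev O : CommRingCat := M.presheaf.stalk (x₀ (closedPoint k))

/-- The residue map at the point. -/
noncomputable def ρ : O M x₀ ⟶ CommRingCat.of k := Scheme.stalkClosedPointTo x₀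

lemma spec_ρ : Spec.map (ρ M x₀) ≫ M.fromSpecStalk (x₀ (closedPoint k)) = x₀ :=
  Scheme.Spec_stalkClosedPointTo_fromSpecStalk x₀

/-- The structure map of the local ring. -/
noncomputable def a : CommRingCat.of k ⟶ O M x₀ :=
  Spec.preimage (M.fromSpecStalk (x₀ (closedPoint k)) ≫ m)

lemma spec_a : Spec.map (a M m x₀) = M.fromSpecStalk (x₀ (closedPoint k)) ≫ m :=
  Spec.map_preimage _

variable (hx₀ : x₀ ≫ m = 𝟙 _)

include hx₀ in
lemma a_ρ : a M m x₀ ≫ ρ M x₀ = 𝟙 _ := by
  apply Spec.map_injective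
  rw [Spec.map_comp, spec_a, ← Category.assoc, spec_ρ, hx₀, Spec.map_id]

lemma isLocalHom_res (A : Art k k) : IsLocalHom (A.res : A →+* k) := by
  refine ⟨fun a ha => ?_⟩
  by_contra h
  have ha' : a ∈ IsLocalRing.maximalIdeal A := (IsLocalRing.mem_maximalIdeal a).2 h
  rw [Art.mem_maximalIdeal_iff] at ha'
  have : (A.res : A →+* k) a = 0 := ha'
  rw [this] at ha
  exact not_isUnit_zero ha

include hx₀ in
theorem main [IsLocallyNoetherian M] :
    ∃ (R : ArtFun.CRing k k)
      (e : ∀ A : ArtFun.Art k k, ArtFun.HomSet R.carrier R.res A ≃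
        {g : ArtFun.Art.spec A ⟶ M // g ≫ m = ArtFun.Art.specMap (ArtFun.Art.ofBase A) ∧
          ArtFun.Art.specRes A ≫ g = x₀}),
      ∀ (A B : ArtFun.Art k k) (h : A ⟶ B) (φ : ArtFun.HomSet R.carrier R.res A),
        ((e B) (ArtFun.HomSet.map h φ)).1 = ArtFun.Art.specMap h ≫ ((e A) φ).1 := by
  classical
  letI algO : Algebra k (O M x₀) := (a M m x₀).hom.toAlgebra
  have halg : ∀ c : k, algebraMap k (O M x₀) c = (a M m x₀).hom c := fun c => rfl
  have hρa : ∀ c : k, (ρ M x₀).hom ((a M m x₀).hom c) = c := fun c => by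
    have := congrArg (fun f : CommRingCat.of k ⟶ CommRingCat.of k => f.hom c) (a_ρ M m x₀ hx₀)
    exact this
  let resO : O M x₀ →ₐ[k] k := { (ρ M x₀).hom with commutes' := fun c => hρa c }
  have hresO : Function.Surjective resO := fun c => ⟨(a M m x₀).hom c, hρa c⟩
  have hresOρ : ∀ o, resO o = (ρ M x₀).hom o := fun o => rfl
  let R : CRing k k := Groth.Agent.H15.ComplCR.complCRing resO hresO
  -- the scheme-theoretic description of points of `O`
  have hmono : Mono (M.fromSpecStalk (x₀ (closedPoint k))) := inferInstance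
  let toG : ∀ A : Art k k, HomSet (O M x₀) resO A →
      {g : Art.spec A ⟶ M // g ≫ m = Art.specMap (Art.ofBase A) ∧ Art.specRes A ≫ g = x₀} :=
    fun A φ => ⟨Spec.map (CommRingCat.ofHom (φ.1 : O M x₀ →+* A)) ≫
        M.fromSpecStalk (x₀ (closedPoint k)), by
      constructor
      · rw [Category.assoc, ← spec_a, ← Spec.map_comp]
        congr 1
        ext c
        exact φ.1.commutes c
      · have h1 : CommRingCat.ofHom (φ.1 : O M x₀ →+* A) ≫ CommRingCat.ofHom A.res.toRingHom =
            ρ M x₀ := by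
          ext o
          exact DFunLike.congr_fun φ.2 o
        calc Art.specRes A ≫ Spec.map (CommRingCat.ofHom (φ.1 : O M x₀ →+* A)) ≫
              M.fromSpecStalk (x₀ (closedPoint k))
            = Spec.map (CommRingCat.ofHom (φ.1 : O M x₀ →+* A) ≫
                CommRingCat.ofHom A.res.toRingHom) ≫ M.fromSpecStalk (x₀ (closedPoint k)) := by
              rw [Spec.map_comp, Category.assoc]
          _ = x₀ := by rw [h1]; exact spec_ρ M x₀⟩
  have htoG_inj : ∀ A, Function.Injective (toG A) := by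
    intro A φ₁ φ₂ h
    have h1 : Spec.map (CommRingCat.ofHom (φ₁.1 : O M x₀ →+* A)) ≫
        M.fromSpecStalk (x₀ (closedPoint k)) =
        Spec.map (CommRingCat.ofHom (φ₂.1 : O M x₀ →+* A)) ≫
        M.fromSpecStalk (x₀ (closedPoint k)) := congrArg Subtype.val h
    have h2 := Spec.map_injective ((cancel_mono _).1 h1)
    apply Subtype.ext
    apply AlgHom.ext
    intro o
    have := congrArg (fun f : CommRingCat.of (O M x₀) ⟶ CommRingCat.of A => f.hom o) h2
    exact this
  have htoG_surj : ∀ A, Function.Surjective (toG A) := by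
    rintro A ⟨g, c1, c2⟩
    haveI : IsLocalHom (CommRingCat.ofHom A.res.toRingHom).hom := isLocalHom_res A
    have hcp : (Art.specRes A) (closedPoint k) = closedPoint A :=
      Spec_closedPoint (f := CommRingCat.ofHom A.res.toRingHom)
    have hy : g (closedPoint A) = x₀ (closedPoint k) := by
      have h1 : (Art.specRes A ≫ g) (closedPoint k) = x₀ (closedPoint k) :=
        congrArg (fun f : Spec (CommRingCat.of k) ⟶ M => f (closedPoint k)) c2
      rw [← h1, Scheme.Hom.comp_apply (Art.specRes A) g (closedPoint k), hcp]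
    have hf : Spec.map (Scheme.stalkClosedPointTo g) ≫ M.fromSpecStalk (g (closedPoint A)) = g :=
      Scheme.Spec_stalkClosedPointTo_fromSpecStalk g
    have hsp : g (closedPoint A) ⤳ x₀ (closedPoint k) := specializes_of_eq hy
    obtain ⟨φ₀, hφ₀def⟩ : ∃ φ₀ : O M x₀ ⟶ CommRingCat.of A,
        φ₀ = M.presheaf.stalkSpecializes hsp ≫ Scheme.stalkClosedPointTo g := ⟨_, rfl⟩
    have hφ₀ : Spec.map φ₀ ≫ M.fromSpecStalk (x₀ (closedPoint k)) = g := by
      rw [hφ₀def, Spec.map_comp, Category.assoc, Scheme.SpecMap_stalkSpecializes_fromSpecStalk hsp, hf]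
    have hcomm : a M m x₀ ≫ φ₀ = CommRingCat.ofHom (Art.ofBase A).toAlgHom.toRingHom := by
      apply Spec.map_injective
      rw [Spec.map_comp, spec_a, ← Category.assoc, hφ₀, c1]
      rfl
    have hres' : φ₀ ≫ CommRingCat.ofHom A.res.toRingHom = ρ M x₀ := by
      apply Spec.map_injective
      apply (cancel_mono (M.fromSpecStalk (x₀ (closedPoint k)))).1
      rw [Spec.map_comp, Category.assoc, hφ₀, spec_ρ]
      exact c2
    have hc : ∀ c : k, φ₀.hom (algebraMap k (O M x₀) c) = algebraMap k A c := fun c => by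
      have := congrArg (fun f : CommRingCat.of k ⟶ CommRingCat.of A => f.hom c) hcomm
      exact this
    let φ₁ : O M x₀ →ₐ[k] A := { φ₀.hom with commutes' := hc }
    have hφ₁ : A.res.comp φ₁ = resO := by
      apply AlgHom.ext
      intro o
      have := congrArg (fun f : O M x₀ ⟶ CommRingCat.of k => f.hom o) hres'
      exact this
    refine ⟨⟨φ₁, hφ₁⟩, Subtype.ext ?_⟩
    change Spec.map (CommRingCat.ofHom (φ₁ : O M x₀ →+* A)) ≫ M.fromSpecStalk (x₀ (closedPoint k)) = g
    rw [← hφ₀]
    rfl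
  refine ⟨R, fun A => (Equiv.ofBijective _ (Groth.Agent.H15.ComplCR.restrict_bijective resO hresO A)).trans
    (Equiv.ofBijective (toG A) ⟨htoG_inj A, htoG_surj A⟩), ?_⟩
  intro A B h φ
  change Spec.map (CommRingCat.ofHom ((Groth.Agent.H15.ComplCR.restrict resO hresO (HomSet.map h φ)).1 : O M x₀ →+* B)) ≫
      M.fromSpecStalk (x₀ (closedPoint k)) =
    Art.specMap h ≫ Spec.map (CommRingCat.ofHom ((Groth.Agent.H15.ComplCR.restrict resO hresO φ).1 : O M x₀ →+* A)) ≫
      M.fromSpecStalk (x₀ (closedPoint k))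
  rw [← Category.assoc, ← Spec.map_comp]
  rfl

end Groth.Agent.H15.LocFun
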