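import Mathlib
open MvPowerSeries

namespace Groth.Agent.H15.LubinTate

variable {O : Type*} [CommRing O] {σ : Type*} [Finite σ]

open Classical

/-- `f = π X + X^q` -/
noncomputable def fLT (π : O) (q : ℕ) : PowerSeries O := π • PowerSeries.X + PowerSeries.X ^ q

/-- the vector `(f(X_s))_s` -/
noncomputable def Avec (π : O) (q : ℕ) (s : σ) : MvPowerSeries σ O := π • X s + X s ^ q

theorem constantCoeff_Avec (π : O) {q : ℕ} (hq : 1 ≤ q) (s : σ) :
    constantCoeff (Avec π q s) = 0 := by
  unfold Avec
  rw [map_add, map_pow, constantCoeff_X, zero_pow (by omega), add_zero]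
  simp

theorem hasSubst_Avec (π : O) {q : ℕ} (hq : 1 ≤ q) :
    HasSubst (Avec π q : σ → MvPowerSeries σ O) :=
  hasSubst_of_constantCoeff_zero (constantCoeff_Avec π hq)

theorem subst_fLT (π : O) (q : ℕ) {φ : MvPowerSeries σ O} (hφ : constantCoeff φ = 0) :
    PowerSeries.subst φ (fLT π q) = π • φ + φ ^ q := by
  have h : PowerSeries.HasSubst φ := PowerSeries.HasSubst.of_constantCoeff_zero hφ
  unfold fLT
  rw [PowerSeries.subst_add h, PowerSeries.subst_smul h, PowerSeries.subst_pow h,
    PowerSeries.subst_X h]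

theorem subst_X_fLT (π : O) (q : ℕ) (s : σ) :
    PowerSeries.subst (X s : MvPowerSeries σ O) (fLT π q) = Avec π q s := by
  rw [subst_fLT π q (constantCoeff_X s)]
  rfl

/-- the defect operator -/
noncomputable def Δ (π : O) (q : ℕ) (φ : MvPowerSeries σ O) : MvPowerSeries σ O :=
  π • φ + φ ^ q - subst (Avec π q) φ

theorem Δ_eq (π : O) (q : ℕ) {φ : MvPowerSeries σ O} (hφ : constantCoeff φ = 0) :
    Δ π q φ = PowerSeries.subst φ (fLT π q) -
      subst (fun s => PowerSeries.subst (X s : MvPowerSeries σ O) (fLT π q)) φ := by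
  unfold Δ
  rw [subst_fLT π q hφ]
  congr 2
  funext s
  rw [subst_X_fLT]

/-- the key product computation -/
theorem coeff_prod_Avec (π : O) {q : ℕ} (hq2 : 2 ≤ q) (e d : σ →₀ ℕ) (hed : d.degree ≤ e.degree) :
    coeff d (e.prod fun s k => (Avec π q s) ^ k) = if e = d then π ^ d.degree else 0 := by
  have hq : 1 ≤ q := by omega
  have hA : ∀ s : σ, Avec π q s = X s * (C π + X s ^ (q - 1)) := by
    intro s
    unfold Avec
    rw [mul_add, ← pow_succ', Nat.sub_add_cancel hq, smul_eq_C_mul, mul_comm]
  have h1 : (e.prod fun s k => (Avec π q s) ^ k) =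
      monomial e 1 * (e.prod fun s k => (C π + X s ^ (q - 1) : MvPowerSeries σ O) ^ k) := by
    rw [monomial_eq', map_one, one_mul, ← Finsupp.prod_mul]
    apply Finsupp.prod_congr
    intro s _
    rw [hA, mul_pow]
  rw [h1, coeff_monomial_mul]
  by_cases hle : e ≤ d
  · have hdeg : e.degree ≤ d.degree := by
      obtain ⟨c, rfl⟩ := exists_add_of_le hle
      rw [map_add]; omega
    have hed' : e = d := by
      obtain ⟨c, rfl⟩ := exists_add_of_le hle
      have hc : c.degree = 0 := by
        rw [map_add] at hed; omega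
      rw [Finsupp.degree_eq_zero_iff] at hc
      rw [hc, add_zero]
    subst hed'
    rw [if_pos le_rfl, if_pos rfl, one_mul, tsub_self, coeff_zero_eq_constantCoeff_apply]
    rw [Finsupp.prod, map_prod]
    have : ∀ s ∈ e.support, constantCoeff ((C π + X s ^ (q - 1) : MvPowerSeries σ O) ^ e s) =
        π ^ e s := by
      intro s _
      rw [map_pow, map_add, constantCoeff_C, map_pow, constantCoeff_X, zero_pow (by omega), add_zero]
    rw [Finset.prod_congr rfl this, Finset.prod_pow_eq_pow_sum]
    rfl
  · rw [if_neg hle, if_neg]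
    intro h
    exact hle (h ▸ le_rfl)


theorem sum_zero_pow' {q : ℕ} (hq : 2 ≤ q) :
    ∑ i ∈ Finset.range q, (0 : O) ^ i * 0 ^ (q - 1 - i) = 0 := by
  apply Finset.sum_eq_zero
  intro i hi
  rw [Finset.mem_range] at hi
  rcases i with _ | i
  · rw [pow_zero, one_mul, zero_pow (by omega)]
  · rw [zero_pow (by omega), zero_mul]

theorem degree_one {d : σ →₀ ℕ} (hd : d.degree = 1) : ∃ s, d = Finsupp.single s 1 := by
  have hne : d ≠ 0 := by
    intro h; rw [h, map_zero] at hd; omega
  obtain ⟨s, hs⟩ : ∃ s, d s ≠ 0 := by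
    by_contra hcon
    push Not at hcon
    exact hne (Finsupp.ext hcon)
  refine ⟨s, ?_⟩
  have h1 : Finsupp.single s (d s) ≤ d := by
    intro t
    by_cases hts : t = s
    · subst hts; simp
    · rw [Finsupp.single_eq_of_ne hts]; exact Nat.zero_le _
  obtain ⟨c, hc⟩ := exists_add_of_le h1
  have h2 : d.degree = d s + c.degree := by
    conv_lhs => rw [hc]
    rw [map_add, Finsupp.degree_single]
  have hds : d s = 1 := by omega
  have hc0 : c.degree = 0 := by omega
  rw [Finsupp.degree_eq_zero_iff] at hc0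
  rw [hc, hc0, add_zero, hds]

/-- the key congruence lemma -/
theorem K (π : O) {q : ℕ} (hq : 2 ≤ q) (n : ℕ) {φ φ' : MvPowerSeries σ O}
    (hφ : constantCoeff φ = 0) (hφ' : constantCoeff φ' = 0)
    (hD : ∀ e : σ →₀ ℕ, e.degree < n → coeff e φ = coeff e φ') (d : σ →₀ ℕ) (hd : d.degree ≤ n) :
    coeff d (Δ π q φ) - coeff d (Δ π q φ') =
      (π - π ^ d.degree) * (coeff d φ - coeff d φ') := by
  set D := φ - φ' with hDdef
  have hDz : ∀ e : σ →₀ ℕ, e.degree < n → coeff e D = 0 := by
    intro e he
    rw [hDdef, map_sub, hD e he, sub_self]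
  have hA := hasSubst_Avec (σ := σ) π (by omega : 1 ≤ q)
  -- P1
  set G : MvPowerSeries σ O := ∑ i ∈ Finset.range q, φ ^ i * φ' ^ (q - 1 - i) with hG
  have hGD : φ ^ q - φ' ^ q = G * D := (Commute.all φ φ').geom_sum₂_mul q |>.symm
  have hG0 : constantCoeff G = 0 := by
    rw [hG, map_sum]
    simp only [map_mul, map_pow, hφ, hφ']
    exact sum_zero_pow' hq
  have P1 : coeff d (φ ^ q - φ' ^ q) = 0 := by
    rw [hGD, coeff_mul]
    apply Finset.sum_eq_zero
    rintro ⟨a, b⟩ hab
    have hab := Finset.HasAntidiagonal.mem_antidiagonal.mp hab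
    simp only at hab ⊢
    by_cases hb : b.degree < n
    · rw [hDz b hb, mul_zero]
    · have hdeg : a.degree + b.degree = d.degree := by rw [← map_add, hab]
      have ha : a.degree = 0 := by omega
      rw [Finsupp.degree_eq_zero_iff] at ha
      rw [ha, coeff_zero_eq_constantCoeff_apply, hG0, zero_mul]
  -- P2
  have P2 : coeff d (subst (Avec π q) D) = π ^ d.degree * coeff d D := by
    rw [coeff_subst hA, finsum_eq_single _ d]
    · rw [coeff_prod_Avec π hq d d le_rfl, if_pos rfl, smul_eq_mul, mul_comm]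
    · intro e hed
      by_cases he : e.degree < n
      · rw [hDz e he, zero_smul]
      · rw [coeff_prod_Avec π hq e d (by omega), if_neg hed, smul_zero]
  have hsub : Δ π q φ - Δ π q φ' = π • D + (φ ^ q - φ' ^ q) - subst (Avec π q) D := by
    unfold Δ
    rw [hDdef, subst_sub hA, smul_sub]
    ring
  rw [← map_sub, hsub, map_sub, map_add, P1, P2, add_zero, hDdef, coeff_smul, map_sub]
  ring

/-- general uniqueness -/
theorem unique (π : O) {q : ℕ} (hq : 2 ≤ q)
    (hreg : ∀ n : ℕ, 2 ≤ n → ∀ c : O, (π - π ^ n) * c = 0 → c = 0)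
    {φ φ' : MvPowerSeries σ O} (hφ : constantCoeff φ = 0) (hφ' : constantCoeff φ' = 0)
    (hlin : ∀ s : σ, coeff (Finsupp.single s 1) φ = coeff (Finsupp.single s 1) φ')
    (h : Δ π q φ = 0) (h' : Δ π q φ' = 0) : φ = φ' := by
  have key : ∀ n : ℕ, ∀ d : σ →₀ ℕ, d.degree < n → coeff d φ = coeff d φ' := by
    intro n
    induction n with
    | zero => intro d hd; omega
    | succ n ih =>
      intro d hd
      by_cases hlt : d.degree < n
      · exact ih d hlt
      · have hdn : d.degree = n := by omega
        rcases n with _ | _ | n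
        · rw [Finsupp.degree_eq_zero_iff] at hdn
          rw [hdn, coeff_zero_eq_constantCoeff_apply, coeff_zero_eq_constantCoeff_apply, hφ, hφ']
        · obtain ⟨s, rfl⟩ := degree_one hdn
          exact hlin s
        · have hK := K π hq (n + 2) hφ hφ' ih d (by omega)
          rw [h, h', map_zero, sub_zero, hdn] at hK
          have := hreg (n + 2) (by omega) _ hK.symm
          exact sub_eq_zero.mp this
  ext d
  exact key (d.degree + 1) d (Nat.lt_succ_self _)


/-- chain rule at the origin -/
theorem coeff_lin_subst {τ : Type*} [Finite τ] (a : τ → MvPowerSeries σ O)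
    (ha0 : ∀ t, constantCoeff (a t) = 0) (Φ : MvPowerSeries τ O) (e : σ →₀ ℕ) (he : e.degree = 1) :
    coeff e (subst a Φ) = ∑ᶠ t : τ, coeff (Finsupp.single t 1) Φ * coeff e (a t) := by
  have ha : HasSubst a := hasSubst_of_constantCoeff_zero ha0
  rw [coeff_subst ha]
  have hterm : ∀ d : τ →₀ ℕ, (∀ t, d ≠ Finsupp.single t 1) →
      coeff d Φ • coeff e (d.prod fun t k => (a t) ^ k) = 0 := by
    intro d hd
    by_cases hd0 : d = 0
    · subst hd0
      rw [Finsupp.prod_zero_index, coeff_one, if_neg, smul_zero]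
      intro h; rw [h, map_zero] at he; omega
    · have hdeg : 2 ≤ d.degree := by
        by_contra hlt
        have h1 : d.degree = 1 := by
          have : d.degree ≠ 0 := fun h => hd0 ((Finsupp.degree_eq_zero_iff d).mp h)
          omega
        obtain ⟨t, ht⟩ := degree_one h1
        exact hd t ht
      have hord : (d.degree : ℕ∞) ≤ (d.prod fun t k => (a t) ^ k).order := by
        rw [Finsupp.prod]
        refine le_trans ?_ (le_order_prod _ _)
        have : (d.degree : ℕ∞) = ∑ t ∈ d.support, (d t : ℕ∞) := by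
          rw [Finsupp.degree_apply]; push_cast; rfl
        rw [this]
        apply Finset.sum_le_sum
        intro t _
        exact le_order_pow_of_constantCoeff_eq_zero (d t) (ha0 t)
      have hz : coeff e (d.prod fun t k => (a t) ^ k) = 0 := by
        apply coeff_of_lt_order
        refine lt_of_lt_of_le ?_ hord
        rw [he]
        exact_mod_cast hdeg
      rw [hz, smul_zero]
  have hinj : Function.Injective (fun t : τ => (Finsupp.single t 1 : τ →₀ ℕ)) := by
    intro t t' h
    exact Finsupp.single_left_injective one_ne_zero h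
  have hsupp : Function.support (fun d : τ →₀ ℕ =>
      coeff d Φ • coeff e (d.prod fun t k => (a t) ^ k)) ⊆
      Set.range (fun t : τ => (Finsupp.single t 1 : τ →₀ ℕ)) := by
    intro d hd
    rw [Function.mem_support] at hd
    by_contra hcon
    apply hd
    apply hterm
    intro t ht
    exact hcon ⟨t, ht.symm⟩
  rw [← finsum_mem_univ, finsum_mem_inter_support_eq' _ Set.univ
    (Set.range (fun t : τ => (Finsupp.single t 1 : τ →₀ ℕ)))
    (fun x hx => ⟨fun _ => hsupp hx, fun _ => Set.mem_univ _⟩), finsum_mem_range hinj]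
  apply finsum_congr
  intro t
  have hp : ((Finsupp.single t 1 : τ →₀ ℕ).prod fun t k => (a t) ^ k) = a t := by
    rw [Finsupp.prod_single_index (h := fun t k => (a t) ^ k) (pow_zero _), pow_one]
  rw [hp, smul_eq_mul]

end Groth.Agent.H15.LubinTate
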