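import Mathlib
import Groth.Agent.H15.LubinTate
open MvPowerSeries

namespace Groth.Agent.H15.LubinTate

section dvr
variable {O : Type*} [CommRing O] [IsDomain O] [IsDiscreteValuationRing O]
  [Finite (IsLocalRing.ResidueField O)]

theorem two_le_card : 2 ≤ Nat.card (IsLocalRing.ResidueField O) :=
  Finite.one_lt_card

theorem hreg_of_irreducible {π : O} (hπ : Irreducible π) :
    ∀ n : ℕ, 2 ≤ n → ∀ c : O, (π - π ^ n) * c = 0 → c = 0 := by
  intro n hn c hc
  rcases mul_eq_zero.mp hc with h | h
  · exfalso
    have h1 : π * (1 - π ^ (n - 1)) = 0 := by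
      rw [mul_sub, mul_one, ← pow_succ', Nat.sub_add_cancel (by omega)]; exact h
    rcases mul_eq_zero.mp h1 with h2 | h2
    · exact hπ.ne_zero h2
    · have h3 : π ^ (n - 1) = 1 := (sub_eq_zero.mp h2).symm
      exact hπ.not_isUnit (IsUnit.of_pow_eq_one h3 (by omega))
  · exact h

end dvr

section unitcase
variable {O : Type*} [CommRing O]

theorem Δ_unit (π : O) (q : ℕ) (g : PowerSeries O) (hg : PowerSeries.constantCoeff g = 0) :
    Δ (σ := Unit) π q g = PowerSeries.subst g (fLT π q) - PowerSeries.subst (fLT π q) g := by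
  rw [Δ_eq π q hg]
  congr 1
  rw [PowerSeries.subst]
  congr 1
  funext s
  exact PowerSeries.X_subst _

end unitcase


section comp
variable {O : Type*} [CommRing O]

theorem constantCoeff_fLT (π : O) {q : ℕ} (hq : 1 ≤ q) :
    PowerSeries.constantCoeff (fLT π q) = 0 := by
  unfold fLT
  rw [map_add, map_pow, PowerSeries.constantCoeff_X, zero_pow (by omega), add_zero]
  simp

theorem hs_const {τ υ : Type*} [Finite υ] {a : MvPowerSeries τ O} (ha : constantCoeff a = 0) :
    HasSubst (fun _ : υ => a) :=
  hasSubst_of_constantCoeff_zero (fun _ => ha)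

theorem constantCoeff_subst_zero {τ υ : Type*} [Finite τ] {a : τ → MvPowerSeries υ O}
    (ha : ∀ t, constantCoeff (a t) = 0) {Φ : MvPowerSeries τ O} (hΦ : constantCoeff Φ = 0) :
    constantCoeff (subst a Φ) = 0 :=
  constantCoeff_subst_eq_zero (hasSubst_of_constantCoeff_zero ha) ha hΦ

/-- `f(Φ(b)) = Φ(f(b_i))` given `f(Φ) = Φ(f(X_i))` -/
theorem subst_vec_comm {τ υ : Type*} [Finite τ] [Finite υ] (f : PowerSeries O)
    (hf0 : PowerSeries.constantCoeff f = 0)
    (Φ : MvPowerSeries τ O) (hΦ0 : constantCoeff Φ = 0)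
    (hΦ : PowerSeries.subst Φ f =
      subst (fun i : τ => PowerSeries.subst (X i : MvPowerSeries τ O) f) Φ)
    (b : τ → MvPowerSeries υ O) (hb : ∀ t, constantCoeff (b t) = 0) :
    PowerSeries.subst (subst b Φ) f = subst (fun i => PowerSeries.subst (b i) f) Φ := by
  have hB : HasSubst b := hasSubst_of_constantCoeff_zero hb
  have hA : HasSubst (fun i : τ => PowerSeries.subst (X i : MvPowerSeries τ O) f) := by
    apply hasSubst_of_constantCoeff_zero
    intro i
    exact constantCoeff_subst_zero (fun _ => constantCoeff_X i) hf0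
  calc PowerSeries.subst (subst b Φ) f
      = subst b (PowerSeries.subst Φ f) := by
        rw [PowerSeries.subst, PowerSeries.subst, subst_comp_subst_apply (hs_const hΦ0) hB]
    _ = subst b (subst (fun i : τ => PowerSeries.subst (X i : MvPowerSeries τ O) f) Φ) := by
        rw [hΦ]
    _ = subst (fun i => subst b (PowerSeries.subst (X i : MvPowerSeries τ O) f)) Φ := by
        rw [subst_comp_subst_apply hA hB]
    _ = subst (fun i => PowerSeries.subst (b i) f) Φ := by
        congr 1
        funext i
        rw [PowerSeries.subst, PowerSeries.subst,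
          subst_comp_subst_apply (hs_const (constantCoeff_X i)) hB]
        congr 1
        funext _
        rw [subst_X hB]

/-- `Φ(b)(f) = Φ(b_i(f))` -/
theorem subst_f_vec {τ : Type*} [Finite τ] (f : PowerSeries O)
    (hf0 : PowerSeries.constantCoeff f = 0)
    (Φ : MvPowerSeries τ O) (b : τ → PowerSeries O) (hb : ∀ t, constantCoeff (b t) = 0) :
    PowerSeries.subst f (subst b Φ : PowerSeries O) = subst (fun i => PowerSeries.subst f (b i)) Φ := by
  have hB : HasSubst b := hasSubst_of_constantCoeff_zero hb
  rw [PowerSeries.subst, subst_comp_subst_apply hB (hs_const hf0)]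
  rfl

end comp


section rows
universe u
variable (O : Type u) [CommRing O] [IsDomain O] [IsDiscreteValuationRing O]
  [Finite (IsLocalRing.ResidueField O)]

theorem coeff_one_eq (g : PowerSeries O) :
    PowerSeries.coeff 1 g = coeff (Finsupp.single () 1) g := rfl

/-- one-variable uniqueness -/
theorem unique_one (π : O) (hπ : Irreducible π) (g g' : PowerSeries O)
    (h0 : PowerSeries.constantCoeff g = 0) (h0' : PowerSeries.constantCoeff g' = 0)
    (h1 : PowerSeries.coeff 1 g = PowerSeries.coeff 1 g')
    (hc : PowerSeries.subst g (fLT π (Nat.card (IsLocalRing.ResidueField O))) =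
      PowerSeries.subst (fLT π (Nat.card (IsLocalRing.ResidueField O))) g)
    (hc' : PowerSeries.subst g' (fLT π (Nat.card (IsLocalRing.ResidueField O))) =
      PowerSeries.subst (fLT π (Nat.card (IsLocalRing.ResidueField O))) g') : g = g' := by
  apply unique (σ := Unit) π (two_le_card (O := O)) (hreg_of_irreducible hπ) h0 h0'
  · intro s
    exact h1
  · rw [Δ_unit π _ g h0, hc, sub_self]
  · rw [Δ_unit π _ g' h0', hc', sub_self]

/-- a series commuting with `f` has `Δ = 0` -/
theorem Δ_zero_of_comm (π : O) (q : ℕ) (g : PowerSeries O) (h0 : PowerSeries.constantCoeff g = 0)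
    (hc : PowerSeries.subst g (fLT π q) = PowerSeries.subst (fLT π q) g) :
    Δ (σ := Unit) π q g = 0 := by
  rw [Δ_unit π _ g h0, hc, sub_self]

theorem S15060_main (π : O) (hπ : Irreducible π) (f : PowerSeries O)
    (hf : f = π • PowerSeries.X + PowerSeries.X ^ Nat.card (IsLocalRing.ResidueField O))
    (F : FormalGroup O)
    (hF : PowerSeries.subst F.toPowerSeries f =
        MvPowerSeries.subst (fun i : Fin 2 => PowerSeries.subst (MvPowerSeries.X i : MvPowerSeries (Fin 2) O) f)
          F.toPowerSeries)
    (α β : O) (gα gβ gαβ gs : PowerSeries O)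
    (hα0 : gα.constantCoeff = 0) (hα1 : gα.coeff 1 = α) (hαf : PowerSeries.subst gα f = PowerSeries.subst f gα)
    (hβ0 : gβ.constantCoeff = 0) (hβ1 : gβ.coeff 1 = β) (hβf : PowerSeries.subst gβ f = PowerSeries.subst f gβ)
    (hαβ0 : gαβ.constantCoeff = 0) (hαβ1 : gαβ.coeff 1 = α * β)
    (hαβf : PowerSeries.subst gαβ f = PowerSeries.subst f gαβ)
    (hs0 : gs.constantCoeff = 0) (hs1 : gs.coeff 1 = α + β) (hsf : PowerSeries.subst gs f = PowerSeries.subst f gs) :
    PowerSeries.subst gβ gα = gαβ ∧ F.toPowerSeries.subst ![gα, gβ] = gs := by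
  have hfe : f = fLT π (Nat.card (IsLocalRing.ResidueField O)) := hf
  have hq1 : 1 ≤ Nat.card (IsLocalRing.ResidueField O) :=
    le_trans (by norm_num) (two_le_card (O := O))
  have hf0 : PowerSeries.constantCoeff f = 0 := by rw [hfe]; exact constantCoeff_fLT π hq1
  have hsα : PowerSeries.HasSubst gα := PowerSeries.HasSubst.of_constantCoeff_zero' hα0
  have hsβ : PowerSeries.HasSubst gβ := PowerSeries.HasSubst.of_constantCoeff_zero' hβ0
  have hsf' : PowerSeries.HasSubst f := PowerSeries.HasSubst.of_constantCoeff_zero' hf0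
  constructor
  · apply unique_one O π hπ
    · exact constantCoeff_subst_zero (τ := Unit) (υ := Unit) (fun _ => hβ0) hα0
    · exact hαβ0
    · rw [hαβ1, coeff_one_eq, PowerSeries.subst,
        coeff_lin_subst (fun _ : Unit => gβ) (fun _ => hβ0) gα _ (by simp)]
      rw [finsum_unique]
      show PowerSeries.coeff 1 gα * PowerSeries.coeff 1 gβ = α * β
      rw [hα1, hβ1]
    · rw [← hfe]
      rw [← PowerSeries.subst_comp_subst_apply hsα hsβ f, hαf,
        PowerSeries.subst_comp_subst_apply hsf' hsβ gα, hβf,
        ← PowerSeries.subst_comp_subst_apply hsβ hsf' gα]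
    · rw [← hfe]; exact hαβf
  · have hb : ∀ t : Fin 2, constantCoeff ((![gα, gβ] : Fin 2 → PowerSeries O) t) = 0 := by
      intro t; fin_cases t
      · exact hα0
      · exact hβ0
    apply unique_one O π hπ
    · exact constantCoeff_subst_zero (τ := Fin 2) (υ := Unit) hb F.zero_constantCoeff
    · exact hs0
    · rw [hs1, coeff_one_eq,
        coeff_lin_subst (![gα, gβ] : Fin 2 → PowerSeries O) hb F.toPowerSeries _ (by simp)]
      rw [finsum_eq_sum_of_fintype, Fin.sum_univ_two, F.lin_coeff_X, F.lin_coeff_Y, one_mul, one_mul]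
      show PowerSeries.coeff 1 gα + PowerSeries.coeff 1 gβ = α + β
      rw [hα1, hβ1]
    · rw [← hfe]
      rw [subst_vec_comm (υ := Unit) f hf0 F.toPowerSeries F.zero_constantCoeff hF
        (![gα, gβ] : Fin 2 → PowerSeries O) hb]
      rw [subst_f_vec f hf0 F.toPowerSeries (![gα, gβ] : Fin 2 → PowerSeries O) hb]
      congr 1
      funext i
      fin_cases i
      · exact hαf
      · exact hβf
    · rw [← hfe]; exact hsf

theorem S15051_main (π : O) (hπ : Irreducible π) (f : PowerSeries O)
    (hf : f = π • PowerSeries.X + PowerSeries.X ^ Nat.card (IsLocalRing.ResidueField O))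
    (F : FormalGroup O)
    (hF : PowerSeries.subst F.toPowerSeries f =
        MvPowerSeries.subst (fun i : Fin 2 => PowerSeries.subst (MvPowerSeries.X i : MvPowerSeries (Fin 2) O) f) F.toPowerSeries)
    (g : PowerSeries O) (hg0 : g.constantCoeff = 0)
    (hgf : PowerSeries.subst g f = PowerSeries.subst f g) :
    PowerSeries.subst F.toPowerSeries g =
      MvPowerSeries.subst (fun i : Fin 2 => PowerSeries.subst (MvPowerSeries.X i : MvPowerSeries (Fin 2) O) g)
        F.toPowerSeries := by
  have hfe : f = fLT π (Nat.card (IsLocalRing.ResidueField O)) := hf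
  have hq1 : 1 ≤ Nat.card (IsLocalRing.ResidueField O) :=
    le_trans (by norm_num) (two_le_card (O := O))
  have hf0 : PowerSeries.constantCoeff f = 0 := by rw [hfe]; exact constantCoeff_fLT π hq1
  have hF0 := F.zero_constantCoeff
  have hsg : PowerSeries.HasSubst g := PowerSeries.HasSubst.of_constantCoeff_zero' hg0
  have hsf' : PowerSeries.HasSubst f := PowerSeries.HasSubst.of_constantCoeff_zero' hf0
  have hsF : PowerSeries.HasSubst F.toPowerSeries := PowerSeries.HasSubst.of_constantCoeff_zero hF0
  have hgX : ∀ i : Fin 2, constantCoeff (PowerSeries.subst (X i : MvPowerSeries (Fin 2) O) g) = 0 :=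
    fun i => constantCoeff_subst_zero (τ := Unit) (fun _ => constantCoeff_X i) hg0
  have hfX : ∀ i : Fin 2, constantCoeff (PowerSeries.subst (X i : MvPowerSeries (Fin 2) O) f) = 0 :=
    fun i => constantCoeff_subst_zero (τ := Unit) (fun _ => constantCoeff_X i) hf0
  have hc1 : constantCoeff (PowerSeries.subst F.toPowerSeries g) = 0 :=
    constantCoeff_subst_zero (τ := Unit) (fun _ => hF0) hg0
  have hc2 : constantCoeff (subst (fun i : Fin 2 =>
      PowerSeries.subst (X i : MvPowerSeries (Fin 2) O) g) F.toPowerSeries) = 0 :=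
    constantCoeff_subst_zero hgX hF0
  apply unique (σ := Fin 2) π (two_le_card (O := O)) (hreg_of_irreducible hπ) hc1 hc2
  · intro s
    rw [PowerSeries.subst, coeff_lin_subst (fun _ : Unit => F.toPowerSeries) (fun _ => hF0) g _ (by simp)]
    rw [coeff_lin_subst _ hgX F.toPowerSeries _ (by simp)]
    rw [finsum_unique, finsum_eq_sum_of_fintype, Fin.sum_univ_two]
    have hX : ∀ i : Fin 2, coeff (Finsupp.single s 1) (PowerSeries.subst (X i : MvPowerSeries (Fin 2) O) g)
        = coeff (Finsupp.single () 1) g * coeff (Finsupp.single s 1) (X i : MvPowerSeries (Fin 2) O) := by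
      intro i
      rw [PowerSeries.subst, coeff_lin_subst (fun _ : Unit => (X i : MvPowerSeries (Fin 2) O))
        (fun _ => constantCoeff_X i) g _ (by simp), finsum_unique]
    rw [hX, hX]
    fin_cases s
    · have e1 : coeff (Finsupp.single (0 : Fin 2) 1) (X 0 : MvPowerSeries (Fin 2) O) = 1 := by
        rw [coeff_X, if_pos rfl]
      have e2 : coeff (Finsupp.single (0 : Fin 2) 1) (X 1 : MvPowerSeries (Fin 2) O) = 0 := by
        rw [coeff_X, if_neg]
        intro h
        have := Finsupp.single_left_injective (one_ne_zero) h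
        exact absurd this (by decide)
      simp only [Fin.zero_eta, Fin.isValue]
      rw [e1, e2, F.lin_coeff_X, F.lin_coeff_Y]
      ring
    · have e1 : coeff (Finsupp.single (1 : Fin 2) 1) (X 1 : MvPowerSeries (Fin 2) O) = 1 := by
        rw [coeff_X, if_pos rfl]
      have e2 : coeff (Finsupp.single (1 : Fin 2) 1) (X 0 : MvPowerSeries (Fin 2) O) = 0 := by
        rw [coeff_X, if_neg]
        intro h
        have := Finsupp.single_left_injective (one_ne_zero) h
        exact absurd this (by decide)
      simp only [Fin.mk_one, Fin.isValue]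
      rw [e1, e2, F.lin_coeff_X, F.lin_coeff_Y]
      ring
  · -- Δ (g ∘ F) = 0
    rw [Δ_eq π _ hc1, ← hfe]
    rw [sub_eq_zero]
    -- f(g(F)) = g(F)(f X_i)
    have hA : HasSubst (fun i : Fin 2 => PowerSeries.subst (X i : MvPowerSeries (Fin 2) O) f) :=
      hasSubst_of_constantCoeff_zero hfX
    calc PowerSeries.subst (PowerSeries.subst F.toPowerSeries g) f
        = PowerSeries.subst F.toPowerSeries (PowerSeries.subst g f) := by
          rw [PowerSeries.subst_comp_subst_apply hsg hsF f]
      _ = PowerSeries.subst F.toPowerSeries (PowerSeries.subst f g) := by rw [hgf]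
      _ = PowerSeries.subst (PowerSeries.subst F.toPowerSeries f) g := by
          rw [PowerSeries.subst_comp_subst_apply hsf' hsF g]
      _ = PowerSeries.subst (subst (fun i : Fin 2 =>
            PowerSeries.subst (X i : MvPowerSeries (Fin 2) O) f) F.toPowerSeries) g := by rw [hF]
      _ = subst (fun i : Fin 2 => PowerSeries.subst (X i : MvPowerSeries (Fin 2) O) f)
            (PowerSeries.subst F.toPowerSeries g) := by
          rw [PowerSeries.subst, PowerSeries.subst, subst_comp_subst_apply (hs_const hF0) hA]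
  · -- Δ (F(g X_i)) = 0
    rw [Δ_eq π _ hc2, ← hfe]
    rw [sub_eq_zero]
    have hA : HasSubst (fun i : Fin 2 => PowerSeries.subst (X i : MvPowerSeries (Fin 2) O) f) :=
      hasSubst_of_constantCoeff_zero hfX
    have hG : HasSubst (fun i : Fin 2 => PowerSeries.subst (X i : MvPowerSeries (Fin 2) O) g) :=
      hasSubst_of_constantCoeff_zero hgX
    rw [subst_vec_comm (υ := Fin 2) f hf0 F.toPowerSeries hF0 hF _ hgX]
    rw [subst_comp_subst_apply hG hA]
    congr 1
    funext i
    -- f(g(X_i)) = (g(X_i))(f X_j)
    rw [← PowerSeries.subst_comp_subst_apply hsg (PowerSeries.HasSubst.X i) f, hgf,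
      PowerSeries.subst_comp_subst_apply hsf' (PowerSeries.HasSubst.X i) g]
    conv_rhs => rw [PowerSeries.subst, subst_comp_subst_apply (hs_const (constantCoeff_X i)) hA]
    rw [PowerSeries.subst]
    congr 1
    funext _
    rw [subst_X hA]

end rows

end Groth.Agent.H15.LubinTate
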