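import Mathlib
import Groth.Agent.H15.LubinTate2
open MvPowerSeries

namespace Groth.Agent.H15.LubinTate

section exist
variable {O : Type*} [CommRing O] {σ : Type*} [Finite σ]

open Classical

/-- the correction term -/
noncomputable def corr (π : O) (q : ℕ) (φ : MvPowerSeries σ O) (n : ℕ) : MvPowerSeries σ O :=
  fun d => if d.degree = n then
    (if h : ∃ c, (π - π ^ n) * c = - coeff d (Δ π q φ) then h.choose else 0) else 0

theorem coeff_corr_of_ne (π : O) (q : ℕ) (φ : MvPowerSeries σ O) (n : ℕ) (d : σ →₀ ℕ)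
    (hd : d.degree ≠ n) : coeff d (corr π q φ n) = 0 := by
  show (corr π q φ n) d = 0
  unfold corr
  rw [if_neg hd]

theorem coeff_corr_of_eq (π : O) (q : ℕ) (φ : MvPowerSeries σ O) (n : ℕ) (d : σ →₀ ℕ)
    (hd : d.degree = n) (h : ∃ c, (π - π ^ n) * c = - coeff d (Δ π q φ)) :
    (π - π ^ n) * coeff d (corr π q φ n) = - coeff d (Δ π q φ) := by
  show (π - π ^ n) * (corr π q φ n) d = _
  unfold corr
  rw [if_pos hd, dif_pos h]
  exact h.choose_spec

/-- the approximating sequence -/
noncomputable def seq (π : O) (q : ℕ) (L : MvPowerSeries σ O) : ℕ → MvPowerSeries σ O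
  | 0 => L
  | (n+1) => seq π q L n + corr π q (seq π q L n) (n+2)

theorem seq_succ (π : O) (q : ℕ) (L : MvPowerSeries σ O) (n : ℕ) :
    seq π q L (n+1) = seq π q L n + corr π q (seq π q L n) (n+2) := rfl

theorem coeff_seq_succ (π : O) (q : ℕ) (L : MvPowerSeries σ O) (n : ℕ) (d : σ →₀ ℕ)
    (hd : d.degree ≤ n + 1) : coeff d (seq π q L (n+1)) = coeff d (seq π q L n) := by
  rw [seq_succ, map_add, coeff_corr_of_ne _ _ _ _ _ (by omega), add_zero]

theorem coeff_seq_stable (π : O) (q : ℕ) (L : MvPowerSeries σ O) (n m : ℕ) (hnm : n ≤ m)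
    (d : σ →₀ ℕ) (hd : d.degree ≤ n + 1) : coeff d (seq π q L m) = coeff d (seq π q L n) := by
  induction m, hnm using Nat.le_induction with
  | base => rfl
  | succ m hm ih => rw [coeff_seq_succ _ _ _ _ _ (by omega), ih]

theorem Δ_zero (π : O) {q : ℕ} (hq : 1 ≤ q) : Δ π q (0 : MvPowerSeries σ O) = 0 := by
  unfold Δ
  rw [smul_zero, zero_pow (by omega), add_zero, ← coe_substAlgHom (hasSubst_Avec π hq), map_zero,
    sub_zero]

theorem seq_inv (π : O) {q : ℕ} (hq : 2 ≤ q)
    (hsolve : ∀ n : ℕ, 2 ≤ n → ∀ (φ : MvPowerSeries σ O) (d : σ →₀ ℕ),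
      ∃ c, (π - π ^ n) * c = - coeff d (Δ π q φ))
    (L : MvPowerSeries σ O) (hL : constantCoeff L = 0) (n : ℕ) :
    constantCoeff (seq π q L n) = 0 ∧
      ∀ d : σ →₀ ℕ, d.degree ≤ n + 1 → coeff d (Δ π q (seq π q L n)) = 0 := by
  induction n with
  | zero =>
    refine ⟨hL, ?_⟩
    intro d hd
    have hK := K π hq 1 (φ := L) (φ' := 0) hL (map_zero _) (by
      intro e he
      have : e = 0 := by
        rw [← Finsupp.degree_eq_zero_iff]; omega
      rw [this, coeff_zero_eq_constantCoeff_apply, hL, map_zero]) d hd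
    rw [Δ_zero π (by omega), map_zero, sub_zero, sub_zero] at hK
    rw [show seq π q L 0 = L from rfl, hK]
    rcases Nat.lt_or_ge d.degree 1 with h | h
    · have : d = 0 := by
        rw [← Finsupp.degree_eq_zero_iff]; omega
      rw [this, coeff_zero_eq_constantCoeff_apply, hL, mul_zero]
    · have : d.degree = 1 := by omega
      rw [this, pow_one, sub_self, zero_mul]
  | succ n ih =>
    obtain ⟨ih0, ihΔ⟩ := ih
    have h0 : constantCoeff (seq π q L (n+1)) = 0 := by
      rw [← coeff_zero_eq_constantCoeff_apply, coeff_seq_succ _ _ _ _ _ (by simp),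
        coeff_zero_eq_constantCoeff_apply, ih0]
    refine ⟨h0, ?_⟩
    intro d hd
    have hK := K π hq (n + 2) (φ := seq π q L (n+1)) (φ' := seq π q L n) h0 ih0 (by
      intro e he
      exact coeff_seq_succ _ _ _ _ _ (by omega)) d (by omega)
    rw [seq_succ π q L n, map_add, add_sub_cancel_left] at hK
    rcases Nat.lt_or_ge d.degree (n + 2) with h | h
    · rw [coeff_corr_of_ne _ _ _ _ _ (by omega), mul_zero, ihΔ d (by omega), sub_zero] at hK
      exact hK
    · have hdn : d.degree = n + 2 := by omega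
      rw [hdn, coeff_corr_of_eq _ _ _ _ _ hdn (hsolve _ (by omega) _ _)] at hK
      rw [← seq_succ] at hK
      have := sub_eq_iff_eq_add.mp hK
      rw [this, neg_add_cancel]

/-- the limit series -/
noncomputable def lim (π : O) (q : ℕ) (L : MvPowerSeries σ O) : MvPowerSeries σ O :=
  fun d => coeff d (seq π q L d.degree)

theorem coeff_lim (π : O) (q : ℕ) (L : MvPowerSeries σ O) (d : σ →₀ ℕ) (m : ℕ)
    (hm : d.degree ≤ m + 1) : coeff d (lim π q L) = coeff d (seq π q L m) := by
  show coeff d (seq π q L d.degree) = _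
  rcases le_total d.degree m with h | h
  · exact (coeff_seq_stable π q L d.degree m h d (by omega)).symm
  · exact coeff_seq_stable π q L m d.degree h d hm

theorem exists_sol (π : O) {q : ℕ} (hq : 2 ≤ q)
    (hsolve : ∀ n : ℕ, 2 ≤ n → ∀ (φ : MvPowerSeries σ O) (d : σ →₀ ℕ),
      ∃ c, (π - π ^ n) * c = - coeff d (Δ π q φ))
    (L : MvPowerSeries σ O) (hL : constantCoeff L = 0) :
    ∃ φ : MvPowerSeries σ O, constantCoeff φ = 0 ∧
      (∀ d : σ →₀ ℕ, d.degree ≤ 1 → coeff d φ = coeff d L) ∧ Δ π q φ = 0 := by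
  have h0 : constantCoeff (lim π q L) = 0 := by
    rw [← coeff_zero_eq_constantCoeff_apply, coeff_lim π q L 0 0 (by simp)]
    exact hL
  refine ⟨lim π q L, h0, ?_, ?_⟩
  · intro d hd
    exact coeff_lim π q L d 0 (by omega)
  · ext d
    obtain ⟨i0, iΔ⟩ := seq_inv π hq hsolve L hL d.degree
    have hK := K π hq d.degree (φ := lim π q L) (φ' := seq π q L d.degree) h0 i0 (by
      intro e he
      exact coeff_lim π q L e d.degree (by omega)) d le_rfl
    rw [coeff_lim π q L d d.degree (by omega), sub_self, mul_zero, iΔ d (by omega), sub_zero] at hK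
    rw [hK, map_zero]

end exist

section divis
variable {O : Type*} [CommRing O] {σ : Type*} [Finite σ]

theorem expand_card {k : Type*} [Field k] [Fintype k] (g : MvPowerSeries σ k) :
    subst (fun s => (X s : MvPowerSeries σ k) ^ (Fintype.card k)) g = g ^ (Fintype.card k) := by
  obtain ⟨p, hp, n, hpp, hcard⟩ := FiniteField.card' k
  haveI := hp
  haveI : ExpChar k p := ExpChar.prime hpp
  have h := map_iterateFrobenius_expand p hpp.ne_zero g n
  have hid : iterateFrobenius k p n = RingHom.id k := by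
    ext x
    rw [iterateFrobenius_def, ← hcard, FiniteField.pow_card]
    rfl
  rw [hid, MvPowerSeries.map_id] at h
  rw [hcard, ← h, RingHom.id_apply, expand, coe_substAlgHom]

theorem map_Δ_eq_zero {k : Type*} [Field k] [Fintype k] (ρ : O →+* k) (π : O) (hπ : ρ π = 0)
    (φ : MvPowerSeries σ O) :
    MvPowerSeries.map ρ (Δ π (Fintype.card k) φ) = 0 := by
  have hq : 1 ≤ Fintype.card k := Fintype.card_pos
  unfold Δ
  rw [map_sub, map_add, map_pow, map_subst (hasSubst_Avec π hq), smul_eq_C_mul, map_mul, map_C, hπ,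
    map_zero, zero_mul, zero_add]
  have : (fun i => MvPowerSeries.map ρ (Avec π (Fintype.card k) i)) =
      fun s => (X s : MvPowerSeries σ k) ^ (Fintype.card k) := by
    funext s
    unfold Avec
    rw [map_add, smul_eq_C_mul, map_mul, map_C, hπ, map_zero, zero_mul, zero_add, map_pow, map_X]
  rw [this, expand_card, sub_self]

end divis

section dvr2
variable {O : Type*} [CommRing O] [IsDomain O] [IsDiscreteValuationRing O]
  [Finite (IsLocalRing.ResidueField O)] {σ : Type*} [Finite σ]

theorem hsolve_dvr {π : O} (hπ : Irreducible π) :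
    ∀ n : ℕ, 2 ≤ n → ∀ (φ : MvPowerSeries σ O) (d : σ →₀ ℕ),
      ∃ c, (π - π ^ n) * c = - coeff d (Δ π (Nat.card (IsLocalRing.ResidueField O)) φ) := by
  intro n hn φ d
  haveI : Fintype (IsLocalRing.ResidueField O) := Fintype.ofFinite _
  have hπm : π ∈ IsLocalRing.maximalIdeal O := by
    rw [hπ.maximalIdeal_eq]; exact Ideal.mem_span_singleton_self π
  have hρπ : IsLocalRing.residue O π = 0 := by
    rw [IsLocalRing.residue_eq_zero_iff]; exact hπm
  have h0 := map_Δ_eq_zero (σ := σ) (IsLocalRing.residue O) π hρπ φ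
  rw [← Nat.card_eq_fintype_card] at h0
  have h1 : IsLocalRing.residue O (coeff d (Δ π (Nat.card (IsLocalRing.ResidueField O)) φ)) = 0 := by
    rw [← coeff_map, h0, map_zero]
  rw [IsLocalRing.residue_eq_zero_iff, hπ.maximalIdeal_eq, Ideal.mem_span_singleton] at h1
  obtain ⟨y, hy⟩ := h1
  have hu : IsUnit (1 - π ^ (n - 1)) := by
    apply IsLocalRing.isUnit_one_sub_self_of_mem_nonunits
    rw [← IsLocalRing.mem_maximalIdeal]
    exact Ideal.pow_mem_of_mem _ hπm _ (by omega)
  obtain ⟨u, hu⟩ := hu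
  refine ⟨- y * ↑u⁻¹, ?_⟩
  have hfac : π - π ^ n = π * (1 - π ^ (n - 1)) := by
    rw [mul_sub, mul_one, ← pow_succ', Nat.sub_add_cancel (by omega)]
  rw [hfac, ← hu, hy]
  have : (u : O) * ↑u⁻¹ = 1 := Units.mul_inv u
  calc π * (u : O) * (-y * ↑u⁻¹) = - (π * y) * ((u : O) * ↑u⁻¹) := by ring
    _ = - (π * y) := by rw [this, mul_one]

end dvr2

section rows2
universe u
variable (O : Type u) [CommRing O] [IsDomain O] [IsDiscreteValuationRing O]
  [Finite (IsLocalRing.ResidueField O)]

theorem S15050_main (π : O) (hπ : Irreducible π) (f : PowerSeries O)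
    (hf : f = π • PowerSeries.X + PowerSeries.X ^ Nat.card (IsLocalRing.ResidueField O)) (α : O) :
    ∃! g : PowerSeries O, g.constantCoeff = 0 ∧ g.coeff 1 = α ∧
      PowerSeries.subst g f = PowerSeries.subst f g := by
  have hfe : f = fLT π (Nat.card (IsLocalRing.ResidueField O)) := hf
  obtain ⟨φ, h0, hlin, hΔ⟩ := exists_sol (σ := Unit) π (two_le_card (O := O)) (hsolve_dvr hπ)
    (α • PowerSeries.X : PowerSeries O) (by
      show PowerSeries.constantCoeff (α • PowerSeries.X : PowerSeries O) = 0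
      simp)
  have hcomm : PowerSeries.subst φ f = PowerSeries.subst f φ := by
    rw [Δ_unit π _ φ h0, sub_eq_zero] at hΔ
    rw [hfe]; exact hΔ
  have h1 : PowerSeries.coeff 1 (φ : PowerSeries O) = α := by
    rw [coeff_one_eq, hlin _ (by simp), ← coeff_one_eq]
    simp
  refine ⟨φ, ⟨h0, h1, hcomm⟩, ?_⟩
  rintro g ⟨g0, g1, gc⟩
  apply unique_one O π hπ g φ g0 h0 (by rw [g1, h1])
  · rw [← hfe]; exact gc
  · rw [← hfe]; exact hcomm

end rows2

end Groth.Agent.H15.LubinTate
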