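import Mathlib
import Groth.Agent.H15.LubinTate3
open MvPowerSeries

namespace Groth.Agent.H15.LubinTate

section fg
variable {O : Type*} [CommRing O]

theorem Δ_X {σ : Type*} [Finite σ] (π : O) {q : ℕ} (hq : 1 ≤ q) (s : σ) :
    Δ π q (X s : MvPowerSeries σ O) = 0 := by
  unfold Δ
  rw [subst_X (hasSubst_Avec π hq)]
  unfold Avec
  rw [sub_self]

theorem Δ_subst {τ υ : Type*} [Finite τ] [Finite υ] (π : O) {q : ℕ} (hq : 1 ≤ q)
    (Φ : MvPowerSeries τ O) (hΦ0 : constantCoeff Φ = 0) (hΦ : Δ π q Φ = 0)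
    (b : τ → MvPowerSeries υ O) (hb0 : ∀ t, constantCoeff (b t) = 0) (hb : ∀ t, Δ π q (b t) = 0) :
    Δ π q (subst b Φ) = 0 := by
  have hf0 := constantCoeff_fLT π hq
  have hc : constantCoeff (subst b Φ) = 0 := constantCoeff_subst_zero hb0 hΦ0
  rw [Δ_eq π q hc, sub_eq_zero]
  have hΦ' : PowerSeries.subst Φ (fLT π q) =
      subst (fun i : τ => PowerSeries.subst (X i : MvPowerSeries τ O) (fLT π q)) Φ := by
    rw [Δ_eq π q hΦ0, sub_eq_zero] at hΦ; exact hΦ
  rw [subst_vec_comm (fLT π q) hf0 Φ hΦ0 hΦ' b hb0]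
  have hA : HasSubst (fun s : υ => PowerSeries.subst (X s : MvPowerSeries υ O) (fLT π q)) := by
    apply hasSubst_of_constantCoeff_zero
    intro i
    exact constantCoeff_subst_zero (τ := Unit) (fun _ => constantCoeff_X i) hf0
  rw [subst_comp_subst_apply (hasSubst_of_constantCoeff_zero hb0) hA]
  congr 1
  funext i
  have := hb i
  rw [Δ_eq π q (hb0 i), sub_eq_zero] at this
  exact this

theorem lin_subst_two {υ : Type*} [Finite υ] (Φ : MvPowerSeries (Fin 2) O)
    (h1 : coeff (Finsupp.single 0 1) Φ = 1) (h2 : coeff (Finsupp.single 1 1) Φ = 1)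
    (b : Fin 2 → MvPowerSeries υ O) (hb0 : ∀ t, constantCoeff (b t) = 0)
    (e : υ →₀ ℕ) (he : e.degree = 1) :
    coeff e (subst b Φ) = coeff e (b 0) + coeff e (b 1) := by
  rw [coeff_lin_subst b hb0 Φ e he, finsum_eq_sum_of_fintype, Fin.sum_univ_two, h1, h2,
    one_mul, one_mul]

end fg

section rows3
universe u
variable (O : Type u) [CommRing O] [IsDomain O] [IsDiscreteValuationRing O]
  [Finite (IsLocalRing.ResidueField O)]

theorem S15049_main (π : O) (hπ : Irreducible π) (f : PowerSeries O)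
    (hf : f = π • PowerSeries.X + PowerSeries.X ^ Nat.card (IsLocalRing.ResidueField O)) :
    ∃ F : FormalGroup O, F.IsComm ∧
      PowerSeries.subst F.toPowerSeries f =
        MvPowerSeries.subst (fun i : Fin 2 => PowerSeries.subst (MvPowerSeries.X i : MvPowerSeries (Fin 2) O) f) F.toPowerSeries ∧
      ∀ G : MvPowerSeries (Fin 2) O, G.constantCoeff = 0 → G.coeff (Finsupp.single 0 1) = 1 →
        G.coeff (Finsupp.single 1 1) = 1 →
        PowerSeries.subst G f =
        MvPowerSeries.subst (fun i : Fin 2 => PowerSeries.subst (MvPowerSeries.X i : MvPowerSeries (Fin 2) O) f) G →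
        G = F.toPowerSeries := by
  have hfe : f = fLT π (Nat.card (IsLocalRing.ResidueField O)) := hf
  have hq2 : 2 ≤ Nat.card (IsLocalRing.ResidueField O) := two_le_card (O := O)
  have hq1 : 1 ≤ Nat.card (IsLocalRing.ResidueField O) := le_trans (by norm_num) hq2
  have hreg := hreg_of_irreducible hπ
  obtain ⟨φ, h0, hlin, hΔ⟩ := exists_sol (σ := Fin 2) π hq2 (hsolve_dvr hπ)
    (X 0 + X 1 : MvPowerSeries (Fin 2) O) (by
      rw [map_add, constantCoeff_X, constantCoeff_X, add_zero])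
  have hne : (Finsupp.single (0 : Fin 2) 1 : Fin 2 →₀ ℕ) ≠ Finsupp.single 1 1 := by
    intro h
    have := Finsupp.single_left_injective (one_ne_zero) h
    exact absurd this (by decide)
  have hl0 : coeff (Finsupp.single 0 1) φ = 1 := by
    rw [hlin _ (by simp), map_add, coeff_X, coeff_X, if_pos rfl, if_neg hne, add_zero]
  have hl1 : coeff (Finsupp.single 1 1) φ = 1 := by
    rw [hlin _ (by simp), map_add, coeff_X, coeff_X, if_pos rfl, if_neg hne.symm, zero_add]
  -- associativity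
  have hassoc : subst ![subst ![(X (0 : Fin 3) : MvPowerSeries (Fin 3) O), X 1] φ, X 2] φ =
      subst ![(X (0 : Fin 3) : MvPowerSeries (Fin 3) O), subst ![(X (1 : Fin 3) : MvPowerSeries (Fin 3) O), X 2] φ] φ := by
    have hb01 : ∀ t : Fin 2, constantCoeff ((![(X (0 : Fin 3) : MvPowerSeries (Fin 3) O), X 1] :
        Fin 2 → MvPowerSeries (Fin 3) O) t) = 0 := by
      intro t; fin_cases t <;> exact constantCoeff_X _
    have hb12 : ∀ t : Fin 2, constantCoeff ((![(X (1 : Fin 3) : MvPowerSeries (Fin 3) O), X 2] :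
        Fin 2 → MvPowerSeries (Fin 3) O) t) = 0 := by
      intro t; fin_cases t <;> exact constantCoeff_X _
    have hΔ01 : ∀ t : Fin 2, Δ π (Nat.card (IsLocalRing.ResidueField O))
        ((![(X (0 : Fin 3) : MvPowerSeries (Fin 3) O), X 1] : Fin 2 → MvPowerSeries (Fin 3) O) t) = 0 := by
      intro t; fin_cases t <;> exact Δ_X π hq1 _
    have hΔ12 : ∀ t : Fin 2, Δ π (Nat.card (IsLocalRing.ResidueField O))
        ((![(X (1 : Fin 3) : MvPowerSeries (Fin 3) O), X 2] : Fin 2 → MvPowerSeries (Fin 3) O) t) = 0 := by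
      intro t; fin_cases t <;> exact Δ_X π hq1 _
    have c01 := constantCoeff_subst_zero hb01 h0
    have c12 := constantCoeff_subst_zero hb12 h0
    have d01 := Δ_subst π hq1 φ h0 hΔ _ hb01 hΔ01
    have d12 := Δ_subst π hq1 φ h0 hΔ _ hb12 hΔ12
    have hbL : ∀ t : Fin 2, constantCoeff ((![subst ![(X (0 : Fin 3) : MvPowerSeries (Fin 3) O), X 1] φ, X 2] :
        Fin 2 → MvPowerSeries (Fin 3) O) t) = 0 := by
      intro t; fin_cases t
      · exact c01
      · exact constantCoeff_X _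
    have hbR : ∀ t : Fin 2, constantCoeff ((![(X (0 : Fin 3) : MvPowerSeries (Fin 3) O),
        subst ![(X (1 : Fin 3) : MvPowerSeries (Fin 3) O), X 2] φ] :
        Fin 2 → MvPowerSeries (Fin 3) O) t) = 0 := by
      intro t; fin_cases t
      · exact constantCoeff_X _
      · exact c12
    have hΔL : ∀ t : Fin 2, Δ π (Nat.card (IsLocalRing.ResidueField O))
        ((![subst ![(X (0 : Fin 3) : MvPowerSeries (Fin 3) O), X 1] φ, X 2] :
        Fin 2 → MvPowerSeries (Fin 3) O) t) = 0 := by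
      intro t; fin_cases t
      · exact d01
      · exact Δ_X π hq1 _
    have hΔR : ∀ t : Fin 2, Δ π (Nat.card (IsLocalRing.ResidueField O))
        ((![(X (0 : Fin 3) : MvPowerSeries (Fin 3) O),
        subst ![(X (1 : Fin 3) : MvPowerSeries (Fin 3) O), X 2] φ] :
        Fin 2 → MvPowerSeries (Fin 3) O) t) = 0 := by
      intro t; fin_cases t
      · exact Δ_X π hq1 _
      · exact d12
    apply unique (σ := Fin 3) π hq2 hreg (constantCoeff_subst_zero hbL h0)
      (constantCoeff_subst_zero hbR h0)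
    · intro s
      rw [lin_subst_two φ hl0 hl1 _ hbL _ (by simp), lin_subst_two φ hl0 hl1 _ hbR _ (by simp)]
      show coeff _ (subst ![(X (0 : Fin 3) : MvPowerSeries (Fin 3) O), X 1] φ) + coeff _ (X 2) =
        coeff _ (X 0) + coeff _ (subst ![(X (1 : Fin 3) : MvPowerSeries (Fin 3) O), X 2] φ)
      rw [lin_subst_two φ hl0 hl1 _ hb01 _ (by simp), lin_subst_two φ hl0 hl1 _ hb12 _ (by simp)]
      show coeff _ (X 0) + coeff _ (X 1) + coeff _ (X 2) = coeff _ (X 0) + (coeff _ (X 1) + coeff _ (X 2))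
      rw [add_assoc]
    · exact Δ_subst π hq1 φ h0 hΔ _ hbL hΔL
    · exact Δ_subst π hq1 φ h0 hΔ _ hbR hΔR
  -- commutativity
  have hcomm : φ = subst ![(X (1 : Fin 2) : MvPowerSeries (Fin 2) O), X 0] φ := by
    have hb : ∀ t : Fin 2, constantCoeff ((![(X (1 : Fin 2) : MvPowerSeries (Fin 2) O), X 0] :
        Fin 2 → MvPowerSeries (Fin 2) O) t) = 0 := by
      intro t; fin_cases t <;> exact constantCoeff_X _
    have hΔb : ∀ t : Fin 2, Δ π (Nat.card (IsLocalRing.ResidueField O))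
        ((![(X (1 : Fin 2) : MvPowerSeries (Fin 2) O), X 0] : Fin 2 → MvPowerSeries (Fin 2) O) t) = 0 := by
      intro t; fin_cases t <;> exact Δ_X π hq1 _
    apply unique (σ := Fin 2) π hq2 hreg h0 (constantCoeff_subst_zero hb h0)
    · intro s
      rw [lin_subst_two φ hl0 hl1 _ hb _ (by simp), hlin _ (by simp), map_add]
      show coeff _ (X 0) + coeff _ (X 1) = coeff _ (X 1) + coeff _ (X 0)
      rw [add_comm]
    · exact hΔ
    · exact Δ_subst π hq1 φ h0 hΔ _ hb hΔb
  refine ⟨⟨φ, h0, hl0, hl1, hassoc⟩, ⟨hcomm⟩, ?_, ?_⟩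
  · show PowerSeries.subst φ f = subst (fun i : Fin 2 => PowerSeries.subst (X i : MvPowerSeries (Fin 2) O) f) φ
    rw [Δ_eq π _ h0, sub_eq_zero] at hΔ
    rw [hfe]; exact hΔ
  · intro G hG0 hG1 hG2 hG
    show G = φ
    apply unique (σ := Fin 2) π hq2 hreg hG0 h0
    · intro s
      fin_cases s
      · show coeff (Finsupp.single 0 1) G = coeff (Finsupp.single 0 1) φ
        rw [hG1, hl0]
      · show coeff (Finsupp.single 1 1) G = coeff (Finsupp.single 1 1) φ
        rw [hG2, hl1]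
    · rw [Δ_eq π _ hG0, sub_eq_zero, ← hfe]; exact hG
    · exact hΔ

end rows3

end Groth.Agent.H15.LubinTate
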