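import Mathlib
import Groth.Agent.H15.LubinTate4
open MvPowerSeries

namespace Groth.Agent.H15.LubinTate.Log

section base
variable {O : Type*} [CommRing O] {σ : Type*} [Finite σ]

open Classical

/-- the (linear) defect operator for the logarithm: `π ℓ - ℓ(f X)` -/
noncomputable def Δ (π : O) (q : ℕ) (φ : MvPowerSeries σ O) : MvPowerSeries σ O :=
  π • φ - subst (Avec π q) φ

theorem Δ_zero (π : O) {q : ℕ} (hq : 1 ≤ q) : Δ π q (0 : MvPowerSeries σ O) = 0 := by
  unfold Δ
  rw [smul_zero, ← coe_substAlgHom (hasSubst_Avec π hq), map_zero, sub_zero]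

/-- the key congruence lemma (log version; the constant-coefficient hypotheses are unused) -/
theorem K (π : O) {q : ℕ} (hq : 2 ≤ q) (n : ℕ) {φ φ' : MvPowerSeries σ O}
    (_hφ : constantCoeff φ = 0) (_hφ' : constantCoeff φ' = 0)
    (hD : ∀ e : σ →₀ ℕ, e.degree < n → coeff e φ = coeff e φ') (d : σ →₀ ℕ) (hd : d.degree ≤ n) :
    coeff d (Δ π q φ) - coeff d (Δ π q φ') =
      (π - π ^ d.degree) * (coeff d φ - coeff d φ') := by
  set D := φ - φ' with hDdef
  have hDz : ∀ e : σ →₀ ℕ, e.degree < n → coeff e D = 0 := by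
    intro e he
    rw [hDdef, map_sub, hD e he, sub_self]
  have hA := hasSubst_Avec (σ := σ) π (by omega : 1 ≤ q)
  have P2 : coeff d (subst (Avec π q) D) = π ^ d.degree * coeff d D := by
    rw [coeff_subst hA, finsum_eq_single _ d]
    · rw [coeff_prod_Avec π hq d d le_rfl, if_pos rfl, smul_eq_mul, mul_comm]
    · intro e hed
      by_cases he : e.degree < n
      · rw [hDz e he, zero_smul]
      · rw [coeff_prod_Avec π hq e d (by omega), if_neg hed, smul_zero]
  have hsub : Δ π q φ - Δ π q φ' = π • D - subst (Avec π q) D := by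
    unfold Δ
    rw [hDdef, subst_sub hA, smul_sub]
    ring
  rw [← map_sub, hsub, map_sub, P2, hDdef, coeff_smul, map_sub]
  ring

/-- general uniqueness -/
theorem unique (π : O) {q : ℕ} (hq : 2 ≤ q)
    (hreg : ∀ n : ℕ, 2 ≤ n → ∀ c : O, (π - π ^ n) * c = 0 → c = 0)
    {φ φ' : MvPowerSeries σ O} (hφ : constantCoeff φ = 0) (hφ' : constantCoeff φ' = 0)
    (hlin : ∀ s : σ, coeff (Finsupp.single s 1) φ = coeff (Finsupp.single s 1) φ')
    (h : Δ π q φ = 0) (h' : Δ π q φ' = 0) : φ = φ' := by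
  have key : ∀ n : ℕ, ∀ d : σ →₀ ℕ, d.degree < n → coeff d φ = coeff d φ' := by
    intro n
    induction n with
    | zero => intro d hd; omega
    | succ n ih =>
      intro d hd
      by_cases hlt : d.degree < n
      · exact ih d hlt
      · have hdn : d.degree = n := by omega
        rcases n with _ | _ | n
        · rw [Finsupp.degree_eq_zero_iff] at hdn
          rw [hdn, coeff_zero_eq_constantCoeff_apply, coeff_zero_eq_constantCoeff_apply, hφ, hφ']
        · obtain ⟨s, rfl⟩ := degree_one hdn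
          exact hlin s
        · have hK := K π hq (n + 2) hφ hφ' ih d (by omega)
          rw [h, h', map_zero, sub_zero, hdn] at hK
          have := hreg (n + 2) (by omega) _ hK.symm
          exact sub_eq_zero.mp this
  ext d
  exact key (d.degree + 1) d (Nat.lt_succ_self _)



/-- the correction term -/
noncomputable def corr (π : O) (q : ℕ) (φ : MvPowerSeries σ O) (n : ℕ) : MvPowerSeries σ O :=
  fun d => if d.degree = n then
    (if h : ∃ c, (π - π ^ n) * c = - coeff d (Δ π q φ) then h.choose else 0) else 0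

theorem coeff_corr_of_ne (π : O) (q : ℕ) (φ : MvPowerSeries σ O) (n : ℕ) (d : σ →₀ ℕ)
    (hd : d.degree ≠ n) : coeff d (corr π q φ n) = 0 := by
  show (corr π q φ n) d = 0
  unfold corr
  rw [if_neg hd]

theorem coeff_corr_of_eq (π : O) (q : ℕ) (φ : MvPowerSeries σ O) (n : ℕ) (d : σ →₀ ℕ)
    (hd : d.degree = n) (h : ∃ c, (π - π ^ n) * c = - coeff d (Δ π q φ)) :
    (π - π ^ n) * coeff d (corr π q φ n) = - coeff d (Δ π q φ) := by
  show (π - π ^ n) * (corr π q φ n) d = _
  unfold corr
  rw [if_pos hd, dif_pos h]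
  exact h.choose_spec

/-- the approximating sequence -/
noncomputable def seq (π : O) (q : ℕ) (L : MvPowerSeries σ O) : ℕ → MvPowerSeries σ O
  | 0 => L
  | (n+1) => seq π q L n + corr π q (seq π q L n) (n+2)

theorem seq_succ (π : O) (q : ℕ) (L : MvPowerSeries σ O) (n : ℕ) :
    seq π q L (n+1) = seq π q L n + corr π q (seq π q L n) (n+2) := rfl

theorem coeff_seq_succ (π : O) (q : ℕ) (L : MvPowerSeries σ O) (n : ℕ) (d : σ →₀ ℕ)
    (hd : d.degree ≤ n + 1) : coeff d (seq π q L (n+1)) = coeff d (seq π q L n) := by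
  rw [seq_succ, map_add, coeff_corr_of_ne _ _ _ _ _ (by omega), add_zero]

theorem coeff_seq_stable (π : O) (q : ℕ) (L : MvPowerSeries σ O) (n m : ℕ) (hnm : n ≤ m)
    (d : σ →₀ ℕ) (hd : d.degree ≤ n + 1) : coeff d (seq π q L m) = coeff d (seq π q L n) := by
  induction m, hnm using Nat.le_induction with
  | base => rfl
  | succ m hm ih => rw [coeff_seq_succ _ _ _ _ _ (by omega), ih]

theorem seq_inv (π : O) {q : ℕ} (hq : 2 ≤ q)
    (hsolve : ∀ n : ℕ, 2 ≤ n → ∀ (φ : MvPowerSeries σ O) (d : σ →₀ ℕ),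
      ∃ c, (π - π ^ n) * c = - coeff d (Δ π q φ))
    (L : MvPowerSeries σ O) (hL : constantCoeff L = 0) (n : ℕ) :
    constantCoeff (seq π q L n) = 0 ∧
      ∀ d : σ →₀ ℕ, d.degree ≤ n + 1 → coeff d (Δ π q (seq π q L n)) = 0 := by
  induction n with
  | zero =>
    refine ⟨hL, ?_⟩
    intro d hd
    have hK := K π hq 1 (φ := L) (φ' := 0) hL (map_zero _) (by
      intro e he
      have : e = 0 := by
        rw [← Finsupp.degree_eq_zero_iff]; omega
      rw [this, coeff_zero_eq_constantCoeff_apply, hL, map_zero]) d hd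
    rw [Δ_zero π (by omega), map_zero, sub_zero, sub_zero] at hK
    rw [show seq π q L 0 = L from rfl, hK]
    rcases Nat.lt_or_ge d.degree 1 with h | h
    · have : d = 0 := by
        rw [← Finsupp.degree_eq_zero_iff]; omega
      rw [this, coeff_zero_eq_constantCoeff_apply, hL, mul_zero]
    · have : d.degree = 1 := by omega
      rw [this, pow_one, sub_self, zero_mul]
  | succ n ih =>
    obtain ⟨ih0, ihΔ⟩ := ih
    have h0 : constantCoeff (seq π q L (n+1)) = 0 := by
      rw [← coeff_zero_eq_constantCoeff_apply, coeff_seq_succ _ _ _ _ _ (by simp),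
        coeff_zero_eq_constantCoeff_apply, ih0]
    refine ⟨h0, ?_⟩
    intro d hd
    have hK := K π hq (n + 2) (φ := seq π q L (n+1)) (φ' := seq π q L n) h0 ih0 (by
      intro e he
      exact coeff_seq_succ _ _ _ _ _ (by omega)) d (by omega)
    rw [seq_succ π q L n, map_add, add_sub_cancel_left] at hK
    rcases Nat.lt_or_ge d.degree (n + 2) with h | h
    · rw [coeff_corr_of_ne _ _ _ _ _ (by omega), mul_zero, ihΔ d (by omega), sub_zero] at hK
      exact hK
    · have hdn : d.degree = n + 2 := by omega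
      rw [hdn, coeff_corr_of_eq _ _ _ _ _ hdn (hsolve _ (by omega) _ _)] at hK
      rw [← seq_succ] at hK
      have := sub_eq_iff_eq_add.mp hK
      rw [this, neg_add_cancel]

/-- the limit series -/
noncomputable def lim (π : O) (q : ℕ) (L : MvPowerSeries σ O) : MvPowerSeries σ O :=
  fun d => coeff d (seq π q L d.degree)

theorem coeff_lim (π : O) (q : ℕ) (L : MvPowerSeries σ O) (d : σ →₀ ℕ) (m : ℕ)
    (hm : d.degree ≤ m + 1) : coeff d (lim π q L) = coeff d (seq π q L m) := by
  show coeff d (seq π q L d.degree) = _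
  rcases le_total d.degree m with h | h
  · exact (coeff_seq_stable π q L d.degree m h d (by omega)).symm
  · exact coeff_seq_stable π q L m d.degree h d hm

theorem exists_sol (π : O) {q : ℕ} (hq : 2 ≤ q)
    (hsolve : ∀ n : ℕ, 2 ≤ n → ∀ (φ : MvPowerSeries σ O) (d : σ →₀ ℕ),
      ∃ c, (π - π ^ n) * c = - coeff d (Δ π q φ))
    (L : MvPowerSeries σ O) (hL : constantCoeff L = 0) :
    ∃ φ : MvPowerSeries σ O, constantCoeff φ = 0 ∧
      (∀ d : σ →₀ ℕ, d.degree ≤ 1 → coeff d φ = coeff d L) ∧ Δ π q φ = 0 := by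
  have h0 : constantCoeff (lim π q L) = 0 := by
    rw [← coeff_zero_eq_constantCoeff_apply, coeff_lim π q L 0 0 (by simp)]
    exact hL
  refine ⟨lim π q L, h0, ?_, ?_⟩
  · intro d hd
    exact coeff_lim π q L d 0 (by omega)
  · ext d
    obtain ⟨i0, iΔ⟩ := seq_inv π hq hsolve L hL d.degree
    have hK := K π hq d.degree (φ := lim π q L) (φ' := seq π q L d.degree) h0 i0 (by
      intro e he
      exact coeff_lim π q L e d.degree (by omega)) d le_rfl
    rw [coeff_lim π q L d d.degree (by omega), sub_self, mul_zero, iΔ d (by omega), sub_zero] at hK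
    rw [hK, map_zero]


end base

section logcomp
variable {O : Type*} [CommRing O] {σ : Type*} [Finite σ]

theorem Δ_unit (π : O) (q : ℕ) (ℓ : PowerSeries O) :
    Δ (σ := Unit) π q ℓ = π • ℓ - PowerSeries.subst (fLT π q) ℓ := by
  unfold Δ
  rfl

theorem Δ_add (π : O) {q : ℕ} (hq : 1 ≤ q) (a b : MvPowerSeries σ O) :
    Δ π q (a + b) = Δ π q a + Δ π q b := by
  unfold Δ
  rw [smul_add, subst_add (hasSubst_Avec π hq)]
  ring

theorem Δ_smul (π : O) {q : ℕ} (hq : 1 ≤ q) (c : O) (a : MvPowerSeries σ O) :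
    Δ π q (c • a) = c • Δ π q a := by
  unfold Δ
  rw [subst_smul (hasSubst_Avec π hq), smul_sub, smul_comm]

/-- if `ℓ∘f = πℓ` and `b` is `f`-equivariant then `ℓ∘b` is killed by the log operator -/
theorem Δ_comp (π : O) {q : ℕ} (hq : 1 ≤ q) (ℓ : PowerSeries O)
    (hℓ : PowerSeries.subst (fLT π q) ℓ = π • ℓ)
    (b : MvPowerSeries σ O) (hb0 : constantCoeff b = 0) (hb : LubinTate.Δ π q b = 0) :
    Δ π q (PowerSeries.subst b ℓ) = 0 := by
  have hf0 := constantCoeff_fLT π hq
  have hA := hasSubst_Avec (σ := σ) π hq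
  have hsb : PowerSeries.HasSubst b := PowerSeries.HasSubst.of_constantCoeff_zero hb0
  have hsf : PowerSeries.HasSubst (fLT π q) := PowerSeries.HasSubst.of_constantCoeff_zero' hf0
  have hb' : subst (Avec π q) b = PowerSeries.subst b (fLT π q) := by
    rw [subst_fLT π q hb0]
    unfold LubinTate.Δ at hb
    exact (sub_eq_zero.mp hb).symm
  unfold Δ
  rw [sub_eq_zero]
  conv_rhs => rw [PowerSeries.subst, subst_comp_subst_apply (hs_const hb0) hA]
  rw [hb']
  show _ = PowerSeries.subst (PowerSeries.subst b (fLT π q)) ℓ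
  rw [← PowerSeries.subst_comp_subst_apply hsf hsb ℓ, hℓ, PowerSeries.subst_smul hsb]

theorem map_Avec {K : Type*} [CommRing K] (ι : O →+* K) (π : O) (q : ℕ) (s : σ) :
    MvPowerSeries.map ι (Avec π q s) = Avec (ι π) q s := by
  unfold Avec
  rw [map_add, smul_eq_C_mul, map_mul, map_C, map_pow, map_X, smul_eq_C_mul]

theorem map_Δ {K : Type*} [CommRing K] (ι : O →+* K) (π : O) {q : ℕ} (hq : 1 ≤ q)
    (φ : MvPowerSeries σ O) :
    MvPowerSeries.map ι (LubinTate.Δ π q φ) = LubinTate.Δ (ι π) q (MvPowerSeries.map ι φ) := by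
  unfold LubinTate.Δ
  rw [map_sub, map_add, map_pow, map_subst (hasSubst_Avec π hq), smul_eq_C_mul, map_mul, map_C,
    ← smul_eq_C_mul]
  congr 2
  funext s
  exact map_Avec ι π q s

theorem map_fLT {K : Type*} [CommRing K] (ι : O →+* K) (π : O) (q : ℕ) :
    PowerSeries.map ι (fLT π q) = fLT (ι π) q := by
  unfold fLT
  rw [map_add, PowerSeries.smul_eq_C_mul, map_mul, PowerSeries.map_C, map_pow, PowerSeries.map_X,
    PowerSeries.smul_eq_C_mul]

end logcomp

section rowlog
universe u
variable (O : Type u) [CommRing O] [IsDomain O] [IsDiscreteValuationRing O]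
  [Finite (IsLocalRing.ResidueField O)] (K : Type u) [Field K] [Algebra O K] [IsFractionRing O K]

theorem S15052_main (π : O) (hπ : Irreducible π) (f : PowerSeries O)
    (hf : f = π • PowerSeries.X + PowerSeries.X ^ Nat.card (IsLocalRing.ResidueField O))
    (F : FormalGroup O)
    (hF : PowerSeries.subst F.toPowerSeries f =
        MvPowerSeries.subst (fun i : Fin 2 => PowerSeries.subst (MvPowerSeries.X i : MvPowerSeries (Fin 2) O) f) F.toPowerSeries) :
    ∃ ℓ : PowerSeries K, (ℓ.constantCoeff = 0 ∧ ℓ.coeff 1 = 1 ∧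
      PowerSeries.subst (PowerSeries.map (algebraMap O K) f) ℓ = algebraMap O K π • ℓ) ∧
      (∀ ℓ' : PowerSeries K, ℓ'.constantCoeff = 0 → ℓ'.coeff 1 = 1 →
        PowerSeries.subst (PowerSeries.map (algebraMap O K) f) ℓ' = algebraMap O K π • ℓ' → ℓ' = ℓ) ∧
      PowerSeries.subst ((F.toPowerSeries).map (algebraMap O K)) ℓ =
        PowerSeries.subst (MvPowerSeries.X (0 : Fin 2) : MvPowerSeries (Fin 2) K) ℓ +
          PowerSeries.subst (MvPowerSeries.X (1 : Fin 2) : MvPowerSeries (Fin 2) K) ℓ ∧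
      (∀ (α : O) (g : PowerSeries O), g.constantCoeff = 0 → g.coeff 1 = α →
        PowerSeries.subst g f = PowerSeries.subst f g →
        PowerSeries.subst (PowerSeries.map (algebraMap O K) g) ℓ = algebraMap O K α • ℓ) := by
  set q := Nat.card (IsLocalRing.ResidueField O) with hqdef
  set ι := algebraMap O K with hι
  set ϖ := ι π with hϖ
  have hfe : f = fLT π q := hf
  have hq2 : 2 ≤ q := two_le_card (O := O)
  have hq1 : 1 ≤ q := le_trans (by norm_num) hq2
  have hinj : Function.Injective ι := IsFractionRing.injective O K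
  have hfK : PowerSeries.map ι f = fLT ϖ q := by rw [hfe, map_fLT]
  have hne : ∀ n : ℕ, 2 ≤ n → ϖ - ϖ ^ n ≠ 0 := by
    intro n hn h
    have h1 : ι (π - π ^ n) = 0 := by rw [map_sub, map_pow]; exact h
    have h2 : π - π ^ n = 0 := hinj (by rw [h1, map_zero])
    have := hreg_of_irreducible hπ n hn 1 (by rw [h2, zero_mul])
    exact one_ne_zero this
  have hregK : ∀ n : ℕ, 2 ≤ n → ∀ c : K, (ϖ - ϖ ^ n) * c = 0 → c = 0 := by
    intro n hn c hc
    rcases mul_eq_zero.mp hc with h | h
    · exact absurd h (hne n hn)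
    · exact h
  have hsolveK : ∀ (τ : Type) [Finite τ], ∀ n : ℕ, 2 ≤ n → ∀ (φ : MvPowerSeries τ K) (d : τ →₀ ℕ),
      ∃ c, (ϖ - ϖ ^ n) * c = - coeff d (Δ ϖ q φ) := by
    intro τ _ n hn φ d
    exact ⟨- coeff d (Δ ϖ q φ) / (ϖ - ϖ ^ n), mul_div_cancel₀ _ (hne n hn)⟩
  obtain ⟨ℓ, h0, hlin, hΔ⟩ := exists_sol (σ := Unit) ϖ hq2 (hsolveK Unit)
    (PowerSeries.X : PowerSeries K) (by
      show PowerSeries.constantCoeff (PowerSeries.X : PowerSeries K) = 0
      simp)
  have h1 : PowerSeries.coeff 1 (ℓ : PowerSeries K) = 1 := by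
    show coeff (Finsupp.single () 1) ℓ = 1
    rw [hlin _ (by simp)]
    show PowerSeries.coeff 1 (PowerSeries.X : PowerSeries K) = 1
    simp
  have hℓ : PowerSeries.subst (fLT ϖ q) (ℓ : PowerSeries K) = ϖ • ℓ := by
    rw [Δ_unit, sub_eq_zero] at hΔ
    exact hΔ.symm
  have hFK0 : constantCoeff (MvPowerSeries.map ι F.toPowerSeries) = 0 := by
    rw [← coeff_zero_eq_constantCoeff_apply, coeff_map, coeff_zero_eq_constantCoeff_apply,
      F.zero_constantCoeff, map_zero]
  have hΔF : LubinTate.Δ ϖ q (MvPowerSeries.map ι F.toPowerSeries) = 0 := by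
    rw [← map_Δ ι π hq1, LubinTate.Δ_eq π q F.zero_constantCoeff, ← hfe, hF, sub_self, map_zero]
  refine ⟨ℓ, ⟨h0, h1, ?_⟩, ?_, ?_, ?_⟩
  · rw [hfK]; exact hℓ
  · intro ℓ' h0' h1' hℓ'
    apply unique (σ := Unit) ϖ hq2 hregK h0' h0
    · intro s
      show PowerSeries.coeff 1 ℓ' = PowerSeries.coeff 1 (ℓ : PowerSeries K)
      rw [h1, h1']
    · rw [Δ_unit, ← hfK, hℓ', sub_self]
    · exact hΔ
  · -- additivity
    have hX : ∀ i : Fin 2, constantCoeff (PowerSeries.subst (X i : MvPowerSeries (Fin 2) K) (ℓ : PowerSeries K)) = 0 :=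
      fun i => constantCoeff_subst_zero (τ := Unit) (fun _ => constantCoeff_X i) h0
    apply unique (σ := Fin 2) ϖ hq2 hregK
      (constantCoeff_subst_zero (τ := Unit) (fun _ => hFK0) h0)
      (by rw [map_add, hX, hX, add_zero])
    · intro s
      have hXc : ∀ i : Fin 2, coeff (Finsupp.single s 1)
          (PowerSeries.subst (X i : MvPowerSeries (Fin 2) K) (ℓ : PowerSeries K))
          = coeff (Finsupp.single () 1) ℓ * coeff (Finsupp.single s 1) (X i : MvPowerSeries (Fin 2) K) := by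
        intro i
        rw [PowerSeries.subst, coeff_lin_subst (fun _ : Unit => (X i : MvPowerSeries (Fin 2) K))
          (fun _ => constantCoeff_X i) ℓ _ (by simp), finsum_unique]
      rw [map_add, hXc, hXc]
      show coeff (Finsupp.single s 1) (subst (fun _ : Unit => MvPowerSeries.map ι F.toPowerSeries)
        (ℓ : MvPowerSeries Unit K)) = _
      rw [coeff_lin_subst (fun _ : Unit => MvPowerSeries.map ι F.toPowerSeries)
        (fun _ => hFK0) ℓ _ (by simp), finsum_unique, coeff_map]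
      have hne01 : (Finsupp.single (0 : Fin 2) 1 : Fin 2 →₀ ℕ) ≠ Finsupp.single 1 1 := by
        intro h
        have := Finsupp.single_left_injective (one_ne_zero) h
        exact absurd this (by decide)
      fin_cases s
      · simp only [Fin.zero_eta, Fin.isValue]
        rw [F.lin_coeff_X, coeff_X, coeff_X, if_pos rfl, if_neg hne01, map_one]
        ring
      · simp only [Fin.mk_one, Fin.isValue]
        rw [F.lin_coeff_Y, coeff_X, coeff_X, if_pos rfl, if_neg hne01.symm, map_one]
        ring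
    · exact Δ_comp ϖ hq1 ℓ hℓ _ hFK0 hΔF
    · rw [Δ_add ϖ hq1, Δ_comp ϖ hq1 ℓ hℓ _ (constantCoeff_X _) (Δ_X ϖ hq1 _),
        Δ_comp ϖ hq1 ℓ hℓ _ (constantCoeff_X _) (Δ_X ϖ hq1 _), add_zero]
  · intro α g hg0 hg1 hgf
    have hgK0 : constantCoeff (PowerSeries.map ι g : MvPowerSeries Unit K) = 0 := by
      show PowerSeries.constantCoeff (PowerSeries.map ι g) = 0
      rw [← PowerSeries.coeff_zero_eq_constantCoeff_apply, PowerSeries.coeff_map,
        PowerSeries.coeff_zero_eq_constantCoeff_apply, hg0, map_zero]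
    have hΔg : LubinTate.Δ (σ := Unit) ϖ q (PowerSeries.map ι g) = 0 := by
      show LubinTate.Δ (σ := Unit) ϖ q (MvPowerSeries.map ι g) = 0
      rw [← map_Δ ι π hq1, Δ_zero_of_comm O π q g hg0 (by rw [← hfe]; exact hgf), map_zero]
    apply unique (σ := Unit) ϖ hq2 hregK
      (constantCoeff_subst_zero (τ := Unit) (υ := Unit) (fun _ => hgK0) h0)
      (by
        show PowerSeries.constantCoeff (ι α • (ℓ : PowerSeries K)) = 0
        rw [PowerSeries.smul_eq_C_mul, map_mul]
        have : PowerSeries.constantCoeff (ℓ : PowerSeries K) = 0 := h0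
        rw [this, mul_zero])
    · intro s
      show coeff (Finsupp.single s 1) (subst (fun _ : Unit => (PowerSeries.map ι g : MvPowerSeries Unit K))
        (ℓ : MvPowerSeries Unit K)) = _
      rw [coeff_lin_subst (fun _ : Unit => (PowerSeries.map ι g : MvPowerSeries Unit K))
        (fun _ => hgK0) ℓ _ (by simp), finsum_unique]
      show PowerSeries.coeff 1 (ℓ : PowerSeries K) * PowerSeries.coeff 1 (PowerSeries.map ι g) =
        PowerSeries.coeff 1 (ι α • (ℓ : PowerSeries K))
      rw [h1, PowerSeries.coeff_map, hg1, PowerSeries.coeff_smul, h1, smul_eq_mul, one_mul, mul_one]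
    · exact Δ_comp ϖ hq1 ℓ hℓ _ hgK0 hΔg
    · rw [Δ_smul ϖ hq1, hΔ, smul_zero]

end rowlog

end Groth.Agent.H15.LubinTate.Log
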