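import Mathlib
set_option autoImplicit false
universe u

namespace Groth.Agent.H15.MLSeq

open CategoryTheory Opposite

variable (G : ℕᵒᵖ ⥤ AddCommGrpCat.{u})

/-- transition map `G_b → G_a` for `a ≤ b` -/
def tr (a b : ℕ) (h : a ≤ b) : G.obj (op b) → G.obj (op a) := (G.map (homOfLE h).op).hom

theorem tr_comp (a b c : ℕ) (hab : a ≤ b) (hbc : b ≤ c) (x : G.obj (op c)) :
    tr G a b hab (tr G b c hbc x) = tr G a c (hab.trans hbc) x := by
  unfold tr
  have : (homOfLE (hab.trans hbc)).op = (homOfLE hbc).op ≫ (homOfLE hab).op := rfl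
  rw [this, G.map_comp]
  rfl

theorem tr_refl (a : ℕ) (x : G.obj (op a)) : tr G a a le_rfl x = x := by
  unfold tr
  have : (homOfLE (le_refl a)).op = 𝟙 (op a) := rfl
  rw [this, G.map_id]
  rfl

theorem map_eq_tr {j k : ℕ} (f : (op k : ℕᵒᵖ) ⟶ op j) (x : G.obj (op k)) :
    (G ⋙ forget AddCommGrpCat.{u}).map f x = tr G j k (leOfHom f.unop) x := by
  have : f = (homOfLE (leOfHom f.unop)).op := Subsingleton.elim _ _
  conv_lhs => rw [this]
  rfl

theorem tr_surjective (j₀ : ℕ)
    (hs : ∀ j : ℕ, j₀ ≤ j → Function.Surjective (G.map (homOfLE (Nat.le_succ j)).op).hom)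
    (a : ℕ) (ha : j₀ ≤ a) : ∀ (b : ℕ) (hab : a ≤ b), Function.Surjective (tr G a b hab) := by
  intro b hab
  induction b, hab using Nat.le_induction with
  | base => intro x; exact ⟨x, tr_refl G a x⟩
  | succ b hab ih =>
    intro x
    obtain ⟨y, hy⟩ := ih x
    obtain ⟨z, hz⟩ := hs b (ha.trans hab) y
    refine ⟨z, ?_⟩
    rw [← tr_comp G a b (b + 1) hab (Nat.le_succ b), ← hy]
    congr 1

theorem tr_injective (j₀ : ℕ)
    (hi : ∀ j : ℕ, j₀ ≤ j → Function.Injective (G.map (homOfLE (Nat.le_succ j)).op).hom)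
    (a : ℕ) (ha : j₀ ≤ a) : ∀ (b : ℕ) (hab : a ≤ b), Function.Injective (tr G a b hab) := by
  intro b hab
  induction b, hab using Nat.le_induction with
  | base => intro x y hxy; rwa [tr_refl, tr_refl] at hxy
  | succ b hab ih =>
    intro x y hxy
    rw [← tr_comp G a b (b + 1) hab (Nat.le_succ b), ← tr_comp G a b (b + 1) hab (Nat.le_succ b)] at hxy
    exact hi b (ha.trans hab) (ih hxy)

/-- a compatible sequence of lifts of `x ∈ G_{j₀}` -/
noncomputable def lift (j₀ : ℕ)
    (hs : ∀ j : ℕ, j₀ ≤ j → Function.Surjective (G.map (homOfLE (Nat.le_succ j)).op).hom)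
    (x : G.obj (op j₀)) : (n : ℕ) → G.obj (op (j₀ + n))
  | 0 => x
  | n + 1 => (hs (j₀ + n) (Nat.le_add_right _ _) (lift j₀ hs x n)).choose

theorem lift_succ (j₀ : ℕ)
    (hs : ∀ j : ℕ, j₀ ≤ j → Function.Surjective (G.map (homOfLE (Nat.le_succ j)).op).hom)
    (x : G.obj (op j₀)) (n : ℕ) :
    tr G (j₀ + n) (j₀ + (n + 1)) (Nat.le_succ _) (lift G j₀ hs x (n + 1)) = lift G j₀ hs x n :=
  (hs (j₀ + n) (Nat.le_add_right _ _) (lift G j₀ hs x n)).choose_spec

theorem lift_tr (j₀ : ℕ)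
    (hs : ∀ j : ℕ, j₀ ≤ j → Function.Surjective (G.map (homOfLE (Nat.le_succ j)).op).hom)
    (x : G.obj (op j₀)) (j : ℕ) : ∀ (k : ℕ) (hjk : j ≤ k),
    tr G (j₀ + j) (j₀ + k) (Nat.add_le_add_left hjk _) (lift G j₀ hs x k) = lift G j₀ hs x j := by
  intro k hjk
  induction k, hjk using Nat.le_induction with
  | base => exact tr_refl G _ _
  | succ k hjk ih =>
    rw [← tr_comp G (j₀ + j) (j₀ + k) (j₀ + (k + 1)) (Nat.add_le_add_left hjk _) (Nat.le_succ _),
      lift_succ, ih]

theorem main (j₀ : ℕ)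
    (hs : ∀ j : ℕ, j₀ ≤ j → Function.Surjective (G.map (homOfLE (Nat.le_succ j)).op).hom) :
    (G ⋙ forget AddCommGrpCat.{u}).IsMittagLeffler ∧
      Function.Surjective (fun s : (G ⋙ forget AddCommGrpCat.{u}).sections => s.1 (op j₀)) ∧
      ((∀ j : ℕ, j₀ ≤ j → Function.Injective (G.map (homOfLE (Nat.le_succ j)).op).hom) →
        Function.Bijective (fun s : (G ⋙ forget AddCommGrpCat.{u}).sections => s.1 (op j₀))) := by
  have hsurj : Function.Surjective
      (fun s : (G ⋙ forget AddCommGrpCat.{u}).sections => s.1 (op j₀)) := by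
    intro x
    refine ⟨⟨fun j => tr G j.unop (j₀ + j.unop) (Nat.le_add_left _ _) (lift G j₀ hs x j.unop), ?_⟩, ?_⟩
    · intro j j' f
      induction j using Opposite.rec with | _ k => ?_
      induction j' using Opposite.rec with | _ j => ?_
      have hjk : j ≤ k := leOfHom f.unop
      rw [map_eq_tr]
      simp only [unop_op]
      rw [tr_comp, ← lift_tr G j₀ hs x j k hjk, tr_comp]
    · simp only [unop_op]
      have := lift_tr G j₀ hs x 0 j₀ (Nat.zero_le _)
      rw [← tr_comp G j₀ (j₀ + 0) (j₀ + j₀) le_rfl (Nat.add_le_add_left (Nat.zero_le _) _), this]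
      exact tr_refl G _ _
  refine ⟨?_, hsurj, ?_⟩
  · intro j
    induction j using Opposite.rec with | _ j => ?_
    refine ⟨op (max j j₀), (homOfLE (le_max_left j j₀)).op, ?_⟩
    intro k g
    induction k using Opposite.rec with | _ k => ?_
    have hjk : j ≤ k := leOfHom g.unop
    rintro y ⟨z, rfl⟩
    rw [map_eq_tr]
    by_cases hk : k ≤ max j j₀
    · refine ⟨tr G k (max j j₀) hk z, ?_⟩
      rw [map_eq_tr, tr_comp]
    · push Not at hk
      obtain ⟨w, hw⟩ := tr_surjective G j₀ hs (max j j₀) (le_max_right _ _) k hk.le z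
      refine ⟨w, ?_⟩
      rw [map_eq_tr, ← hw, tr_comp]
  · intro hi
    refine ⟨?_, hsurj⟩
    intro s s' hss
    simp only at hss
    apply Subtype.ext
    funext j
    induction j using Opposite.rec with | _ j => ?_
    by_cases hj : j ≤ j₀
    · have h1 := s.2 (homOfLE hj).op
      have h2 := s'.2 (homOfLE hj).op
      rw [← h1, ← h2, hss]
    · push Not at hj
      apply tr_injective G j₀ hi j₀ le_rfl j hj.le
      have h1 := s.2 (homOfLE hj.le).op
      have h2 := s'.2 (homOfLE hj.le).op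
      rw [map_eq_tr] at h1 h2
      rw [h1, h2, hss]

end Groth.Agent.H15.MLSeq
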