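import Mathlib
set_option autoImplicit false
universe u
namespace Groth.Agent.H15.MinAvoid

/-- an element outside a minimal prime `q` but killed by a power of any prescribed `s ∈ q`. -/
theorem exists_mul_pow_eq_zero (A : Type u) [CommRing A] (q : Ideal A) (hq : q ∈ minimalPrimes A)
    (s : A) (hs : s ∈ q) : ∃ t, t ∉ q ∧ ∃ n : ℕ, t * s ^ n = 0 := by
  have hqp : q.IsPrime := hq.1.1
  have hrad := IsLocalization.AtPrime.radical_map_of_mem_minimalPrimes
    (A := Localization.AtPrime q) q ⊥ hq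
  have h1 : algebraMap A (Localization.AtPrime q) s ∈
      ((⊥ : Ideal A).map (algebraMap A (Localization.AtPrime q))).radical := by
    rw [hrad]; exact Ideal.mem_map_of_mem _ hs
  rw [Ideal.map_bot] at h1
  obtain ⟨n, hn⟩ := h1
  rw [Ideal.mem_bot, ← map_pow, IsLocalization.map_eq_zero_iff q.primeCompl] at hn
  obtain ⟨⟨t, ht⟩, hts⟩ := hn
  exact ⟨t, ht, n, hts⟩

theorem minavoid (A : Type u) [CommRing A] [IsNoetherianRing A]
    (p : Ideal A) [p.IsPrime] (x : A) :
    ∃ x' : A, algebraMap A (Localization.AtPrime p) x' = algebraMap A (Localization.AtPrime p) x ∧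
      ∀ q ∈ minimalPrimes A, ¬ q ≤ p → x' ∉ q := by
  classical
  have hfin : (minimalPrimes A).Finite := minimalPrimes.finite_of_isNoetherianRing A
  let Q : Finset (Ideal A) := hfin.toFinset.filter (fun q => ¬ q ≤ p)
  have hQ : ∀ q, q ∈ Q ↔ q ∈ minimalPrimes A ∧ ¬ q ≤ p := by
    intro q; simp [Q]
  let J : Ideal A := RingHom.ker (algebraMap A (Localization.AtPrime p))
  have hJ : ∀ q ∈ Q, ¬ J ≤ q := by
    intro q hq hJq
    obtain ⟨hqmin, hqp⟩ := (hQ q).mp hq
    obtain ⟨s, hsq, hsp⟩ := SetLike.not_le_iff_exists.mp hqp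
    obtain ⟨t, htq, n, htn⟩ := exists_mul_pow_eq_zero A q hqmin s hsq
    apply htq
    apply hJq
    show algebraMap A (Localization.AtPrime p) t = 0
    rw [IsLocalization.map_eq_zero_iff p.primeCompl]
    refine ⟨⟨s ^ n, ?_⟩, ?_⟩
    · exact fun h => hsp (Ideal.IsPrime.mem_of_pow_mem inferInstance _ h)
    · simp only; rw [mul_comm]; exact htn
  let T : Finset (Ideal A) := Q.filter (fun q => x ∈ q)
  let T' : Finset (Ideal A) := Q.filter (fun q => x ∉ q)
  let K : Ideal A := J ⊓ T'.inf id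
  have hK : ¬ ((K : Set A) ⊆ ⋃ q ∈ (↑T : Set (Ideal A)), (id q : Ideal A)) := by
    rw [Ideal.subset_union_prime (f := id) p p]
    · rintro ⟨q₀, hq₀T, hKq₀⟩
      have hq₀Q : q₀ ∈ Q := (Finset.mem_filter.mp hq₀T).1
      have hq₀prime : q₀.IsPrime := ((hQ q₀).mp hq₀Q).1.1.1
      rcases (Ideal.IsPrime.inf_le hq₀prime).mp hKq₀ with h | h
      · exact hJ q₀ hq₀Q h
      · obtain ⟨q, hqT', hqq₀⟩ := (Ideal.IsPrime.inf_le' hq₀prime).mp h
        have hqQ : q ∈ Q := (Finset.mem_filter.mp hqT').1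
        have hqmin := ((hQ q).mp hqQ).1
        have hq₀min := ((hQ q₀).mp hq₀Q).1
        have : q₀ ≤ q := hq₀min.2 ⟨hqmin.1.1, bot_le⟩ hqq₀
        have heq : q = q₀ := le_antisymm hqq₀ this
        have h1 : x ∉ q := (Finset.mem_filter.mp hqT').2
        have h2 : x ∈ q₀ := (Finset.mem_filter.mp hq₀T).2
        rw [heq] at h1
        exact h1 h2
    · intro q hqT _ _
      exact ((hQ q).mp (Finset.mem_filter.mp hqT).1).1.1.1
  obtain ⟨j, hjK, hjT⟩ := Set.not_subset.mp hK
  refine ⟨x + j, ?_, ?_⟩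
  · rw [map_add]
    have : algebraMap A (Localization.AtPrime p) j = 0 := hjK.1
    rw [this, add_zero]
  · intro q hqmin hqp hxj
    have hqQ : q ∈ Q := (hQ q).mpr ⟨hqmin, hqp⟩
    by_cases hx : x ∈ q
    · have hqT : q ∈ T := Finset.mem_filter.mpr ⟨hqQ, hx⟩
      apply hjT
      simp only [Set.mem_iUnion, Finset.mem_coe, id]
      refine ⟨q, hqT, ?_⟩
      have := q.sub_mem hxj hx
      simpa using this
    · have hqT' : q ∈ T' := Finset.mem_filter.mpr ⟨hqQ, hx⟩
      have hjq : j ∈ q := by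
        have h1 : j ∈ T'.inf id := hjK.2
        have h2 : T'.inf id ≤ q := Finset.inf_le (f := id) hqT'
        exact h2 h1
      apply hx
      have := q.sub_mem hxj hjq
      simpa using this
end Groth.Agent.H15.MinAvoid
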