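import Groth.Prelude.Def_Models
import Mathlib

set_option autoImplicit false

namespace Groth.Agent.H15.ModelsAux

open Finset Models

variable {n : ℕ} (T : Models.NumericalType n)

/-- Row `i` of `a · m = 0`, split at the diagonal. -/
theorem row_eq (i : Fin n) :
    T.a i i * T.m i + ∑ j ∈ univ.erase i, T.a i j * T.m j = 0 := by
  have h := congrFun T.mulVec_m i
  simp only [Matrix.mulVec, dotProduct, Pi.zero_apply] at h
  rw [← h, ← Finset.add_sum_erase univ (fun j => T.a i j * T.m j) (mem_univ i)]

theorem offdiag_term_nonneg (i j : Fin n) (hij : j ≠ i) : 0 ≤ T.a i j * T.m j :=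
  mul_nonneg (T.offDiag_nonneg i j (Ne.symm hij)) (T.m_pos j).le

/-- For `j ≠ i`, `a i j * m j ≤ - a i i * m i`. -/
theorem term_le (i j : Fin n) (hij : j ≠ i) : T.a i j * T.m j ≤ -(T.a i i * T.m i) := by
  have h := row_eq T i
  have h2 : T.a i j * T.m j ≤ ∑ k ∈ univ.erase i, T.a i k * T.m k := by
    apply Finset.single_le_sum (f := fun k => T.a i k * T.m k)
    · intro k hk
      exact offdiag_term_nonneg T i k (Finset.ne_of_mem_erase hk)
    · exact Finset.mem_erase.mpr ⟨hij, mem_univ j⟩
  linarith

theorem diag_neg (hn : 1 < n) (i : Fin n) : T.a i i < 0 := by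
  have hI : ({i} : Finset (Fin n)).Nonempty := singleton_nonempty i
  have hne : ({i} : Finset (Fin n)) ≠ univ := by
    intro h
    have : (univ : Finset (Fin n)).card = 1 := by rw [← h]; simp
    simp at this
    omega
  obtain ⟨i', hi', j, hj, hij⟩ := T.connected {i} hI hne
  rw [mem_singleton] at hi'
  subst hi'
  rw [mem_singleton] at hj
  have hpos : 0 < T.a i' j := lt_of_le_of_ne (T.offDiag_nonneg i' j (Ne.symm hj)) (Ne.symm hij)
  have h1 := term_le T i' j hj
  have h2 : 0 < T.a i' j * T.m j := mul_pos hpos (T.m_pos j)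
  have h3 : T.a i' i' * T.m i' < 0 := by linarith
  by_contra hcon
  push Not at hcon
  have := mul_nonneg hcon (T.m_pos i').le
  linarith


/-- If `a i j > 0` then `i ≠ j`. -/
theorem ne_of_pos (i j : Fin n) (hij : 0 < T.a i j) : i ≠ j := by
  rintro rfl
  by_cases hn : 1 < n
  · have := diag_neg T hn i
    linarith
  · have h := row_eq T i
    have hs : ∑ j ∈ univ.erase i, T.a i j * T.m j = 0 := by
      apply Finset.sum_eq_zero
      intro k hk
      exfalso
      have hki := Finset.ne_of_mem_erase hk
      apply hki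
      have : n = 1 := by have := T.pos; omega
      subst this
      exact Subsingleton.elim _ _
    rw [hs, add_zero] at h
    have := mul_pos hij (T.m_pos i)
    linarith

theorem abs_diag (j : Fin n) : |T.a j j| = -T.a j j := by
  by_cases hn : 1 < n
  · exact abs_of_neg (diag_neg T hn j)
  · have h := row_eq T j
    have hs : ∑ k ∈ univ.erase j, T.a j k * T.m k = 0 := by
      apply Finset.sum_eq_zero
      intro k hk
      exfalso
      have hki := Finset.ne_of_mem_erase hk
      apply hki
      have : n = 1 := by have := T.pos; omega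
      subst this
      exact Subsingleton.elim _ _
    rw [hs, add_zero] at h
    have h0 : T.a j j = 0 := by
      rcases mul_eq_zero.mp h with h | h
      · exact h
      · exact absurd h (T.m_pos j).ne'
    simp [h0]

theorem mul_le_of_pos_offDiag (i j : Fin n) (hij : 0 < T.a i j) :
    T.m i * T.a i j ≤ T.m j * |T.a j j| ∧ T.m i * T.w i ≤ T.m j * |T.a j j| := by
  have hne := ne_of_pos T i j hij
  have h1 := term_le T j i hne
  have hsymm : T.a j i = T.a i j := by
    have := T.symm
    exact (Matrix.IsSymm.apply this i j)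
  rw [hsymm] at h1
  rw [abs_diag]
  have hA : T.m i * T.a i j ≤ T.m j * -T.a j j := by linarith
  refine ⟨hA, ?_⟩
  have hw : T.w i ≤ T.a i j := Int.le_of_dvd hij (T.w_dvd i j)
  have : T.m i * T.w i ≤ T.m i * T.a i j := mul_le_mul_of_nonneg_left hw (T.m_pos i).le
  linarith


/-- For a symmetric function on `Fin n × Fin n`, the full double sum and the diagonal sum have the
same parity. -/
theorem two_dvd_double_sum_sub_diag : ∀ (n : ℕ) (f : Fin n → Fin n → ℤ), (∀ i j, f i j = f j i) →
    (2 : ℤ) ∣ (∑ i, ∑ j, f i j) - ∑ i, f i i := by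
  intro n
  induction n with
  | zero => intro f _; simp
  | succ k ih =>
    intro f hf
    have h := ih (fun i j => f i.succ j.succ) (fun i j => hf _ _)
    simp only [Fin.sum_univ_succ, Finset.sum_add_distrib]
    have e : ∑ x : Fin k, f x.succ 0 = ∑ x : Fin k, f 0 x.succ :=
      Finset.sum_congr rfl (fun x _ => hf _ _)
    rw [e]
    obtain ⟨c, hc⟩ := h
    refine ⟨(∑ x : Fin k, f 0 x.succ) + c, ?_⟩
    linarith

theorem two_dvd_sum_m_mul_diag : (2 : ℤ) ∣ ∑ i, T.m i * T.a i i := by
  have hS : ∑ i, ∑ j, T.a i j * T.m i * T.m j = 0 := by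
    apply Finset.sum_eq_zero
    intro i _
    have h := congrFun T.mulVec_m i
    simp only [Matrix.mulVec, dotProduct, Pi.zero_apply] at h
    calc ∑ j, T.a i j * T.m i * T.m j = T.m i * ∑ j, T.a i j * T.m j := by
          rw [Finset.mul_sum]; apply Finset.sum_congr rfl; intro j _; ring
      _ = 0 := by rw [h, mul_zero]
  have h1 := two_dvd_double_sum_sub_diag n (fun i j => T.a i j * T.m i * T.m j) (by
    intro i j
    have : T.a i j = T.a j i := (Matrix.IsSymm.apply T.symm i j).symm
    simp only [this]; ring)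
  rw [hS, zero_sub] at h1
  have h2 : (2 : ℤ) ∣ ∑ i, T.a i i * (T.m i * T.m i - T.m i) := by
    apply Finset.dvd_sum
    intro i _
    apply Dvd.dvd.mul_left
    have : T.m i * T.m i - T.m i = T.m i * (T.m i - 1) := by ring
    rw [this]
    exact Even.two_dvd (Int.even_mul_pred_self (T.m i))
  have h3 : ∑ i, T.m i * T.a i i =
      (∑ i, T.a i i * T.m i * T.m i) - ∑ i, T.a i i * (T.m i * T.m i - T.m i) := by
    rw [← Finset.sum_sub_distrib]
    apply Finset.sum_congr rfl
    intro i _
    ring
  rw [h3]
  exact dvd_sub ((dvd_neg).mp h1) h2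


/-- `2 * genus - 2 = Σ m_i (2 w_i (g_i - 1) - a_ii)`. -/
theorem two_mul_genus (T : Models.NumericalType n) :
    2 * T.genus - 2 = ∑ i, T.m i * (2 * T.w i * (T.g i - 1) - T.a i i) := by
  obtain ⟨c, hc⟩ := two_dvd_sum_m_mul_diag T
  unfold Models.NumericalType.genus
  rw [hc, Int.mul_ediv_cancel_left c (by norm_num : (2 : ℤ) ≠ 0)]
  have : ∑ i, T.m i * (2 * T.w i * (T.g i - 1) - T.a i i) =
      2 * (∑ i, T.m i * T.w i * (T.g i - 1)) - ∑ i, T.m i * T.a i i := by
    rw [Finset.mul_sum, ← Finset.sum_sub_distrib]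
    apply Finset.sum_congr rfl
    intro i _
    ring
  rw [this, hc]
  ring

/-- In a minimal numerical type with more than one index, each term of the genus sum is `≥ 0`. -/
theorem term_nonneg_of_isMinimal (T : Models.NumericalType n) (hmin : T.IsMinimal) (hn : 1 < n)
    (i : Fin n) : 0 ≤ T.m i * (2 * T.w i * (T.g i - 1) - T.a i i) := by
  apply mul_nonneg (T.m_pos i).le
  have hneg := diag_neg T hn i
  have hw := T.w_pos i
  have hg := T.g_nonneg i
  obtain ⟨k, hk⟩ := T.w_dvd i i
  rcases (T.g_nonneg i).lt_or_eq with hgpos | hg0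
  · have : 0 ≤ 2 * T.w i * (T.g i - 1) := by
      apply mul_nonneg (by linarith)
      linarith
    linarith
  · -- g i = 0, so a i i ≠ - w i, so a i i ≤ -2 w i
    have hnot := hmin i
    unfold Models.NumericalType.IsMinusOne at hnot
    have hne : T.a i i ≠ -T.w i := fun h => hnot ⟨hg0.symm, h⟩
    have hk1 : k ≤ -2 := by
      have hkneg : k < 0 := by
        by_contra hcon
        push Not at hcon
        have := mul_nonneg hw.le hcon
        linarith
      have hkne : k ≠ -1 := by
        intro h
        apply hne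
        rw [hk, h]; ring
      omega
    rw [← hg0, hk]
    nlinarith

theorem one_le_genus_of_isMinimal (T : Models.NumericalType n) (hmin : T.IsMinimal) (hn : 1 < n) :
    1 ≤ T.genus := by
  have h := two_mul_genus T
  have h2 : 0 ≤ ∑ i, T.m i * (2 * T.w i * (T.g i - 1) - T.a i i) :=
    Finset.sum_nonneg fun i _ => term_nonneg_of_isMinimal T hmin hn i
  linarith

theorem eq_trivial_of_isMinimal_of_genus_zero (T : Models.NumericalType n) (hmin : T.IsMinimal)
    (hg : T.genus = 0) :
    n = 1 ∧ ∀ i, T.m i = 1 ∧ T.a i i = 0 ∧ T.w i = 1 ∧ T.g i = 0 := by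
  have hn1 : n = 1 := by
    by_contra hne
    have hn : 1 < n := by have := T.pos; omega
    have := one_le_genus_of_isMinimal T hmin hn
    omega
  refine ⟨hn1, ?_⟩
  subst hn1
  intro i
  have hi : i = 0 := Subsingleton.elim _ _
  subst hi
  have ha : T.a 0 0 = 0 := by
    have h := row_eq T 0
    simp at h
    rcases h with h | h
    · exact h
    · exact absurd h (T.m_pos 0).ne'
  have h := two_mul_genus T
  rw [hg] at h
  simp only [Fin.sum_univ_one, ha] at h
  have hm := T.m_pos 0
  have hw := T.w_pos 0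
  have hgn := T.g_nonneg 0
  -- m * (2 w (g - 1)) = -2  ⟹ m w (1 - g) = 1
  have h1 : T.m 0 * T.w 0 * (1 - T.g 0) = 1 := by linarith
  have hmw : 0 < T.m 0 * T.w 0 := mul_pos hm hw
  have hg0 : T.g 0 = 0 := by
    by_contra hne
    have : 1 ≤ T.g 0 := by omega
    have : T.m 0 * T.w 0 * (1 - T.g 0) ≤ 0 := mul_nonpos_of_nonneg_of_nonpos hmw.le (by linarith)
    linarith
  rw [hg0] at h1
  have h2 : T.m 0 * T.w 0 = 1 := by linarith
  have hm1 : T.m 0 = 1 := by
    rcases Int.eq_one_or_neg_one_of_mul_eq_one h2 with h | h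
    · exact h
    · linarith
  have hw1 : T.w 0 = 1 := by rw [hm1] at h2; linarith
  exact ⟨hm1, ha, hw1, hg0⟩


/-- For `n > 1`: `a i i = -(k * w i)` with `k ≥ 1`. -/
theorem exists_diag_eq (T : Models.NumericalType n) (hn : 1 < n) (i : Fin n) :
    ∃ k : ℤ, 1 ≤ k ∧ T.a i i = -(k * T.w i) := by
  obtain ⟨k, hk⟩ := T.w_dvd i i
  have hneg := diag_neg T hn i
  have hw := T.w_pos i
  refine ⟨-k, ?_, by rw [hk]; ring⟩
  by_contra hcon
  push Not at hcon
  have : 0 ≤ k := by omega
  have := mul_nonneg hw.le this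
  linarith

open Classical in
theorem bounds_non_minusTwo_indices (T : Models.NumericalType n) (hmin : T.IsMinimal) (hn : 1 < n)
    (hg : 2 ≤ T.genus) :
    ((univ.filter fun j => ¬T.IsMinusTwo j).card : ℤ) ≤ 2 * T.genus - 2 ∧
      ∀ j, ¬T.IsMinusTwo j →
        T.g j < T.genus ∧ T.m j * |T.a j j| ≤ 6 * T.genus - 6 ∧
          ∀ i, T.m i * T.a i j ≤ 6 * T.genus - 6 := by
  have hsum := two_mul_genus T
  have hnn := fun i => term_nonneg_of_isMinimal T hmin hn i
  -- every non-(-2) index contributes at least 1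
  have hpos : ∀ j, ¬T.IsMinusTwo j → 1 ≤ T.m j * (2 * T.w j * (T.g j - 1) - T.a j j) := by
    intro j hj
    obtain ⟨k, hk1, hk⟩ := exists_diag_eq T hn j
    have hw := T.w_pos j
    have hm := T.m_pos j
    have hgj := T.g_nonneg j
    have hne : 2 * (T.g j - 1) + k ≠ 0 := by
      intro h0
      apply hj
      unfold Models.NumericalType.IsMinusTwo
      have hgk : T.g j = 0 ∧ k = 2 := by
        have hnot := hmin j
        unfold Models.NumericalType.IsMinusOne at hnot
        have : ¬ (T.g j = 0 ∧ k = 1) := by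
          rintro ⟨h1, h2⟩
          exact hnot ⟨h1, by rw [hk, h2]; ring⟩
        omega
      exact ⟨hgk.1, by rw [hk, hgk.2]; ring⟩
    have hge : 0 ≤ 2 * (T.g j - 1) + k := by
      have := hnn j
      rw [hk] at this
      have e : T.m j * (2 * T.w j * (T.g j - 1) - -(k * T.w j)) =
          (T.m j * T.w j) * (2 * (T.g j - 1) + k) := by ring
      rw [e] at this
      by_contra hcon
      push Not at hcon
      have := mul_neg_of_pos_of_neg (mul_pos hm hw) hcon
      linarith
    have h1 : 1 ≤ 2 * (T.g j - 1) + k := by omega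
    have e : T.m j * (2 * T.w j * (T.g j - 1) - T.a j j) =
        (T.m j * T.w j) * (2 * (T.g j - 1) + k) := by rw [hk]; ring
    rw [e]
    have hmw : 1 ≤ T.m j * T.w j := by
      have := mul_pos hm hw
      omega
    nlinarith
  have hle : ∀ j, T.m j * (2 * T.w j * (T.g j - 1) - T.a j j) ≤ 2 * T.genus - 2 := by
    intro j
    rw [hsum]
    exact Finset.single_le_sum (f := fun i => T.m i * (2 * T.w i * (T.g i - 1) - T.a i i))
      (fun i _ => hnn i) (mem_univ j)
  refine ⟨?_, ?_⟩
  · rw [hsum]
    calc ((univ.filter fun j => ¬T.IsMinusTwo j).card : ℤ)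
        = ∑ j ∈ univ.filter (fun j => ¬T.IsMinusTwo j), (1 : ℤ) := by simp
      _ ≤ ∑ j ∈ univ.filter (fun j => ¬T.IsMinusTwo j),
            T.m j * (2 * T.w j * (T.g j - 1) - T.a j j) := by
          apply Finset.sum_le_sum
          intro j hj
          exact hpos j (mem_filter.mp hj).2
      _ ≤ ∑ j, T.m j * (2 * T.w j * (T.g j - 1) - T.a j j) := by
          apply Finset.sum_le_sum_of_subset_of_nonneg (Finset.filter_subset _ _)
          intro i _ _
          exact hnn i
  · intro j hj
    obtain ⟨k, hk1, hk⟩ := exists_diag_eq T hn j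
    have hw := T.w_pos j
    have hm := T.m_pos j
    have hgj := T.g_nonneg j
    have hmw : 1 ≤ T.m j * T.w j := by
      have := mul_pos hm hw
      omega
    have e : T.m j * (2 * T.w j * (T.g j - 1) - T.a j j) =
        (T.m j * T.w j) * (2 * (T.g j - 1) + k) := by rw [hk]; ring
    have hlej := hle j
    have hposj := hpos j hj
    rw [e] at hlej hposj
    have hfac_pos : 1 ≤ 2 * (T.g j - 1) + k := by
      by_contra hcon
      push Not at hcon
      have : (T.m j * T.w j) * (2 * (T.g j - 1) + k) ≤ 0 :=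
        mul_nonpos_of_nonneg_of_nonpos (by linarith) (by omega)
      linarith
    have hfac_le : 2 * (T.g j - 1) + k ≤ 2 * T.genus - 2 := by nlinarith
    have habs : |T.a j j| = k * T.w j := by
      rw [abs_diag, hk]; ring
    have hbound : T.m j * |T.a j j| ≤ 6 * T.genus - 6 := by
      rw [habs]
      rcases (T.g_nonneg j).lt_or_eq with hgpos | hg0
      · -- g j ≥ 1 : m w k ≤ m w (2(g-1)+k) ≤ 2g - 2
        have : T.m j * (k * T.w j) ≤ (T.m j * T.w j) * (2 * (T.g j - 1) + k) := by
          have h1 : 0 ≤ 2 * (T.g j - 1) := by omega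
          nlinarith
        linarith
      · -- g j = 0 : k ≥ 3
        have hk3 : 3 ≤ k := by
          have hnot := hmin j
          unfold Models.NumericalType.IsMinusOne at hnot
          unfold Models.NumericalType.IsMinusTwo at hj
          have h1 : k ≠ 1 := fun h => hnot ⟨hg0.symm, by rw [hk, h]; ring⟩
          have h2 : k ≠ 2 := fun h => hj ⟨hg0.symm, by rw [hk, h]; ring⟩
          omega
        rw [← hg0] at hlej
        have : T.m j * (k * T.w j) ≤ 3 * ((T.m j * T.w j) * (2 * (0 - 1) + k)) := by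
          nlinarith
        linarith
    refine ⟨by omega, hbound, ?_⟩
    intro i
    by_cases hij : 0 < T.a i j
    · exact le_trans (mul_le_of_pos_offDiag T i j hij).1 hbound
    · push Not at hij
      have : T.m i * T.a i j ≤ 0 := mul_nonpos_of_nonneg_of_nonpos (T.m_pos i).le hij
      linarith

end Groth.Agent.H15.ModelsAux
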