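import Groth.Prelude.Def_Models
import Groth.Agent.H15.Models
import Mathlib

set_option autoImplicit false

namespace Groth.Agent.H15.ModelsContr

open Finset Models

theorem contr_arith (wl wi a : ℤ) (hwl : 0 < wl) (hwi : 0 < wi) (ha : 0 ≤ a)
    (h1 : wl ∣ a) (h2 : wi ∣ a) (w' : ℤ)
    (hw' : w' = if 2 ∣ a / wl ∧ ¬ 2 ∣ a / wi then wi / 2 else wi) :
    0 < w' ∧ (wi = w' ∨ wi = 2 * w') ∧ ∃ q : ℤ, 0 ≤ q ∧ 2 * w' * q = a * (a / wl - 1) ∧
      (a ^ 2 - wl * a) / (2 * w' * wl) = q ∧ (wi = 2 * w' → 1 ≤ q) := by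
  obtain ⟨t, rfl⟩ := h1
  obtain ⟨s, hs⟩ := h2
  have ht : 0 ≤ t := by
    by_contra hneg
    push_neg at hneg
    nlinarith
  have hs0 : 0 ≤ s := by
    by_contra hneg
    push_neg at hneg
    nlinarith
  have e1 : wl * t / wl = t := Int.mul_ediv_cancel_left t hwl.ne'
  have e2 : wl * t / wi = s := by rw [hs]; exact Int.mul_ediv_cancel_left s hwi.ne'
  rw [e1, e2] at hw'
  rw [e1]
  have key : ∀ w'' : ℤ, 0 < w'' → ∀ q, 2 * w'' * q = wl * t * (t - 1) →
      ((wl * t) ^ 2 - wl * (wl * t)) / (2 * w'' * wl) = q := by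
    intro w'' hw'' q hq
    have : (wl * t) ^ 2 - wl * (wl * t) = (2 * w'' * wl) * q := by linear_combination (-wl) * hq
    rw [this]
    exact Int.mul_ediv_cancel_left q (by positivity)
  by_cases hc : 2 ∣ t ∧ ¬ 2 ∣ s
  · rw [if_pos hc] at hw'
    obtain ⟨⟨k, hk⟩, hs2⟩ := hc
    have hwi2 : 2 ∣ wi := by
      have h2 : (2 : ℤ) ∣ wi * s := ⟨wl * k, by rw [← hs, hk]; ring⟩
      rcases (Int.prime_two.dvd_or_dvd h2) with h | h
      · exact h
      · exact absurd h hs2
    obtain ⟨v, hv⟩ := hwi2
    have hw'v : w' = v := by rw [hw', hv]; exact Int.mul_ediv_cancel_left v (by norm_num)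
    have hv0 : 0 < v := by linarith
    have hs1 : 1 ≤ s := by
      rcases hs0.lt_or_eq with h | h
      · linarith
      · exfalso; apply hs2; rw [← h]; exact dvd_zero _
    have ht2 : 2 ≤ t := by
      have : t ≠ 0 := by
        intro h0
        rw [h0, mul_zero] at hs
        have : s = 0 := by
          rcases mul_eq_zero.mp hs.symm with h | h
          · linarith
          · exact h
        linarith
      have : 0 < k := by
        by_contra hneg
        push_neg at hneg
        have : t ≤ 0 := by rw [hk]; linarith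
        have : t = 0 := le_antisymm this ht
        contradiction
      linarith
    refine ⟨by rw [hw'v]; exact hv0, Or.inr (by rw [hw'v, hv]), s * (t - 1), ?_, ?_, ?_, ?_⟩
    · exact mul_nonneg hs0 (by linarith)
    · rw [hw'v]
      have : wl * t = 2 * v * s := by rw [hs, hv]
      rw [this]; ring
    · apply key w' (by rw [hw'v]; exact hv0)
      rw [hw'v]
      have : wl * t = 2 * v * s := by rw [hs, hv]
      rw [this]; ring
    · intro _
      nlinarith
  · rw [if_neg hc] at hw'
    have hpar : ∃ q, 2 * q = s * (t - 1) := by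
      by_cases h2s : 2 ∣ s
      · obtain ⟨s', hs'⟩ := h2s
        exact ⟨s' * (t - 1), by rw [hs']; ring⟩
      · have h2t : ¬ 2 ∣ t := fun h => hc ⟨h, h2s⟩
        have : (2 : ℤ) ∣ t - 1 := by
          have := Int.emod_two_eq_zero_or_one t
          omega
        obtain ⟨k', hk'⟩ := this
        exact ⟨s * k', by rw [hk']; ring⟩
    obtain ⟨q, hq⟩ := hpar
    have hq0 : 0 ≤ q := by
      rcases ht.lt_or_eq with h | h
      · have : 0 ≤ s * (t - 1) := mul_nonneg hs0 (by linarith)
        linarith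
      · have : s = 0 := by
          rw [← h, mul_zero] at hs
          rcases mul_eq_zero.mp hs.symm with h' | h'
          · linarith
          · exact h'
        rw [this, zero_mul] at hq
        linarith
    refine ⟨by rw [hw']; exact hwi, Or.inl hw'.symm, q, hq0, ?_, ?_, ?_⟩
    · rw [hw', hs]
      linear_combination wi * hq
    · apply key w' (by rw [hw']; exact hwi)
      rw [hw', hs]
      linear_combination wi * hq
    · intro h
      rw [hw'] at h
      linarith

variable {n : ℕ} (T : Models.NumericalType (n + 1))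

theorem cs_ne_last (i : Fin n) : i.castSucc ≠ Fin.last n := (Fin.castSucc_lt_last i).ne

theorem a_symm (i j : Fin (n + 1)) : T.a i j = T.a j i := (Matrix.IsSymm.apply T.symm i j).symm

theorem ail_nonneg (i : Fin n) : 0 ≤ T.a i.castSucc (Fin.last n) :=
  T.offDiag_nonneg _ _ (cs_ne_last i)

theorem wl_dvd (i : Fin n) : T.w (Fin.last n) ∣ T.a i.castSucc (Fin.last n) := by
  rw [a_symm]; exact T.w_dvd _ _

/-- `t i = a i l / w l`. -/
def t (i : Fin n) : ℤ := T.a i.castSucc (Fin.last n) / T.w (Fin.last n)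

theorem wl_mul_t (i : Fin n) : T.w (Fin.last n) * t T i = T.a i.castSucc (Fin.last n) :=
  Int.mul_ediv_cancel' (wl_dvd T i)

theorem t_nonneg (i : Fin n) : 0 ≤ t T i :=
  Int.ediv_nonneg (ail_nonneg T i) (T.w_pos _).le

def cw (i : Fin n) : ℤ :=
  if 2 ∣ T.a i.castSucc (Fin.last n) / T.w (Fin.last n) ∧
      ¬ 2 ∣ T.a i.castSucc (Fin.last n) / T.w i.castSucc
  then T.w i.castSucc / 2 else T.w i.castSucc

def ca (i j : Fin n) : ℤ := T.a i.castSucc j.castSucc -
  T.a i.castSucc (Fin.last n) * T.a j.castSucc (Fin.last n) / T.a (Fin.last n) (Fin.last n)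

def cg (i : Fin n) : ℤ := T.w i.castSucc / cw T i * (T.g i.castSucc - 1) + 1 +
  (T.a i.castSucc (Fin.last n) ^ 2 - T.w (Fin.last n) * T.a i.castSucc (Fin.last n)) /
    (2 * cw T i * T.w (Fin.last n))

variable (h : T.IsMinusOne (Fin.last n))
include h

theorem ca_eq' (a' : Fin n → Fin n → ℤ) (ha' : ∀ i j, a' i j = T.a i.castSucc j.castSucc -
      T.a i.castSucc (Fin.last n) * T.a j.castSucc (Fin.last n) / T.a (Fin.last n) (Fin.last n))
    (i j : Fin n) :
    a' i j = T.a i.castSucc j.castSucc + T.a i.castSucc (Fin.last n) * t T j := by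
  rw [ha', h.2, Int.ediv_neg, Int.mul_ediv_assoc _ (wl_dvd T j)]
  unfold t
  ring

theorem ca_eq (i j : Fin n) :
    ca T i j = T.a i.castSucc j.castSucc + T.a i.castSucc (Fin.last n) * t T j :=
  ca_eq' T h (ca T) (fun _ _ => rfl) i j

theorem row_last : ∑ j : Fin n, T.a j.castSucc (Fin.last n) * T.m j.castSucc =
    T.w (Fin.last n) * T.m (Fin.last n) := by
  have h1 := congrFun T.mulVec_m (Fin.last n)
  simp only [Matrix.mulVec, dotProduct, Pi.zero_apply] at h1
  rw [Fin.sum_univ_castSucc, h.2] at h1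
  have : ∑ j : Fin n, T.a j.castSucc (Fin.last n) * T.m j.castSucc =
      ∑ j : Fin n, T.a (Fin.last n) j.castSucc * T.m j.castSucc :=
    Finset.sum_congr rfl (fun j _ => by rw [a_symm])
  rw [this]
  linarith

theorem sum_t_m : ∑ j : Fin n, t T j * T.m j.castSucc = T.m (Fin.last n) := by
  have h1 := row_last T h
  have : ∑ j : Fin n, T.a j.castSucc (Fin.last n) * T.m j.castSucc =
      T.w (Fin.last n) * ∑ j : Fin n, t T j * T.m j.castSucc := by
    rw [Finset.mul_sum]
    apply Finset.sum_congr rfl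
    intro j _
    rw [← wl_mul_t T j]; ring
  rw [this] at h1
  exact mul_left_cancel₀ (T.w_pos _).ne' h1

theorem row_cs (i : Fin n) : ∑ j : Fin n, T.a i.castSucc j.castSucc * T.m j.castSucc =
    - (T.a i.castSucc (Fin.last n) * T.m (Fin.last n)) := by
  have h1 := congrFun T.mulVec_m i.castSucc
  simp only [Matrix.mulVec, dotProduct, Pi.zero_apply] at h1
  rw [Fin.sum_univ_castSucc] at h1
  linarith

theorem n_pos : 0 < n := by
  rcases Nat.eq_zero_or_pos n with h0 | h0
  · exfalso
    subst h0
    have h1 := row_last T h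
    simp at h1
    rcases h1 with h1 | h1
    · exact (T.w_pos _).ne' h1
    · exact (T.m_pos _).ne' h1
  · exact h0

omit h in
theorem cw_spec (i : Fin n) : 0 < cw T i ∧ (T.w i.castSucc = cw T i ∨ T.w i.castSucc = 2 * cw T i) ∧
    ∃ q : ℤ, 0 ≤ q ∧ 2 * cw T i * q = T.a i.castSucc (Fin.last n) *
        (T.a i.castSucc (Fin.last n) / T.w (Fin.last n) - 1) ∧
      (T.a i.castSucc (Fin.last n) ^ 2 - T.w (Fin.last n) * T.a i.castSucc (Fin.last n)) /
        (2 * cw T i * T.w (Fin.last n)) = q ∧ (T.w i.castSucc = 2 * cw T i → 1 ≤ q) :=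
  contr_arith (T.w (Fin.last n)) (T.w i.castSucc)
  (T.a i.castSucc (Fin.last n)) (T.w_pos _) (T.w_pos _) (ail_nonneg T i) (wl_dvd T i)
  (T.w_dvd _ _) (cw T i) rfl

omit h in
theorem cw_pos (i : Fin n) : 0 < cw T i := (cw_spec T i).1

omit h in
theorem cw_dvd_w (i : Fin n) : cw T i ∣ T.w i.castSucc := by
  rcases (cw_spec T i).2.1 with h1 | h1
  · rw [h1]
  · rw [h1]; exact dvd_mul_left _ _

omit h in
theorem cg_nonneg (i : Fin n) : 0 ≤ cg T i := by
  obtain ⟨hpos, hcase, q, hq0, hq1, hq2, hq3⟩ := cw_spec T i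
  unfold cg
  rw [hq2]
  have hg := T.g_nonneg i.castSucc
  rcases hcase with h1 | h1
  · rw [h1, Int.ediv_self hpos.ne']
    linarith
  · have h3 := hq3 h1
    rw [h1, Int.mul_ediv_cancel _ hpos.ne']
    linarith

/-- The contraction of `T` along its last index. -/
def contr : Models.NumericalType n where
  m i := T.m i.castSucc
  a := Matrix.of (ca T)
  w := cw T
  g := cg T
  pos := n_pos T h
  m_pos i := T.m_pos _
  w_pos := cw_pos T
  g_nonneg := cg_nonneg T
  symm := by
    ext i j
    simp only [Matrix.transpose_apply, Matrix.of_apply]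
    unfold ca
    rw [a_symm T j.castSucc i.castSucc, mul_comm]
  offDiag_nonneg := by
    intro i j hij
    simp only [Matrix.of_apply]
    rw [ca_eq T h]
    have h1 : 0 ≤ T.a i.castSucc j.castSucc := T.offDiag_nonneg _ _ (by
      intro he; exact hij (Fin.castSucc_injective _ he))
    have h2 := mul_nonneg (ail_nonneg T i) (t_nonneg T j)
    linarith
  connected := by
    intro I hI hIne
    simp only [Matrix.of_apply]
    -- positivity helper
    have hpos : ∀ i j : Fin n, i ≠ j → (T.a i.castSucc j.castSucc ≠ 0 ∨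
        (T.a i.castSucc (Fin.last n) ≠ 0 ∧ T.a j.castSucc (Fin.last n) ≠ 0)) → ca T i j ≠ 0 := by
      intro i j hij hcase
      rw [ca_eq T h]
      have h1 : 0 ≤ T.a i.castSucc j.castSucc := T.offDiag_nonneg _ _ (by
        intro he; exact hij (Fin.castSucc_injective _ he))
      have h2 := mul_nonneg (ail_nonneg T i) (t_nonneg T j)
      rcases hcase with hc | ⟨hc1, hc2⟩
      · have : 0 < T.a i.castSucc j.castSucc := lt_of_le_of_ne h1 (Ne.symm hc)
        linarith
      · have h3 : 0 < T.a i.castSucc (Fin.last n) := lt_of_le_of_ne (ail_nonneg T i) (Ne.symm hc1)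
        have h4 : 0 < t T j := by
          rcases (t_nonneg T j).lt_or_eq with h' | h'
          · exact h'
          · exfalso; apply hc2; rw [← wl_mul_t T j, ← h', mul_zero]
        have := mul_pos h3 h4
        linarith
    let I' : Finset (Fin (n + 1)) := I.map Fin.castSuccEmb
    have hI' : I'.Nonempty := hI.map
    have hlast : Fin.last n ∉ I' := by
      intro hmem
      obtain ⟨x, _, hx⟩ := Finset.mem_map.mp hmem
      exact cs_ne_last x hx
    have hI'ne : I' ≠ univ := by
      intro he
      exact hlast (he ▸ mem_univ _)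
    obtain ⟨i, hi, j, hj, hij⟩ := T.connected I' hI' hI'ne
    obtain ⟨i0, hi0, rfl⟩ := Finset.mem_map.mp hi
    simp only [Fin.castSuccEmb_apply] at hij hj
    by_cases hjl : j = Fin.last n
    · subst hjl
      -- second application
      let I'' : Finset (Fin (n + 1)) := insert (Fin.last n) I'
      have hI''ne : I'' ≠ univ := by
        intro he
        apply hIne
        rw [Finset.eq_univ_iff_forall]
        intro x
        have : x.castSucc ∈ I'' := he ▸ mem_univ _
        rcases Finset.mem_insert.mp this with h' | h'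
        · exact absurd h' (cs_ne_last x)
        · obtain ⟨y, hy, hxy⟩ := Finset.mem_map.mp h'
          have : y = x := Fin.castSucc_injective _ hxy
          rw [← this]; exact hy
      obtain ⟨i2, hi2, j2, hj2, hij2⟩ := T.connected I'' (Finset.insert_nonempty _ _) hI''ne
      have hj2l : j2 ≠ Fin.last n := by
        intro he; apply hj2; rw [he]; exact Finset.mem_insert_self _ _
      obtain ⟨j0, rfl⟩ := Fin.exists_castSucc_eq.mpr hj2l
      have hj0 : j0 ∉ I := by
        intro hmem
        apply hj2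
        exact Finset.mem_insert_of_mem (Finset.mem_map.mpr ⟨j0, hmem, rfl⟩)
      rcases Finset.mem_insert.mp hi2 with h' | h'
      · subst h'
        refine ⟨i0, hi0, j0, hj0, hpos i0 j0 (by rintro rfl; exact hj0 hi0) (Or.inr ⟨hij, ?_⟩)⟩
        rw [a_symm]; exact hij2
      · obtain ⟨i3, hi3, rfl⟩ := Finset.mem_map.mp h'
        simp only [Fin.castSuccEmb_apply] at hij2
        exact ⟨i3, hi3, j0, hj0, hpos i3 j0 (by rintro rfl; exact hj0 hi3) (Or.inl hij2)⟩
    · obtain ⟨j0, rfl⟩ := Fin.exists_castSucc_eq.mpr hjl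
      have hj0 : j0 ∉ I := by
        intro hmem
        apply hj
        exact Finset.mem_map.mpr ⟨j0, hmem, rfl⟩
      exact ⟨i0, hi0, j0, hj0, hpos i0 j0 (by rintro rfl; exact hj0 hi0) (Or.inl hij)⟩
  mulVec_m := by
    ext i
    simp only [Matrix.mulVec, dotProduct, Matrix.of_apply, Pi.zero_apply]
    have : ∑ j : Fin n, ca T i j * T.m j.castSucc =
        ∑ j : Fin n, T.a i.castSucc j.castSucc * T.m j.castSucc +
          T.a i.castSucc (Fin.last n) * ∑ j : Fin n, t T j * T.m j.castSucc := by
      rw [Finset.mul_sum, ← Finset.sum_add_distrib]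
      apply Finset.sum_congr rfl
      intro j _
      rw [ca_eq T h]; ring
    rw [this, row_cs T h, sum_t_m T h]
    ring
  w_dvd := by
    intro i j
    simp only [Matrix.of_apply]
    rw [ca_eq T h]
    apply dvd_add
    · exact dvd_trans (cw_dvd_w T i) (T.w_dvd _ _)
    · exact Dvd.dvd.mul_right (dvd_trans (cw_dvd_w T i) (T.w_dvd _ _)) _

theorem isContraction_contr : T.IsContraction (contr T h) :=
  ⟨fun _ => rfl, fun _ _ => rfl, fun _ => rfl, fun _ => rfl⟩

theorem genus_eq (T' : Models.NumericalType n) (hT' : T.IsContraction T') :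
    T'.genus = T.genus := by
  obtain ⟨hm, ha, hw, hg⟩ := hT'
  have e1 := ModelsAux.two_mul_genus T'
  have e2 := ModelsAux.two_mul_genus T
  rw [Fin.sum_univ_castSucc] at e2
  have hterm : ∀ i : Fin n, T'.m i * (2 * T'.w i * (T'.g i - 1) - T'.a i i) =
      T.m i.castSucc * (2 * T.w i.castSucc * (T.g i.castSucc - 1) - T.a i.castSucc i.castSucc) -
        T.a i.castSucc (Fin.last n) * T.m i.castSucc := by
    intro i
    obtain ⟨hpos, hcase, q, hq0, hq1, hq2, hq3⟩ := contr_arith (T.w (Fin.last n)) (T.w i.castSucc)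
      (T.a i.castSucc (Fin.last n)) (T.w_pos _) (T.w_pos _) (ail_nonneg T i) (wl_dvd T i)
      (T.w_dvd _ _) (T'.w i) (hw i)
    have hgi := hg i
    rw [hq2] at hgi
    have haii := ca_eq' T h T'.a ha i i
    rw [hm i, haii]
    have hq1' : 2 * T'.w i * q = T.a i.castSucc (Fin.last n) * (t T i - 1) := hq1
    rcases hcase with h1 | h1
    · rw [h1, Int.ediv_self hpos.ne'] at hgi
      rw [hgi, h1]
      linear_combination T.m i.castSucc * hq1'
    · rw [h1, Int.mul_ediv_cancel _ hpos.ne'] at hgi
      rw [hgi, h1]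
      linear_combination T.m i.castSucc * hq1'
  rw [Finset.sum_congr rfl (fun i _ => hterm i), Finset.sum_sub_distrib, row_last T h] at e1
  rw [h.1, h.2] at e2
  linarith

theorem main : (∃ T' : Models.NumericalType n, T.IsContraction T') ∧
    ∀ T' : Models.NumericalType n, T.IsContraction T' → T'.genus = T.genus :=
  ⟨⟨contr T h, isContraction_contr T h⟩, genus_eq T h⟩

end Groth.Agent.H15.ModelsContr
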