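import Mathlib

set_option autoImplicit false

namespace Groth.Agent.H15.ModelsQuad

open Finset

variable {n : ℕ} (A : Matrix (Fin n) (Fin n) ℝ) (m : Fin n → ℝ)

theorem key_identity (hsymm : A.IsSymm) (hm : ∀ i, 0 < m i) (hAm : A.mulVec m = 0)
    (x : Fin n → ℝ) :
    ∑ i, ∑ j, A i j * m i * m j * (x i / m i - x j / m j) ^ 2 =
      -2 * dotProduct x (A.mulVec x) := by
  have h1 : ∀ i, ∑ j, A i j * m j = 0 := by
    intro i
    have h := congrFun hAm i
    simpa only [Matrix.mulVec, dotProduct, Pi.zero_apply] using h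
  have h1' : ∀ j, ∑ i, A i j * m i = 0 := by
    intro j
    rw [← h1 j]
    apply Finset.sum_congr rfl
    intro i _
    rw [hsymm.apply]
  have hterm : ∀ i j, A i j * m i * m j * (x i / m i - x j / m j) ^ 2 =
      (x i ^ 2 / m i) * (A i j * m j) + (x j ^ 2 / m j) * (A i j * m i) - 2 * (x i * (A i j * x j)) := by
    intro i j
    have hi := (hm i).ne'
    have hj := (hm j).ne'
    field_simp
    ring
  simp_rw [hterm, Finset.sum_sub_distrib, Finset.sum_add_distrib, ← Finset.mul_sum]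
  have e1 : ∑ i, x i ^ 2 / m i * ∑ j, A i j * m j = 0 := by
    apply Finset.sum_eq_zero
    intro i _
    rw [h1 i, mul_zero]
  have e2 : ∑ i, ∑ j, x j ^ 2 / m j * (A i j * m i) = 0 := by
    rw [Finset.sum_comm]
    apply Finset.sum_eq_zero
    intro j _
    rw [← Finset.mul_sum, h1' j, mul_zero]
  rw [e1, e2]
  simp only [Matrix.mulVec, dotProduct]
  ring

theorem term_nonneg (hA : ∀ i j, i ≠ j → 0 ≤ A i j) (hm : ∀ i, 0 < m i) (x : Fin n → ℝ)
    (i j : Fin n) : 0 ≤ A i j * m i * m j * (x i / m i - x j / m j) ^ 2 := by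
  by_cases hij : i = j
  · subst hij
    simp
  · exact mul_nonneg (mul_nonneg (mul_nonneg (hA i j hij) (hm i).le) (hm j).le) (sq_nonneg _)

theorem quad_nonpos (hsymm : A.IsSymm) (hA : ∀ i j, i ≠ j → 0 ≤ A i j) (hm : ∀ i, 0 < m i)
    (hAm : A.mulVec m = 0)
    (hconn : ∀ I : Finset (Fin n), I.Nonempty → I ≠ univ → ∃ i ∈ I, ∃ j ∉ I, A i j ≠ 0)
    (x : Fin n → ℝ) :
    dotProduct x (A.mulVec x) ≤ 0 ∧ (dotProduct x (A.mulVec x) = 0 ↔ ∃ q : ℝ, x = q • m) := by
  have hid := key_identity A m hsymm hm hAm x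
  have hnn : 0 ≤ ∑ i, ∑ j, A i j * m i * m j * (x i / m i - x j / m j) ^ 2 :=
    Finset.sum_nonneg fun i _ => Finset.sum_nonneg fun j _ => term_nonneg A m hA hm x i j
  refine ⟨by linarith, ?_, ?_⟩
  · intro h0
    have hz : ∑ i, ∑ j, A i j * m i * m j * (x i / m i - x j / m j) ^ 2 = 0 := by
      rw [hid, h0, mul_zero]
    have hz1 : ∀ i, ∑ j, A i j * m i * m j * (x i / m i - x j / m j) ^ 2 = 0 := by
      intro i
      exact (Finset.sum_eq_zero_iff_of_nonneg
        (fun i _ => Finset.sum_nonneg fun j _ => term_nonneg A m hA hm x i j)).mp hz i (mem_univ i)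
    have hz2 : ∀ i j, A i j * m i * m j * (x i / m i - x j / m j) ^ 2 = 0 := by
      intro i j
      exact (Finset.sum_eq_zero_iff_of_nonneg
        (fun j _ => term_nonneg A m hA hm x i j)).mp (hz1 i) j (mem_univ j)
    have hy : ∀ i j, A i j ≠ 0 → x i / m i = x j / m j := by
      intro i j hij
      have := hz2 i j
      have h3 : A i j * m i * m j ≠ 0 :=
        mul_ne_zero (mul_ne_zero hij (hm i).ne') (hm j).ne'
      have h4 := (mul_eq_zero.mp this).resolve_left h3
      have h5 := pow_eq_zero_iff (two_ne_zero) |>.mp h4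
      linarith
    rcases Nat.eq_zero_or_pos n with hn | hn
    · subst hn
      exact ⟨0, funext fun i => i.elim0⟩
    · let i₀ : Fin n := ⟨0, hn⟩
      refine ⟨x i₀ / m i₀, ?_⟩
      set I := univ.filter (fun i => x i / m i = x i₀ / m i₀) with hI
      have hIne : I.Nonempty := ⟨i₀, by simp [hI]⟩
      have hIuniv : I = univ := by
        by_contra hne
        obtain ⟨i, hi, j, hj, hij⟩ := hconn I hIne hne
        apply hj
        rw [hI, mem_filter] at hi ⊢
        exact ⟨mem_univ _, (hy i j hij).symm.trans hi.2⟩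
      funext i
      have : i ∈ I := by rw [hIuniv]; exact mem_univ i
      rw [hI, mem_filter] at this
      rw [Pi.smul_apply, smul_eq_mul, ← this.2]
      field_simp [(hm i).ne']
  · rintro ⟨q, rfl⟩
    rw [Matrix.mulVec_smul, hAm, smul_zero, dotProduct_zero]

end Groth.Agent.H15.ModelsQuad
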