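import Groth.Prelude.Def_Models
import Groth.Agent.H15.Models
import Groth.Agent.H15.ModelsQuad
import Mathlib

set_option autoImplicit false

namespace Groth.Agent.H15.ModelsPicAux

open Finset

variable {n : ℕ} (T : Models.NumericalType n)

/-- Multiplication of the `i`-th coordinate by `w i`. -/
def scaleW : (Fin n → ℤ) →ₗ[ℤ] (Fin n → ℤ) where
  toFun x := fun i => T.w i * x i
  map_add' x y := by funext i; simp [mul_add]
  map_smul' c x := by funext i; simp [mul_left_comm]

theorem w_mul_picMatrix (i j : Fin n) : T.w i * T.picMatrix i j = T.a i j := by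
  unfold Models.NumericalType.picMatrix
  exact Int.mul_ediv_cancel' (T.w_dvd i j)

theorem scaleW_picMatrix_mulVec (z : Fin n → ℤ) :
    scaleW T (T.picMatrix.mulVec z) = T.a.mulVec z := by
  funext i
  simp only [scaleW, LinearMap.coe_mk, AddHom.coe_mk, Matrix.mulVec, dotProduct]
  rw [Finset.mul_sum]
  apply Finset.sum_congr rfl
  intro j _
  rw [← mul_assoc, w_mul_picMatrix]

theorem pic_embeds_cokerA :
    ∃ f : T.Pic →+ T.CokerA, Function.Injective f ∧
      ∀ x : Fin n → ℤ, f (Submodule.Quotient.mk x) = Submodule.Quotient.mk (fun i => T.w i * x i) := by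
  have hle : LinearMap.range (Matrix.mulVecLin T.picMatrix) ≤
      (LinearMap.range (Matrix.mulVecLin T.a)).comap (scaleW T) := by
    rintro x ⟨z, rfl⟩
    rw [Submodule.mem_comap, Matrix.mulVecLin_apply, scaleW_picMatrix_mulVec]
    exact ⟨z, rfl⟩
  let F : T.Pic →ₗ[ℤ] T.CokerA := Submodule.mapQ _ _ (scaleW T) hle
  refine ⟨F.toAddMonoidHom, ?_, ?_⟩
  · rw [injective_iff_map_eq_zero]
    intro y hy
    obtain ⟨x, rfl⟩ := Submodule.Quotient.mk_surjective _ y
    change F (Submodule.Quotient.mk x) = 0 at hy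
    rw [Submodule.mapQ_apply, Submodule.Quotient.mk_eq_zero] at hy
    obtain ⟨z, hz⟩ := hy
    rw [Matrix.mulVecLin_apply, ← scaleW_picMatrix_mulVec] at hz
    rw [Submodule.Quotient.mk_eq_zero]
    refine ⟨z, ?_⟩
    rw [Matrix.mulVecLin_apply]
    funext i
    have := congrFun hz i
    simp only [scaleW, LinearMap.coe_mk, AddHom.coe_mk] at this
    exact mul_left_cancel₀ (T.w_pos i).ne' this
  · intro x
    change F (Submodule.Quotient.mk x) = _
    rw [Submodule.mapQ_apply]
    rfl


theorem picMatrix_mulVec_eq_zero_iff (z : Fin n → ℤ) :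
    T.picMatrix.mulVec z = 0 ↔ T.a.mulVec z = 0 := by
  rw [← scaleW_picMatrix_mulVec]
  constructor
  · intro h; rw [h, map_zero]
  · intro h
    funext i
    have := congrFun h i
    simp only [scaleW, LinearMap.coe_mk, AddHom.coe_mk, Pi.zero_apply] at this
    rcases mul_eq_zero.mp this with h | h
    · exact absurd h (T.w_pos i).ne'
    · exact h

/-- Integer vectors in the kernel of `a` are real multiples of `m`. -/
theorem exists_real_smul_of_mulVec_eq_zero (z : Fin n → ℤ) (hz : T.a.mulVec z = 0) :
    ∃ q : ℝ, ∀ i, (z i : ℝ) = q * (T.m i : ℝ) := by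
  have hcast : ∀ y : Fin n → ℤ, (T.a.map (Int.cast : ℤ → ℝ)).mulVec (fun i => (y i : ℝ)) =
      fun i => ((T.a.mulVec y i : ℤ) : ℝ) := by
    intro y
    funext i
    simp [Matrix.mulVec, dotProduct]
  have h := ModelsQuad.quad_nonpos (T.a.map (Int.cast : ℤ → ℝ)) (fun i => (T.m i : ℝ))
    (by
      have := T.symm
      unfold Matrix.IsSymm at this ⊢
      rw [← Matrix.transpose_map, this])
    (by intro i j hij; simpa using T.offDiag_nonneg i j hij)
    (by intro i; simpa using T.m_pos i)
    (by rw [hcast, T.mulVec_m]; funext i; simp)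
    (by
      intro I hI hne
      obtain ⟨i, hi, j, hj, hij⟩ := T.connected I hI hne
      exact ⟨i, hi, j, hj, by simpa using hij⟩)
    (fun i => (z i : ℝ))
  have h0 : dotProduct (fun i => (z i : ℝ)) ((T.a.map (Int.cast : ℤ → ℝ)).mulVec (fun i => (z i : ℝ))) = 0 := by
    rw [hcast, hz]
    simp
  obtain ⟨q, hq⟩ := h.2.mp h0
  exact ⟨q, fun i => by simpa using congrFun hq i⟩

theorem finrank_ker_picMatrix :
    Module.finrank ℤ (LinearMap.ker (Matrix.mulVecLin T.picMatrix)) = 1 := by
  have hn := T.pos
  let i₀ : Fin n := ⟨0, hn⟩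
  apply le_antisymm
  · -- injective map to ℤ
    let φ : LinearMap.ker (Matrix.mulVecLin T.picMatrix) →ₗ[ℤ] ℤ :=
      (LinearMap.proj i₀).comp (LinearMap.ker (Matrix.mulVecLin T.picMatrix)).subtype
    have hφ : Function.Injective φ := by
      rw [injective_iff_map_eq_zero]
      rintro ⟨z, hz⟩ h0
      rw [LinearMap.mem_ker, Matrix.mulVecLin_apply, picMatrix_mulVec_eq_zero_iff] at hz
      obtain ⟨q, hq⟩ := exists_real_smul_of_mulVec_eq_zero T z hz
      have hz0 : z i₀ = 0 := h0
      have hq0 : q = 0 := by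
        have := hq i₀
        rw [hz0] at this
        have hm : (T.m i₀ : ℝ) ≠ 0 := by exact_mod_cast (T.m_pos i₀).ne'
        simp only [Int.cast_zero] at this
        rcases mul_eq_zero.mp this.symm with h | h
        · exact h
        · exact absurd h hm
      apply Subtype.ext
      funext i
      have := hq i
      rw [hq0, zero_mul] at this
      exact_mod_cast this
    have := LinearMap.finrank_le_finrank_of_injective hφ
    simpa using this
  · have : 0 < Module.finrank ℤ (LinearMap.ker (Matrix.mulVecLin T.picMatrix)) := by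
      rw [Module.finrank_pos_iff_exists_ne_zero]
      refine ⟨⟨T.m, ?_⟩, ?_⟩
      · rw [LinearMap.mem_ker, Matrix.mulVecLin_apply, picMatrix_mulVec_eq_zero_iff]
        exact T.mulVec_m
      · intro h
        have h' := Subtype.ext_iff.mp h
        have := congrFun h' i₀
        simp only [ZeroMemClass.coe_zero, Pi.zero_apply] at this
        exact (T.m_pos i₀).ne' this
    omega

theorem finrank_pic : Module.finrank ℤ T.Pic = 1 := by
  have h1 := (LinearMap.range (Matrix.mulVecLin T.picMatrix)).finrank_quotient_add_finrank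
  have h2 := (LinearMap.ker (Matrix.mulVecLin T.picMatrix)).finrank_quotient_add_finrank
  have h3 := LinearEquiv.finrank_eq (Matrix.mulVecLin T.picMatrix).quotKerEquivRange
  have h4 : Module.finrank ℤ (Fin n → ℤ) = n := by simp
  have h5 := finrank_ker_picMatrix T
  have hn := T.pos
  show Module.finrank ℤ ((Fin n → ℤ) ⧸ LinearMap.range (Matrix.mulVecLin T.picMatrix)) = 1
  rw [h4] at h1 h2
  rw [h3] at h2
  rw [h5] at h2
  omega

end Groth.Agent.H15.ModelsPicAux
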