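import Groth.Prelude.Def_Models
import Groth.Agent.H15.ModelsContr
import Groth.Agent.H15.ModelsPic
import Mathlib

set_option autoImplicit false

namespace Groth.Agent.H15.ModelsContrPic

open Finset Models
open Groth.Agent.H15.ModelsContr Groth.Agent.H15.ModelsPicAux

variable {n : ℕ} (T : Models.NumericalType (n + 1)) (T' : Models.NumericalType n)

/-- The map on multidegrees. -/
def phi : (Fin (n + 1) → ℤ) →ₗ[ℤ] (Fin n → ℤ) where
  toFun d i := (T.w i.castSucc / T'.w i) * d i.castSucc +
    (T.a i.castSucc (Fin.last n) / T'.w i) * d (Fin.last n)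
  map_add' x y := by funext i; simp only [Pi.add_apply]; ring
  map_smul' c x := by funext i; simp only [Pi.smul_apply, smul_eq_mul, RingHom.id_apply]; ring

theorem w_mul_P (z : Fin (n + 1) → ℤ) (j : Fin (n + 1)) :
    T.w j * (T.picMatrix.mulVec z) j = (T.a.mulVec z) j := by
  have := congrFun (scaleW_picMatrix_mulVec T z) j
  simpa [scaleW] using this

theorem w_mul_P' (z : Fin n → ℤ) (j : Fin n) :
    T'.w j * (T'.picMatrix.mulVec z) j = (T'.a.mulVec z) j := by
  have := congrFun (scaleW_picMatrix_mulVec T' z) j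
  simpa [scaleW] using this

variable (h : T.IsMinusOne (Fin.last n)) (hT' : T.IsContraction T')
include h hT'

theorem w'_spec (i : Fin n) : 0 < T'.w i ∧ (T.w i.castSucc = T'.w i ∨ T.w i.castSucc = 2 * T'.w i) := by
  obtain ⟨hm, ha, hw, hg⟩ := hT'
  obtain ⟨hpos, hcase, _⟩ := contr_arith (T.w (Fin.last n)) (T.w i.castSucc)
      (T.a i.castSucc (Fin.last n)) (T.w_pos _) (T.w_pos _) (ail_nonneg T i) (wl_dvd T i)
      (T.w_dvd _ _) (T'.w i) (hw i)
  exact ⟨hpos, hcase⟩

theorem w'_dvd_w (i : Fin n) : T'.w i ∣ T.w i.castSucc := by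
  rcases (w'_spec T T' h hT' i).2 with h1 | h1
  · rw [h1]
  · rw [h1]; exact dvd_mul_left _ _

theorem w'_mul_r (i : Fin n) : T'.w i * (T.w i.castSucc / T'.w i) = T.w i.castSucc :=
  Int.mul_ediv_cancel' (w'_dvd_w T T' h hT' i)

theorem w'_mul_u (i : Fin n) :
    T'.w i * (T.a i.castSucc (Fin.last n) / T'.w i) = T.a i.castSucc (Fin.last n) :=
  Int.mul_ediv_cancel' (dvd_trans (w'_dvd_w T T' h hT' i) (T.w_dvd _ _))

/-- Key identity (B). -/
theorem A'_mulVec (z : Fin (n + 1) → ℤ) (i : Fin n) :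
    (T'.a.mulVec (fun j => z j.castSucc)) i =
      (T.a.mulVec z) i.castSucc + t T i * (T.a.mulVec z) (Fin.last n) := by
  obtain ⟨hm, ha, hw, hg⟩ := hT'
  simp only [Matrix.mulVec, dotProduct]
  rw [Fin.sum_univ_castSucc (f := fun j => T.a i.castSucc j * z j),
    Fin.sum_univ_castSucc (f := fun j => T.a (Fin.last n) j * z j), h.2]
  have e1 : ∑ j : Fin n, T'.a i j * z j.castSucc =
      ∑ j : Fin n, T.a i.castSucc j.castSucc * z j.castSucc +
        T.a i.castSucc (Fin.last n) * ∑ j : Fin n, t T j * z j.castSucc := by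
    rw [Finset.mul_sum, ← Finset.sum_add_distrib]
    apply Finset.sum_congr rfl
    intro j _
    rw [ca_eq' T h T'.a ha i j]; ring
  have e2 : t T i * ∑ j : Fin n, T.a (Fin.last n) j.castSucc * z j.castSucc =
      T.a i.castSucc (Fin.last n) * ∑ j : Fin n, t T j * z j.castSucc := by
    rw [Finset.mul_sum, Finset.mul_sum]
    apply Finset.sum_congr rfl
    intro j _
    rw [a_symm T (Fin.last n) j.castSucc, ← wl_mul_t T j, ← wl_mul_t T i]; ring
  rw [e1]
  have e3 := wl_mul_t T i
  linear_combination (-1 : ℤ) * e2 + z (Fin.last n) * e3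

theorem w'_mul_phi (d : Fin (n + 1) → ℤ) (i : Fin n) :
    T'.w i * phi T T' d i = T.w i.castSucc * d i.castSucc +
      T.a i.castSucc (Fin.last n) * d (Fin.last n) := by
  simp only [phi, LinearMap.coe_mk, AddHom.coe_mk]
  rw [mul_add, ← mul_assoc, ← mul_assoc, w'_mul_r T T' h hT' i, w'_mul_u T T' h hT' i]

theorem phi_P (z : Fin (n + 1) → ℤ) :
    phi T T' (T.picMatrix.mulVec z) = T'.picMatrix.mulVec (fun j => z j.castSucc) := by
  funext i
  apply mul_left_cancel₀ (w'_spec T T' h hT' i).1.ne'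
  rw [w'_mul_phi T T' h hT', w_mul_P' T', A'_mulVec T T' h hT']
  have e1 := w_mul_P T z i.castSucc
  have e2 := w_mul_P T z (Fin.last n)
  have e3 := wl_mul_t T i
  linear_combination e1 + t T i * e2 - (T.picMatrix.mulVec z) (Fin.last n) * e3

theorem main : ∃ f : T.Pic →+ T'.Pic, Function.Injective f ∧
    ∀ y : T'.Pic, ∃ x : T.Pic, 2 • y = f x := by
  have hle : LinearMap.range (Matrix.mulVecLin T.picMatrix) ≤
      (LinearMap.range (Matrix.mulVecLin T'.picMatrix)).comap (phi T T') := by
    rintro x ⟨z, rfl⟩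
    rw [Submodule.mem_comap, Matrix.mulVecLin_apply, phi_P T T' h hT']
    exact ⟨_, rfl⟩
  let F : T.Pic →ₗ[ℤ] T'.Pic := Submodule.mapQ _ _ (phi T T') hle
  refine ⟨F.toAddMonoidHom, ?_, ?_⟩
  · rw [injective_iff_map_eq_zero]
    intro y hy
    obtain ⟨d, rfl⟩ := Submodule.Quotient.mk_surjective _ y
    change F (Submodule.Quotient.mk d) = 0 at hy
    rw [Submodule.mapQ_apply, Submodule.Quotient.mk_eq_zero] at hy
    obtain ⟨z', hz'⟩ := hy
    rw [Matrix.mulVecLin_apply] at hz'
    rw [Submodule.Quotient.mk_eq_zero]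
    let zl : ℤ := ∑ j : Fin n, T.picMatrix (Fin.last n) j.castSucc * z' j - d (Fin.last n)
    let z : Fin (n + 1) → ℤ := Fin.snoc (α := fun _ => ℤ) z' zl
    have hzc : (fun j : Fin n => z j.castSucc) = z' := by
      funext j; simp [z]
    have hzl : z (Fin.last n) = zl := by simp [z]
    refine ⟨z, ?_⟩
    rw [Matrix.mulVecLin_apply]
    -- the last coordinate
    have hlast : (T.a.mulVec z) (Fin.last n) = T.w (Fin.last n) * d (Fin.last n) := by
      simp only [Matrix.mulVec, dotProduct]
      rw [Fin.sum_univ_castSucc, h.2, hzl]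
      have : ∑ j : Fin n, T.a (Fin.last n) j.castSucc * z j.castSucc =
          T.w (Fin.last n) * ∑ j : Fin n, T.picMatrix (Fin.last n) j.castSucc * z' j := by
        rw [Finset.mul_sum]
        apply Finset.sum_congr rfl
        intro j _
        rw [← mul_assoc, w_mul_picMatrix]
        have : z j.castSucc = z' j := congrFun hzc j
        rw [this]
      rw [this]
      simp only [zl]
      ring
    funext j
    apply mul_left_cancel₀ (T.w_pos j).ne'
    rw [w_mul_P T]
    refine Fin.lastCases ?_ (fun i => ?_) j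
    · exact hlast
    · have e1 := A'_mulVec T T' h hT' z i
      rw [hzc, ← w_mul_P' T', hz', w'_mul_phi T T' h hT', hlast] at e1
      have e3 := wl_mul_t T i
      linear_combination (-1 : ℤ) * e1 - d (Fin.last n) * e3
  · intro y
    obtain ⟨y0, rfl⟩ := Submodule.Quotient.mk_surjective _ y
    let d : Fin (n + 1) → ℤ := Fin.snoc (α := fun _ => ℤ)
      (fun i => if T.w i.castSucc = T'.w i then 2 * y0 i else y0 i) 0
    refine ⟨Submodule.Quotient.mk d, ?_⟩
    change _ = F (Submodule.Quotient.mk d)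
    rw [Submodule.mapQ_apply, ← Submodule.Quotient.mk_smul]
    congr 1
    funext i
    obtain ⟨hpos, hcase⟩ := w'_spec T T' h hT' i
    simp only [phi, LinearMap.coe_mk, AddHom.coe_mk, Pi.smul_apply, smul_eq_mul, d,
      Fin.snoc_castSucc, Fin.snoc_last, mul_zero, add_zero]
    by_cases hc : T.w i.castSucc = T'.w i
    · rw [if_pos hc, hc, Int.ediv_self hpos.ne']
      ring
    · rw [if_neg hc]
      rcases hcase with h1 | h1
      · exact absurd h1 hc
      · rw [h1, Int.mul_ediv_cancel _ hpos.ne']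
        ring

end Groth.Agent.H15.ModelsContrPic
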