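import Mathlib

set_option autoImplicit false

namespace Groth.Agent.H15.ModelsKer

open Finset

variable {n : ℕ} (A : Matrix (Fin n) (Fin n) ℝ) (m : Fin n → ℝ)

/-- Index sets `I` orthogonal to their complement on which the inequality is an equality. -/
def Good (I : Finset (Fin n)) : Prop :=
  (∀ i ∈ I, ∀ j ∉ I, A i j = 0) ∧
    (∀ i ∈ I, ∑ j ∈ univ.erase i, A i j * m j = -(A i i * m i))

/-- The vector equal to `m` on `I` and `0` off `I`. -/
def ind (I : Finset (Fin n)) : Fin n → ℝ := fun i => if i ∈ I then m i else 0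

theorem mulVec_ind_of_good (hsymm : A.IsSymm) {I : Finset (Fin n)} (hI : Good A m I) :
    A.mulVec (ind m I) = 0 := by
  funext i
  simp only [Matrix.mulVec, dotProduct, ind, Pi.zero_apply]
  by_cases hi : i ∈ I
  · have h1 : ∀ j, A i j * (if j ∈ I then m j else 0) = A i j * m j := by
      intro j
      by_cases hj : j ∈ I
      · simp [hj]
      · simp [hj, hI.1 i hi j hj]
    simp_rw [h1]
    rw [← Finset.add_sum_erase univ _ (mem_univ i), hI.2 i hi]
    ring
  · apply Finset.sum_eq_zero
    intro j _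
    by_cases hj : j ∈ I
    · have h0 : A i j = 0 := by
        rw [← hsymm.apply i j]
        exact hI.1 j hj i hi
      simp [h0]
    · simp [hj]

theorem step (hA : ∀ i j, i ≠ j → 0 ≤ A i j) (hm : ∀ i, 0 < m i)
    (hle : ∀ i, ∑ j ∈ univ.erase i, A i j * m j ≤ -(A i i * m i))
    (x : Fin n → ℝ) (hx : A.mulVec x = 0) (i₁ : Fin n) (hpos : 0 < x i₁) :
    ∃ I : Finset (Fin n), Good A m I ∧ ∃ M : ℝ,
      (univ.filter (fun i => (x - M • ind m I) i ≠ 0)).card <
        (univ.filter (fun i => x i ≠ 0)).card := by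
  obtain ⟨i₀, -, hmax⟩ := Finset.exists_max_image univ (fun i => x i / m i) ⟨i₁, mem_univ _⟩
  set M := x i₀ / m i₀ with hM
  have hMpos : 0 < M := lt_of_lt_of_le (div_pos hpos (hm i₁)) (hmax i₁ (mem_univ _))
  set I := univ.filter (fun i => x i / m i = M) with hI
  have hle' : ∀ j, x j ≤ M * m j := fun j => by
    have := hmax j (mem_univ _)
    rwa [div_le_iff₀ (hm j)] at this
  have hxI : ∀ i ∈ I, x i = M * m i := by
    intro i hi
    have := (mem_filter.mp hi).2
    exact (div_eq_iff (hm i).ne').mp this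
  have hi₀I : i₀ ∈ I := by
    rw [hI, mem_filter]
    exact ⟨mem_univ _, rfl⟩
  have key : ∀ i ∈ I, (∀ j, j ≠ i → A i j * (M * m j - x j) = 0) ∧
      ∑ j ∈ univ.erase i, A i j * m j = -(A i i * m i) := by
    intro i hi
    have hrow : A i i * x i + ∑ j ∈ univ.erase i, A i j * x j = 0 := by
      have h := congrFun hx i
      simp only [Matrix.mulVec, dotProduct, Pi.zero_apply] at h
      rw [← h, ← Finset.add_sum_erase univ (fun j => A i j * x j) (mem_univ i)]
    rw [hxI i hi] at hrow
    have hterm : ∀ j ∈ univ.erase i, 0 ≤ A i j * (M * m j - x j) := fun j hj =>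
      mul_nonneg (hA i j (ne_of_mem_erase hj).symm) (sub_nonneg.mpr (hle' j))
    have hsum_nonneg : 0 ≤ ∑ j ∈ univ.erase i, A i j * (M * m j - x j) :=
      Finset.sum_nonneg hterm
    have hsum_eq : ∑ j ∈ univ.erase i, A i j * (M * m j - x j) =
        M * ∑ j ∈ univ.erase i, A i j * m j - ∑ j ∈ univ.erase i, A i j * x j := by
      rw [Finset.mul_sum, ← Finset.sum_sub_distrib]
      apply sum_congr rfl
      intros
      ring
    have h2 := hle i
    have hS0 : ∑ j ∈ univ.erase i, A i j * (M * m j - x j) =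
        M * (∑ j ∈ univ.erase i, A i j * m j + A i i * m i) := by
      rw [hsum_eq]
      linear_combination -hrow
    have hfac : M * (∑ j ∈ univ.erase i, A i j * m j + A i i * m i) ≤ 0 :=
      mul_nonpos_of_nonneg_of_nonpos hMpos.le (by linarith)
    have hS_zero : ∑ j ∈ univ.erase i, A i j * (M * m j - x j) = 0 :=
      le_antisymm (hS0 ▸ hfac) hsum_nonneg
    constructor
    · intro j hj
      exact (Finset.sum_eq_zero_iff_of_nonneg hterm).mp hS_zero j
        (mem_erase.mpr ⟨hj, mem_univ _⟩)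
    · have h3 : M * (∑ j ∈ univ.erase i, A i j * m j + A i i * m i) = 0 := by
        rw [← hS0, hS_zero]
      have h4 := (mul_eq_zero.mp h3).resolve_left hMpos.ne'
      linarith
  refine ⟨I, ⟨?_, fun i hi => (key i hi).2⟩, M, ?_⟩
  · intro i hi j hj
    have hji : j ≠ i := fun h => hj (h ▸ hi)
    have h1 := (key i hi).1 j hji
    have h2 : M * m j - x j ≠ 0 := by
      intro h0
      apply hj
      rw [hI, mem_filter]
      refine ⟨mem_univ _, ?_⟩
      rw [div_eq_iff (hm j).ne']
      linarith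
    exact (mul_eq_zero.mp h1).resolve_right h2
  · apply Finset.card_lt_card
    rw [Finset.ssubset_iff_of_subset]
    · refine ⟨i₀, ?_, ?_⟩
      · rw [mem_filter]
        refine ⟨mem_univ _, ?_⟩
        rw [hxI i₀ hi₀I]
        exact (mul_pos hMpos (hm i₀)).ne'
      · rw [mem_filter, not_and, not_not]
        intro _
        have : ind m I i₀ = m i₀ := by simp [ind, hi₀I]
        rw [Pi.sub_apply, Pi.smul_apply, smul_eq_mul, this, hxI i₀ hi₀I]
        ring
    · intro i hi
      rw [mem_filter] at hi ⊢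
      refine ⟨mem_univ _, ?_⟩
      intro h0
      apply hi.2
      rw [Pi.sub_apply, Pi.smul_apply, smul_eq_mul]
      by_cases hiI : i ∈ I
      · have : ind m I i = m i := by simp [ind, hiI]
        rw [this, hxI i hiI]
        ring
      · have : ind m I i = 0 := by simp [ind, hiI]
        rw [this, h0]
        ring

theorem ker_le_span (hsymm : A.IsSymm) (hA : ∀ i j, i ≠ j → 0 ≤ A i j) (hm : ∀ i, 0 < m i)
    (hle : ∀ i, ∑ j ∈ univ.erase i, A i j * m j ≤ -(A i i * m i)) :
    ∀ (k : ℕ) (x : Fin n → ℝ), A.mulVec x = 0 → (univ.filter (fun i => x i ≠ 0)).card ≤ k →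
      x ∈ Submodule.span ℝ {x : Fin n → ℝ | ∃ I : Finset (Fin n), Good A m I ∧ x = ind m I} := by
  intro k
  induction k with
  | zero =>
    intro x _ hcard
    have hx0 : x = 0 := by
      funext i
      by_contra hi
      have : i ∈ univ.filter (fun i => x i ≠ 0) := by
        simp only [mem_filter, mem_univ, true_and]
        exact hi
      have := Finset.card_pos.mpr ⟨i, this⟩
      omega
    rw [hx0]
    exact Submodule.zero_mem _
  | succ k ih =>
    intro x hx hcard
    by_cases hx0 : x = 0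
    · rw [hx0]; exact Submodule.zero_mem _
    -- reduce to the case with a positive coordinate
    have main : ∀ y : Fin n → ℝ, A.mulVec y = 0 → (univ.filter (fun i => y i ≠ 0)).card ≤ k + 1 →
        (∃ i, 0 < y i) →
        y ∈ Submodule.span ℝ {x : Fin n → ℝ | ∃ I : Finset (Fin n), Good A m I ∧ x = ind m I} := by
      intro y hy hycard ⟨i₁, hpos⟩
      obtain ⟨I, hI, M, hlt⟩ := step A m hA hm hle y hy i₁ hpos
      have hker : A.mulVec (y - M • ind m I) = 0 := by
        rw [Matrix.mulVec_sub, Matrix.mulVec_smul, hy, mulVec_ind_of_good A m hsymm hI]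
        simp
      have h1 := ih (y - M • ind m I) hker (by omega)
      have h2 : ind m I ∈ Submodule.span ℝ
          {x : Fin n → ℝ | ∃ I : Finset (Fin n), Good A m I ∧ x = ind m I} :=
        Submodule.subset_span ⟨I, hI, rfl⟩
      have h3 : y = (y - M • ind m I) + M • ind m I := by abel
      rw [h3]
      exact Submodule.add_mem _ h1 (Submodule.smul_mem _ M h2)
    have hex : ∃ i, x i ≠ 0 := by
      by_contra hcon
      push Not at hcon
      exact hx0 (funext hcon)
    obtain ⟨i, hi⟩ := hex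
    rcases lt_or_gt_of_ne hi with hneg | hpos
    · have hnegx : A.mulVec (-x) = 0 := by rw [Matrix.mulVec_neg, hx, neg_zero]
      have hcard' : (univ.filter (fun i => (-x) i ≠ 0)).card ≤ k + 1 := by
        simpa using hcard
      have := main (-x) hnegx hcard' ⟨i, by simpa using hneg⟩
      have h4 := Submodule.neg_mem _ this
      simpa using h4
    · exact main x hx hcard ⟨i, hpos⟩

theorem ker_eq_span (hsymm : A.IsSymm) (hA : ∀ i j, i ≠ j → 0 ≤ A i j) (hm : ∀ i, 0 < m i)
    (hle : ∀ i, ∑ j ∈ univ.erase i, A i j * m j ≤ -(A i i * m i)) :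
    LinearMap.ker (Matrix.mulVecLin A) = Submodule.span ℝ
      {x : Fin n → ℝ | ∃ I : Finset (Fin n), (∀ i ∈ I, ∀ j ∉ I, A i j = 0) ∧
        (∀ i ∈ I, ∑ j ∈ univ.erase i, A i j * m j = -(A i i * m i)) ∧
        x = fun i => if i ∈ I then m i else 0} := by
  have hset : {x : Fin n → ℝ | ∃ I : Finset (Fin n), (∀ i ∈ I, ∀ j ∉ I, A i j = 0) ∧
        (∀ i ∈ I, ∑ j ∈ univ.erase i, A i j * m j = -(A i i * m i)) ∧
        x = fun i => if i ∈ I then m i else 0} =
      {x : Fin n → ℝ | ∃ I : Finset (Fin n), Good A m I ∧ x = ind m I} := by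
    ext x
    constructor
    · rintro ⟨I, h1, h2, h3⟩
      exact ⟨I, ⟨h1, h2⟩, h3⟩
    · rintro ⟨I, ⟨h1, h2⟩, h3⟩
      exact ⟨I, h1, h2, h3⟩
  rw [hset]
  apply le_antisymm
  · intro x hx
    rw [LinearMap.mem_ker, Matrix.mulVecLin_apply] at hx
    exact ker_le_span A m hsymm hA hm hle _ x hx le_rfl
  · rw [Submodule.span_le]
    rintro x ⟨I, hI, rfl⟩
    rw [SetLike.mem_coe, LinearMap.mem_ker, Matrix.mulVecLin_apply]
    exact mulVec_ind_of_good A m hsymm hI

end Groth.Agent.H15.ModelsKer
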