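import Groth.Prelude.Def_Models
import Groth.Agent.H15.ModelsContr
import Groth.Agent.H15.ModelsContrPic
import Groth.Agent.H15.ModelsPic
import Mathlib

set_option autoImplicit false

namespace Groth.Agent.H15.ModelsPerm

open Finset Models
open Groth.Agent.H15.ModelsContr Groth.Agent.H15.ModelsPicAux

variable {n : ℕ} (T : Models.NumericalType n) (σ : Equiv.Perm (Fin n))

/-- Transport of a numerical type along a permutation. -/
def perm : Models.NumericalType n where
  m i := T.m (σ i)
  a := Matrix.of fun i j => T.a (σ i) (σ j)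
  w i := T.w (σ i)
  g i := T.g (σ i)
  pos := T.pos
  m_pos i := T.m_pos _
  w_pos i := T.w_pos _
  g_nonneg i := T.g_nonneg _
  symm := by
    ext i j
    simp only [Matrix.transpose_apply, Matrix.of_apply]
    exact Matrix.IsSymm.apply T.symm _ _
  offDiag_nonneg i j hij := T.offDiag_nonneg _ _ (fun h => hij (σ.injective h))
  connected I hI hne := by
    obtain ⟨i, hi, j, hj, hij⟩ := T.connected (I.map σ.toEmbedding) hI.map (by
      intro he
      apply hne
      rw [Finset.eq_univ_iff_forall]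
      intro x
      have : σ x ∈ I.map σ.toEmbedding := he ▸ mem_univ _
      obtain ⟨y, hy, hxy⟩ := Finset.mem_map.mp this
      have := σ.injective hxy
      rw [← this]; exact hy)
    obtain ⟨i0, hi0, rfl⟩ := Finset.mem_map.mp hi
    refine ⟨i0, hi0, σ.symm j, ?_, ?_⟩
    · intro hmem
      apply hj
      exact Finset.mem_map.mpr ⟨σ.symm j, hmem, by simp⟩
    · simpa using hij
  mulVec_m := by
    ext i
    simp only [Matrix.mulVec, dotProduct, Matrix.of_apply, Pi.zero_apply]
    have := congrFun T.mulVec_m (σ i)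
    simp only [Matrix.mulVec, dotProduct, Pi.zero_apply] at this
    rw [← this]
    exact Equiv.sum_comp σ (fun j => T.a (σ i) j * T.m j)
  w_dvd i j := T.w_dvd _ _

theorem genus_perm : (perm T σ).genus = T.genus := by
  unfold Models.NumericalType.genus
  have e1 : ∑ i, (perm T σ).m i * (perm T σ).w i * ((perm T σ).g i - 1) =
      ∑ i, T.m i * T.w i * (T.g i - 1) :=
    Equiv.sum_comp σ (fun i => T.m i * T.w i * (T.g i - 1))
  have e2 : ∑ i, (perm T σ).m i * (perm T σ).a i i = ∑ i, T.m i * T.a i i :=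
    Equiv.sum_comp σ (fun i => T.m i * T.a i i)
  rw [e1, e2]

theorem isMinusOne_perm (i : Fin n) (h : T.IsMinusOne (σ i)) : (perm T σ).IsMinusOne i := h

theorem picMatrix_perm (i j : Fin n) : (perm T σ).picMatrix i j = T.picMatrix (σ i) (σ j) := rfl

theorem pic_perm : ∃ f : T.Pic →+ (perm T σ).Pic, Function.Injective f := by
  let ψ : (Fin n → ℤ) →ₗ[ℤ] (Fin n → ℤ) := LinearMap.funLeft ℤ ℤ σ
  have hψ : ∀ z, ψ (T.picMatrix.mulVec z) = (perm T σ).picMatrix.mulVec (ψ z) := by
    intro z
    funext i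
    simp only [ψ, LinearMap.funLeft_apply, Matrix.mulVec, dotProduct, picMatrix_perm]
    exact (Equiv.sum_comp σ (fun j => T.picMatrix (σ i) j * z j)).symm
  have hle : LinearMap.range (Matrix.mulVecLin T.picMatrix) ≤
      (LinearMap.range (Matrix.mulVecLin (perm T σ).picMatrix)).comap ψ := by
    rintro x ⟨z, rfl⟩
    rw [Submodule.mem_comap, Matrix.mulVecLin_apply, hψ]
    exact ⟨_, rfl⟩
  let F : T.Pic →ₗ[ℤ] (perm T σ).Pic := Submodule.mapQ _ _ ψ hle
  refine ⟨F.toAddMonoidHom, ?_⟩
  rw [injective_iff_map_eq_zero]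
  intro y hy
  obtain ⟨d, rfl⟩ := Submodule.Quotient.mk_surjective _ y
  change F (Submodule.Quotient.mk d) = 0 at hy
  rw [Submodule.mapQ_apply, Submodule.Quotient.mk_eq_zero] at hy
  obtain ⟨z', hz'⟩ := hy
  rw [Matrix.mulVecLin_apply] at hz'
  rw [Submodule.Quotient.mk_eq_zero]
  refine ⟨fun k => z' (σ.symm k), ?_⟩
  rw [Matrix.mulVecLin_apply]
  funext k
  have h1 := congrFun hz' (σ.symm k)
  simp only [ψ, LinearMap.funLeft_apply, Matrix.mulVec, dotProduct, picMatrix_perm,
    Equiv.apply_symm_apply] at h1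
  simp only [Matrix.mulVec, dotProduct]
  rw [← h1]
  exact (Equiv.sum_comp σ (fun j => T.picMatrix k j * z' (σ.symm j))).symm.trans (by simp)

/-- `n = 1`: the Picard group embeds into `ℤ`. -/
theorem pic_one (T : Models.NumericalType 1) : ∃ f : T.Pic →+ ℤ, Function.Injective f := by
  have ha : T.a 0 0 = 0 := by
    have := congrFun T.mulVec_m 0
    simp only [Matrix.mulVec, dotProduct, Pi.zero_apply, Fin.sum_univ_one] at this
    rcases mul_eq_zero.mp this with h | h
    · exact h
    · exact absurd h (T.m_pos 0).ne'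
  have hP : ∀ z, T.picMatrix.mulVec z = 0 := by
    intro z
    funext i
    have hi : i = 0 := Subsingleton.elim _ _
    subst hi
    simp only [Matrix.mulVec, dotProduct, Fin.sum_univ_one, Pi.zero_apply]
    unfold Models.NumericalType.picMatrix
    rw [ha]; simp
  let p : (Fin 1 → ℤ) →ₗ[ℤ] ℤ := LinearMap.proj 0
  have hle : LinearMap.range (Matrix.mulVecLin T.picMatrix) ≤ LinearMap.ker p := by
    rintro x ⟨z, rfl⟩
    rw [Matrix.mulVecLin_apply, hP]
    simp
  let F : T.Pic →ₗ[ℤ] ℤ := Submodule.liftQ _ p hle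
  refine ⟨F.toAddMonoidHom, ?_⟩
  rw [injective_iff_map_eq_zero]
  intro y hy
  obtain ⟨d, rfl⟩ := Submodule.Quotient.mk_surjective _ y
  change F (Submodule.Quotient.mk d) = 0 at hy
  rw [Submodule.liftQ_apply] at hy
  have : d = 0 := by
    funext i
    have hi : i = 0 := Subsingleton.elim _ _
    subst hi
    exact hy
  rw [this]
  rfl

theorem pic_embeds : ∀ (n : ℕ) (T : Models.NumericalType (n + 1)), T.genus ≤ 0 →
    ∃ f : T.Pic →+ ℤ, Function.Injective f := by
  intro n
  induction n with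
  | zero => intro T _; exact pic_one T
  | succ k ih =>
    intro T hg
    have hnm : ¬ T.IsMinimal := by
      intro hmin
      have := ModelsAux.one_le_genus_of_isMinimal T hmin (by omega)
      linarith
    unfold Models.NumericalType.IsMinimal at hnm
    push_neg at hnm
    obtain ⟨i, hi⟩ := hnm
    let σ : Equiv.Perm (Fin (k + 2)) := Equiv.swap i (Fin.last (k + 1))
    have hσ : σ (Fin.last (k + 1)) = i := Equiv.swap_apply_right _ _
    have h1 : (perm T σ).IsMinusOne (Fin.last (k + 1)) := isMinusOne_perm T σ _ (by rw [hσ]; exact hi)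
    have hg1 : (perm T σ).genus ≤ 0 := by rw [genus_perm]; exact hg
    obtain ⟨f0, hf0⟩ := pic_perm T σ
    obtain ⟨f1, hf1, _⟩ := ModelsContrPic.main (perm T σ) (contr (perm T σ) h1) h1
      (isContraction_contr _ h1)
    have hg2 : (contr (perm T σ) h1).genus ≤ 0 := by
      rw [genus_eq (perm T σ) h1 _ (isContraction_contr _ h1)]; exact hg1
    obtain ⟨f2, hf2⟩ := ih (contr (perm T σ) h1) hg2
    exact ⟨(f2.comp f1).comp f0, (hf2.comp hf1).comp hf0⟩

theorem main {n : ℕ} (T : Models.NumericalType n) (hg : T.genus ≤ 0) : Nonempty (T.Pic ≃+ ℤ) := by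
  obtain ⟨k, rfl⟩ : ∃ k, n = k + 1 := ⟨n - 1, by have := T.pos; omega⟩
  obtain ⟨f, hf⟩ := pic_embeds k T hg
  haveI : Module.IsTorsionFree ℤ T.Pic :=
    Function.Injective.moduleIsTorsionFree f hf (fun r m => by simp)
  haveI : Module.Free ℤ T.Pic := Module.free_of_finite_type_torsion_free'
  obtain ⟨e⟩ := Module.nonempty_linearEquiv_of_finrank_eq_one (finrank_pic T)
  exact ⟨e.symm.toAddEquiv⟩

end Groth.Agent.H15.ModelsPerm
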