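import Groth.Prelude.Def_Models
import Groth.Agent.H15.Models
import Mathlib

set_option autoImplicit false

namespace Groth.Agent.H15.ModelsTop

open Finset Groth.Agent.H15.ModelsAux

variable {n : ℕ} (T : Models.NumericalType n)

/-- adjacency indicator -/
def δ (i j : Fin n) : ℤ := if 0 < T.a i j then 1 else 0

theorem δ_symm (i j : Fin n) : δ T i j = δ T j i := by
  unfold δ
  rw [Matrix.IsSymm.apply T.symm i j]

theorem δ_nonneg (i j : Fin n) : 0 ≤ δ T i j := by
  unfold δ; split_ifs <;> simp

theorem δ_self (hn : 1 < n) (i : Fin n) : δ T i i = 0 := by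
  unfold δ
  have := diag_neg T hn i
  rw [if_neg (by linarith)]

/-- the contribution of index `i` to `2g - 2` -/
def c (i : Fin n) : ℤ := T.m i * (2 * T.w i * (T.g i - 1) - T.a i i)

/-- twice the number of edges inside `S` -/
def E (S : Finset (Fin n)) : ℤ := ∑ i ∈ S, ∑ j ∈ S, δ T i j

theorem E_erase (hn : 1 < n) (S : Finset (Fin n)) (i : Fin n) (hi : i ∈ S) :
    E T S = E T (S.erase i) + 2 * ∑ j ∈ S.erase i, δ T i j := by
  unfold E
  rw [← Finset.add_sum_erase S _ hi]
  rw [← Finset.add_sum_erase S (fun j => δ T i j) hi, δ_self T hn, zero_add]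
  have : ∀ k ∈ S.erase i, ∑ j ∈ S, δ T k j = δ T k i + ∑ j ∈ S.erase i, δ T k j := by
    intro k _
    rw [← Finset.add_sum_erase S (fun j => δ T k j) hi]
  rw [Finset.sum_congr rfl this, Finset.sum_add_distrib]
  have h2 : ∑ k ∈ S.erase i, δ T k i = ∑ j ∈ S.erase i, δ T i j :=
    Finset.sum_congr rfl (fun k _ => δ_symm T k i)
  rw [h2]
  ring

/-- `w i * δ i j ≤ a i j` for `j ≠ i`. -/
theorem w_mul_δ_le (i j : Fin n) (hij : j ≠ i) : T.w i * δ T i j ≤ T.a i j := by
  unfold δ
  split_ifs with h
  · rw [mul_one]; exact Int.le_of_dvd h (T.w_dvd i j)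
  · rw [mul_zero]; exact T.offDiag_nonneg i j (Ne.symm hij)

theorem c_ge (S : Finset (Fin n)) (i : Fin n) :
    -2 * (T.m i * T.w i) + ∑ j ∈ S.erase i, T.a i j * T.m j ≤ c T i := by
  have hrow := row_eq T i
  have hsub : ∑ j ∈ S.erase i, T.a i j * T.m j ≤ ∑ j ∈ univ.erase i, T.a i j * T.m j := by
    apply Finset.sum_le_sum_of_subset_of_nonneg
    · intro j hj
      exact Finset.mem_erase.mpr ⟨Finset.ne_of_mem_erase hj, mem_univ j⟩
    · intro j hj _
      exact offdiag_term_nonneg T i j (Finset.ne_of_mem_erase hj)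
  unfold c
  have hg := T.g_nonneg i
  have hmw : 0 < T.m i * T.w i := mul_pos (T.m_pos i) (T.w_pos i)
  have : T.m i * (2 * T.w i * (T.g i - 1) - T.a i i) =
      2 * (T.m i * T.w i) * (T.g i - 1) + -(T.a i i * T.m i) := by ring
  rw [this]
  have h3 : -2 * (T.m i * T.w i) ≤ 2 * (T.m i * T.w i) * (T.g i - 1) := by nlinarith
  linarith

theorem main (hmin : T.IsMinimal) (hn : 1 < n) :
    ∀ (k : ℕ) (S : Finset (Fin n)), S.card = k → E T S - 2 * S.card ≤ ∑ i ∈ S, c T i := by
  intro k
  induction k using Nat.strong_induction_on with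
  | _ k ih =>
    intro S hS
    have hc_nonneg : ∀ i, 0 ≤ c T i := fun i => term_nonneg_of_isMinimal T hmin hn i
    by_cases hleaf : ∃ i ∈ S, ∑ j ∈ S.erase i, δ T i j ≤ 1
    · obtain ⟨i, hi, hdeg⟩ := hleaf
      have hcard : (S.erase i).card = k - 1 := by rw [Finset.card_erase_of_mem hi, hS]
      have hkpos : 0 < k := by rw [← hS]; exact Finset.card_pos.mpr ⟨i, hi⟩
      have := ih (k - 1) (by omega) (S.erase i) hcard
      rw [E_erase T hn S i hi, ← Finset.add_sum_erase S _ hi]
      have h1 : (S.card : ℤ) = (S.erase i).card + 1 := by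
        rw [Finset.card_erase_of_mem hi]
        have : 1 ≤ S.card := by omega
        push_cast [Nat.cast_sub this]
        ring
      have := hc_nonneg i
      linarith
    · push Not at hleaf
      -- all degrees ≥ 2
      have hdeg : ∀ i ∈ S, 2 ≤ ∑ j ∈ S.erase i, δ T i j := fun i hi => by
        have := hleaf i hi; omega
      -- E S = Σ_{i∈S} deg i
      have hE : E T S = ∑ i ∈ S, ∑ j ∈ S.erase i, δ T i j := by
        unfold E
        apply Finset.sum_congr rfl
        intro i hi
        rw [← Finset.add_sum_erase S (fun j => δ T i j) hi, δ_self T hn, zero_add]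
      -- Σ c ≥ Σ (-2 m w + Σ_{j} a_ij m_j)
      have h1 : ∑ i ∈ S, (-2 * (T.m i * T.w i) + ∑ j ∈ S.erase i, T.a i j * T.m j) ≤
          ∑ i ∈ S, c T i := Finset.sum_le_sum fun i _ => c_ge T S i
      -- swap the double sum
      have hswap : ∑ i ∈ S, ∑ j ∈ S.erase i, T.a i j * T.m j =
          ∑ i ∈ S, ∑ j ∈ S.erase i, T.a i j * T.m i := by
        have e1 : ∀ (f : Fin n → Fin n → ℤ), ∑ i ∈ S, ∑ j ∈ S.erase i, f i j =
            ∑ i ∈ S, ∑ j ∈ S, if j = i then 0 else f i j := by
          intro f
          apply Finset.sum_congr rfl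
          intro i hi
          rw [← Finset.add_sum_erase S _ hi]
          simp only [if_true, zero_add]
          apply Finset.sum_congr rfl
          intro j hj
          rw [if_neg (Finset.ne_of_mem_erase hj)]
        rw [e1, e1, Finset.sum_comm]
        apply Finset.sum_congr rfl
        intro i _
        apply Finset.sum_congr rfl
        intro j _
        by_cases hji : j = i
        · subst hji; simp
        · rw [if_neg hji, if_neg (Ne.symm hji), Matrix.IsSymm.apply T.symm]
      have h2 : ∀ i ∈ S, T.m i * T.w i * (∑ j ∈ S.erase i, δ T i j) ≤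
          ∑ j ∈ S.erase i, T.a i j * T.m i := by
        intro i _
        rw [Finset.mul_sum]
        apply Finset.sum_le_sum
        intro j hj
        have := w_mul_δ_le T i j (Finset.ne_of_mem_erase hj)
        have hm := T.m_pos i
        nlinarith
      have h3 : ∀ i ∈ S, (∑ j ∈ S.erase i, δ T i j) - 2 ≤
          -2 * (T.m i * T.w i) + ∑ j ∈ S.erase i, T.a i j * T.m i := by
        intro i hi
        have := h2 i hi
        have hd := hdeg i hi
        have hmw : 1 ≤ T.m i * T.w i := by
          have := mul_pos (T.m_pos i) (T.w_pos i)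
          omega
        nlinarith
      have h4 : ∑ i ∈ S, ((∑ j ∈ S.erase i, δ T i j) - 2) ≤
          ∑ i ∈ S, (-2 * (T.m i * T.w i) + ∑ j ∈ S.erase i, T.a i j * T.m i) :=
        Finset.sum_le_sum h3
      rw [Finset.sum_add_distrib] at h1 h4
      rw [hswap] at h1
      rw [Finset.sum_sub_distrib, ← hE] at h4
      simp only [Finset.sum_const, nsmul_eq_mul] at h4
      linarith

theorem E_univ (hn : 1 < n) : E T univ = 2 * (T.edgeCount : ℤ) := by
  unfold E Models.NumericalType.edgeCount
  have h1 : ((univ.filter fun p : Fin n × Fin n => p.1 < p.2 ∧ 0 < T.a p.1 p.2).card : ℤ) =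
      ∑ i, ∑ j, if i < j then δ T i j else 0 := by
    rw [Finset.card_filter, Nat.cast_sum, ← Finset.univ_product_univ, Finset.sum_product]
    apply Finset.sum_congr rfl
    intro i _
    apply Finset.sum_congr rfl
    intro j _
    unfold δ
    by_cases h1 : i < j <;> by_cases h2 : 0 < T.a i j <;> simp [h1, h2]
  rw [h1]
  have h2 : ∀ i j, δ T i j = (if i < j then δ T i j else 0) + (if j < i then δ T j i else 0) := by
    intro i j
    rcases lt_trichotomy i j with h | h | h
    · rw [if_pos h, if_neg (not_lt.mpr h.le), add_zero]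
    · subst h; simp [δ_self T hn]
    · rw [if_neg (not_lt.mpr h.le), if_pos h, zero_add, δ_symm]
  calc ∑ i, ∑ j, δ T i j
      = ∑ i, ∑ j, ((if i < j then δ T i j else 0) + (if j < i then δ T j i else 0)) := by
        apply Finset.sum_congr rfl; intro i _
        apply Finset.sum_congr rfl; intro j _
        exact h2 i j
    _ = (∑ i, ∑ j, if i < j then δ T i j else 0) + ∑ i, ∑ j, if j < i then δ T j i else 0 := by
        simp only [Finset.sum_add_distrib]
    _ = (∑ i, ∑ j, if i < j then δ T i j else 0) + ∑ j, ∑ i, if j < i then δ T j i else 0 := by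
        rw [Finset.sum_comm (f := fun i j => if j < i then δ T j i else 0)]
    _ = 2 * ∑ i, ∑ j, if i < j then δ T i j else 0 := by ring

theorem topGenus_le_genus (hmin : T.IsMinimal) (hn : 1 < n) : T.topGenus ≤ T.genus := by
  have h := main T hmin hn _ univ rfl
  rw [E_univ T hn] at h
  have h2 := two_mul_genus T
  unfold Models.NumericalType.topGenus
  unfold c at h
  rw [← h2] at h
  simp only [Finset.card_univ, Fintype.card_fin] at h
  linarith

end Groth.Agent.H15.ModelsTop
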