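import Mathlib
open MvPolynomial

namespace Groth.Agent.H15.MonPrimDec

variable {k : Type*} [Field k] {σ : Type*}

theorem mem_span_iff (G : Set (MvPolynomial σ k)) (hG : ∀ f ∈ G, ∃ s, f = monomial s 1)
    (x : MvPolynomial σ k) :
    x ∈ Ideal.span G ↔ ∀ u ∈ x.support, ∃ s, monomial s (1 : k) ∈ G ∧ s ≤ u := by
  have hGe : G = (fun s => monomial s (1 : k)) '' {s | monomial s (1 : k) ∈ G} := by
    ext f
    constructor
    · intro hf
      obtain ⟨s, rfl⟩ := hG f hf
      exact ⟨s, hf, rfl⟩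
    · rintro ⟨s, hs, rfl⟩
      exact hs
  conv_lhs => rw [hGe]
  rw [mem_ideal_span_monomial_image]
  simp only [Set.mem_setOf_eq]

theorem single_le_iff' (i : σ) (a : ℕ) (u : σ →₀ ℕ) : Finsupp.single i a ≤ u ↔ a ≤ u i := by
  classical
  constructor
  · intro h
    have := h i
    simpa using this
  · intro h j
    by_cases hj : j = i
    · subst hj; simpa using h
    · rw [Finsupp.single_eq_of_ne hj]; exact Nat.zero_le _

theorem pair_le_of_ne (i j : σ) (hij : i ≠ j) (u : σ →₀ ℕ) (hi : 1 ≤ u i) (hj : 1 ≤ u j) :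
    Finsupp.single i 1 + Finsupp.single j 1 ≤ u := by
  classical
  intro l
  rw [Finsupp.add_apply]
  by_cases hli : l = i
  · subst hli
    rw [Finsupp.single_eq_same, Finsupp.single_eq_of_ne hij]
    simpa using hi
  · by_cases hlj : l = j
    · subst hlj
      rw [Finsupp.single_eq_same, Finsupp.single_eq_of_ne hli]
      simpa using hj
    · rw [Finsupp.single_eq_of_ne hli, Finsupp.single_eq_of_ne hlj]
      exact Nat.zero_le _

theorem XX_eq (p q : σ) : (X p * X q : MvPolynomial σ k) =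
    monomial (Finsupp.single p 1 + Finsupp.single q 1) 1 := by
  simp [X, monomial_mul]

theorem X_eq (p : σ) : (X p : MvPolynomial σ k) = monomial (Finsupp.single p 1) 1 := rfl

theorem Xsq_eq (p : σ) : (X p ^ 2 : MvPolynomial σ k) = monomial (Finsupp.single p 2) 1 :=
  X_pow_eq_monomial

theorem mon_inj {s t : σ →₀ ℕ} (h : monomial s (1 : k) = monomial t 1) : s = t :=
  monomial_left_injective one_ne_zero h

theorem main (k : Type*) [Field k]
    (n k0 e1 e2 : ℕ) (hk : 1 ≤ k0) (hn : 2 * k0 ≤ n + 1) (he : e1 ≤ e2) (he2 : e2 + 1 ≤ k0) :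
    Ideal.span ({f : MvPolynomial (Fin (n + 1)) k | ∃ p q : Fin (n + 1), e1 ≤ p.val ∧ p.val ≤ e2 ∧ e1 ≤ q.val ∧ q.val ≤ e2 ∧
        f = MvPolynomial.X p * MvPolynomial.X q} ∪
      {f : MvPolynomial (Fin (n + 1)) k | ∃ p q m : Fin (n + 1), e1 ≤ p.val ∧ p.val < q.val ∧ q.val ≤ e2 ∧
        m.val + k0 = n + 1 + q.val ∧ f = MvPolynomial.X p * MvPolynomial.X m}) =
    ⨅ j : Fin (n + 1), ⨅ (_ : e1 ≤ j.val ∧ j.val ≤ e2),
      Ideal.span ({f : MvPolynomial (Fin (n + 1)) k | ∃ i : Fin (n + 1), e1 ≤ i.val ∧ i.val ≤ e2 ∧ i ≠ j ∧ f = MvPolynomial.X i} ∪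
        {MvPolynomial.X j ^ 2} ∪
        {f : MvPolynomial (Fin (n + 1)) k | ∃ q m : Fin (n + 1), j.val < q.val ∧ q.val ≤ e2 ∧ m.val + k0 = n + 1 + q.val ∧
          f = MvPolynomial.X m}) := by
  classical
  ext x
  simp only [Ideal.mem_iInf]
  -- generators are monomials
  have hGL : ∀ f ∈ ({f : MvPolynomial (Fin (n + 1)) k | ∃ p q : Fin (n + 1), e1 ≤ p.val ∧ p.val ≤ e2 ∧ e1 ≤ q.val ∧ q.val ≤ e2 ∧
        f = MvPolynomial.X p * MvPolynomial.X q} ∪
      {f : MvPolynomial (Fin (n + 1)) k | ∃ p q m : Fin (n + 1), e1 ≤ p.val ∧ p.val < q.val ∧ q.val ≤ e2 ∧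
        m.val + k0 = n + 1 + q.val ∧ f = MvPolynomial.X p * MvPolynomial.X m}), ∃ s, f = monomial s 1 := by
    rintro f (⟨p, q, -, -, -, -, rfl⟩ | ⟨p, q, m, -, -, -, -, rfl⟩)
    · exact ⟨_, XX_eq p q⟩
    · exact ⟨_, XX_eq p m⟩
  have hGR : ∀ j : Fin (n + 1), ∀ f ∈ ({f : MvPolynomial (Fin (n + 1)) k | ∃ i : Fin (n + 1), e1 ≤ i.val ∧ i.val ≤ e2 ∧ i ≠ j ∧ f = MvPolynomial.X i} ∪
        {MvPolynomial.X j ^ 2} ∪
        {f : MvPolynomial (Fin (n + 1)) k | ∃ q m : Fin (n + 1), j.val < q.val ∧ q.val ≤ e2 ∧ m.val + k0 = n + 1 + q.val ∧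
          f = MvPolynomial.X m}), ∃ s, f = monomial s 1 := by
    rintro j f ((⟨i, -, -, -, rfl⟩ | hf) | ⟨q, m, -, -, -, rfl⟩)
    · exact ⟨_, X_eq i⟩
    · rw [Set.mem_singleton_iff] at hf; subst hf; exact ⟨_, Xsq_eq j⟩
    · exact ⟨_, X_eq m⟩
  rw [mem_span_iff _ hGL]
  have hR : ∀ j : Fin (n + 1), (x ∈ Ideal.span ({f : MvPolynomial (Fin (n + 1)) k | ∃ i : Fin (n + 1), e1 ≤ i.val ∧ i.val ≤ e2 ∧ i ≠ j ∧ f = MvPolynomial.X i} ∪
        {MvPolynomial.X j ^ 2} ∪
        {f : MvPolynomial (Fin (n + 1)) k | ∃ q m : Fin (n + 1), j.val < q.val ∧ q.val ≤ e2 ∧ m.val + k0 = n + 1 + q.val ∧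
          f = MvPolynomial.X m})) ↔ _ := fun j => mem_span_iff _ (hGR j) x
  simp only [hR]
  constructor
  · -- LHS ⇒ RHS
    intro h j hj u hu
    obtain ⟨s, hs, hsu⟩ := h u hu
    rcases hs with (⟨p, q, hp1, hp2, hq1, hq2, hpq⟩ | ⟨p, q, m, hp1, hpq, hq2, hm, hpm⟩)
    · rw [XX_eq] at hpq
      have hs := mon_inj hpq
      subst hs
      have hup : 1 ≤ u p := by
        have := hsu p; simp at this; omega
      have huq : 1 ≤ u q := by
        have := hsu q; simp at this; omega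
      by_cases hpj : p = j
      · by_cases hqj : q = j
        · rw [hpj, hqj] at hsu
          refine ⟨Finsupp.single j 2, ?_, ?_⟩
          · left; right
            rw [Set.mem_singleton_iff, Xsq_eq]
          · rw [single_le_iff']
            have := hsu j; simp at this; omega
        · refine ⟨Finsupp.single q 1, ?_, ?_⟩
          · left; left
            exact ⟨q, hq1, hq2, hqj, (X_eq q).symm⟩
          · rw [single_le_iff']; exact huq
      · refine ⟨Finsupp.single p 1, ?_, ?_⟩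
        · left; left
          exact ⟨p, hp1, hp2, hpj, (X_eq p).symm⟩
        · rw [single_le_iff']; exact hup
    · rw [XX_eq] at hpm
      have hs := mon_inj hpm
      subst hs
      have hpm' : p ≠ m := by
        intro h; subst h; omega
      have hup : 1 ≤ u p := by
        have := hsu p; simp [Finsupp.single_eq_of_ne hpm'] at this; omega
      have hum : 1 ≤ u m := by
        have := hsu m; simp [Finsupp.single_eq_of_ne hpm'.symm] at this; omega
      by_cases hpj : p = j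
      · subst hpj
        refine ⟨Finsupp.single m 1, ?_, ?_⟩
        · right
          exact ⟨q, m, hpq, hq2, hm, (X_eq m).symm⟩
        · rw [single_le_iff']; exact hum
      · refine ⟨Finsupp.single p 1, ?_, ?_⟩
        · left; left
          exact ⟨p, hp1, by omega, hpj, (X_eq p).symm⟩
        · rw [single_le_iff']; exact hup
  · -- RHS ⇒ LHS
    intro h u hu
    by_cases hT2 : ∃ p q : Fin (n + 1), e1 ≤ p.val ∧ p.val ≤ e2 ∧ e1 ≤ q.val ∧ q.val ≤ e2 ∧ p ≠ q ∧ 1 ≤ u p ∧ 1 ≤ u q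
    · obtain ⟨p, q, hp1, hp2, hq1, hq2, hpq, hup, huq⟩ := hT2
      refine ⟨Finsupp.single p 1 + Finsupp.single q 1, ?_, pair_le_of_ne p q hpq u hup huq⟩
      left
      exact ⟨p, q, hp1, hp2, hq1, hq2, (XX_eq p q).symm⟩
    · by_cases hT1 : ∃ p : Fin (n + 1), e1 ≤ p.val ∧ p.val ≤ e2 ∧ 1 ≤ u p
      · obtain ⟨p, hp1, hp2, hup⟩ := hT1
        obtain ⟨s', hs', hs'u⟩ := h p ⟨hp1, hp2⟩ u hu
        rcases hs' with ((⟨i, hi1, hi2, hip, hi⟩ | hsq) | ⟨q, m, hpq, hq2, hm, hmm⟩)
        · exfalso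
          rw [X_eq] at hi
          have := mon_inj hi
          subst this
          rw [single_le_iff'] at hs'u
          exact hT2 ⟨p, i, hp1, hp2, hi1, hi2, hip.symm, hup, hs'u⟩
        · rw [Set.mem_singleton_iff, Xsq_eq] at hsq
          have := mon_inj hsq
          subst this
          rw [single_le_iff'] at hs'u
          refine ⟨Finsupp.single p 1 + Finsupp.single p 1, ?_, ?_⟩
          · left
            exact ⟨p, p, hp1, hp2, hp1, hp2, (XX_eq p p).symm⟩
          · rw [← Finsupp.single_add, single_le_iff']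
            exact hs'u
        · rw [X_eq] at hmm
          have := mon_inj hmm
          subst this
          rw [single_le_iff'] at hs'u
          have hpm' : p ≠ m := by
            intro h; subst h; omega
          refine ⟨Finsupp.single p 1 + Finsupp.single m 1, ?_, pair_le_of_ne p m hpm' u hup hs'u⟩
          right
          exact ⟨p, q, m, hp1, hpq, hq2, hm, (XX_eq p m).symm⟩
      · exfalso
        have he2n : e2 < n + 1 := by omega
        obtain ⟨s', hs', hs'u⟩ := h ⟨e2, he2n⟩ ⟨he, le_refl _⟩ u hu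
        rcases hs' with ((⟨i, hi1, hi2, hip, hi⟩ | hsq) | ⟨q, m, hpq, hq2, hm, hmm⟩)
        · rw [X_eq] at hi
          have := mon_inj hi
          subst this
          rw [single_le_iff'] at hs'u
          exact hT1 ⟨i, hi1, hi2, hs'u⟩
        · rw [Set.mem_singleton_iff, Xsq_eq] at hsq
          have := mon_inj hsq
          subst this
          rw [single_le_iff'] at hs'u
          exact hT1 ⟨⟨e2, he2n⟩, he, le_refl _, by omega⟩
        · simp only at hpq
          omega

end Groth.Agent.H15.MonPrimDec
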