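import Mathlib
set_option autoImplicit false
universe u
namespace Groth.Agent.H15.MonoKD
open Polynomial

variable (A B : Type u) [CommRing A] [CommRing B] [Algebra A B]

theorem surj_aeval (u : B) (hu : Algebra.adjoin A ({u} : Set B) = ⊤) :
    Function.Surjective (Polynomial.aeval u : Polynomial A →ₐ[A] B) := by
  intro b
  have : b ∈ Algebra.adjoin A ({u} : Set B) := by rw [hu]; trivial
  rw [Algebra.adjoin_singleton_eq_range_aeval] at this
  exact this

theorem part1 (u : B) (hu : Algebra.adjoin A ({u} : Set B) = ⊤) (F : Polynomial A)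
    (hF : Polynomial.aeval u F = 0) :
    Ideal.span {Polynomial.aeval u (Polynomial.derivative F)} ≤
      Module.annihilator B (KaehlerDifferential A B) := by
  rw [Ideal.span_singleton_le_iff_mem, Module.mem_annihilator]
  have h0 : Polynomial.aeval u (Polynomial.derivative F) • KaehlerDifferential.D A B u = 0 := by
    rw [← Derivation.map_aeval, hF, map_zero]
  intro ω
  have hω : ω ∈ Submodule.span B (Set.range (KaehlerDifferential.D A B)) := by
    rw [KaehlerDifferential.span_range_derivation]; trivial
  induction hω using Submodule.span_induction with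
  | mem x hx =>
    obtain ⟨b, rfl⟩ := hx
    obtain ⟨g, rfl⟩ := surj_aeval A B u hu b
    rw [Derivation.map_aeval, smul_comm, h0, smul_zero]
  | zero => simp
  | add x y _ _ hx hy => rw [smul_add, hx, hy, add_zero]
  | smul c x _ hx => rw [smul_comm, hx, smul_zero]

theorem wd2 (u : B) (F : Polynomial A)
    (hker : RingHom.ker (Polynomial.aeval u : Polynomial A →ₐ[A] B) = Ideal.span {F})
    (g₁ g₂ : Polynomial A) (h : Polynomial.aeval u g₁ = Polynomial.aeval u g₂) :
      Ideal.Quotient.mk (Ideal.span {Polynomial.aeval u (Polynomial.derivative F)})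
        (Polynomial.aeval u (Polynomial.derivative g₁)) =
      Ideal.Quotient.mk (Ideal.span {Polynomial.aeval u (Polynomial.derivative F)})
        (Polynomial.aeval u (Polynomial.derivative g₂)) := by
  have hwd : ∀ g : Polynomial A, Polynomial.aeval u g = 0 →
      Ideal.Quotient.mk (Ideal.span {Polynomial.aeval u (Polynomial.derivative F)})
        (Polynomial.aeval u (Polynomial.derivative g)) = 0 := by
    intro g hg
    have : g ∈ Ideal.span {F} := by rw [← hker]; exact hg
    obtain ⟨h, rfl⟩ := Ideal.mem_span_singleton'.mp this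
    have hF : Polynomial.aeval u F = 0 := by
      have : F ∈ RingHom.ker (Polynomial.aeval u : Polynomial A →ₐ[A] B) := by
        rw [hker]; exact Ideal.mem_span_singleton_self F
      exact this
    rw [Polynomial.derivative_mul, map_add, map_mul, map_mul, hF, mul_zero, zero_add,
      Ideal.Quotient.eq_zero_iff_mem]
    exact Ideal.mul_mem_left _ _ (Ideal.mem_span_singleton_self _)
  have := hwd (g₁ - g₂) (by rw [map_sub, h, sub_self])
  rw [Polynomial.derivative_sub, map_sub, map_sub, sub_eq_zero] at this
  exact this

noncomputable def derFun (u : B) (hu : Algebra.adjoin A ({u} : Set B) = ⊤) (F : Polynomial A) :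
    B → (B ⧸ Ideal.span {Polynomial.aeval u (Polynomial.derivative F)}) := fun b =>
  Ideal.Quotient.mk _ (Polynomial.aeval u (Polynomial.derivative (Function.surjInv (surj_aeval A B u hu) b)))

theorem derFun_aeval (u : B) (hu : Algebra.adjoin A ({u} : Set B) = ⊤) (F : Polynomial A)
    (hker : RingHom.ker (Polynomial.aeval u : Polynomial A →ₐ[A] B) = Ideal.span {F}) (g : Polynomial A) :
    derFun A B u hu F (Polynomial.aeval u g) =
      Ideal.Quotient.mk _ (Polynomial.aeval u (Polynomial.derivative g)) :=
  wd2 A B u F hker _ _ (Function.surjInv_eq (surj_aeval A B u hu) _)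

/-- the derivation `g(u) ↦ g'(u) mod F'(u)`. -/
noncomputable def der (u : B) (hu : Algebra.adjoin A ({u} : Set B) = ⊤) (F : Polynomial A)
    (hker : RingHom.ker (Polynomial.aeval u : Polynomial A →ₐ[A] B) = Ideal.span {F}) :
    Derivation A B (B ⧸ Ideal.span {Polynomial.aeval u (Polynomial.derivative F)}) where
  toFun := derFun A B u hu F
  map_add' := by
    intro b₁ b₂
    obtain ⟨g₁, rfl⟩ := surj_aeval A B u hu b₁
    obtain ⟨g₂, rfl⟩ := surj_aeval A B u hu b₂
    rw [← map_add, derFun_aeval A B u hu F hker, derFun_aeval A B u hu F hker,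
      derFun_aeval A B u hu F hker, Polynomial.derivative_add, map_add, map_add]
  map_smul' := by
    intro a b
    obtain ⟨g, rfl⟩ := surj_aeval A B u hu b
    rw [← map_smul, derFun_aeval A B u hu F hker, derFun_aeval A B u hu F hker,
      Polynomial.derivative_smul, map_smul, RingHom.id_apply]
    rfl
  map_one_eq_zero' := by
    show derFun A B u hu F 1 = 0
    have := derFun_aeval A B u hu F hker 1
    rw [map_one] at this
    rw [this, Polynomial.derivative_one, map_zero, map_zero]
  leibniz' := by
    intro b₁ b₂
    obtain ⟨g₁, rfl⟩ := surj_aeval A B u hu b₁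
    obtain ⟨g₂, rfl⟩ := surj_aeval A B u hu b₂
    change derFun A B u hu F (Polynomial.aeval u g₁ * Polynomial.aeval u g₂) =
      Polynomial.aeval u g₁ • derFun A B u hu F (Polynomial.aeval u g₂) +
        Polynomial.aeval u g₂ • derFun A B u hu F (Polynomial.aeval u g₁)
    rw [← map_mul, derFun_aeval A B u hu F hker, derFun_aeval A B u hu F hker,
      derFun_aeval A B u hu F hker, Polynomial.derivative_mul, map_add, map_mul, map_mul, map_add]
    simp only [Algebra.smul_def, Ideal.Quotient.algebraMap_eq, map_mul]
    ring

theorem der_u (u : B) (hu : Algebra.adjoin A ({u} : Set B) = ⊤) (F : Polynomial A)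
    (hker : RingHom.ker (Polynomial.aeval u : Polynomial A →ₐ[A] B) = Ideal.span {F}) :
    der A B u hu F hker u = 1 := by
  have := derFun_aeval A B u hu F hker Polynomial.X
  rw [Polynomial.aeval_X, Polynomial.derivative_X, map_one, map_one] at this
  exact this

theorem part2 (u : B) (hu : Algebra.adjoin A ({u} : Set B) = ⊤) (F : Polynomial A)
    (hF : Polynomial.aeval u F = 0)
    (hker : RingHom.ker (Polynomial.aeval u : Polynomial A →ₐ[A] B) = Ideal.span {F}) :
    Module.annihilator B (KaehlerDifferential A B) =
      Ideal.span {Polynomial.aeval u (Polynomial.derivative F)} := by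
  refine le_antisymm ?_ (part1 A B u hu F hF)
  intro c hc
  rw [Module.mem_annihilator] at hc
  have h1 := hc (KaehlerDifferential.D A B u)
  have h2 := congrArg (der A B u hu F hker).liftKaehlerDifferential h1
  rw [map_smul, Derivation.liftKaehlerDifferential_comp_D, der_u, map_zero] at h2
  rw [← Ideal.Quotient.eq_zero_iff_mem]
  rw [Algebra.smul_def, mul_one] at h2
  exact h2

theorem s5081 (u : B) (hu : Algebra.adjoin A ({u} : Set B) = ⊤) (F : Polynomial A)
    (hF : Polynomial.aeval u F = 0) :
    Ideal.span {Polynomial.aeval u (Polynomial.derivative F)} ≤ Module.annihilator B (KaehlerDifferential A B) ∧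
      (RingHom.ker (Polynomial.aeval u : Polynomial A →ₐ[A] B) = Ideal.span {F} →
        Module.annihilator B (KaehlerDifferential A B) = Ideal.span {Polynomial.aeval u (Polynomial.derivative F)}) :=
  ⟨part1 A B u hu F hF, part2 A B u hu F hF⟩

end Groth.Agent.H15.MonoKD
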