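import Mathlib

set_option autoImplicit false
universe u

open TensorProduct

namespace Groth.Agent.H15.MoritaEnd

variable {A : Type u} [CommRing A]
variable {F G : Type u} [AddCommGroup F] [Module A F] [AddCommGroup G] [Module A G]

/-- `End F`-linear maps `F → G`, where `End F` acts on `G` via `φ`. -/
def Lmod (φ : Module.End A F ≃ₐ[A] Module.End A G) : Submodule A (F →ₗ[A] G) where
  carrier := {ℓ | ∀ (e : Module.End A F) (z : F), ℓ (e z) = φ e (ℓ z)}
  add_mem' := by
    intro a b ha hb e z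
    simp only [Set.mem_ofPred_eq] at ha hb
    simp [ha e z, hb e z]
  zero_mem' := by intro e z; simp
  smul_mem' := by
    intro c a ha e z
    simp only [Set.mem_ofPred_eq] at ha
    simp [ha e z]

lemma mem_Lmod (φ : Module.End A F ≃ₐ[A] Module.End A G) (ℓ : F →ₗ[A] G) :
    ℓ ∈ Lmod φ ↔ ∀ (e : Module.End A F) (z : F), ℓ (e z) = φ e (ℓ z) := Iff.rfl

variable (φ : Module.End A F ≃ₐ[A] Module.End A G)

noncomputable def evB : F →ₗ[A] (Lmod φ) →ₗ[A] G :=
  LinearMap.mk₂ A (fun x ℓ => ℓ.1 x) (by intros; simp) (by intros; simp) (by intros; simp)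
    (by intros; simp)

noncomputable def ev : F ⊗[A] (Lmod φ) →ₗ[A] G := TensorProduct.lift (evB φ)

@[simp] lemma ev_tmul (x : F) (ℓ : Lmod φ) : ev φ (x ⊗ₜ ℓ) = ℓ.1 x := by simp [ev, evB]

noncomputable def ell (β : Module.Dual A F) : G →ₗ[A] (F →ₗ[A] G) :=
  (φ.toLinearMap ∘ₗ (LinearMap.smulRightₗ β)).flip

lemma ell_apply (β : Module.Dual A F) (g : G) (z : F) :
    ell φ β g z = φ (β.smulRight z) g := rfl

lemma ell_mem (β : Module.Dual A F) (g : G) : ell φ β g ∈ Lmod φ := by
  intro e z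
  rw [ell_apply, ell_apply]
  have : β.smulRight (e z) = e * β.smulRight z := by
    ext w; simp
  rw [this, map_mul, Module.End.mul_apply]

noncomputable def ellL (β : Module.Dual A F) : G →ₗ[A] Lmod φ :=
  LinearMap.codRestrict (Lmod φ) (ell φ β) (ell_mem φ β)

lemma ellL_coe (β : Module.Dual A F) (g : G) : ((ellL φ β g : Lmod φ) : F →ₗ[A] G) = ell φ β g := rfl

lemma exists_dualBasis [Module.Finite A F] [Module.Projective A F] :
    ∃ (n : ℕ) (β : Fin n → Module.Dual A F) (y : Fin n → F), ∀ x, x = ∑ j, β j x • y j := by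
  obtain ⟨n, f, g, -, -, hfg⟩ := Module.Finite.exists_comp_eq_id_of_projective A F
  refine ⟨n, fun j => LinearMap.proj j ∘ₗ g, fun j => f (fun j' => if j = j' then 1 else 0), ?_⟩
  intro x
  have h1 : x = f (g x) := by
    have := LinearMap.congr_fun hfg x
    simpa using this.symm
  conv_lhs => rw [h1, LinearMap.pi_apply_eq_sum_univ f (g x)]
  simp

variable [Module.Finite A F] [Module.Projective A F]

theorem ev_bijective : Function.Bijective (ev φ) := by
  obtain ⟨n, β, y, hβ⟩ := exists_dualBasis (A := A) (F := F)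
  have hone : (∑ j, (β j).smulRight (y j) : Module.End A F) = 1 := by
    ext w
    simp only [LinearMap.sum_apply, LinearMap.smulRight_apply,
      Module.End.one_apply]
    exact (hβ w).symm
  let inv : G →ₗ[A] F ⊗[A] (Lmod φ) :=
    ∑ j, (TensorProduct.mk A F (Lmod φ) (y j)) ∘ₗ (ellL φ (β j))
  have h1 : ∀ g, ev φ (inv g) = g := by
    intro g
    simp only [inv, LinearMap.sum_apply, LinearMap.comp_apply, map_sum,
      TensorProduct.mk_apply, ev_tmul, ellL_coe, ell_apply]
    have := congrArg (fun e => φ e g) hone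
    simpa [map_sum] using this
  have h2 : ∀ t, inv (ev φ t) = t := by
    intro t
    induction t using TensorProduct.induction_on with
    | zero => simp
    | add a b ha hb => simp only [map_add, ha, hb]
    | tmul x ℓ =>
      have hk : ∀ j, ellL φ (β j) (ℓ.1 x) = β j x • ℓ := by
        intro j
        apply Subtype.ext
        apply LinearMap.ext
        intro z
        rw [ellL_coe, ell_apply]
        rw [← ℓ.2 ((β j).smulRight z) x]
        simp
      simp only [inv, ev_tmul, LinearMap.sum_apply, LinearMap.comp_apply,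
        TensorProduct.mk_apply, hk]
      conv_rhs => rw [hβ x]
      rw [TensorProduct.sum_tmul]
      refine Finset.sum_congr rfl fun j _ => ?_
      rw [TensorProduct.smul_tmul]
  exact ⟨fun a b hab => by rw [← h2 a, ← h2 b, hab], fun g => ⟨inv g, h1 g⟩⟩

noncomputable def evE : F ⊗[A] (Lmod φ) ≃ₗ[A] G := LinearEquiv.ofBijective (ev φ) (ev_bijective φ)

@[simp] lemma evE_tmul (x : F) (ℓ : Lmod φ) : evE φ (x ⊗ₜ ℓ) = ℓ.1 x := by simp [evE]

lemma evE_map (f : Module.End A F) (t : F ⊗[A] (Lmod φ)) :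
    φ f (evE φ t) = evE φ (TensorProduct.map f LinearMap.id t) := by
  induction t using TensorProduct.induction_on with
  | zero => simp
  | add a b ha hb => simp only [map_add, ha, hb]
  | tmul x ℓ =>
    simp only [evE_tmul, TensorProduct.map_tmul, LinearMap.id_apply]
    exact (ℓ.2 f x).symm

lemma conj_eq (f : Module.End A F) :
    φ f = (evE φ).conj (TensorProduct.map f LinearMap.id) := by
  apply LinearMap.ext
  intro g
  obtain ⟨t, rfl⟩ := (evE φ).surjective g
  rw [evE_map, LinearEquiv.conj_apply]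
  simp


omit [Module.Finite A F] [Module.Projective A F] in
lemma exists_trace_one [Module.Finite A F] [Module.Projective A F] [Module.FaithfullyFlat A F] :
    ∃ (s : Finset (Module.Dual A F × F)) (α : Module.Dual A F × F → Module.Dual A F),
      ∑ p ∈ s, α p p.2 = 1 := by
  obtain ⟨n, β, y, hβ⟩ := exists_dualBasis (A := A) (F := F)
  set T : Ideal A := Ideal.span (Set.range fun p : Module.Dual A F × F => p.1 p.2) with hT
  have htop : T = ⊤ := by
    by_contra hne
    obtain ⟨m, hm, hle⟩ := Ideal.exists_le_maximal T hne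
    apply Module.FaithfullyFlat.submodule_ne_top (R := A) (M := F) hm
    rw [eq_top_iff]
    intro x _
    rw [hβ x]
    refine Submodule.sum_mem _ fun j _ => ?_
    refine Submodule.smul_mem_smul (hle ?_) Submodule.mem_top
    exact Ideal.subset_span ⟨(β j, x), rfl⟩
  have h1 : (1 : A) ∈ T := by rw [htop]; trivial
  rw [hT, Ideal.span, Finsupp.mem_span_range_iff_exists_finsupp] at h1
  obtain ⟨c, hc⟩ := h1
  refine ⟨c.support, fun p => c p • p.1, ?_⟩
  rw [← hc, Finsupp.sum]
  simp

omit [Module.Finite A F] [Module.Projective A F] in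
variable {φ} in
lemma comp_comm (ℓ : Lmod φ) (ℓ' : Lmod φ.symm) (e : Module.End A F) (z : F) :
    ℓ'.1 (ℓ.1 (e z)) = e (ℓ'.1 (ℓ.1 z)) := by
  rw [ℓ.2 e z, ℓ'.2 (φ e) (ℓ.1 z)]
  simp

noncomputable def muB (s : Finset (Module.Dual A F × F)) (α : Module.Dual A F × F → Module.Dual A F) :
    Lmod φ →ₗ[A] Lmod φ.symm →ₗ[A] A :=
  LinearMap.mk₂ A (fun ℓ ℓ' => ∑ p ∈ s, α p (ℓ'.1 (ℓ.1 p.2)))
    (by intros; simp [Finset.sum_add_distrib])
    (by intros; simp [Finset.mul_sum])
    (by intros; simp [Finset.sum_add_distrib])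
    (by intros; simp [Finset.mul_sum])

lemma muB_spec (s : Finset (Module.Dual A F × F)) (α : Module.Dual A F × F → Module.Dual A F)
    (h1 : ∑ p ∈ s, α p p.2 = 1) (ℓ : Lmod φ) (ℓ' : Lmod φ.symm) (z : F) :
    ℓ'.1 (ℓ.1 z) = muB φ s α ℓ ℓ' • z := by
  have : muB φ s α ℓ ℓ' = ∑ p ∈ s, α p (ℓ'.1 (ℓ.1 p.2)) := rfl
  rw [this, Finset.sum_smul]
  have h2 : ∀ p ∈ s, α p (ℓ'.1 (ℓ.1 p.2)) • z = ℓ'.1 (ℓ.1 (α p p.2 • z)) := by
    intro p _
    have := comp_comm ℓ ℓ' ((α p).smulRight z) p.2
    simp only [LinearMap.smulRight_apply] at this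
    exact this.symm
  rw [Finset.sum_congr rfl h2, ← map_sum, ← map_sum, ← Finset.sum_smul, h1, one_smul]

theorem invertible_Lmod [Module.FaithfullyFlat A F] [Module.Finite A G] [Module.Projective A G] :
    Module.Invertible A (Lmod φ) := by
  obtain ⟨s, α, h1⟩ := exists_trace_one (A := A) (F := F)
  set μ : Lmod φ ⊗[A] Lmod φ.symm →ₗ[A] A := TensorProduct.lift (muB φ s α) with hμ
  let Ψ : F ⊗[A] (Lmod φ ⊗[A] Lmod φ.symm) ≃ₗ[A] F ⊗[A] A :=
    (TensorProduct.assoc A F (Lmod φ) (Lmod φ.symm)).symm ≪≫ₗ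
      (LinearEquiv.rTensor (Lmod φ.symm) (evE φ)) ≪≫ₗ (evE φ.symm) ≪≫ₗ (TensorProduct.rid A F).symm
  have hΨ : LinearMap.lTensor F μ = Ψ.toLinearMap := by
    apply TensorProduct.ext_threefold'
    intro x ℓ ℓ'
    simp only [LinearMap.lTensor_tmul, hμ, TensorProduct.lift.tmul, Ψ, LinearEquiv.coe_coe,
      LinearEquiv.trans_apply, TensorProduct.assoc_symm_tmul, LinearEquiv.rTensor_tmul, evE_tmul,
      TensorProduct.rid_symm_apply]
    rw [muB_spec φ s α h1 ℓ ℓ' x, TensorProduct.smul_tmul, smul_eq_mul, mul_one]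
  have hbij : Function.Bijective (LinearMap.lTensor F μ) := by
    rw [hΨ]; exact Ψ.bijective
  have hμb : Function.Bijective μ := by
    have := @Module.FaithfullyFlat.lTensor_bijective_iff_bijective A F _ _ _
      (Lmod φ ⊗[A] Lmod φ.symm) A _ _ _ _ μ _
    exact this.mp hbij
  exact Module.Invertible.left (LinearEquiv.ofBijective μ hμb)

theorem main (A : Type u) [CommRing A]
    (F G : Type u) [AddCommGroup F] [Module A F] [Module.Finite A F] [Module.Projective A F]
    [Module.FaithfullyFlat A F]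
    [AddCommGroup G] [Module A G] [Module.Finite A G] [Module.Projective A G]
    [Module.FaithfullyFlat A G]
    (φ : Module.End A F ≃ₐ[A] Module.End A G) :
    ∃ (L : Type u) (_ : AddCommGroup L) (_ : Module A L), Module.Invertible A L ∧
      ∃ ξ : F ⊗[A] L ≃ₗ[A] G, ∀ f : Module.End A F, φ f = ξ.conj (TensorProduct.map f LinearMap.id) :=
  ⟨Lmod φ, inferInstance, inferInstance, invertible_Lmod φ, evE φ, conj_eq φ⟩

end Groth.Agent.H15.MoritaEnd
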