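import Mathlib
import Groth.Prelude.Def_SheafNL

set_option autoImplicit false
open CategoryTheory CategoryTheory.Limits TensorProduct MvPolynomial

namespace Groth.Agent.H15.NLLoc

universe u
variable (A A' B : Type u) [CommRing A] [CommRing A'] [CommRing B]
    [Algebra A A'] (M : Submonoid A) [IsLocalization M A'] [Algebra A' B] [Algebra A B] [IsScalarTower A A' B]
    {ι : Type u} (G : Algebra.Generators A B ι) (G' : Algebra.Generators A' B ι)
    (h : ∀ i, G'.val i = algebraMap B B (G.val i))

/-- the hom of extensions -/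
noncomputable abbrev fH : G.toExtension.Hom G'.toExtension :=
  (NLCx.sameVarsHom (S' := B) G G' h).toExtensionHom

lemma cotSpace_bij : Function.Bijective (Algebra.Extension.CotangentSpace.map (fH A A' B G G' h)) := by
  classical
  let e := G.cotangentSpaceBasis.equiv G'.cotangentSpaceBasis (Equiv.refl ι)
  have : Algebra.Extension.CotangentSpace.map (fH A A' B G G' h) = e.toLinearMap := by
    apply G.cotangentSpaceBasis.ext
    intro i
    apply G'.cotangentSpaceBasis.repr.injective
    ext j
    rw [fH, Algebra.Generators.repr_CotangentSpaceMap]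
    simp only [LinearEquiv.coe_coe, e, Module.Basis.equiv_apply, Equiv.refl_apply,
      Module.Basis.repr_self, NLCx.sameVarsHom]
    rw [MvPolynomial.pderiv_X]
    by_cases hij : i = j
    · subst hij
      simp
    · simp [hij, Pi.single_apply, Finsupp.single_apply, Ne.symm hij]
  rw [this]
  exact e.bijective

lemma fH_apply (x : MvPolynomial ι A) :
    (fH A A' B G G' h).toRingHom x = MvPolynomial.map (algebraMap A A') x := by
  have : (fH A A' B G G' h).toRingHom =
      (MvPolynomial.map (algebraMap A A') : MvPolynomial ι A →+* MvPolynomial ι A') := by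
    apply MvPolynomial.ringHom_ext
    · intro a
      have h1 : (fH A A' B G G' h).toRingHom (algebraMap A (MvPolynomial ι A) a) =
          algebraMap A' (MvPolynomial ι A') (algebraMap A A' a) :=
        (fH A A' B G G' h).toRingHom_algebraMap a
      rw [MvPolynomial.algebraMap_eq, MvPolynomial.algebraMap_eq] at h1
      exact h1.trans (MvPolynomial.map_C _ _).symm
    · intro i
      refine Eq.trans ?_ (MvPolynomial.map_X _ _).symm
      show (NLCx.sameVarsHom (S' := B) G G' h).toAlgHom (X i) = _
      simp [Algebra.Generators.Hom.toAlgHom, NLCx.sameVarsHom]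
  exact RingHom.congr_fun this x

lemma unit_of_mem (A A' B : Type u) [CommRing A] [CommRing A'] [CommRing B]
    [Algebra A A'] (M : Submonoid A) [IsLocalization M A'] [Algebra A' B] [Algebra A B]
    [IsScalarTower A A' B] (m : A) (hm : m ∈ M) : IsUnit (algebraMap A B m) := by
  rw [IsScalarTower.algebraMap_apply A A' B]
  exact (IsLocalization.map_units A' ⟨m, hm⟩).map _

include h in
lemma mem_ker_iff (x : MvPolynomial ι A) :
    x ∈ G.toExtension.ker ↔ MvPolynomial.map (algebraMap A A') x ∈ G'.toExtension.ker := by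
  have := (fH A A' B G G' h).algebraMap_toRingHom x
  rw [fH_apply] at this
  constructor
  · intro hx
    have hx' : algebraMap G.toExtension.Ring B x = 0 := hx
    show algebraMap G'.toExtension.Ring B _ = 0
    rw [this, hx']
    simp
  · intro hx
    have hx' : algebraMap G'.toExtension.Ring B (MvPolynomial.map (algebraMap A A') x) = 0 := hx
    show algebraMap G.toExtension.Ring B x = 0
    rw [this] at hx'
    simpa using hx'

section loc
attribute [local instance] MvPolynomial.algebraMvPolynomial

lemma exists_num (A A' : Type u) [CommRing A] [CommRing A'] [Algebra A A'] (M : Submonoid A)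
    [IsLocalization M A'] {ι : Type u} (x' : MvPolynomial ι A') :
    ∃ (x : MvPolynomial ι A) (m : A), m ∈ M ∧
      x' * C (algebraMap A A' m) = MvPolynomial.map (algebraMap A A') x := by
  obtain ⟨⟨x, ⟨c, hc⟩⟩, hx⟩ := IsLocalization.surj (M.map (C : A →+* MvPolynomial ι A)) x'
  obtain ⟨m, hm, rfl⟩ := hc
  refine ⟨x, m, hm, ?_⟩
  rw [MvPolynomial.algebraMap_def] at hx
  have hx' : x' * MvPolynomial.map (algebraMap A A') (C m) = MvPolynomial.map (algebraMap A A') x := hx
  rw [MvPolynomial.map_C] at hx'
  exact hx'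

lemma num_mem (A A' : Type u) [CommRing A] [CommRing A'] [Algebra A A'] (M : Submonoid A)
    [IsLocalization M A'] {ι : Type u} (I : Ideal (MvPolynomial ι A)) (I' : Ideal (MvPolynomial ι A'))
    (hI : ∀ x, x ∈ I ↔ MvPolynomial.map (algebraMap A A') x ∈ I') (x' : MvPolynomial ι A')
    (hx' : x' ∈ I') :
    ∃ x ∈ I, ∃ m ∈ M, x' * C (algebraMap A A' m) = MvPolynomial.map (algebraMap A A') x := by
  obtain ⟨x, m, hm, hx⟩ := exists_num A A' M x'
  refine ⟨x, ?_, m, hm, hx⟩
  rw [hI, ← hx]
  exact Ideal.mul_mem_right _ _ hx'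

lemma exists_of_map_eq (A A' : Type u) [CommRing A] [CommRing A'] [Algebra A A'] (M : Submonoid A)
    [IsLocalization M A'] {ι : Type u} (x y : MvPolynomial ι A)
    (hxy : MvPolynomial.map (algebraMap A A') x = MvPolynomial.map (algebraMap A A') y) :
    ∃ m : A, m ∈ M ∧ C m * x = C m * y := by
  have hxy' : algebraMap (MvPolynomial ι A) (MvPolynomial ι A') x =
      algebraMap (MvPolynomial ι A) (MvPolynomial ι A') y := by
    rw [MvPolynomial.algebraMap_def]
    exact hxy
  have := (IsLocalization.eq_iff_exists (M.map (C : A →+* MvPolynomial ι A))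
    (MvPolynomial ι A')).mp hxy'
  obtain ⟨⟨c, hc⟩, hc'⟩ := this
  obtain ⟨m, hm, rfl⟩ := hc
  exact ⟨m, hm, hc'⟩

lemma ker_le_map (A A' : Type u) [CommRing A] [CommRing A'] [Algebra A A'] (M : Submonoid A)
    [IsLocalization M A'] {ι : Type u} (I : Ideal (MvPolynomial ι A)) (I' : Ideal (MvPolynomial ι A'))
    (hI : ∀ x, x ∈ I ↔ MvPolynomial.map (algebraMap A A') x ∈ I') :
    I' ≤ Ideal.map (MvPolynomial.map (algebraMap A A') : MvPolynomial ι A →+* MvPolynomial ι A') I := by
  intro x' hx'
  obtain ⟨x, m, hm, hx⟩ := exists_num A A' M x'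
  have hu : IsUnit (C (algebraMap A A' m) : MvPolynomial ι A') :=
    (IsLocalization.map_units A' ⟨m, hm⟩).map C
  have hxk : x ∈ I := by
    rw [hI, ← hx]
    exact Ideal.mul_mem_right _ _ hx'
  have : x' * C (algebraMap A A' m) ∈ Ideal.map
      (MvPolynomial.map (algebraMap A A') : MvPolynomial ι A →+* MvPolynomial ι A') I := by
    rw [hx]
    exact Ideal.mem_map_of_mem _ hxk
  exact (Ideal.mul_unit_mem_iff_mem _ hu).mp this

lemma exists_mul_mem_sq (A A' : Type u) [CommRing A] [CommRing A'] [Algebra A A'] (M : Submonoid A)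
    [IsLocalization M A'] {ι : Type u} (I : Ideal (MvPolynomial ι A)) (I' : Ideal (MvPolynomial ι A'))
    (hI : ∀ x, x ∈ I ↔ MvPolynomial.map (algebraMap A A') x ∈ I') (x : MvPolynomial ι A)
    (hx : MvPolynomial.map (algebraMap A A') x ∈ I' ^ 2) :
    ∃ m : A, m ∈ M ∧ C m * x ∈ I ^ 2 := by
  have h1 : MvPolynomial.map (algebraMap A A') x ∈ Ideal.map
      (algebraMap (MvPolynomial ι A) (MvPolynomial ι A')) (I ^ 2) := by
    rw [Ideal.map_pow, MvPolynomial.algebraMap_def]
    exact Ideal.pow_right_mono (ker_le_map A A' M I I' hI) 2 hx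
  rw [IsLocalization.mem_map_algebraMap_iff (M.map (C : A →+* MvPolynomial ι A))] at h1
  obtain ⟨⟨⟨y, hy⟩, ⟨c, hc⟩⟩, hyc⟩ := h1
  obtain ⟨m, hm, rfl⟩ := hc
  rw [MvPolynomial.algebraMap_def] at hyc
  have hyc' : MvPolynomial.map (algebraMap A A') (x * C m) = MvPolynomial.map (algebraMap A A') y := by
    rw [map_mul]
    exact hyc
  obtain ⟨m', hm', he⟩ := exists_of_map_eq A A' M _ _ hyc'
  refine ⟨m' * m, M.mul_mem hm' hm, ?_⟩
  have : C (m' * m) * x = C m' * (x * C m) := by
    rw [C_mul]; ring
  rw [this, he]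
  exact Ideal.mul_mem_left _ _ hy

end loc

include M in
lemma cot_inj : Function.Injective (Algebra.Extension.Cotangent.map (fH A A' B G G' h)) := by
  rw [injective_iff_map_eq_zero]
  intro c hc
  obtain ⟨x, rfl⟩ := Algebra.Extension.Cotangent.mk_surjective c
  rw [Algebra.Extension.Cotangent.map_mk, Algebra.Extension.Cotangent.mk_eq_zero_iff] at hc
  have hc' : MvPolynomial.map (algebraMap A A') (x.1 : MvPolynomial ι A) ∈
      (G'.toExtension.ker : Ideal (MvPolynomial ι A')) ^ 2 := by
    rw [← fH_apply A A' B G G' h x.1]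
    exact hc
  obtain ⟨m, hm, hmx⟩ := exists_mul_mem_sq A A' M G.toExtension.ker G'.toExtension.ker
    (mem_ker_iff A A' B G G' h) x.1 hc'
  have h0 : Algebra.Extension.Cotangent.mk ((algebraMap A G.toExtension.Ring m) • x) = 0 := by
    rw [Algebra.Extension.Cotangent.mk_eq_zero_iff]
    exact hmx
  rw [map_smul] at h0
  have h1 : (algebraMap A B m) • Algebra.Extension.Cotangent.mk x = 0 := by
    rw [← h0, algebraMap_smul, algebraMap_smul]
  exact (unit_of_mem A A' B M m hm).smul_eq_zero.mp h1

include M in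
lemma cot_surj : Function.Surjective (Algebra.Extension.Cotangent.map (fH A A' B G G' h)) := by
  intro c'
  obtain ⟨x', rfl⟩ := Algebra.Extension.Cotangent.mk_surjective c'
  obtain ⟨x, hxk, m, hm, hx⟩ := num_mem A A' M G.toExtension.ker G'.toExtension.ker
    (mem_ker_iff A A' B G G' h) x'.1 x'.2
  obtain ⟨u, hu⟩ := unit_of_mem A A' B M m hm
  refine ⟨(↑u⁻¹ : B) • Algebra.Extension.Cotangent.mk ⟨x, hxk⟩, ?_⟩
  rw [map_smul, Algebra.Extension.Cotangent.map_mk]
  have e1 : ∀ (p : (fH A A' B G G' h).toAlgHom x ∈ G'.toExtension.ker),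
      Algebra.Extension.Cotangent.mk ⟨(fH A A' B G G' h).toAlgHom x, p⟩ =
      (algebraMap A' G'.toExtension.Ring (algebraMap A A' m)) •
        Algebra.Extension.Cotangent.mk x' := by
    intro p
    rw [← map_smul]
    congr 1
    apply Subtype.ext
    have h2 : (fH A A' B G G' h).toRingHom x = MvPolynomial.map (algebraMap A A') x :=
      fH_apply A A' B G G' h x
    exact h2.trans (hx.symm.trans (mul_comm _ _))
  rw [e1, algebraMap_smul]
  have e2 : (algebraMap A A' m) • Algebra.Extension.Cotangent.mk x' =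
      (↑u : B) • Algebra.Extension.Cotangent.mk x' := by
    rw [hu, IsScalarTower.algebraMap_apply A A' B, algebraMap_smul, algebraMap_smul,
      algebraMap_smul]
  rw [e2, smul_smul, Units.inv_mul, one_smul]

include M in
theorem main : IsIso (NLCx.map (NLCx.sameVarsHom (S' := B) G G' h).toExtensionHom) := by
  have hA : Function.Bijective (Algebra.Extension.Cotangent.map (fH A A' B G G' h)) :=
    ⟨cot_inj A A' B M G G' h, cot_surj A A' B M G G' h⟩
  have hB := cotSpace_bij A A' B G G' h
  have iA : IsIso (ModuleCat.ofHom (Algebra.Extension.Cotangent.map (fH A A' B G G' h))) :=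
    (ConcreteCategory.isIso_iff_bijective _).mpr hA
  have iB : IsIso (ModuleCat.ofHom (Algebra.Extension.CotangentSpace.map (fH A A' B G G' h))) :=
    (ConcreteCategory.isIso_iff_bijective _).mpr hB
  have : ∀ n, IsIso ((NLCx.map (fH A A' B G G' h)).f n) := by
    intro n
    by_cases h0 : n = -1
    · subst h0
      rw [show (NLCx.map (fH A A' B G G' h)).f (-1) = _ from
        HomologicalComplex.mkHomFromDouble_f₀ _ _ _ _ _ _]
      exact IsIso.comp_isIso' (Iso.isIso_hom _) (IsIso.comp_isIso' iA (Iso.isIso_inv _))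
    · by_cases h1 : n = 0
      · subst h1
        rw [show (NLCx.map (fH A A' B G G' h)).f 0 = _ from
          HomologicalComplex.mkHomFromDouble_f₁ _ _ _ _ _ _]
        exact IsIso.comp_isIso' (Iso.isIso_hom _) (IsIso.comp_isIso' iB (Iso.isIso_inv _))
      · have hX : IsZero ((NLCx.cx G.toExtension).X n) :=
          HomologicalComplex.isZero_double_X _ _ n h0 h1
        have hY : IsZero ((NLCx.cx G'.toExtension).X n) :=
          HomologicalComplex.isZero_double_X _ _ n h0 h1
        exact ⟨⟨0, hX.eq_of_src _ _, hY.eq_of_src _ _⟩⟩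
  exact HomologicalComplex.Hom.isIso_of_components _

end Groth.Agent.H15.NLLoc
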