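import Mathlib
import Groth.Prelude.Def_SheafNL

set_option autoImplicit false
open CategoryTheory CategoryTheory.Limits TensorProduct MvPolynomial

namespace Groth.Agent.H15.NLPush

universe u
variable (R S R' S' : Type u) [CommRing R] [CommRing S] [CommRing R']
    [CommRing S'] [Algebra R S] [Algebra R' S'] [Algebra R R'] [Algebra S S'] [Algebra R S']
    [IsScalarTower R R' S'] [IsScalarTower R S S']
    {ι : Type u} (G : Algebra.Generators R S ι) (G' : Algebra.Generators R' S' ι)
    (h : ∀ i, G'.val i = algebraMap S S' (G.val i))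

/-- the hom of extensions -/
noncomputable abbrev fH : G.toExtension.Hom G'.toExtension :=
  (NLCx.sameVarsHom G G' h).toExtensionHom

lemma fH_apply (x : MvPolynomial ι R) :
    (fH R S R' S' G G' h).toRingHom x = MvPolynomial.map (algebraMap R R') x := by
  have : (fH R S R' S' G G' h).toRingHom =
      (MvPolynomial.map (algebraMap R R') : MvPolynomial ι R →+* MvPolynomial ι R') := by
    apply MvPolynomial.ringHom_ext
    · intro a
      have h1 : (fH R S R' S' G G' h).toRingHom (algebraMap R (MvPolynomial ι R) a) =
          algebraMap R' (MvPolynomial ι R') (algebraMap R R' a) :=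
        (fH R S R' S' G G' h).toRingHom_algebraMap a
      rw [MvPolynomial.algebraMap_eq, MvPolynomial.algebraMap_eq] at h1
      exact h1.trans (MvPolynomial.map_C _ _).symm
    · intro i
      refine Eq.trans ?_ (MvPolynomial.map_X _ _).symm
      show (NLCx.sameVarsHom G G' h).toAlgHom (X i) = _
      simp [Algebra.Generators.Hom.toAlgHom, NLCx.sameVarsHom]
  exact RingHom.congr_fun this x

include h in
/-- compatibility of the evaluation maps -/
lemma aeval_map (x : MvPolynomial ι R) :
    algebraMap G'.toExtension.Ring S' (MvPolynomial.map (algebraMap R R') x) =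
      algebraMap S S' (algebraMap G.toExtension.Ring S x) := by
  have := (fH R S R' S' G G' h).algebraMap_toRingHom x
  rw [fH_apply] at this
  exact this

lemma cotSpace_bij : Function.Bijective
    (LinearMap.liftBaseChange S' (Algebra.Extension.CotangentSpace.map (fH R S R' S' G G' h))) := by
  classical
  let b := (G.cotangentSpaceBasis).baseChange S'
  let e := b.equiv G'.cotangentSpaceBasis (Equiv.refl ι)
  have : LinearMap.liftBaseChange S' (Algebra.Extension.CotangentSpace.map (fH R S R' S' G G' h)) =
      e.toLinearMap := by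
    apply b.ext
    intro i
    have e1 : e.toLinearMap (b i) = G'.cotangentSpaceBasis i := by simp [e]
    have hb : b i = 1 ⊗ₜ G.cotangentSpaceBasis i := Module.Basis.baseChange_apply _ _ _
    rw [e1, hb, LinearMap.liftBaseChange_tmul, one_smul]
    apply G'.cotangentSpaceBasis.repr.injective
    ext j
    rw [fH, Algebra.Generators.repr_CotangentSpaceMap]
    simp only [Module.Basis.repr_self, NLCx.sameVarsHom]
    rw [MvPolynomial.pderiv_X]
    by_cases hij : i = j
    · subst hij
      simp
    · simp [hij, Ne.symm hij]
  rw [this]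
  exact e.bijective

variable [Algebra.IsPushout R R' S S']

include h in
lemma ker_le : (G'.toExtension.ker : Ideal (MvPolynomial ι R')) ≤
    Ideal.map (MvPolynomial.map (algebraMap R R') : MvPolynomial ι R →+* MvPolynomial ι R')
      G.toExtension.ker := by
  intro x' hx'
  let g : MvPolynomial ι R →ₐ[R] S := IsScalarTower.toAlgHom R G.toExtension.Ring S
  have hg : Function.Surjective g := G.toExtension.algebraMap_surjective
  let e₁ := MvPolynomial.algebraTensorAlgEquiv (σ := ι) R R'
  let e₂ := Algebra.IsPushout.equiv R R' S S'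
  let g' : MvPolynomial ι R' →ₐ[R'] S' := IsScalarTower.toAlgHom R' G'.toExtension.Ring S'
  have hgg' : ∀ p : MvPolynomial ι R, g' (MvPolynomial.map (algebraMap R R') p) =
      algebraMap S S' (g p) := fun p => aeval_map R S R' S' G G' h p
  have C1 : ∀ y : R' ⊗[R] MvPolynomial ι R,
      e₂ (Algebra.TensorProduct.map (AlgHom.id R R') g y) = g' (e₁ y) := by
    intro y
    induction y using TensorProduct.induction_on with
    | zero => simp
    | add a b ha hb => simp only [map_add, ha, hb]
    | tmul r' p =>
      simp only [Algebra.TensorProduct.map_tmul, AlgHom.coe_id, id_eq]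
      rw [Algebra.IsPushout.equiv_tmul, MvPolynomial.algebraTensorAlgEquiv_tmul]
      rw [map_smul, hgg', Algebra.smul_def]
  have C2 : ∀ p : MvPolynomial ι R,
      e₁ (Algebra.TensorProduct.includeRight p) = MvPolynomial.map (algebraMap R R') p := by
    intro p
    rw [Algebra.TensorProduct.includeRight_apply, MvPolynomial.algebraTensorAlgEquiv_tmul, one_smul]
  have hx0 : g' x' = 0 := hx'
  set y := e₁.symm x' with hy
  have hy' : e₁ y = x' := e₁.apply_symm_apply x'
  have h1 : Algebra.TensorProduct.map (AlgHom.id R R') g y = 0 := by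
    apply e₂.injective
    rw [C1, hy', hx0, map_zero]
  have h2 : y ∈ (RingHom.ker g).map
      (Algebra.TensorProduct.includeRight : MvPolynomial ι R →ₐ[R] R' ⊗[R] MvPolynomial ι R) := by
    rw [← Algebra.TensorProduct.lTensor_ker g hg]
    exact h1
  have hle : (RingHom.ker g).map
      (Algebra.TensorProduct.includeRight : MvPolynomial ι R →ₐ[R] R' ⊗[R] MvPolynomial ι R) ≤
      Ideal.comap (e₁ : R' ⊗[R] MvPolynomial ι R →+* MvPolynomial ι R')
        (Ideal.map (MvPolynomial.map (algebraMap R R') : MvPolynomial ι R →+* MvPolynomial ι R')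
          (RingHom.ker g)) := by
    rw [Ideal.map_le_iff_le_comap]
    intro p hp
    simp only [Ideal.mem_comap]
    have : (e₁ : R' ⊗[R] MvPolynomial ι R →+* MvPolynomial ι R')
        ((Algebra.TensorProduct.includeRight :
          MvPolynomial ι R →ₐ[R] R' ⊗[R] MvPolynomial ι R) p) =
        MvPolynomial.map (algebraMap R R') p := C2 p
    rw [this]
    exact Ideal.mem_map_of_mem _ hp
  have h3 := hle h2
  rw [Ideal.mem_comap] at h3
  rw [← hy']
  exact h3

omit [Algebra.IsPushout R R' S S'] in
lemma fH_toRingHom : (fH R S R' S' G G' h).toRingHom =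
    (MvPolynomial.map (algebraMap R R') : MvPolynomial ι R →+* MvPolynomial ι R') :=
  RingHom.ext (fH_apply R S R' S' G G' h)

omit [Algebra.IsPushout R R' S S'] in
lemma map_le : Ideal.map (fH R S R' S' G G' h).toRingHom G.toExtension.ker ≤
    G'.toExtension.ker := by
  refine Ideal.map_le_iff_le_comap.mpr (fun p hp => ?_)
  have hp' : algebraMap G.toExtension.Ring S p = 0 := hp
  show algebraMap G'.toExtension.Ring S' ((fH R S R' S' G G' h).toRingHom p) = 0
  rw [(fH R S R' S' G G' h).algebraMap_toRingHom, hp', map_zero]

lemma ker_le' : G'.toExtension.ker ≤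
    Ideal.map (fH R S R' S' G G' h).toRingHom G.toExtension.ker := by
  have := ker_le R S R' S' G G' h
  rw [← fH_toRingHom R S R' S' G G' h] at this
  exact this

lemma cot_surj : Function.Surjective
    (LinearMap.liftBaseChange S' (Algebra.Extension.Cotangent.map (fH R S R' S' G G' h))) := by
  intro c'
  obtain ⟨x', rfl⟩ := Algebra.Extension.Cotangent.mk_surjective c'
  have hx := ker_le' R S R' S' G G' h x'.2
  have key : ∀ z ∈ Ideal.map (fH R S R' S' G G' h).toRingHom G.toExtension.ker,
      ∀ hz : z ∈ G'.toExtension.ker,
      Algebra.Extension.Cotangent.mk ⟨z, hz⟩ ∈ LinearMap.range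
        (LinearMap.liftBaseChange S' (Algebra.Extension.Cotangent.map (fH R S R' S' G G' h))) := by
    intro z hz
    refine Submodule.span_induction (p := fun z _ => ∀ hz : z ∈ G'.toExtension.ker,
      Algebra.Extension.Cotangent.mk ⟨z, hz⟩ ∈ LinearMap.range
        (LinearMap.liftBaseChange S' (Algebra.Extension.Cotangent.map (fH R S R' S' G G' h))))
      ?_ ?_ ?_ ?_ hz
    · rintro _ ⟨p, hp, rfl⟩ hz'
      refine ⟨1 ⊗ₜ Algebra.Extension.Cotangent.mk ⟨p, hp⟩, ?_⟩
      rw [LinearMap.liftBaseChange_tmul, one_smul, Algebra.Extension.Cotangent.map_mk]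
      rfl
    · intro hz'
      have : (⟨0, hz'⟩ : G'.toExtension.ker) = 0 := rfl
      rw [this, map_zero]
      exact Submodule.zero_mem _
    · intro a b ha hb iha ihb hz'
      have ha' := map_le R S R' S' G G' h ha
      have hb' := map_le R S R' S' G G' h hb
      have : (⟨a + b, hz'⟩ : G'.toExtension.ker) = ⟨a, ha'⟩ + ⟨b, hb'⟩ := rfl
      rw [this, map_add]
      exact Submodule.add_mem _ (iha ha') (ihb hb')
    · intro r a ha iha hz'
      have ha' := map_le R S R' S' G G' h ha
      have : (⟨r • a, hz'⟩ : G'.toExtension.ker) = r • (⟨a, ha'⟩ : G'.toExtension.ker) := rfl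
      rw [this, map_smul, ← algebraMap_smul S' r]
      exact Submodule.smul_mem _ _ (iha ha')
  exact key x'.1 hx x'.2

omit [Algebra.IsPushout R R' S S'] in
/-- generic diagram chase -/
lemma bcH1Map_surj_of {P : Algebra.Extension.{u} R S} {P' : Algebra.Extension.{u} R' S'}
    (f : P.Hom P')
    (h1 : Function.Surjective (LinearMap.liftBaseChange S' (Algebra.Extension.Cotangent.map f)))
    (h2 : Function.Injective
      (LinearMap.liftBaseChange S' (Algebra.Extension.CotangentSpace.map f))) :
    Function.Surjective (NLCx.bcH1Map f) := by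
  rintro ⟨c', hc'⟩
  obtain ⟨z, hz⟩ := h1 c'
  have key : P'.cotangentComplex ∘ₗ
      LinearMap.liftBaseChange S' (Algebra.Extension.Cotangent.map f) =
      LinearMap.liftBaseChange S' (Algebra.Extension.CotangentSpace.map f) ∘ₗ
        P.cotangentComplex.baseChange S' := by
    ext y
    simpa using (Algebra.Extension.CotangentSpace.map_cotangentComplex f y).symm
  have hzmem : z ∈ NLCx.bcH1 P S' := by
    simp only [NLCx.bcH1, LinearMap.mem_ker]
    apply h2
    have := congr($key z)
    simp only [LinearMap.coe_comp, Function.comp_apply] at this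
    rw [← this, hz, map_zero]
    exact hc'
  refine ⟨⟨z, hzmem⟩, ?_⟩
  apply Subtype.ext
  exact hz

theorem part1 : Function.Surjective
    (NLCx.bcH1Map (NLCx.sameVarsHom G G' h).toExtensionHom) :=
  bcH1Map_surj_of R S R' S' _ (cot_surj R S R' S' G G' h) (cotSpace_bij R S R' S' G G' h).1

/-- generators of `S'` over `R'` indexed by `S` -/
noncomputable def G2 : Algebra.Generators R' S' S :=
  Algebra.Generators.ofSurjective (fun s => algebraMap S S' s) (by
    intro x
    refine (Algebra.IsPushout.out (R := R) (S := R') (R' := S) (S' := S')).inductionOn x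
      (fun x => ∃ p : MvPolynomial S R', MvPolynomial.aeval (fun s => algebraMap S S' s) p = x)
      ⟨0, map_zero _⟩ ?_ ?_ ?_
    · intro m
      exact ⟨MvPolynomial.X m, by simp⟩
    · rintro r _ ⟨p, rfl⟩
      exact ⟨r • p, by simp⟩
    · rintro _ _ ⟨p, rfl⟩ ⟨q, rfl⟩
      exact ⟨p + q, by simp⟩)

/-- first hom: same variables -/
noncomputable def f1 : (Algebra.Generators.self R S).Hom (G2 R S R' S') :=
  NLCx.sameVarsHom (Algebra.Generators.self R S) (G2 R S R' S') (fun _ => rfl)

/-- second hom: reindexing along `S → S'` -/
noncomputable def f2 : (G2 R S R' S').Hom (Algebra.Generators.self R' S') where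
  val s := MvPolynomial.X (algebraMap S S' s)
  aeval_val s := by
    rw [MvPolynomial.aeval_X]
    rfl

lemma comp_eq :
    ((Algebra.Generators.self R S).defaultHom (Algebra.Generators.self R' S')).toExtensionHom =
      (f2 R S R' S').toExtensionHom.comp (f1 R S R' S').toExtensionHom := by
  apply Algebra.Extension.Hom.ext
  apply MvPolynomial.ringHom_ext
  · intro r
    have e1 := (((Algebra.Generators.self R S).defaultHom
      (Algebra.Generators.self R' S')).toExtensionHom).toRingHom_algebraMap r
    have e2 := ((f2 R S R' S').toExtensionHom.comp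
      (f1 R S R' S').toExtensionHom).toRingHom_algebraMap r
    exact e1.trans e2.symm
  · intro s
    have e1 : (((Algebra.Generators.self R S).defaultHom
        (Algebra.Generators.self R' S')).toExtensionHom).toRingHom (X s) =
        X (algebraMap S S' s) :=
      Algebra.Generators.Hom.toAlgHom_X _ s
    have e2 : ((f1 R S R' S').toExtensionHom).toRingHom (X s) = X s :=
      Algebra.Generators.Hom.toAlgHom_X (f1 R S R' S') s
    have e3 : ((f2 R S R' S').toExtensionHom).toRingHom (X s) = X (algebraMap S S' s) :=
      Algebra.Generators.Hom.toAlgHom_X (f2 R S R' S') s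
    exact e1.trans ((congrArg (f2 R S R' S').toExtensionHom.toRingHom e2).trans e3).symm

theorem part2 : Function.Surjective (NLCx.bcH1Map
    ((Algebra.Generators.self R S).defaultHom (Algebra.Generators.self R' S')).toExtensionHom) := by
  have p1 : Function.Surjective (NLCx.bcH1Map (f1 R S R' S').toExtensionHom) :=
    part1 R S R' S' (Algebra.Generators.self R S) (G2 R S R' S') (fun _ => rfl)
  let eqv := Algebra.Extension.H1Cotangent.equiv (f2 R S R' S').toExtensionHom
    ((Algebra.Generators.self R' S').defaultHom (G2 R S R' S')).toExtensionHom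
  intro c'
  obtain ⟨c₂, hc₂⟩ := eqv.surjective c'
  obtain ⟨z, hz⟩ := p1 c₂
  refine ⟨z, ?_⟩
  apply Subtype.ext
  show LinearMap.liftBaseChange S' (Algebra.Extension.Cotangent.map _) z.1 = c'.1
  rw [comp_eq, Algebra.Extension.Cotangent.map_comp]
  have key : ∀ w, LinearMap.liftBaseChange S'
      ((Algebra.Extension.Cotangent.map (f2 R S R' S').toExtensionHom).restrictScalars S ∘ₗ
        Algebra.Extension.Cotangent.map (f1 R S R' S').toExtensionHom) w =
      Algebra.Extension.Cotangent.map (f2 R S R' S').toExtensionHom
        (LinearMap.liftBaseChange S'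
          (Algebra.Extension.Cotangent.map (f1 R S R' S').toExtensionHom) w) := by
    intro w
    induction w using TensorProduct.induction_on with
    | zero => simp
    | add a b ha hb => simp only [map_add, ha, hb]
    | tmul s x => simp [LinearMap.liftBaseChange_tmul]
  rw [key]
  have h1 : LinearMap.liftBaseChange S'
      (Algebra.Extension.Cotangent.map (f1 R S R' S').toExtensionHom) z.1 = c₂.1 :=
    congrArg Subtype.val hz
  rw [h1]
  exact congrArg Subtype.val hc₂

theorem main : Function.Surjective (NLCx.bcH1Map (NLCx.sameVarsHom G G' h).toExtensionHom) ∧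
    Function.Surjective (NLCx.bcH1Map
      ((Algebra.Generators.self R S).defaultHom (Algebra.Generators.self R' S')).toExtensionHom) :=
  ⟨part1 R S R' S' G G' h, part2 R S R' S'⟩

end Groth.Agent.H15.NLPush
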