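import Mathlib
import Groth.Prelude.Def_W4c1frobunstivaNR

set_option autoImplicit false

namespace Groth.Agent.H15.NRKer

open W4c1frobunstiva

universe u

variable {R : Type u} [CommRing R] [IsLocalRing R]

/-- the vectors `f e_i` -/
def E (f : R) {s l : ℕ} (hls : l ≤ s) (i : Fin l) : Fin s → R := Pi.single (Fin.castLE hls i) f

theorem gamma_eq_zero (f : R) (hann : ∀ a : R, a * f = 0 → IsNilpotent a) {s l : ℕ} (hls : l ≤ s)
    (y : Fin l → R) (hy : Fintype.linearCombination R (E f hls) y = 0) (i : Fin l) :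
    IsNilpotent (y i) := by
  apply hann
  have h := congrFun hy (Fin.castLE hls i)
  rw [Fintype.linearCombination_apply, Finset.sum_apply] at h
  rw [Finset.sum_eq_single i] at h
  · simpa [E] using h
  · intro j _ hji
    have : Fin.castLE hls j ≠ Fin.castLE hls i := fun h' => hji (Fin.castLE_injective hls h')
    simp [E, Pi.single_apply, this.symm]
  · intro h'; exact absurd (Finset.mem_univ i) h'

theorem main_aux (f : R) (hann : ∀ a : R, a * f = 0 → IsNilpotent a) (r s l : ℕ) (hls : l ≤ s)
    (Sp : Submodule R (Fin s → R))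
    (hSp : Sp = Submodule.span R (Set.range fun i : Fin l =>
        (Pi.single (Fin.castLE hls i) f : Fin s → R)))
    (φ : (Fin r → R) →ₗ[R] ((Fin s → R) ⧸ Sp))
    (hφ : Function.Surjective φ) :
    IsNRFree R (LinearMap.ker φ) (r + l - s) ∧
      (l = 0 → Nonempty (Module.Basis (Fin (r - s)) R (LinearMap.ker φ))) := by
  classical
  -- lift
  obtain ⟨Φ, hΦ⟩ := Module.projective_lifting_property Sp.mkQ φ (Submodule.mkQ_surjective _)
  set Γ : (Fin l → R) →ₗ[R] (Fin s → R) := Fintype.linearCombination R (E f hls) with hΓ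
  have hΓrange : LinearMap.range Γ = Sp := by
    rw [hΓ, Fintype.range_linearCombination, hSp]; rfl
  set Ψ : (Fin r → R) × (Fin l → R) →ₗ[R] (Fin s → R) := Φ.coprod Γ with hΨ
  have hΨsurj : Function.Surjective Ψ := by
    intro z
    obtain ⟨x, hx⟩ := hφ (Sp.mkQ z)
    have h1 : Sp.mkQ (z - Φ x) = 0 := by
      rw [map_sub, ← hx, ← hΦ, LinearMap.comp_apply, sub_self]
    have h2 : z - Φ x ∈ LinearMap.range Γ := by
      rw [hΓrange]
      exact (Submodule.Quotient.mk_eq_zero _).mp h1
    obtain ⟨y, hy⟩ := h2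
    refine ⟨(x, y), ?_⟩
    rw [hΨ, LinearMap.coprod_apply, hy]
    abel
  obtain ⟨σ, hσ⟩ := Module.projective_lifting_property Ψ LinearMap.id hΨsurj
  have hσ' : ∀ w, Ψ (σ w) = w := fun w => LinearMap.congr_fun hσ w
  -- retraction onto the kernel
  set K' := LinearMap.ker Ψ with hK'
  let ρ : (Fin r → R) × (Fin l → R) →ₗ[R] K' :=
    LinearMap.codRestrict K' (LinearMap.id - σ ∘ₗ Ψ) (by
      intro z
      rw [LinearMap.mem_ker, LinearMap.sub_apply, map_sub, LinearMap.comp_apply, hσ']
      simp)
  have hρ : ∀ z : K', ρ z.1 = z := by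
    intro z
    apply Subtype.ext
    have hz : Ψ z.1 = 0 := z.2
    simp [ρ, hz]
  have hρsurj : Function.Surjective ρ := fun z => ⟨z.1, hρ z⟩
  have hfin : Module.Finite R K' := Module.Finite.of_surjective ρ hρsurj
  have hproj : Module.Projective R K' :=
    Module.Projective.of_split K'.subtype ρ (LinearMap.ext hρ)
  have hfree : Module.Free R K' := Module.free_of_flat_of_isLocalRing
  -- the splitting equivalence
  let e : ((Fin r → R) × (Fin l → R)) ≃ₗ[R] (K' × (Fin s → R)) :=
    LinearEquiv.ofLinear (ρ.prod Ψ) (K'.subtype.coprod σ)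
      (by
        apply LinearMap.ext
        rintro ⟨k, w⟩
        have hk : Ψ k.1 = 0 := k.2
        apply Prod.ext
        · simp only [LinearMap.comp_apply, LinearMap.coprod_apply, LinearMap.prod_apply,
            Pi.prod, Submodule.subtype_apply, LinearMap.id_apply, map_add, hρ]
          apply Subtype.ext
          simp [ρ, hσ']
        · simp [hk, hσ'])
      (by
        apply LinearMap.ext
        intro z
        simp [ρ])
  have hrank : Module.finrank R K' = r + l - s := by
    have h1 := e.finrank_eq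
    rw [Module.finrank_prod, Module.finrank_prod, Module.finrank_fin_fun, Module.finrank_fin_fun,
      Module.finrank_fin_fun] at h1
    omega
  let b : Module.Basis (Fin (r + l - s)) R K' := Module.finBasisOfFinrankEq R K' hrank
  -- projection to ker φ
  have hmem : ∀ z : K', z.1.1 ∈ LinearMap.ker φ := by
    intro z
    have hz : Ψ z.1 = 0 := z.2
    rw [hΨ, LinearMap.coprod_apply] at hz
    rw [LinearMap.mem_ker, ← hΦ, LinearMap.comp_apply]
    have : Φ z.1.1 = - Γ z.1.2 := eq_neg_of_add_eq_zero_left hz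
    rw [this, map_neg, neg_eq_zero]
    apply (Submodule.Quotient.mk_eq_zero _).mpr
    rw [← hΓrange]
    exact ⟨_, rfl⟩
  let pr : K' →ₗ[R] LinearMap.ker φ :=
    LinearMap.codRestrict (LinearMap.ker φ) ((LinearMap.fst R _ _) ∘ₗ K'.subtype) hmem
  have hprsurj : Function.Surjective pr := by
    rintro ⟨x, hx⟩
    rw [LinearMap.mem_ker, ← hΦ, LinearMap.comp_apply] at hx
    have h2 : Φ x ∈ LinearMap.range Γ := by
      rw [hΓrange]
      exact (Submodule.Quotient.mk_eq_zero _).mp hx
    obtain ⟨y, hy⟩ := h2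
    have hk : ((x, -y) : (Fin r → R) × (Fin l → R)) ∈ K' := by
      rw [hK', LinearMap.mem_ker, hΨ, LinearMap.coprod_apply, map_neg, hy]
      simp
    exact ⟨⟨(x, -y), hk⟩, Subtype.ext rfl⟩
  -- key: kernel of pr has nilpotent coordinates
  have hnil : ∀ z : K', pr z = 0 → ∀ j, IsNilpotent (b.repr z j) := by
    intro z hz j
    have hz1 : z.1.1 = 0 := congrArg Subtype.val hz
    have hz2 : Γ z.1.2 = 0 := by
      have hzk : Ψ z.1 = 0 := z.2
      rw [hΨ, LinearMap.coprod_apply, hz1, map_zero, zero_add] at hzk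
      exact hzk
    have hy : ∀ i, IsNilpotent (z.1.2 i) := gamma_eq_zero f hann hls _ hz2
    have hz' : z.1 = LinearMap.inr R _ _ z.1.2 :=
      Prod.ext (by simpa using hz1) (by simp)
    have hzeq : z = ρ (LinearMap.inr R _ _ z.1.2) := by
      rw [← hz']
      exact (hρ z).symm
    let Λ : (Fin l → R) →ₗ[R] R :=
      (Finsupp.lapply j) ∘ₗ b.repr.toLinearMap ∘ₗ ρ ∘ₗ (LinearMap.inr R (Fin r → R) (Fin l → R))
    have hΛ : b.repr z j = Λ z.1.2 := by
      conv_lhs => rw [hzeq]
      rfl
    rw [hΛ, LinearMap.pi_apply_eq_sum_univ Λ]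
    rw [← mem_nilradical]
    refine Ideal.sum_mem _ (fun i _ => ?_)
    rw [smul_eq_mul]
    exact Ideal.mul_mem_right _ _ (mem_nilradical.mpr (hy i))
  refine ⟨⟨fun j => pr (b j), ?_, ?_⟩, ?_⟩
  · have : Set.range (fun j => pr (b j)) = pr '' Set.range b := by
      rw [← Set.range_comp]; rfl
    rw [this, ← Submodule.map_span, b.span_eq, Submodule.map_top, LinearMap.range_eq_top]
    exact hprsurj
  · intro a ha j
    have h1 : pr (∑ i, a i • b i) = 0 := by
      rw [map_sum]
      simpa using ha
    have h2 := hnil _ h1 j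
    rwa [b.repr_sum_self] at h2
  · intro hl
    subst hl
    have hinj : Function.Injective pr := by
      rw [← LinearMap.ker_eq_bot, LinearMap.ker_eq_bot']
      intro z hz
      have hz1 : z.1.1 = 0 := congrArg Subtype.val hz
      apply Subtype.ext
      apply Prod.ext
      · exact hz1
      · funext i; exact i.elim0
    let e2 : K' ≃ₗ[R] LinearMap.ker φ := LinearEquiv.ofBijective pr ⟨hinj, hprsurj⟩
    exact ⟨(b.map e2).reindex (finCongr (by simp))⟩

theorem main (f : R) (hann : ∀ a : R, a * f = 0 → IsNilpotent a) (r s l : ℕ) (hls : l ≤ s)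
    (φ : (Fin r → R) →ₗ[R]
      ((Fin s → R) ⧸ Submodule.span R (Set.range fun i : Fin l =>
        (Pi.single (Fin.castLE hls i) f : Fin s → R))))
    (hφ : Function.Surjective φ) :
    IsNRFree R (LinearMap.ker φ) (r + l - s) ∧
      (l = 0 → Nonempty (Module.Basis (Fin (r - s)) R (LinearMap.ker φ))) :=
  main_aux f hann r s l hls _ rfl φ hφ

end Groth.Agent.H15.NRKer
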