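import Mathlib

namespace Groth.Agent.H15.NatGraded

universe u
open DirectSum

section
variable {R A B : Type u} [CommRing R] [CommRing A] [Algebra R A]
    (𝒜 : ℕ → Submodule R A) [GradedAlgebra 𝒜] [CommRing B] [Algebra R B] (ℬ : ℕ → Submodule R B) [GradedAlgebra ℬ]
    (φ : B →ₐ[R] Polynomial A) (hφ : Function.Injective φ)
    (hdeg : ∀ n : ℕ, Submodule.map φ.toLinearMap (ℬ n) =
      Submodule.map ((Polynomial.monomial n : A →ₗ[A] Polynomial A).restrictScalars R) (⨆ (m : ℕ) (_ : n ≤ m), 𝒜 m))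
    {ι : Type u} (d : ι → ℕ) (f : ι → A) (hf : ∀ a, f a ∈ 𝒜 (d a))
    (hrad : ∀ g ∈ (HomogeneousIdeal.irrelevant 𝒜).toIdeal, ∃ n : ℕ, 0 < n ∧ g ^ n ∈ Ideal.span (Set.range f))
    (fn : ι → B) (hfn : ∀ a, φ (fn a) = Polynomial.monomial (d a) (f a))

include hdeg in
theorem exists_lift (n m : ℕ) (hnm : n ≤ m) (a : A) (ha : a ∈ 𝒜 m) :
    ∃ b ∈ ℬ n, φ b = Polynomial.monomial n a := by
  have h1 : Polynomial.monomial n a ∈
      Submodule.map ((Polynomial.monomial n : A →ₗ[A] Polynomial A).restrictScalars R)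
        (⨆ (m : ℕ) (_ : n ≤ m), 𝒜 m) := by
    refine ⟨a, ?_, rfl⟩
    exact (le_iSup₂ (f := fun (m : ℕ) (_ : n ≤ m) => 𝒜 m) m hnm) ha
  rw [← hdeg n] at h1
  obtain ⟨b, hb, hb'⟩ := h1
  exact ⟨b, hb, hb'⟩

include hφ hdeg hf hrad hfn in
theorem key (n m : ℕ) (hn : 0 < n) (hnm : n ≤ m) (a : A) (ha : a ∈ 𝒜 m) (g : B)
    (hg : φ g = Polynomial.monomial n a) : g ∈ (Ideal.span (Set.range fn)).radical := by
  classical
  have hm0 : m ≠ 0 := by omega
  have hairr : a ∈ (HomogeneousIdeal.irrelevant 𝒜).toIdeal := by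
    show a ∈ HomogeneousIdeal.irrelevant 𝒜
    rw [HomogeneousIdeal.mem_irrelevant_iff, GradedRing.proj_apply]
    exact DirectSum.decompose_of_mem_ne 𝒜 ha hm0
  obtain ⟨N, hN, haN⟩ := hrad a hairr
  obtain ⟨c, hc⟩ := Finsupp.mem_span_range_iff_exists_finsupp.1 haN
  set t : ℕ := 1 + ∑ α ∈ c.support, d α with ht
  set N' : ℕ := N * t with hN'
  have hdle : ∀ α ∈ c.support, d α ≤ N' := by
    intro α hα
    have h1 : d α ≤ t := by
      rw [ht]
      have := Finset.single_le_sum (f := d) (fun i _ => Nat.zero_le _) hα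
      omega
    calc d α ≤ t := h1
      _ = 1 * t := (one_mul t).symm
      _ ≤ N * t := Nat.mul_le_mul_right t hN
  have hN'm : N' ≤ m * N' := Nat.le_mul_of_pos_left N' (by omega)
  have hN'n : N' ≤ n * N' := Nat.le_mul_of_pos_left N' hn
  have hnmN : n * N' ≤ m * N' := Nat.mul_le_mul_right N' hnm
  -- a^N' as combination
  have haN' : a ^ N' = ∑ α ∈ c.support, ((a ^ N) ^ (t - 1) * c α) * f α := by
    have : a ^ N' = (a ^ N) ^ (t - 1) * a ^ N := by
      rw [hN', pow_mul, ← pow_succ]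
      congr 1
      omega
    rw [this, ← hc, Finsupp.sum, Finset.mul_sum]
    refine Finset.sum_congr rfl fun α _ => ?_
    rw [smul_eq_mul, mul_assoc]
  have haN'mem : a ^ N' ∈ 𝒜 (m * N') := by
    have := SetLike.pow_mem_graded N' ha
    rwa [smul_eq_mul, mul_comm] at this
  set e : ι → A := fun α => (decompose 𝒜 ((a ^ N) ^ (t - 1) * c α) (m * N' - d α) : A) with he
  have haN'2 : a ^ N' = ∑ α ∈ c.support, e α * f α := by
    have h1 : (decompose 𝒜 (a ^ N') (m * N') : A) = a ^ N' :=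
      DirectSum.decompose_of_mem_same 𝒜 haN'mem
    rw [← h1, ← GradedRing.proj_apply]
    conv_lhs => rw [haN', map_sum]
    refine Finset.sum_congr rfl fun α hα => ?_
    rw [GradedRing.proj_apply]
    exact DirectSum.coe_decompose_mul_of_right_mem_of_le 𝒜 (hf α) ((hdle α hα).trans hN'm)
  have hlift : ∀ α, ∃ b : B, α ∈ c.support → φ b = Polynomial.monomial (n * N' - d α) (e α) := by
    intro α
    by_cases hα : α ∈ c.support
    · obtain ⟨b, _, hb⟩ := exists_lift 𝒜 ℬ φ hdeg (n * N' - d α) (m * N' - d α)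
        (Nat.sub_le_sub_right hnmN _) (e α) (Submodule.coe_mem _)
      exact ⟨b, fun _ => hb⟩
    · exact ⟨0, fun h => absurd h hα⟩
  choose b hb using hlift
  have hgN : g ^ N' = ∑ α ∈ c.support, b α * fn α := by
    apply hφ
    rw [map_pow, hg, Polynomial.monomial_pow, map_sum, haN'2, map_sum]
    refine Finset.sum_congr rfl fun α hα => ?_
    rw [map_mul φ, hb α hα, hfn, Polynomial.monomial_mul_monomial,
      Nat.sub_add_cancel ((hdle α hα).trans hN'n)]
  refine ⟨N', ?_⟩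
  rw [hgN]
  exact Ideal.sum_mem _ fun α _ => Ideal.mul_mem_left _ _ (Ideal.subset_span ⟨α, rfl⟩)

include hφ hdeg hf hrad hfn in
theorem homog (n : ℕ) (hn : 0 < n) (g : B) (hg : g ∈ ℬ n) :
    g ∈ (Ideal.span (Set.range fn)).radical := by
  classical
  have h1 : φ g ∈ Submodule.map φ.toLinearMap (ℬ n) := ⟨g, hg, rfl⟩
  rw [hdeg n] at h1
  obtain ⟨a, ha, hag⟩ := h1
  have hag' : Polynomial.monomial n a = φ g := hag
  -- components of a below n vanish
  have hlow : ∀ m, m < n → (decompose 𝒜 a m : A) = 0 := by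
    intro m hm
    have hle : (⨆ (m' : ℕ) (_ : n ≤ m'), 𝒜 m') ≤ LinearMap.ker (GradedAlgebra.proj 𝒜 m) := by
      refine iSup₂_le fun m' hm' x hx => ?_
      rw [LinearMap.mem_ker, GradedAlgebra.proj_apply]
      exact DirectSum.decompose_of_mem_ne 𝒜 hx (by omega)
    have := hle ha
    rwa [LinearMap.mem_ker, GradedAlgebra.proj_apply] at this
  have hlift : ∀ m, ∃ gm : B, m ∈ (decompose 𝒜 a).support →
      φ gm = Polynomial.monomial n (decompose 𝒜 a m : A) ∧ gm ∈ (Ideal.span (Set.range fn)).radical := by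
    intro m
    by_cases hm : m ∈ (decompose 𝒜 a).support
    · have hnm : n ≤ m := by
        by_contra hlt
        have h0 := hlow m (not_le.1 hlt)
        rw [DFinsupp.mem_support_iff] at hm
        exact hm (Subtype.ext h0)
      obtain ⟨gm, _, hgm⟩ := exists_lift 𝒜 ℬ φ hdeg n m hnm _ (Submodule.coe_mem (decompose 𝒜 a m))
      exact ⟨gm, fun _ => ⟨hgm, key 𝒜 ℬ φ hφ hdeg d f hf hrad fn hfn n m hn hnm _
        (Submodule.coe_mem _) gm hgm⟩⟩
    · exact ⟨0, fun h => absurd h hm⟩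
  choose gm hgm using hlift
  have hsum : g = ∑ m ∈ (decompose 𝒜 a).support, gm m := by
    apply hφ
    rw [map_sum, ← hag']
    conv_lhs => rw [← DirectSum.sum_support_decompose 𝒜 a, map_sum]
    exact Finset.sum_congr rfl fun m hm => ((hgm m hm).1).symm
  rw [hsum]
  exact Ideal.sum_mem _ fun m hm => (hgm m hm).2

include hφ hdeg hf hrad hfn in
theorem main :
    ∀ g ∈ (HomogeneousIdeal.irrelevant ℬ).toIdeal, ∃ n : ℕ, 0 < n ∧ g ^ n ∈ Ideal.span (Set.range fn) := by
  classical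
  intro g hg
  have hg0 : (decompose ℬ g 0 : B) = 0 := by
    have : g ∈ HomogeneousIdeal.irrelevant ℬ := hg
    rwa [HomogeneousIdeal.mem_irrelevant_iff, GradedRing.proj_apply] at this
  have hrad' : g ∈ (Ideal.span (Set.range fn)).radical := by
    rw [← DirectSum.sum_support_decompose ℬ g]
    refine Ideal.sum_mem _ fun i _ => ?_
    rcases Nat.eq_zero_or_pos i with rfl | hi
    · rw [hg0]; exact Ideal.zero_mem _
    · exact homog 𝒜 ℬ φ hφ hdeg d f hf hrad fn hfn i hi _ (Submodule.coe_mem _)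
  obtain ⟨n, hn⟩ := hrad'
  rcases Nat.eq_zero_or_pos n with rfl | hpos
  · refine ⟨1, one_pos, ?_⟩
    rw [pow_zero] at hn
    rw [(Ideal.eq_top_iff_one _).2 hn]
    exact Submodule.mem_top
  · exact ⟨n, hpos, hn⟩

end

end Groth.Agent.H15.NatGraded
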