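import Groth.Prelude.Def_PLie
import Mathlib
set_option autoImplicit false
universe u v w

namespace Groth.Agent.H15.PLieAux

open PLie

theorem hom_ad_pow {R : Type u} [CommRing R] {L : Type v} [LieRing L] [LieAlgebra R L]
    {L' : Type w} [LieRing L'] [LieAlgebra R L'] (f : L →ₗ⁅R⁆ L') (x : L) (k : ℕ) (y : L) :
    f ((LieAlgebra.ad R L x ^ k) y) = (LieAlgebra.ad R L' (f x) ^ k) (f y) := by
  induction k generalizing y with
  | zero => simp
  | succ k ih =>
    rw [pow_succ, pow_succ, Module.End.mul_apply, Module.End.mul_apply, ih]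
    simp [LieAlgebra.ad_apply]

theorem isPHom_of_center_eq_bot (R : Type u) [CommRing R] (p : ℕ) [Fact p.Prime] [CharP R p]
    (L : Type v) [LieRing L] [LieAlgebra R L] (L' : Type w) [LieRing L'] [LieAlgebra R L']
    (γ : PLie.PMap R p L) (γ' : PLie.PMap R p L') (hZ : LieAlgebra.center R L' = ⊥) (φ : L ≃ₗ⁅R⁆ L') :
    PLie.IsPHom γ γ' φ.toLieHom := by
  intro x
  have hmem : φ.toLieHom (γ x) - γ' (φ.toLieHom x) ∈ LieAlgebra.center R L' := by
    rw [LieModule.mem_maxTrivSubmodule]
    intro z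
    have h1 : ⁅φ.toLieHom (γ x), z⁆ = ⁅γ' (φ.toLieHom x), z⁆ := by
      obtain ⟨y, rfl⟩ : ∃ y, φ.toLieHom y = z := ⟨φ.symm z, by simp⟩
      rw [← LieHom.map_lie]
      have e1 : ⁅γ x, y⁆ = (LieAlgebra.ad R L x ^ p) y := by
        rw [← γ.ad_map x, LieAlgebra.ad_apply]
      have e2 : ⁅γ' (φ.toLieHom x), φ.toLieHom y⁆ =
          (LieAlgebra.ad R L' (φ.toLieHom x) ^ p) (φ.toLieHom y) := by
        rw [← γ'.ad_map (φ.toLieHom x), LieAlgebra.ad_apply]
      rw [e1, e2, hom_ad_pow]
    rw [← lie_skew, sub_lie, h1, sub_self, neg_zero]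
  rw [hZ] at hmem
  have := (LieSubmodule.mem_bot _).mp hmem
  exact sub_eq_zero.mp this


theorem ad_eq_zero_of_mem_center {R : Type u} [CommRing R] {L : Type v} [LieRing L] [LieAlgebra R L]
    (z : L) (hz : z ∈ LieAlgebra.center R L) : LieAlgebra.ad R L z = 0 := by
  rw [LieModule.mem_maxTrivSubmodule] at hz
  ext y
  rw [LieAlgebra.ad_apply, ← lie_skew, hz y]
  simp

theorem mem_center_of_ad_eq_zero {R : Type u} [CommRing R] {L : Type v} [LieRing L] [LieAlgebra R L]
    (z : L) (hz : LieAlgebra.ad R L z = 0) : z ∈ LieAlgebra.center R L := by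
  rw [LieModule.mem_maxTrivSubmodule]
  intro y
  have := LinearMap.congr_fun hz y
  rw [LieAlgebra.ad_apply] at this
  rw [← lie_skew, this]
  simp

theorem exists_pmap_eq_add_iff (R : Type u) [CommRing R] (p : ℕ) [Fact p.Prime] [CharP R p]
    (L : Type v) [LieRing L] [LieAlgebra R L] (γ : PLie.PMap R p L) (g : L → L) :
    (∃ γ' : PLie.PMap R p L, ∀ x : L, γ' x = γ x + g x) ↔
      ((∀ x y : L, g (x + y) = g x + g y) ∧ (∀ (c : R) (x : L), g (c • x) = c ^ p • g x) ∧
        ∀ x : L, g x ∈ LieAlgebra.center R L) := by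
  constructor
  · rintro ⟨γ', h⟩
    have hg : ∀ x, g x = γ' x - γ x := fun x => by rw [h x]; abel
    refine ⟨?_, ?_, ?_⟩
    · intro x y
      rw [hg, hg, hg]
      have h1 := γ'.map_add x y
      have h2 := γ.map_add x y
      change γ' (x + y) = γ' x + γ' y - _ at h1
      change γ (x + y) = γ x + γ y - _ at h2
      rw [h1, h2]
      abel
    · intro c x
      rw [hg, hg]
      have h1 := γ'.map_smul c x
      have h2 := γ.map_smul c x
      change γ' (c • x) = c ^ p • γ' x at h1
      change γ (c • x) = c ^ p • γ x at h2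
      rw [h1, h2, smul_sub]
    · intro x
      apply mem_center_of_ad_eq_zero
      rw [hg, map_sub]
      have h1 := γ'.ad_map x
      have h2 := γ.ad_map x
      change LieAlgebra.ad R L (γ' x) = _ at h1
      change LieAlgebra.ad R L (γ x) = _ at h2
      rw [h1, h2, sub_self]
  · rintro ⟨hadd, hsmul, hcen⟩
    refine ⟨⟨fun x => γ x + g x, ?_, ?_, ?_⟩, fun x => rfl⟩
    · intro c x
      have h2 := γ.map_smul c x
      change γ (c • x) = c ^ p • γ x at h2
      rw [h2, hsmul, smul_add]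
    · intro x
      have h2 := γ.ad_map x
      change LieAlgebra.ad R L (γ x) = _ at h2
      rw [map_add, h2, ad_eq_zero_of_mem_center _ (hcen x), add_zero]
    · intro x y
      have h2 := γ.map_add x y
      change γ (x + y) = γ x + γ y - _ at h2
      rw [h2, hadd]
      abel

theorem basis3_expand {R : Type u} [CommRing R] {L : Type v} [AddCommGroup L] [Module R L]
    (bs : Module.Basis (Fin 3) R L) (w : L) :
    w = bs.coord 0 w • bs 0 + bs.coord 1 w • bs 1 + bs.coord 2 w • bs 2 := by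
  conv_lhs => rw [← bs.sum_repr w]
  rw [Fin.sum_univ_three]
  rfl

theorem coord_self {R : Type u} [CommRing R] {L : Type v} [AddCommGroup L] [Module R L]
    (bs : Module.Basis (Fin 3) R L) (i j : Fin 3) : bs.coord i (bs j) = if j = i then 1 else 0 := by
  rw [Module.Basis.coord_apply, Module.Basis.repr_self, Finsupp.single_apply]

theorem s3 (R : Type u) [CommRing R] [CharP R 2]
    (L : Type v) [LieRing L] [LieAlgebra R L] (bs : Module.Basis (Fin 3) R L)
    (hxy : ⁅bs 0, bs 1⁆ = bs 2) (hxz : ⁅bs 0, bs 2⁆ = -bs 0) (hyz : ⁅bs 1, bs 2⁆ = bs 1) :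
    IsEmpty (PLie.PMap R 2 L) := by
  constructor
  intro φ
  have : Nontrivial R := CharP.nontrivial_of_char_ne_one (R := R) (v := 2) (by norm_num)
  set w := φ (bs 0) with hw
  have had : ∀ v : L, ⁅w, v⁆ = ⁅bs 0, ⁅bs 0, v⁆⁆ := by
    intro v
    have := LinearMap.congr_fun (φ.ad_map (bs 0)) v
    simpa [pow_two, LieAlgebra.ad_apply] using this
  have hexp := basis3_expand bs w
  set a := bs.coord 0 w
  set b := bs.coord 1 w
  set c := bs.coord 2 w
  have hzy : ⁅bs 2, bs 1⁆ = -bs 1 := by rw [← lie_skew, hyz]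
  have h2 := had (bs 2)
  rw [hxz, lie_neg, lie_self, neg_zero] at h2
  rw [hexp, add_lie, add_lie, smul_lie, smul_lie, smul_lie, hxz, hyz, lie_self] at h2
  have ha : a = 0 := by
    have := congrArg (bs.coord 0) h2
    simpa [coord_self] using this
  have hb : b = 0 := by
    have := congrArg (bs.coord 1) h2
    simpa [coord_self] using this
  have h1 := had (bs 1)
  rw [hxy, hxz] at h1
  rw [hexp, ha, hb, zero_smul, zero_smul, zero_add, zero_add, smul_lie, hzy] at h1
  have := congrArg (bs.coord 0) h1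
  simp [coord_self] at this

theorem r3 (R : Type u) [CommRing R] (p : ℕ) [Fact p.Prime] [CharP R p]
    (L : Type v) [LieRing L] [LieAlgebra R L] (bs : Module.Basis (Fin 3) R L)
    (hxy : ⁅bs 0, bs 1⁆ = bs 1) (hxz : ⁅bs 0, bs 2⁆ = bs 1 + bs 2) (hyz : ⁅bs 1, bs 2⁆ = 0) :
    IsEmpty (PLie.PMap R p L) := by
  constructor
  intro φ
  have hp : p ≠ 1 := (Fact.out : p.Prime).ne_one
  have : Nontrivial R := CharP.nontrivial_of_char_ne_one (R := R) (v := p) hp
  set w := φ (bs 0) with hw
  have had : ∀ v : L, ⁅w, v⁆ = (LieAlgebra.ad R L (bs 0) ^ p) v := by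
    intro v
    have := LinearMap.congr_fun (φ.ad_map (bs 0)) v
    rw [LieAlgebra.ad_apply] at this
    exact this
  have hpz : ∀ k : ℕ, (LieAlgebra.ad R L (bs 0) ^ k) (bs 2) = (k : R) • bs 1 + bs 2 := by
    intro k
    induction k with
    | zero => simp
    | succ k ih =>
      rw [pow_succ', Module.End.mul_apply, ih, map_add, map_smul, LieAlgebra.ad_apply,
        LieAlgebra.ad_apply, hxy, hxz]
      push_cast
      rw [add_smul, one_smul]
      abel
  have hpy : ∀ k : ℕ, (LieAlgebra.ad R L (bs 0) ^ k) (bs 1) = bs 1 := by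
    intro k
    induction k with
    | zero => simp
    | succ k ih =>
      rw [pow_succ', Module.End.mul_apply, ih, LieAlgebra.ad_apply, hxy]
  have hpx : (LieAlgebra.ad R L (bs 0) ^ p) (bs 0) = 0 := by
    obtain ⟨k, hk⟩ : ∃ k, p = k + 1 := ⟨p - 1, by have := (Fact.out : p.Prime).pos; omega⟩
    rw [hk, pow_succ, Module.End.mul_apply, LieAlgebra.ad_apply, lie_self, map_zero]
  have hexp := basis3_expand bs w
  set a := bs.coord 0 w
  set b := bs.coord 1 w
  set c := bs.coord 2 w
  have hyx : ⁅bs 1, bs 0⁆ = -bs 1 := by rw [← lie_skew, hxy]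
  have hzx : ⁅bs 2, bs 0⁆ = -(bs 1 + bs 2) := by rw [← lie_skew, hxz]
  have hzy : ⁅bs 2, bs 1⁆ = 0 := by rw [← lie_skew, hyz, neg_zero]
  have h0 := had (bs 0)
  rw [hpx, hexp, add_lie, add_lie, smul_lie, smul_lie, smul_lie, lie_self, hyx, hzx] at h0
  have hc : c = 0 := by
    have := congrArg (bs.coord 2) h0
    simpa using this
  have hb : b = 0 := by
    have := congrArg (bs.coord 1) h0
    simpa [hc] using this
  have h1 := had (bs 1)
  rw [hpy, hexp, hb, hc, zero_smul, zero_smul, add_zero, add_zero, smul_lie, hxy] at h1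
  have ha : a = 1 := by
    have := congrArg (bs.coord 1) h1
    simpa using this
  have h2 := had (bs 2)
  rw [hpz, CharP.cast_eq_zero, zero_smul, zero_add, hexp, hb, hc, ha, zero_smul, zero_smul,
    add_zero, add_zero, one_smul, hxz] at h2
  have := congrArg (bs.coord 1) h2
  simp at this

end Groth.Agent.H15.PLieAux
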