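import Groth.Prelude.Def_PLie
import Mathlib
import Groth.Agent.H15.PLieAux
set_option autoImplicit false
universe u v w

namespace Groth.Agent.H15.PLieImg

open PLie

section Map

variable {R : Type u} [CommRing R] (p : ℕ) [CharP R p]
  {L : Type v} [LieRing L] [LieAlgebra R L] {L' : Type w} [LieRing L'] [LieAlgebra R L']

theorem map_bracketWord {ι : Type*} (g : L →ₗ⁅R⁆ L') (x : ι → L) (x₁ : L) (l : List ι) :
    g (bracketWord x x₁ l) = bracketWord (fun i => g (x i)) (g x₁) l := by
  induction l with
  | nil => rfl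
  | cons i l ih => rw [bracketWord_cons, bracketWord_cons, LieHom.map_lie, ih]

theorem map_pair (g : L →ₗ⁅R⁆ L') (a b : L) :
    (fun i => g (pair a b i)) = pair (g a) (g b) := by
  funext i
  cases i <;> rfl

theorem map_jacobson (g : L →ₗ⁅R⁆ L') (a b : L) :
    g (jacobson R p a b) = jacobson R p (g a) (g b) := by
  unfold jacobson
  rw [map_sum]
  refine Finset.sum_congr rfl fun t _ => ?_
  rw [map_smul, map_bracketWord, map_pair]

theorem bracketWord_zero {ι : Type*} (x : ι → L) (l : List ι) :
    bracketWord x (0 : L) l = 0 := by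
  induction l with
  | nil => rfl
  | cons i l ih => rw [bracketWord_cons, ih, lie_zero]

theorem jacobson_zero_right (a : L) : jacobson R p a (0 : L) = 0 := by
  unfold jacobson
  refine Finset.sum_eq_zero fun t _ => ?_
  rw [bracketWord_zero, smul_zero]

end Map

theorem coe_ad_pow {R : Type u} [CommRing R] {L : Type v} [LieRing L] [LieAlgebra R L]
    (K : LieSubalgebra R L) (y w : K) (n : ℕ) :
    (((LieAlgebra.ad R K y ^ n) w : K) : L) = (LieAlgebra.ad R L (y : L) ^ n) (w : L) := by
  induction n generalizing w with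
  | zero => simp
  | succ n ih =>
    rw [pow_succ, pow_succ, Module.End.mul_apply, Module.End.mul_apply, ih]
    simp [LieAlgebra.ad_apply]

theorem main (R : Type u) [CommRing R] (p : ℕ) [Fact p.Prime] [CharP R p]
    (L₁ : Type v) [LieRing L₁] [LieAlgebra R L₁] (L₂ : Type w) [LieRing L₂] [LieAlgebra R L₂]
    (φ : PLie.PMap R p L₁) (f : L₁ →ₗ⁅R⁆ L₂) (hker : ∀ x : L₁, f x = 0 → f (φ x) = 0) :
    ∃! ψ : PLie.PMap R p f.range, PLie.IsPHom φ ψ f.rangeRestrict := by
  classical
  -- well-definedness
  have hwd : ∀ x x' : L₁, f x = f x' → f (φ x) = f (φ x') := by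
    intro x x' h
    have hz : f (x' - x) = 0 := by rw [map_sub, h, sub_self]
    have h1 : φ x' = φ x + φ (x' - x) - jacobson R p x (x' - x) := by
      have := φ.map_add x (x' - x)
      rwa [add_sub_cancel] at this
    rw [h1, map_sub, map_add, hker _ hz, map_jacobson, hz, jacobson_zero_right, add_zero, sub_zero]
  have hsurj : ∀ y : f.range, ∃ x : L₁, f x = (y : L₂) := fun y => (LieHom.mem_range f _).mp y.2
  choose pre hpre using hsurj
  let ψfun : f.range → f.range := fun y => ⟨f (φ (pre y)), (LieHom.mem_range f _).mpr ⟨_, rfl⟩⟩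
  have hψ : ∀ x : L₁, ψfun (f.rangeRestrict x) = f.rangeRestrict (φ x) := by
    intro x
    apply Subtype.ext
    change f (φ (pre (f.rangeRestrict x))) = f (φ x)
    exact hwd _ _ (hpre _)
  have hrr : ∀ y : f.range, f.rangeRestrict (pre y) = y := fun y => Subtype.ext (hpre y)
  let ψ : PLie.PMap R p f.range :=
    { toFun := ψfun
      map_smul := fun c y => by
        rw [← hrr y, ← map_smul, hψ, hψ, φ.map_smul, map_smul]
      ad_map := fun y => by
        apply LinearMap.ext
        intro w
        apply Subtype.ext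
        rw [coe_ad_pow, LieAlgebra.ad_apply]
        rw [← hrr y, hψ, ← hrr w]
        change ⁅f (φ (pre y)), f (pre w)⁆ = (LieAlgebra.ad R L₂ (f (pre y)) ^ p) (f (pre w))
        rw [← LieHom.map_lie, ← Groth.Agent.H15.PLieAux.hom_ad_pow, ← φ.ad_map, LieAlgebra.ad_apply]
      map_add := fun y₀ y₁ => by
        rw [← hrr y₀, ← hrr y₁, ← map_add, hψ, hψ, hψ, φ.map_add, map_sub, map_add,
          map_jacobson] }
  refine ⟨ψ, fun x => (hψ x).symm, ?_⟩
  intro ψ' hψ'
  have hfun : ψ'.toFun = ψ.toFun := by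
    funext y
    rw [← hrr y]
    exact (hψ' (pre y)).symm.trans (hψ (pre y)).symm
  cases ψ'
  cases hψeq : ψ
  simp only [PLie.PMap.mk.injEq]
  rw [hψeq] at hfun
  exact hfun

end Groth.Agent.H15.PLieImg
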