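import Mathlib
import Groth.Agent.H15.PSSurj
import Groth.Agent.H15.PSArt2

set_option autoImplicit false
universe u

namespace Groth.Agent.H15.PSSubst

open MvPowerSeries IsLocalRing

/-- a surjective endomorphism of a Noetherian ring is injective -/
theorem injective_of_surjective_endo {A : Type u} [CommRing A] [IsNoetherianRing A]
    (φ : A →+* A) (h : Function.Surjective φ) : Function.Injective φ := by
  let K : ℕ → Ideal A := fun n => Nat.rec ⊥ (fun _ I => I.comap φ) n
  have hK0 : K 0 = ⊥ := rfl
  have hKs : ∀ n, K (n + 1) = (K n).comap φ := fun n => rfl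
  have hmem : ∀ n a, a ∈ K n ↔ φ^[n] a = 0 := by
    intro n
    induction n with
    | zero => intro a; rw [hK0]; simp
    | succ n ih =>
      intro a
      rw [hKs, Ideal.mem_comap, ih, Function.iterate_succ_apply]
  have hmono : Monotone K := by
    apply monotone_nat_of_le_succ
    intro n
    induction n with
    | zero => rw [hK0]; exact bot_le
    | succ n ih => rw [hKs, hKs (n + 1)]; exact Ideal.comap_mono ih
  obtain ⟨N, hN⟩ := monotone_stabilizes_iff_noetherian.mpr (inferInstance : IsNoetherian A A)
    ⟨K, hmono⟩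
  rw [injective_iff_map_eq_zero]
  intro x hx
  obtain ⟨z, rfl⟩ := (h.iterate N) x
  have hz : z ∈ K (N + 1) := by
    apply (hmem (N + 1) z).mpr
    rw [Function.iterate_succ_apply']
    exact hx
  have hz' : z ∈ K N := by
    have := hN (N + 1) (Nat.le_succ N)
    change K N = K (N + 1) at this
    rw [this]; exact hz
  exact (hmem N z).mp hz'

/-- substitution of a regular system of parameters in `K[[x]]` is bijective -/
theorem main_field (K : Type u) [Field K] (n : ℕ)
    (y : Fin n → MvPowerSeries (Fin n) K)
    (hy : Ideal.span (Set.range y) = IsLocalRing.maximalIdeal (MvPowerSeries (Fin n) K)) :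
    Function.Bijective (MvPowerSeries.subst y : MvPowerSeries (Fin n) K → MvPowerSeries (Fin n) K) := by
  classical
  have hy0 : ∀ i, constantCoeff (y i) = 0 := by
    intro i
    have hmem : y i ∈ maximalIdeal (MvPowerSeries (Fin n) K) := by
      rw [← hy]; exact Ideal.subset_span ⟨i, rfl⟩
    by_contra hne
    have hu : IsUnit (y i) := by
      rw [MvPowerSeries.isUnit_iff_constantCoeff]
      exact isUnit_iff_ne_zero.mpr hne
    exact (mem_maximalIdeal _).mp hmem hu
  have hs : HasSubst y := hasSubst_of_constantCoeff_zero hy0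
  let u : MvPowerSeries (Fin n) K →+* MvPowerSeries (Fin n) K := (substAlgHom hs : _ →ₐ[K] _)
  have hu : ⇑u = MvPowerSeries.subst y := coe_substAlgHom hs
  rw [← hu]
  have hsurj : Function.Surjective u := by
    refine Groth.Agent.H15.PSSurj.surjective_of_retraction (C : K →+* MvPowerSeries (Fin n) K)
      (constantCoeff : MvPowerSeries (Fin n) K →+* K) (fun a => constantCoeff_C a) y hy0 ?_ u ?_ ?_
    · rw [hy]
      intro f hf
      rw [RingHom.mem_ker] at hf
      rw [mem_maximalIdeal, mem_nonunits_iff, MvPowerSeries.isUnit_iff_constantCoeff, hf]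
      exact not_isUnit_zero
    · intro a
      change u (C a) = C a
      rw [hu, subst_C]
    · intro i
      change u (X i) = y i
      rw [hu, subst_X hs]
  exact ⟨injective_of_surjective_endo u hsurj, hsurj⟩

/-- substitution of `y` with `(p, y)` a regular system of parameters in `Λ[[x]]` is bijective -/
theorem main_cohen (Λ : Type u) [CommRing Λ] [IsDomain Λ]
    [IsDiscreteValuationRing Λ] (p : ℕ)
    (hm : IsLocalRing.maximalIdeal Λ = Ideal.span {(p : Λ)}) (n : ℕ)
    (y : Fin n → MvPowerSeries (Fin n) Λ) (hy0 : ∀ i, MvPowerSeries.constantCoeff (y i) = 0)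
    (hy : Ideal.span (insert (p : MvPowerSeries (Fin n) Λ) (Set.range y)) =
      IsLocalRing.maximalIdeal (MvPowerSeries (Fin n) Λ)) :
    Function.Bijective (MvPowerSeries.subst y : MvPowerSeries (Fin n) Λ → MvPowerSeries (Fin n) Λ) := by
  classical
  have hs : HasSubst y := hasSubst_of_constantCoeff_zero hy0
  let u : MvPowerSeries (Fin n) Λ →+* MvPowerSeries (Fin n) Λ := (substAlgHom hs : _ →ₐ[Λ] _)
  have hu : ⇑u = MvPowerSeries.subst y := coe_substAlgHom hs
  rw [← hu]
  have hp0 : (p : Λ) ≠ 0 := by
    intro h0
    have hbot : maximalIdeal Λ = ⊥ := by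
      rw [hm, h0, Ideal.span_singleton_eq_bot]
    exact IsDiscreteValuationRing.not_a_field Λ hbot
  have hycc : Ideal.span (Set.range y) ≤
      RingHom.ker (constantCoeff : MvPowerSeries (Fin n) Λ →+* Λ) := by
    rw [Ideal.span_le]
    rintro _ ⟨i, rfl⟩
    exact RingHom.mem_ker.mpr (hy0 i)
  have hpm : (p : MvPowerSeries (Fin n) Λ) ∈ maximalIdeal (MvPowerSeries (Fin n) Λ) := by
    rw [← hy]; exact Ideal.subset_span (Set.mem_insert _ _)
  have hker : RingHom.ker (constantCoeff : MvPowerSeries (Fin n) Λ →+* Λ) ≤
      Ideal.span (Set.range (X : Fin n → MvPowerSeries (Fin n) Λ)) := by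
    intro f hf
    have := Groth.Agent.H15.PSArt2.sub_C_mem f
    rwa [RingHom.mem_ker.mp hf, map_zero, sub_zero] at this
  have hXy : Ideal.span (Set.range (X : Fin n → MvPowerSeries (Fin n) Λ)) ≤
      Ideal.span (Set.range y) := by
    apply Submodule.le_of_le_smul_of_le_jacobson_bot
      (I := maximalIdeal (MvPowerSeries (Fin n) Λ))
    · exact ⟨(Finset.univ.image X), by simp⟩
    · rw [IsLocalRing.jacobson_eq_maximalIdeal ⊥ bot_ne_top]
    · rw [Ideal.span_le]
      rintro _ ⟨i, rfl⟩
      have hXm : (X i : MvPowerSeries (Fin n) Λ) ∈ maximalIdeal (MvPowerSeries (Fin n) Λ) := by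
        rw [mem_maximalIdeal, mem_nonunits_iff, MvPowerSeries.isUnit_iff_constantCoeff,
          constantCoeff_X]
        exact not_isUnit_zero
      rw [← hy, Ideal.mem_span_insert] at hXm
      obtain ⟨a, w, hw, hXaw⟩ := hXm
      have hcc := congrArg constantCoeff hXaw
      rw [constantCoeff_X, map_add, map_mul, map_natCast, RingHom.mem_ker.mp (hycc hw),
        add_zero] at hcc
      have ha0 : constantCoeff a = 0 := by
        rcases mul_eq_zero.mp hcc.symm with h | h
        · exact h
        · exact absurd h hp0
      have haX : a ∈ Ideal.span (Set.range (X : Fin n → MvPowerSeries (Fin n) Λ)) :=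
        hker (RingHom.mem_ker.mpr ha0)
      rw [SetLike.mem_coe, hXaw]
      apply Submodule.add_mem
      · apply Submodule.mem_sup_right
        rw [mul_comm]
        exact Submodule.smul_mem_smul hpm haX
      · exact Submodule.mem_sup_left hw
  have hsurj : Function.Surjective u := by
    refine Groth.Agent.H15.PSSurj.surjective_of_retraction (C : Λ →+* MvPowerSeries (Fin n) Λ)
      (constantCoeff : MvPowerSeries (Fin n) Λ →+* Λ) (fun a => constantCoeff_C a) y hy0
      (hker.trans hXy) u ?_ ?_
    · intro a
      change u (C a) = C a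
      rw [hu, subst_C]
    · intro i
      change u (X i) = y i
      rw [hu, subst_X hs]
  exact ⟨injective_of_surjective_endo u hsurj, hsurj⟩

end Groth.Agent.H15.PSSubst
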