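import Mathlib

set_option autoImplicit false
universe u

namespace Groth.Agent.H15.PrimNZD

open MvPolynomial TensorProduct

variable {A : Type u} [CommRing A] {n : ℕ}

/-- a primitive multivariate polynomial is a non-zero-divisor (McCoy argument) -/
theorem key0 (f : MvPolynomial (Fin n) A) (hf : Ideal.span (Set.range f.coeff) = ⊤) :
    ∀ g : MvPolynomial (Fin n) A, f * g = 0 → g = 0 := by
  classical
  let m : MonomialOrder (Fin n) := MonomialOrder.lex
  -- well-founded induction on the degree of g
  suffices H : ∀ (s : m.syn) (g : MvPolynomial (Fin n) A), m.toSyn (m.degree g) = s →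
      f * g = 0 → g = 0 from fun g hg => H _ g rfl hg
  intro s
  induction s using WellFoundedLT.induction with
  | ind s IH =>
    intro g hs hfg
    -- all coefficients of f kill g
    have hall : ∀ α : Fin n →₀ ℕ, coeff α f • g = 0 := by
      by_contra hcon
      push Not at hcon
      obtain ⟨α₀, hα₀⟩ := hcon
      let S : Finset (Fin n →₀ ℕ) := f.support.filter fun α => coeff α f • g ≠ 0
      have hSne : S.Nonempty := by
        refine ⟨α₀, Finset.mem_filter.mpr ⟨?_, hα₀⟩⟩
        rw [mem_support_iff]
        intro h0
        rw [h0, zero_smul] at hα₀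
        exact hα₀ rfl
      obtain ⟨α, hαS, hαmax⟩ := Finset.exists_max_image S (fun α => m.toSyn α) hSne
      have hαne : coeff α f • g ≠ 0 := (Finset.mem_filter.mp hαS).2
      have hbig : ∀ β, m.toSyn α < m.toSyn β → coeff β f • g = 0 := by
        intro β hβ
        by_contra hne
        have hβS : β ∈ S := by
          refine Finset.mem_filter.mpr ⟨?_, hne⟩
          rw [mem_support_iff]
          intro h0
          rw [h0, zero_smul] at hne
          exact hne rfl
        exact absurd (hαmax β hβS) (not_le.mpr hβ)
      set δ := m.degree g with hδ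
      have h0 : coeff (α + δ) (f * g) = coeff α f * coeff δ g := by
        rw [coeff_mul]
        apply Finset.sum_eq_single (α, δ)
        · rintro ⟨β, γ⟩ hmem hne
          rw [Finset.HasAntidiagonal.mem_antidiagonal] at hmem
          simp only at hmem
          rcases lt_trichotomy (m.toSyn β) (m.toSyn α) with hlt | heq | hgt
          · have hγ : m.toSyn δ < m.toSyn γ := by
              by_contra hle
              push Not at hle
              have h1 := add_lt_add_of_lt_of_le hlt hle
              rw [← map_add, ← map_add, hmem] at h1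
              exact lt_irrefl _ h1
            simp only
            rw [m.coeff_eq_zero_of_lt hγ, mul_zero]
          · have hβα : β = α := m.toSyn.injective heq
            subst hβα
            have hγδ : γ = δ := add_left_cancel hmem
            subst hγδ
            exact absurd rfl hne
          · have h1 := hbig β hgt
            have h2 := congrArg (coeff γ) h1
            rw [coeff_smul, coeff_zero, smul_eq_mul] at h2
            exact h2
        · intro h
          exfalso
          apply h
          rw [Finset.HasAntidiagonal.mem_antidiagonal]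
      rw [hfg, coeff_zero] at h0
      -- h := coeff α f • g has smaller degree and is killed by f
      set h := coeff α f • g with hh
      have hfh : f * h = 0 := by
        rw [hh, mul_smul_comm, hfg, smul_zero]
      have hdeg_le : m.toSyn (m.degree h) ≤ m.toSyn δ := m.degree_smul_le
      have hdeg_lt : m.toSyn (m.degree h) < s := by
        rw [← hs]
        rcases lt_or_eq_of_le hdeg_le with hlt | heq
        · exact hlt
        · exfalso
          have hdd : m.degree h = δ := m.toSyn.injective heq
          have hlc : m.leadingCoeff h = 0 := by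
            unfold MonomialOrder.leadingCoeff
            rw [hdd, hh, coeff_smul, smul_eq_mul]
            exact h0.symm
          exact hαne (m.leadingCoeff_eq_zero_iff.mp hlc)
      exact hαne (IH _ hdeg_lt h rfl hfh)
    -- conclude by primitivity
    have h1 : (1 : A) ∈ Ideal.span (Set.range f.coeff) := by rw [hf]; trivial
    have hkill : ∀ a ∈ Ideal.span (Set.range f.coeff), a • g = 0 := by
      intro a ha
      induction ha using Submodule.span_induction with
      | mem a ha =>
        obtain ⟨α, rfl⟩ := ha
        exact hall α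
      | zero => exact zero_smul _ _
      | add a b _ _ h1 h2 => rw [add_smul, h1, h2, add_zero]
      | smul c a _ h1 => rw [smul_eq_mul, mul_smul, h1, smul_zero]
    have := hkill 1 h1
    rwa [one_smul] at this

/-- relative version: if `f * g` has coefficients in `I` then so does `g`. -/
theorem keyI (f : MvPolynomial (Fin n) A) (hf : Ideal.span (Set.range f.coeff) = ⊤)
    (I : Ideal A) (g : MvPolynomial (Fin n) A) (hfg : f * g ∈ I.map (C : A →+* MvPolynomial (Fin n) A)) :
    g ∈ I.map (C : A →+* MvPolynomial (Fin n) A) := by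
  have hker : RingHom.ker (MvPolynomial.map (Ideal.Quotient.mk I) :
      MvPolynomial (Fin n) A →+* MvPolynomial (Fin n) (A ⧸ I)) =
      I.map (C : A →+* MvPolynomial (Fin n) A) := by
    rw [MvPolynomial.ker_map, Ideal.mk_ker]
  rw [← hker, RingHom.mem_ker] at hfg ⊢
  rw [map_mul] at hfg
  refine key0 (MvPolynomial.map (Ideal.Quotient.mk I) f) ?_ _ hfg
  have hrange : Set.range (MvPolynomial.map (Ideal.Quotient.mk I) f).coeff =
      (Ideal.Quotient.mk I) '' Set.range f.coeff := by
    ext y
    constructor
    · rintro ⟨α, rfl⟩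
      exact ⟨coeff α f, ⟨α, rfl⟩, (coeff_map _ _ _).symm⟩
    · rintro ⟨_, ⟨α, rfl⟩, rfl⟩
      exact ⟨α, coeff_map _ _ _⟩
  rw [hrange, ← Ideal.map_span, hf, Ideal.map_top]

theorem nzd (f : MvPolynomial (Fin n) A) (hf : Ideal.span (Set.range f.coeff) = ⊤) :
    f ∈ nonZeroDivisors (MvPolynomial (Fin n) A) := by
  rw [mem_nonZeroDivisors_iff]
  refine ⟨fun g hg => key0 f hf g hg, fun g hg => key0 f hf g ?_⟩
  rw [mul_comm]; exact hg

theorem lift_mulLeft (I : Ideal A) (p : MvPolynomial (Fin n) A)
    (y : I ⊗[A] MvPolynomial (Fin n) A) :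
    TensorProduct.lift ((LinearMap.lsmul A (MvPolynomial (Fin n) A)).comp I.subtype)
      (LinearMap.lTensor I (LinearMap.mulLeft A p) y) =
    p * TensorProduct.lift ((LinearMap.lsmul A (MvPolynomial (Fin n) A)).comp I.subtype) y := by
  induction y using TensorProduct.induction_on with
  | zero => simp
  | tmul a q => simp [mul_smul_comm]
  | add x y hx hy => simp only [map_add, hx, hy, mul_add]

/-- every element of `I[T]` comes from `I ⊗ A[T]` -/
theorem exists_tensor (I : Ideal A) (g : MvPolynomial (Fin n) A)
    (hg : g ∈ I.map (C : A →+* MvPolynomial (Fin n) A)) :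
    ∃ w : I ⊗[A] MvPolynomial (Fin n) A,
      TensorProduct.lift ((LinearMap.lsmul A (MvPolynomial (Fin n) A)).comp I.subtype) w = g := by
  unfold Ideal.map at hg
  induction hg using Submodule.span_induction with
  | mem g hg =>
    obtain ⟨a, ha, rfl⟩ := hg
    refine ⟨(⟨a, ha⟩ : I) ⊗ₜ 1, ?_⟩
    simp [Algebra.smul_def]
  | zero => exact ⟨0, map_zero _⟩
  | add g g' _ _ h1 h2 =>
    obtain ⟨w1, hw1⟩ := h1
    obtain ⟨w2, hw2⟩ := h2
    exact ⟨w1 + w2, by rw [map_add, hw1, hw2]⟩
  | smul p g _ h1 =>
    obtain ⟨w, hw⟩ := h1
    refine ⟨LinearMap.lTensor I (LinearMap.mulLeft A p) w, ?_⟩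
    rw [lift_mulLeft, hw, smul_eq_mul]

theorem flat (f : MvPolynomial (Fin n) A) (hf : Ideal.span (Set.range f.coeff) = ⊤) :
    Module.Flat A (MvPolynomial (Fin n) A ⧸ Ideal.span ({f} : Set (MvPolynomial (Fin n) A))) := by
  classical
  let mkQ : MvPolynomial (Fin n) A →ₗ[A]
      MvPolynomial (Fin n) A ⧸ Ideal.span ({f} : Set (MvPolynomial (Fin n) A)) :=
    (Ideal.Quotient.mkₐ A (Ideal.span ({f} : Set (MvPolynomial (Fin n) A)))).toLinearMap
  have hmkQ : Function.Surjective mkQ := Ideal.Quotient.mk_surjective
  rw [Module.Flat.iff_lift_lsmul_comp_subtype_injective]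
  intro I hI
  have hPflat : Module.Flat A (MvPolynomial (Fin n) A) := inferInstance
  have hφP := Module.Flat.iff_lift_lsmul_comp_subtype_injective.mp hPflat hI
  rw [injective_iff_map_eq_zero]
  intro z hz
  obtain ⟨z', rfl⟩ := LinearMap.lTensor_surjective I hmkQ z
  have hnat : ∀ y : I ⊗[A] MvPolynomial (Fin n) A,
      TensorProduct.lift ((LinearMap.lsmul A (MvPolynomial (Fin n) A ⧸
        Ideal.span ({f} : Set (MvPolynomial (Fin n) A)))).comp I.subtype)
        (LinearMap.lTensor I mkQ y) =
      mkQ (TensorProduct.lift ((LinearMap.lsmul A (MvPolynomial (Fin n) A)).comp I.subtype) y) := by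
    intro y
    induction y using TensorProduct.induction_on with
    | zero => simp
    | tmul a q => simp
    | add x y hx hy => simp only [map_add, hx, hy]
  rw [hnat] at hz
  have hzJ : TensorProduct.lift ((LinearMap.lsmul A (MvPolynomial (Fin n) A)).comp I.subtype) z' ∈
      Ideal.span ({f} : Set (MvPolynomial (Fin n) A)) := Ideal.Quotient.eq_zero_iff_mem.mp hz
  obtain ⟨g, hg⟩ := Ideal.mem_span_singleton'.mp hzJ
  have hzI : ∀ y : I ⊗[A] MvPolynomial (Fin n) A,
      TensorProduct.lift ((LinearMap.lsmul A (MvPolynomial (Fin n) A)).comp I.subtype) y ∈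
        I.map (C : A →+* MvPolynomial (Fin n) A) := by
    intro y
    induction y using TensorProduct.induction_on with
    | zero => simp
    | tmul a q =>
      simp only [TensorProduct.lift.tmul, LinearMap.coe_comp, Function.comp_apply,
        Submodule.coe_subtype, LinearMap.lsmul_apply]
      rw [Algebra.smul_def]
      exact Ideal.mul_mem_right _ _ (Ideal.mem_map_of_mem _ a.2)
    | add x y hx hy => rw [map_add]; exact Ideal.add_mem _ hx hy
  have hgI : g ∈ I.map (C : A →+* MvPolynomial (Fin n) A) := by
    apply keyI f hf I g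
    rw [mul_comm, hg]
    exact hzI z'
  obtain ⟨w, hw⟩ := exists_tensor I g hgI
  have hz'w : z' = LinearMap.lTensor I (LinearMap.mulLeft A f) w := by
    apply hφP
    rw [lift_mulLeft, hw, mul_comm, hg]
  rw [hz'w, ← LinearMap.comp_apply, ← LinearMap.lTensor_comp]
  have hzero : mkQ ∘ₗ LinearMap.mulLeft A f = 0 := by
    ext q
    simp only [LinearMap.coe_comp, Function.comp_apply, LinearMap.mulLeft_apply, LinearMap.zero_apply]
    exact Ideal.Quotient.eq_zero_iff_mem.mpr
      (Ideal.mul_mem_right _ _ (Ideal.mem_span_singleton_self f))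
  rw [hzero, LinearMap.lTensor_zero, LinearMap.zero_apply]

end Groth.Agent.H15.PrimNZD
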