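import Groth.Prelude.Def_Mor2
import Mathlib
set_option autoImplicit false
universe u
open CategoryTheory AlgebraicGeometry Limits
namespace Groth.Agent.H15.QAff
theorem qaff {X Y : Scheme.{u}} (f : X ⟶ Y) :
    IsFinite f ↔ IsProper f ∧ Mor2.IsQuasiAffine f := by
  constructor
  · intro hf
    refine ⟨inferInstance, inferInstance, fun V hV => ?_⟩
    have : IsAffine (f ⁻¹ᵁ V : Scheme.{u}) := hV.preimage f
    infer_instance
  · rintro ⟨hp, hqc, hqa⟩
    rw [IsFinite.iff_isProper_and_isAffineHom]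
    refine ⟨hp, ⟨fun V hV => ?_⟩⟩
    have hq := hqa V hV
    have hVaff : IsAffine V.toScheme := hV
    have hprop : IsProper (f ∣_ V) := inferInstance
    have h1 : UniversallyClosed ((f ⁻¹ᵁ V).toScheme.toSpecΓ ≫ Spec.map (f ∣_ V).appTop) := by
      rw [← Scheme.toSpecΓ_naturality]
      infer_instance
    have h2 : UniversallyClosed (f ⁻¹ᵁ V).toScheme.toSpecΓ :=
      .of_comp_of_isSeparated _ (Spec.map (f ∣_ V).appTop)
    have h3 : IsIso (f ⁻¹ᵁ V).toScheme.toSpecΓ :=
      (isIso_iff_isOpenImmersion_and_surjective _).mpr ⟨inferInstance, inferInstance⟩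
    exact IsAffine.of_isIso (f ⁻¹ᵁ V).toScheme.toSpecΓ
end Groth.Agent.H15.QAff
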