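import Groth.Prelude.Def_W4c1limliniiiiRamP1
import Mathlib
set_option autoImplicit false
universe u
open Polynomial

namespace Groth.Agent.H15.RamP1

theorem ramInf (k : Type u) [Field k] [IsAlgClosed k] (F G : k[X]) (hlt : G.natDegree < F.natDegree)
    (hV : W4c1limliniiii.IsPencil F.natDegree (Submodule.span k {F, G})) :
    W4c1limliniiii.HasRamIdxInf F.natDegree (Submodule.span k {F, G}) (F.natDegree - G.natDegree) := by
  obtain ⟨_, hrank, _, _⟩ := hV
  have hG0 : G ≠ 0 := by
    intro h0
    rw [h0] at hrank
    have h1 : Submodule.span k ({F, 0} : Set k[X]) = Submodule.span k {F} := by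
      apply le_antisymm
      · rw [Submodule.span_le]
        rintro x (rfl | rfl)
        · exact Submodule.subset_span rfl
        · exact Submodule.zero_mem _
      · exact Submodule.span_mono (by simp)
    rw [h1] at hrank
    have := finrank_span_le_card (R := k) ({F} : Set k[X])
    simp at this
    omega
  refine ⟨⟨G, Submodule.subset_span (by simp), hG0, by omega⟩, ?_⟩
  intro s hs hs0
  rw [Submodule.mem_span_pair] at hs
  obtain ⟨α, β, rfl⟩ := hs
  by_cases hα : α = 0
  · subst hα
    rw [zero_smul, zero_add] at hs0 ⊢
    have hβ : β ≠ 0 := by rintro rfl; simp at hs0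
    rw [Polynomial.natDegree_smul _ hβ]
    omega
  · have h1 : (α • F).natDegree = F.natDegree := Polynomial.natDegree_smul _ hα
    have h2 : (β • G).natDegree ≤ G.natDegree := Polynomial.natDegree_smul_le _ _
    have h3 : (α • F + β • G).natDegree = (α • F).natDegree :=
      Polynomial.natDegree_add_eq_left_of_natDegree_lt (by omega)
    rw [h3, h1]
    omega

end Groth.Agent.H15.RamP1
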