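import Mathlib
import Groth.Agent.H15.RegPS
import Groth.Agent.H15.RegLift
import Groth.Agent.H15.PSEval

universe u

open CategoryTheory IsLocalRing ArtFun ArtFun.Art MvPowerSeries

namespace Groth.Agent.H15.RegComplete

variable {k : Type u} [Field k]

section
variable (A : Type u) [CommRing A] [Algebra k A] [IsLocalRing A] [IsNoetherianRing A]
  [hc : IsAdicComplete (maximalIdeal A) A] (π : A →ₐ[k] k)

/-- the complete local ring as a `CRing` -/
def toCRing : CRing k k where
  carrier := A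
  res := π
  res_surjective := fun c => ⟨algebraMap k A c, by rw [AlgHom.commutes]; rfl⟩
  isAdicComplete := hc

instance [h : IsRegularLocalRing A] : IsRegularLocalRing (toCRing A π).carrier := h

include π in
theorem lift_of_regular [IsRegularLocalRing A]
    (R : Type u) [CommRing R] [Algebra k R] [IsArtinianRing R] [IsLocalRing R] (J : Ideal R)
    (f : A →ₐ[k] R ⧸ J) (hf : IsLocalHom (f : A →+* R ⧸ J)) :
    ∃ g : A →ₐ[k] R, (Ideal.Quotient.mkₐ k J).comp g = f := by
  classical
  obtain ⟨n, ⟨e⟩⟩ := Groth.Agent.H15.RegPS.exists_ps_of_regular (toCRing A π)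
  change A ≃ₐ[k] MvPowerSeries (Fin n) k at e
  let f' : MvPowerSeries (Fin n) k →ₐ[k] R ⧸ J := f.comp (e.symm : _ →ₐ[k] A)
  have hXnu : ∀ i, ¬ IsUnit (X i : MvPowerSeries (Fin n) k) := by
    intro i hu
    have := (MvPowerSeries.isUnit_iff_constantCoeff).mp hu
    rw [constantCoeff_X] at this
    exact not_isUnit_zero this
  have hnu : ∀ i, ¬ IsUnit (f' (X i)) := by
    intro i hu
    have h1 : IsUnit (e.symm (X i)) := hf.map_nonunit _ hu
    have h2 : IsUnit (e (e.symm (X i))) := h1.map e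
    rw [AlgEquiv.apply_symm_apply] at h2
    exact hXnu i h2
  choose s hs using fun i => Ideal.Quotient.mk_surjective (I := J) (f' (X i))
  have hsm : ∀ i, s i ∈ maximalIdeal R := by
    intro i
    rw [mem_maximalIdeal, mem_nonunits_iff]
    intro hu
    apply hnu i
    rw [← hs i]
    exact hu.map (Ideal.Quotient.mk J)
  obtain ⟨N, hN⟩ : ∃ N : ℕ, maximalIdeal R ^ N = ⊥ := by
    have := IsArtinianRing.isNilpotent_jacobson_bot (R := R)
    rw [IsLocalRing.jacobson_eq_maximalIdeal ⊥ bot_ne_top] at this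
    obtain ⟨N, hN⟩ := this
    exact ⟨N, by rw [hN, Ideal.zero_eq_bot]⟩
  have hN' : Ideal.span (Set.range s) ^ N = ⊥ := by
    rw [eq_bot_iff, ← hN]
    refine Ideal.pow_right_mono ?_ N
    rw [Ideal.span_le]
    rintro _ ⟨i, rfl⟩
    exact hsm i
  obtain ⟨g₀, hC, hX⟩ := Groth.Agent.H15.PSEval.exists_eval (algebraMap k R) s N hN'
  let g₁ : MvPowerSeries (Fin n) k →ₐ[k] R :=
    { g₀ with
      commutes' := fun c => by
        change g₀ (algebraMap k (MvPowerSeries (Fin n) k) c) = _
        rw [MvPowerSeries.algebraMap_apply, hC]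
        rfl }
  have hg₁C : ∀ a, g₁ (C a) = algebraMap k R a := hC
  have hg₁X : ∀ i, g₁ (X i) = s i := hX
  have hagree : (((Ideal.Quotient.mkₐ k J).comp g₁ : MvPowerSeries (Fin n) k →ₐ[k] R ⧸ J) :
      MvPowerSeries (Fin n) k →+* R ⧸ J) = (f' : MvPowerSeries (Fin n) k →+* R ⧸ J) := by
    refine Groth.Agent.H15.PSEval.ringHom_ext_nilp _ _ ?_ ?_ N ?_
    · intro a
      change Ideal.Quotient.mk J (g₁ (C a)) = f' (C a)
      rw [hg₁C]
      have : (C a : MvPowerSeries (Fin n) k) = algebraMap k _ a := by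
        rw [MvPowerSeries.algebraMap_apply]; rfl
      rw [this, AlgHom.commutes]
      rfl
    · intro i
      change Ideal.Quotient.mk J (g₁ (X i)) = f' (X i)
      rw [hg₁X, hs]
    · have : (Set.range fun i => (((Ideal.Quotient.mkₐ k J).comp g₁ :
          MvPowerSeries (Fin n) k →ₐ[k] R ⧸ J) : MvPowerSeries (Fin n) k →+* R ⧸ J) (X i)) =
          (Ideal.Quotient.mk J) '' Set.range s := by
        ext y
        constructor
        · rintro ⟨i, rfl⟩
          exact ⟨s i, ⟨i, rfl⟩, by
            change _ = Ideal.Quotient.mk J (g₁ (X i))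
            rw [hg₁X]⟩
        · rintro ⟨_, ⟨i, rfl⟩, rfl⟩
          exact ⟨i, by
            change Ideal.Quotient.mk J (g₁ (X i)) = _
            rw [hg₁X]⟩
      rw [this, ← Ideal.map_span, ← Ideal.map_pow, hN', Ideal.map_bot]
  refine ⟨g₁.comp (e : A →ₐ[k] _), ?_⟩
  apply AlgHom.ext
  intro a
  have h1 := DFunLike.congr_fun hagree (e a)
  change Ideal.Quotient.mk J (g₁ (e a)) = f (e.symm (e a)) at h1
  rw [AlgEquiv.symm_apply_apply] at h1
  exact h1

theorem regular_of_lift (hπ : RingHom.ker π = maximalIdeal A)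
    (h : ∀ (R : Type u) [CommRing R] [Algebra k R] [IsArtinianRing R] [IsLocalRing R] (J : Ideal R),
        J ^ 2 = ⊥ → ∀ f : A →ₐ[k] R ⧸ J, IsLocalHom (f : A →+* R ⧸ J) →
          ∃ g : A →ₐ[k] R, (Ideal.Quotient.mkₐ k J).comp g = f) :
    IsRegularLocalRing A := by
  have hlift : ∀ {C' C : Art k k} (p : C' ⟶ C) (_ : IsSemismallExt p) (u : HomSet A π C),
      ∃ u' : HomSet A π C', HomSet.map p u' = u := by
    intro C' C p hp u
    have hJ : RingHom.ker p.toAlgHom ^ 2 = ⊥ := by
      rw [pow_two, eq_bot_iff, ← hp.2]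
      exact Ideal.mul_mono_left (Groth.Agent.H15.ArtEps.ker_le_maximalIdeal p)
    let e := Ideal.quotientKerAlgEquivOfSurjective (f := p.toAlgHom) hp.1
    let f0 : A →ₐ[k] C' ⧸ RingHom.ker p.toAlgHom := (e.symm : C →ₐ[k] _).comp u.1
    have hloc : IsLocalHom (f0 : A →+* C' ⧸ RingHom.ker p.toAlgHom) := by
      constructor
      intro a ha
      by_contra hna
      have ham : a ∈ maximalIdeal A := hna
      rw [← hπ, RingHom.mem_ker] at ham
      have h1 : C.res (u.1 a) = 0 := by
        have := DFunLike.congr_fun u.2 a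
        change C.res (u.1 a) = π a at this
        rw [this, ham]
      have h2 : u.1 a ∈ maximalIdeal C := (Art.mem_maximalIdeal_iff _ _).2 h1
      have ha' : IsUnit (e.symm (u.1 a)) := ha
      have h3 : IsUnit (e (e.symm (u.1 a))) := ha'.map e
      rw [AlgEquiv.apply_symm_apply] at h3
      exact h2 h3
    obtain ⟨g, hg⟩ := h C' (RingHom.ker p.toAlgHom) hJ f0 hloc
    refine ⟨⟨g, Groth.Agent.H15.RegLift.algHom_unique _ _⟩, ?_⟩
    apply Subtype.ext
    apply AlgHom.ext
    intro a
    have h1 := DFunLike.congr_fun hg a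
    change Ideal.Quotient.mk _ (g a) = e.symm (u.1 a) at h1
    change p.toAlgHom (g a) = u.1 a
    have h2 : e (Ideal.Quotient.mk _ (g a)) = p.toAlgHom (g a) := rfl
    rw [← h2, h1, AlgEquiv.apply_symm_apply]
  let T : ObsTheory (hR A π) PUnit.{u + 1} :=
    { obs := fun _ _ _ => 0
      obs_eq_zero_iff := fun p hp u => ⟨fun _ => hlift p hp u, fun _ => rfl⟩
      obs_quot := fun p hp K hK hKJ hq u => (map_zero _).symm }
  exact (Groth.Agent.H15.ObsDim.dim_bounds (toCRing A π) T).2.2.1
    (Module.finrank_zero_of_subsingleton)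

end

theorem main (k A : Type u) [Field k]
    [CommRing A] [Algebra k A] [IsLocalRing A] [IsNoetherianRing A]
    [IsAdicComplete (IsLocalRing.maximalIdeal A) A]
    (π : A →ₐ[k] k) (hπ : RingHom.ker π = IsLocalRing.maximalIdeal A) :
    IsRegularLocalRing A ↔
      ∀ (R : Type u) [CommRing R] [Algebra k R] [IsArtinianRing R] [IsLocalRing R] (J : Ideal R),
        J ^ 2 = ⊥ → ∀ f : A →ₐ[k] R ⧸ J, IsLocalHom (f : A →+* R ⧸ J) →
          ∃ g : A →ₐ[k] R, (Ideal.Quotient.mkₐ k J).comp g = f := by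
  constructor
  · intro hreg R _ _ _ _ J _ f hf
    exact lift_of_regular A π R J f hf
  · intro h
    exact regular_of_lift A π hπ h

end Groth.Agent.H15.RegComplete
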