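import Mathlib
import Groth.Prelude.Def_FrobAlg

namespace Groth.Agent.H15.RelFrobCompl

open FrobAlg

universe u
variable (p : ℕ) [Fact p.Prime] (A : Type u) [CommRing A] [CharP A p]

/-- identity `Twist p A → A` as a Frobenius-semilinear map -/
def θ : Twist p A →ₛₗ[frobenius A p] A where
  toFun := (toTwist p A).symm
  map_add' := map_add _
  map_smul' a t := by
    show (toTwist p A).symm (a • t) = frobenius A p a * (toTwist p A).symm t
    rw [Algebra.smul_def, map_mul, algebraMap_twist, RingEquiv.symm_apply_apply, frobenius_def]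

lemma θ_apply (t : Twist p A) : θ p A t = (toTwist p A).symm t := rfl

lemma θ_toTwist (a : A) : θ p A (toTwist p A a) = a := rfl

variable (I : Ideal A)

lemma filt_le (n : ℕ) :
    (I ^ n • ⊤ : Submodule A (Twist p A)) ≤ (I ^ n • ⊤ : Submodule A A).comap (θ p A) := by
  rw [Submodule.smul_le]
  intro r hr t _
  rw [Submodule.mem_comap, map_smulₛₗ, smul_eq_mul, smul_eq_mul, Ideal.mul_top, frobenius_def]
  exact Ideal.mul_mem_right _ _ (Ideal.pow_mem_of_mem _ hr p (Fact.out : p.Prime).pos)

lemma mul_mem_filt (n : ℕ) (c t : Twist p A) (ht : t ∈ (I ^ n • ⊤ : Submodule A (Twist p A))) :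
    c * t ∈ (I ^ n • ⊤ : Submodule A (Twist p A)) := by
  refine Submodule.smul_induction_on ht ?_ ?_
  · intro r hr t' _
    rw [mul_smul_comm]
    exact Submodule.smul_mem_smul hr trivial
  · intro x y hx hy
    rw [mul_add]
    exact Submodule.add_mem _ hx hy

/-- the ideal of `A` corresponding to `I ^ n • ⊤` in the twist -/
def Jn (n : ℕ) : Ideal A where
  carrier := {a | toTwist p A a ∈ (I ^ n • ⊤ : Submodule A (Twist p A))}
  add_mem' := fun {a b} ha hb => by
    show toTwist p A (a + b) ∈ (I ^ n • ⊤ : Submodule A (Twist p A))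
    rw [map_add]
    exact Submodule.add_mem _ ha hb
  zero_mem' := by
    show toTwist p A 0 ∈ (I ^ n • ⊤ : Submodule A (Twist p A))
    rw [map_zero]
    exact Submodule.zero_mem _
  smul_mem' := fun c a ha => by
    show toTwist p A (c • a) ∈ (I ^ n • ⊤ : Submodule A (Twist p A))
    rw [smul_eq_mul, map_mul]
    exact mul_mem_filt p A I n _ _ ha

lemma map_frob_le_Jn (n : ℕ) : Ideal.map (frobenius A p) (I ^ n) ≤ Jn p A I n := by
  rw [Ideal.map_le_iff_le_comap]
  intro x hx
  show toTwist p A (frobenius A p x) ∈ (I ^ n • ⊤ : Submodule A (Twist p A))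
  have : toTwist p A (frobenius A p x) = x • (1 : Twist p A) := by
    rw [Algebra.smul_def, mul_one, algebraMap_twist, frobenius_def]
  rw [this]
  exact Submodule.smul_mem_smul hx trivial

lemma exists_filt_ge [IsNoetherianRing A] :
    ∃ N : ℕ, ∀ (n : ℕ) (t : Twist p A), θ p A t ∈ I ^ (N * n) →
      t ∈ (I ^ n • ⊤ : Submodule A (Twist p A)) := by
  have hrad : I ≤ (Ideal.map (frobenius A p) I).radical := by
    intro a ha
    refine ⟨p, ?_⟩
    rw [← frobenius_def]
    exact Ideal.mem_map_of_mem _ ha
  obtain ⟨N, hN⟩ := Ideal.exists_pow_le_of_le_radical_of_fg hrad (IsNoetherian.noetherian I)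
  refine ⟨N, fun n t ht => ?_⟩
  have h1 : I ^ (N * n) ≤ Ideal.map (frobenius A p) (I ^ n) := by
    rw [pow_mul, Ideal.map_pow]
    exact Ideal.pow_right_mono hN n
  have h2 := map_frob_le_Jn p A I n (h1 ht)
  exact h2

/-- induced map on quotients -/
noncomputable def q (n : ℕ) : (Twist p A ⧸ (I ^ n • ⊤ : Submodule A (Twist p A))) →ₛₗ[frobenius A p]
    (A ⧸ (I ^ n • ⊤ : Submodule A A)) :=
  Submodule.mapQ _ _ (θ p A) (filt_le p A I n)

lemma q_mk (n : ℕ) (t : Twist p A) :
    q p A I n (Submodule.Quotient.mk t) = Submodule.Quotient.mk (θ p A t) := rfl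

/-- comparison map between the two completions -/
noncomputable def ψ : AdicCompletion I (Twist p A) → AdicCompletion I A := fun x =>
  ⟨fun n => q p A I n (x.val n), by
    intro m n hmn
    show AdicCompletion.transitionMap I A hmn (q p A I n (x.val n)) = q p A I m (x.val m)
    have hx := x.property hmn
    rw [← hx]
    generalize x.val n = y
    induction y using Submodule.Quotient.induction_on with
    | _ t => rfl⟩

lemma ψ_val (x : AdicCompletion I (Twist p A)) (n : ℕ) :
    (ψ p A I x).val n = q p A I n (x.val n) := rfl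

lemma ψ_add (x y : AdicCompletion I (Twist p A)) :
    ψ p A I (x + y) = ψ p A I x + ψ p A I y := by
  apply AdicCompletion.ext
  intro n
  rw [AdicCompletion.val_add_apply, ψ_val, ψ_val, ψ_val, AdicCompletion.val_add_apply, map_add]

lemma ψ_zero : ψ p A I 0 = 0 := by
  apply AdicCompletion.ext
  intro n
  rw [ψ_val, AdicCompletion.val_zero_apply, AdicCompletion.val_zero_apply, map_zero]

lemma ψ_injective [IsNoetherianRing A] : Function.Injective (ψ p A I) := by
  obtain ⟨N, hN⟩ := exists_filt_ge p A I
  intro x y hxy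
  apply AdicCompletion.ext
  intro n
  have hm : n ≤ N * n + n := Nat.le_add_left _ _
  obtain ⟨t, ht⟩ := Submodule.Quotient.mk_surjective _ (x.val (N * n + n))
  obtain ⟨t', ht'⟩ := Submodule.Quotient.mk_surjective _ (y.val (N * n + n))
  have h1 : q p A I (N * n + n) (x.val (N * n + n)) = q p A I (N * n + n) (y.val (N * n + n)) := by
    rw [← ψ_val, ← ψ_val, hxy]
  rw [← ht, ← ht', q_mk, q_mk] at h1
  have h2 : θ p A t - θ p A t' ∈ (I ^ (N * n + n) • ⊤ : Submodule A A) :=
    (Submodule.Quotient.eq _).mp h1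
  rw [smul_eq_mul, Ideal.mul_top] at h2
  have h3 : θ p A (t - t') ∈ I ^ (N * n) := by
    rw [map_sub]
    exact Ideal.pow_le_pow_right (Nat.le_add_right _ _) h2
  have h4 := hN n (t - t') h3
  rw [← x.property hm, ← y.property hm, ← ht, ← ht']
  show (Submodule.Quotient.mk t : Twist p A ⧸ (I ^ n • ⊤ : Submodule A (Twist p A))) =
    Submodule.Quotient.mk t'
  exact (Submodule.Quotient.eq _).mpr h4

lemma ψ_surjective [IsNoetherianRing A] : Function.Surjective (ψ p A I) := by
  obtain ⟨N, hN⟩ := exists_filt_ge p A I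
  intro y
  obtain ⟨a, rfl⟩ := AdicCompletion.mk_surjective I A y
  have hc : AdicCompletion.IsAdicCauchy I (Twist p A)
      (fun n => toTwist p A (a (N * n + n))) := by
    intro m n hmn
    rw [SModEq.sub_mem]
    apply hN m
    rw [map_sub, θ_toTwist, θ_toTwist]
    have hle : N * m + m ≤ N * n + n := Nat.add_le_add (Nat.mul_le_mul_left N hmn) hmn
    have := a.property hle
    rw [SModEq.sub_mem, smul_eq_mul, Ideal.mul_top] at this
    exact Ideal.pow_le_pow_right (Nat.le_add_right _ _) this
  refine ⟨AdicCompletion.mk I (Twist p A) ⟨_, hc⟩, ?_⟩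
  apply AdicCompletion.ext
  intro n
  show q p A I n (Submodule.Quotient.mk (toTwist p A (a (N * n + n)))) =
    Submodule.Quotient.mk (a n)
  rw [q_mk, θ_toTwist]
  exact a.mk_eq_mk (Nat.le_add_left n (N * n))

lemma val_pow (b : AdicCompletion I A) (k n : ℕ) : (b ^ k).val n = (b.val n) ^ k := by
  induction k with
  | zero => rw [pow_zero, pow_zero, AdicCompletion.val_one]
  | succ k ih => rw [pow_succ, pow_succ, AdicCompletion.val_mul, ih]

open TensorProduct in
lemma relFrob_eq [CharP (AdicCompletion I A) p] (z : BaseChange p A (AdicCompletion I A)) :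
    relFrob p A (AdicCompletion I A) z =
      ψ p A I (AdicCompletion.ofTensorProduct I (Twist p A) z) := by
  induction z using TensorProduct.induction_on with
  | zero => rw [map_zero, map_zero, ψ_zero]
  | add x y hx hy => rw [map_add, map_add, ψ_add, hx, hy]
  | tmul b t =>
    rw [AdicCompletion.ofTensorProduct_tmul]
    have h1 : relFrob p A (AdicCompletion I A) (b ⊗ₜ t) =
        b ^ p * algebraMap A (AdicCompletion I A) ((toTwist p A).symm t) := by
      simp [relFrob, frobHom, inclHom, Algebra.TensorProduct.lift_tmul]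
      rfl
    rw [h1]
    apply AdicCompletion.ext
    intro n
    rw [ψ_val, AdicCompletion.smul_eval]
    obtain ⟨β, hβ⟩ := Ideal.Quotient.mk_surjective (b.val n)
    rw [AdicCompletion.val_mul, val_pow, ← hβ, AdicCompletion.algebraMap_apply,
      AdicCompletion.of_apply, AdicCompletion.of_apply]
    show (Ideal.Quotient.mk _ β) ^ p * Ideal.Quotient.mk _ ((toTwist p A).symm t) =
      q p A I n (β • Submodule.Quotient.mk t)
    rw [← Submodule.Quotient.mk_smul, q_mk, map_smulₛₗ, ← map_pow, ← map_mul]
    rfl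

theorem main (p : ℕ) [Fact p.Prime] (A : Type u) [CommRing A] [IsRegularLocalRing A] [CharP A p]
    (hF : (frobenius A p).Finite) (I : Ideal A) [CharP (AdicCompletion I A) p] :
    Function.Bijective (FrobAlg.relFrob p A (AdicCompletion I A)) := by
  have hN : IsNoetherianRing A := inferInstance
  have hfin : Module.Finite A (Twist p A) := hF
  have hb := AdicCompletion.ofTensorProduct_bijective_of_finite_of_isNoetherian I (Twist p A)
  have heq : ⇑(relFrob p A (AdicCompletion I A)) =
      ψ p A I ∘ (AdicCompletion.ofTensorProduct I (Twist p A)) := funext (relFrob_eq p A I)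
  rw [heq]
  exact ⟨(ψ_injective p A I).comp hb.1, (ψ_surjective p A I).comp hb.2⟩

end Groth.Agent.H15.RelFrobCompl
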