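import Mathlib
set_option autoImplicit false
universe u

namespace Groth.Agent.H15.Schanuel

theorem schanuel {R M P₁ P₂ : Type u} [CommRing R] [AddCommGroup M] [Module R M] [AddCommGroup P₁] [Module R P₁]
    [Module.Projective R P₁] [AddCommGroup P₂] [Module R P₂] [Module.Projective R P₂] (p₁ : P₁ →ₗ[R] M) (p₂ : P₂ →ₗ[R] M)
    (h₁ : Function.Surjective p₁) (h₂ : Function.Surjective p₂) :
    Nonempty ((LinearMap.ker p₁ × P₂) ≃ₗ[R] (LinearMap.ker p₂ × P₁)) := by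
  obtain ⟨t, ht⟩ := Module.projective_lifting_property p₂ p₁ h₂
  obtain ⟨t', ht'⟩ := Module.projective_lifting_property p₁ p₂ h₁
  have ht1 : ∀ a, p₂ (t a) = p₁ a := fun a => LinearMap.congr_fun ht a
  have ht2 : ∀ b, p₁ (t' b) = p₂ b := fun b => LinearMap.congr_fun ht' b
  let a : (LinearMap.ker p₁ × P₂) →ₗ[R] P₁ :=
    (LinearMap.ker p₁).subtype ∘ₗ LinearMap.fst R _ _ + t' ∘ₗ LinearMap.snd R _ _
  let F1 : (LinearMap.ker p₁ × P₂) →ₗ[R] P₂ := LinearMap.snd R _ _ - t ∘ₗ a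
  have hF1 : ∀ x, F1 x ∈ LinearMap.ker p₂ := by
    rintro ⟨⟨k, hk⟩, b⟩
    rw [LinearMap.mem_ker] at hk ⊢
    simp [F1, a, ht1, ht2, hk]
  let F : (LinearMap.ker p₁ × P₂) →ₗ[R] (LinearMap.ker p₂ × P₁) :=
    (F1.codRestrict (LinearMap.ker p₂) hF1).prod a
  let b : (LinearMap.ker p₂ × P₁) →ₗ[R] P₂ :=
    (LinearMap.ker p₂).subtype ∘ₗ LinearMap.fst R _ _ + t ∘ₗ LinearMap.snd R _ _
  let G1 : (LinearMap.ker p₂ × P₁) →ₗ[R] P₁ := LinearMap.snd R _ _ - t' ∘ₗ b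
  have hG1 : ∀ x, G1 x ∈ LinearMap.ker p₁ := by
    rintro ⟨⟨k, hk⟩, c⟩
    rw [LinearMap.mem_ker] at hk ⊢
    simp [G1, b, ht1, ht2, hk]
  let G : (LinearMap.ker p₂ × P₁) →ₗ[R] (LinearMap.ker p₁ × P₂) :=
    (G1.codRestrict (LinearMap.ker p₁) hG1).prod b
  refine ⟨LinearEquiv.ofLinearMap F G ?_ ?_⟩
  · apply LinearMap.ext
    rintro ⟨⟨k, hk⟩, c⟩
    apply Prod.ext
    · apply Subtype.ext
      simp [F, G, F1, G1, a, b]
    · simp [F, G, F1, G1, a, b]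
  · apply LinearMap.ext
    rintro ⟨⟨k, hk⟩, c⟩
    apply Prod.ext
    · apply Subtype.ext
      simp [F, G, F1, G1, a, b]
    · simp [F, G, F1, G1, a, b]

end Groth.Agent.H15.Schanuel
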