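import Mathlib

namespace Groth.Agent.H15.SemiLocBasis

universe u

open Submodule

/-- a module over a local ring with infinite residue field is not a finite union of proper
submodules containing `𝔪 N`. -/
theorem exists_avoid {B N : Type*} [CommRing B] [IsLocalRing B] [Infinite (IsLocalRing.ResidueField B)]
    [AddCommGroup N] [Module B N]
    {ι : Type*} [Finite ι] (P : ι → Submodule B N) (hP : ∀ i, P i ≠ ⊤) :
    ∃ n : N, ∀ i, n ∉ P i := by
  classical
  by_contra h
  push Not at h
  have := Fintype.ofFinite ι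
  have hcov : ⋃ i ∈ (Finset.univ : Finset ι), (P i : Set N) = Set.univ := by
    ext n
    simp only [Finset.mem_univ, Set.iUnion_true, Set.mem_iUnion, SetLike.mem_coe, Set.mem_univ,
      iff_true]
    exact h n
  obtain ⟨k, _, hfi⟩ := Submodule.exists_finiteIndex_of_cover hcov
  have hfin : Finite (N ⧸ P k) := AddSubgroup.finite_quotient_of_finiteIndex
  obtain ⟨x, hx⟩ : ∃ x, x ∉ P k := by
    by_contra hcon
    push Not at hcon
    exact hP k (eq_top_iff.2 fun x _ => hcon x)
  let f : IsLocalRing.ResidueField B → N ⧸ P k := fun c => Submodule.Quotient.mk ((Quotient.out c : B) • x)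
  have hf : Function.Injective f := by
    intro c c' hcc
    have h1 : (Quotient.out c : B) • x - (Quotient.out c' : B) • x ∈ P k :=
      (Submodule.Quotient.eq (P k)).1 hcc
    rw [← sub_smul] at h1
    have h2 : (Quotient.out c : B) - Quotient.out c' ∈ IsLocalRing.maximalIdeal B := by
      by_contra hnm
      have hu : IsUnit ((Quotient.out c : B) - Quotient.out c') := by
        by_contra hnu
        exact hnm ((IsLocalRing.mem_maximalIdeal _).2 hnu)
      obtain ⟨u, hu⟩ := hu
      have : x = (↑u⁻¹ : B) • (((Quotient.out c : B) - Quotient.out c') • x) := by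
        rw [← hu, smul_smul, Units.inv_mul, one_smul]
      exact hx (this ▸ (P k).smul_mem _ h1)
    have h3 : IsLocalRing.residue B (Quotient.out c) = IsLocalRing.residue B (Quotient.out c') := by
      rw [← sub_eq_zero, ← map_sub]
      exact (IsLocalRing.residue_eq_zero_iff _).2 h2
    have hc : IsLocalRing.residue B (Quotient.out c) = c := Quotient.out_eq c
    have hc' : IsLocalRing.residue B (Quotient.out c') = c' := Quotient.out_eq c'
    rw [hc, hc'] at h3
    exact h3
  exact not_finite_iff_infinite.2 (Infinite.of_injective f hf) hfin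

section perMax
variable {A B M K V : Type*} [CommRing A] [CommRing B] [AddCommGroup M] [Module A M]
  [Module B M] [Field K] [Algebra A K] [AddCommGroup V] [Module K V]
  [Module A V] [IsScalarTower A K V]

theorem not_all_mem (ψ : M →ₗ[A] V) (hψ : Function.Surjective ψ) (N : Submodule B M)
    (hN : Submodule.span A (N : Set M) = ⊤) {j : ℕ} (v : Fin j → V) [FiniteDimensional K V]
    (hj : j < Module.finrank K V) :
    ¬ ∀ n ∈ N, ψ n ∈ Submodule.span K (Set.range v) := by
  intro hall
  have hM : ∀ x : M, ψ x ∈ Submodule.span K (Set.range v) := by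
    intro x
    have hx : x ∈ Submodule.span A (N : Set M) := hN ▸ Submodule.mem_top
    induction hx using Submodule.span_induction with
    | mem x hx => exact hall x hx
    | zero => rw [map_zero]; exact Submodule.zero_mem _
    | add a b _ _ ha hb => rw [map_add]; exact Submodule.add_mem _ ha hb
    | smul a x _ hx =>
      rw [map_smul, ← algebraMap_smul K a (ψ x)]
      exact Submodule.smul_mem _ _ hx
  have htop : Submodule.span K (Set.range v) = ⊤ := by
    rw [eq_top_iff]
    intro y _
    obtain ⟨x, rfl⟩ := hψ y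
    exact hM x
  have h1 : Module.finrank K V ≤ j := by
    have := finrank_range_le_card (R := K) v
    rw [Set.finrank, htop, finrank_top, Fintype.card_fin] at this
    exact this
  omega

end perMax

theorem main {B A M : Type u} [CommRing B] [CommRing A]
    [IsLocalRing B] [Infinite (IsLocalRing.ResidueField B)] [Algebra B A]
    [Finite (MaximalSpectrum A)]
    [AddCommGroup M] [Module A M] [Module B M] [IsScalarTower B A M]
    [Module.Free A M] [Module.Finite A M]
    (N : Submodule B M) (hN : Submodule.span A (N : Set M) = ⊤) :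
    ∃ b : Module.Basis (Fin (Module.finrank A M)) A M, ∀ i, b i ∈ N := by
  classical
  rcases subsingleton_or_nontrivial A with hA | hA
  · have hMs : Subsingleton M := Module.subsingleton A M
    have hli : LinearIndependent A (fun _ : Fin (Module.finrank A M) => (0 : M)) := by
      unfold LinearIndependent
      exact Function.injective_of_subsingleton _
    have hsp : ⊤ ≤ Submodule.span A (Set.range (fun _ : Fin (Module.finrank A M) => (0 : M))) := by
      intro x _
      rw [Subsingleton.elim x 0]
      exact Submodule.zero_mem _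
    refine ⟨Module.Basis.mk hli hsp, fun i => ?_⟩
    rw [Subsingleton.elim (Module.Basis.mk hli hsp i) (0 : M)]
    exact N.zero_mem
  set r := Module.finrank A M with hr
  let e : Module.Basis (Fin r) A M := Module.finBasis A M
  -- per maximal ideal data
  have hmaxI : ∀ 𝔪 : MaximalSpectrum A, 𝔪.asIdeal.IsMaximal := fun 𝔪 => 𝔪.isMaximal
  let ψ : ∀ 𝔪 : MaximalSpectrum A, M →ₗ[A] (Fin r → A ⧸ 𝔪.asIdeal) := fun 𝔪 =>
    LinearMap.pi fun i => (Submodule.mkQ 𝔪.asIdeal) ∘ₗ (e.coord i)
  have hψapp : ∀ 𝔪 x i, ψ 𝔪 x i = Ideal.Quotient.mk 𝔪.asIdeal (e.repr x i) := fun 𝔪 x i => rfl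
  have hψsurj : ∀ 𝔪, Function.Surjective (ψ 𝔪) := by
    intro 𝔪 y
    have : ∀ i, ∃ a : A, Ideal.Quotient.mk 𝔪.asIdeal a = y i := fun i =>
      Ideal.Quotient.mk_surjective (y i)
    choose a ha using this
    refine ⟨∑ i, a i • e i, ?_⟩
    ext i
    rw [hψapp, ← ha i]
    congr 1
    simp [Finsupp.single_apply]
  -- key induction
  have hind : ∀ j : ℕ, j ≤ r → ∃ v : Fin j → M, (∀ i, v i ∈ N) ∧
      ∀ 𝔪 : MaximalSpectrum A,
        letI := @Ideal.Quotient.field A _ 𝔪.asIdeal (hmaxI 𝔪)
        LinearIndependent (A ⧸ 𝔪.asIdeal) (fun i => ψ 𝔪 (v i)) := by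
    intro j
    induction j with
    | zero =>
      intro _
      exact ⟨Fin.elim0, fun i => i.elim0, fun 𝔪 => linearIndependent_empty_type⟩
    | succ j ih =>
      intro hj
      obtain ⟨v, hvN, hvLI⟩ := ih (by omega)
      -- the bad submodules
      let P : MaximalSpectrum A → Submodule B N := fun 𝔪 =>
        letI := @Ideal.Quotient.field A _ 𝔪.asIdeal (hmaxI 𝔪)
        { carrier := {n | ψ 𝔪 (n : M) ∈ Submodule.span (A ⧸ 𝔪.asIdeal) (Set.range fun i => ψ 𝔪 (v i))}
          add_mem' := by
            intro a b ha hb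
            simp only [Set.mem_ofPred_eq] at ha hb ⊢
            rw [Submodule.coe_add, map_add]
            exact Submodule.add_mem _ ha hb
          zero_mem' := by
            simp only [Set.mem_ofPred_eq, ZeroMemClass.coe_zero, map_zero]
            exact Submodule.zero_mem _
          smul_mem' := by
            intro b n hn
            simp only [Set.mem_ofPred_eq] at hn ⊢
            rw [Submodule.coe_smul, ← algebraMap_smul A b (n : M), map_smul,
              ← algebraMap_smul (A ⧸ 𝔪.asIdeal) (algebraMap B A b) (ψ 𝔪 (n : M))]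
            exact Submodule.smul_mem _ _ hn }
      have hPmem : ∀ 𝔪 (n : N), n ∈ P 𝔪 ↔
          letI := @Ideal.Quotient.field A _ 𝔪.asIdeal (hmaxI 𝔪)
          ψ 𝔪 (n : M) ∈ Submodule.span (A ⧸ 𝔪.asIdeal) (Set.range fun i => ψ 𝔪 (v i)) :=
        fun 𝔪 n => Iff.rfl
      have hPne : ∀ 𝔪, P 𝔪 ≠ ⊤ := by
        intro 𝔪 htop
        let _ := @Ideal.Quotient.field A _ 𝔪.asIdeal (hmaxI 𝔪)
        have hfr : Module.finrank (A ⧸ 𝔪.asIdeal) (Fin r → A ⧸ 𝔪.asIdeal) = r := by simp
        refine not_all_mem (K := A ⧸ 𝔪.asIdeal) (ψ 𝔪) (hψsurj 𝔪) N hN (fun i => ψ 𝔪 (v i))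
          (by rw [hfr]; omega) ?_
        intro n hn
        have : (⟨n, hn⟩ : N) ∈ P 𝔪 := htop ▸ Submodule.mem_top
        exact (hPmem 𝔪 ⟨n, hn⟩).1 this
      obtain ⟨n, hn⟩ := exists_avoid P hPne
      refine ⟨Fin.cons (n : M) v, ?_, ?_⟩
      · intro i
        refine Fin.cases ?_ (fun i => ?_) i
        · simp
        · simpa using hvN i
      · intro 𝔪
        let _ := @Ideal.Quotient.field A _ 𝔪.asIdeal (hmaxI 𝔪)
        have hcons : (fun i => ψ 𝔪 ((Fin.cons (n : M) v : Fin (j + 1) → M) i)) =
            Fin.cons (ψ 𝔪 (n : M)) (fun i => ψ 𝔪 (v i)) := by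
          ext i k
          refine Fin.cases ?_ (fun i => ?_) i <;> simp
        rw [hcons, linearIndependent_finCons]
        exact ⟨hvLI 𝔪, (hPmem 𝔪 n).not.1 (hn 𝔪)⟩
  obtain ⟨v, hvN, hvLI⟩ := hind r le_rfl
  have hunit : IsUnit (e.det v) := by
    by_contra hnu
    obtain ⟨I, hI, hmem⟩ := exists_max_ideal_of_mem_nonunits (mem_nonunits_iff.2 hnu)
    let 𝔪 : MaximalSpectrum A := ⟨I, hI⟩
    let _ := @Ideal.Quotient.field A _ 𝔪.asIdeal (hmaxI 𝔪)
    have h1 : Ideal.Quotient.mk I (e.det v) = 0 := Ideal.Quotient.eq_zero_iff_mem.2 hmem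
    rw [Module.Basis.det_apply, RingHom.map_det] at h1
    have h2 : LinearIndependent (A ⧸ 𝔪.asIdeal)
        ((Ideal.Quotient.mk I).mapMatrix (e.toMatrix v)).col := by
      have : ((Ideal.Quotient.mk I).mapMatrix (e.toMatrix v)).col = fun i => ψ 𝔪 (v i) := by
        ext k i
        rfl
      rw [this]
      exact hvLI 𝔪
    rw [Matrix.linearIndependent_cols_iff_isUnit, Matrix.isUnit_iff_isUnit_det] at h2
    rw [h1] at h2
    exact not_isUnit_zero h2
  obtain ⟨hli, hsp⟩ := (Module.Basis.is_basis_iff_det e).2 hunit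
  refine ⟨Module.Basis.mk hli hsp.ge, fun i => ?_⟩
  rw [Module.Basis.mk_apply]
  exact hvN i

end Groth.Agent.H15.SemiLocBasis
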