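import Mathlib
set_option autoImplicit false
universe u
open CategoryTheory AlgebraicGeometry Limits

namespace Groth.Agent.H15.SepDesc

theorem sep_desc {S X Y : Scheme.{u}} (p : X ⟶ S) (q : Y ⟶ S)
    (π : X ⟶ Y) (hπ : π ≫ q = p) [IsFinite π] [Surjective π] [IsSeparated p] :
    IsSeparated q := by
  subst hπ
  refine ⟨?_⟩
  apply IsClosedImmersion.of_isPreimmersion
  -- the map π × π
  let PP : pullback (π ≫ q) (π ≫ q) ⟶ pullback q q :=
    pullback.map (π ≫ q) (π ≫ q) q q π π (𝟙 S) ((Category.comp_id _).trans rfl)
      ((Category.comp_id _).trans rfl)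
  have hPP : IsFinite PP :=
    MorphismProperty.pullbackMap (P := @IsFinite) (inferInstance : IsFinite π)
      (inferInstance : IsFinite π) rfl rfl
  have hcomm : pullback.diagonal (π ≫ q) ≫ PP = π ≫ pullback.diagonal q := by
    apply pullback.hom_ext
    · simp only [PP, Category.assoc, pullback.lift_fst, pullback.diagonal_fst]
      rw [← Category.assoc, pullback.diagonal_fst, Category.id_comp, Category.comp_id]
    · simp only [PP, Category.assoc, pullback.lift_snd, pullback.diagonal_snd]
      rw [← Category.assoc, pullback.diagonal_snd, Category.id_comp, Category.comp_id]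
  have hrange : Set.range (pullback.diagonal q) =
      PP '' (Set.range (pullback.diagonal (π ≫ q))) := by
    have h1 : Set.range (pullback.diagonal q) = Set.range (π ≫ pullback.diagonal q) := by
      rw [Scheme.Hom.comp_base, TopCat.coe_comp, Set.range_comp, Set.range_eq_univ.mpr π.surjective,
        Set.image_univ]
    rw [h1, ← hcomm, Scheme.Hom.comp_base, TopCat.coe_comp, Set.range_comp]
  rw [hrange]
  exact PP.isClosedMap _ (pullback.diagonal (π ≫ q)).isClosedEmbedding.isClosed_range

end Groth.Agent.H15.SepDesc
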