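import Mathlib

universe u

open CategoryTheory CategoryTheory.Limits Opposite

namespace Groth.Agent.H15.ShZero

theorem isZero_sheafify {C : Type u} [SmallCategory C] (J : GrothendieckTopology C)
    (B : ObjectProperty C)
    (hB : ∀ (V : C) (S : Sieve V), S ∈ J V →
      Sieve.generate (fun (U : C) => {g : U ⟶ V | S.arrows g ∧ B U}) ∈ J V)
    (F : Cᵒᵖ ⥤ AddCommGrpCat.{u}) (hF : ∀ U : C, B U → IsZero (F.obj (op U))) :
    IsZero ((presheafToSheaf J AddCommGrpCat.{u}).obj F) := by
  have key : ∀ (G : Sheaf J AddCommGrpCat.{u}) (η : F ⟶ G.obj), η = 0 := by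
    intro G η
    ext V x
    have hsh := (isSheaf_iff_isSheaf_of_type J _).1
      ((Presheaf.isSheaf_iff_isSheaf_forget J G.obj (forget AddCommGrpCat)).1 G.property)
    have hsep := hsh.isSeparated
    have hT := hB V.unop ⊤ (J.top_mem _)
    apply (hsep _ hT).ext
    rintro Y f ⟨U, h, g, ⟨_, hU⟩, rfl⟩
    have h0 : F.map g.op x = 0 := by
      have := (hF U hU)
      exact (AddCommGrpCat.isZero_iff_subsingleton.1 this).elim _ _
    have e1 : G.obj.map g.op (η.app V x) = 0 := by
      have h1 := NatTrans.naturality_apply η g.op x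
      rw [← h1, h0, map_zero]
    have e2 : (0 : F ⟶ G.obj).app V x = 0 := rfl
    change G.obj.map (h ≫ g).op (η.app V x) = G.obj.map (h ≫ g).op ((0 : F ⟶ G.obj).app V x)
    rw [e2, map_zero, op_comp, Functor.map_comp, ConcreteCategory.comp_apply, e1, map_zero]
  rw [IsZero.iff_id_eq_zero]
  apply ((sheafificationAdjunction J AddCommGrpCat.{u}).homEquiv F _).injective
  rw [key _ ((sheafificationAdjunction J AddCommGrpCat.{u}).homEquiv F _ (𝟙 _)),
    key _ ((sheafificationAdjunction J AddCommGrpCat.{u}).homEquiv F _ 0)]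

end Groth.Agent.H15.ShZero
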