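import Mathlib
import Groth.Agent.H15.FinEtGrp
import Groth.Agent.H15.HopfSub

set_option autoImplicit false
universe u

open WithConv

namespace Groth.Agent.H15.SimpleEt

open Groth.Agent.H15.FinEtGrp

theorem main (k : Type u) [Field k] [IsAlgClosed k] (A : Type u) [CommRing A] [HopfAlgebra k A]
    [Coalgebra.IsCocomm k A] [FiniteDimensional k A] [IsReduced A] (hA : 1 < Module.finrank k A)
    (hsimple : ∀ I : Ideal A, I.IsHopfIdeal k → I = ⊥ ∨ I = RingHom.ker (Bialgebra.counitAlgHom k A)) :
    (Module.finrank k A).Prime := by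
  classical
  have hfin0 : Finite (A →ₐ[k] k) := (linearIndependent_algHom_toLinearMap k A k).finite
  have hfin : Finite (WithConv (A →ₐ[k] k)) :=
    Finite.of_injective (fun g => g.ofConv) WithConv.ofConv_injective
  have hft : Fintype (WithConv (A →ₐ[k] k)) := Fintype.ofFinite _
  -- evaluation
  let ev : A →ₗ[k] (WithConv (A →ₐ[k] k) → k) :=
    { toFun := fun a g => g.ofConv a
      map_add' := by intro a b; funext g; simp
      map_smul' := by intro c a; funext g; simp }
  have hev : Function.Bijective ev := by
    constructor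
    · rw [← LinearMap.ker_eq_bot, LinearMap.ker_eq_bot']
      intro a ha
      apply sep k A
      intro χ
      exact congrFun ha (toConv χ)
    · intro φ
      obtain ⟨a, ha⟩ := interp k A (fun χ => φ (toConv χ))
      refine ⟨a, ?_⟩
      funext g
      exact ha g.ofConv
  have hcard : Module.finrank k A = Nat.card (WithConv (A →ₐ[k] k)) := by
    rw [(LinearEquiv.ofBijective ev hev).finrank_eq, Module.finrank_fintype_fun_eq_card,
      Nat.card_eq_fintype_card]
  have hnt : Nontrivial (WithConv (A →ₐ[k] k)) := by
    rw [← Finite.one_lt_card_iff_nontrivial, ← hcard]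
    exact hA
  have hsg : IsSimpleGroup (WithConv (A →ₐ[k] k)) := by
    refine { eq_bot_or_eq_top_of_normal := ?_ }
    intro H _
    have hH := Groth.Agent.H15.HopfSub.isHopfIdeal_iInf_ker k A H
    have hmem : ∀ x, x ∈ (⨅ g ∈ H, RingHom.ker (WithConv.ofConv g : A →ₐ[k] k)) ↔
        ∀ g ∈ H, (WithConv.ofConv g : A →ₐ[k] k) x = 0 := by
      intro x
      simp only [Ideal.mem_iInf, RingHom.mem_ker]
    rcases hsimple _ hH with h | h
    · right
      rw [eq_top_iff]
      intro g₀ _
      by_contra hg₀
      obtain ⟨a, ha⟩ := interp k A (fun χ => if toConv χ ∈ H then 0 else 1)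
      have h1 : a ∈ (⨅ g ∈ H, RingHom.ker (WithConv.ofConv g : A →ₐ[k] k)) := by
        rw [hmem]
        intro g hg
        rw [ha, if_pos]
        rwa [toConv_ofConv]
      rw [h, Ideal.mem_bot] at h1
      have h2 := ha g₀.ofConv
      rw [toConv_ofConv, if_neg hg₀, h1, map_zero] at h2
      exact zero_ne_one h2
    · left
      rw [eq_bot_iff]
      intro g hg
      rw [Subgroup.mem_bot]
      by_contra hg1
      obtain ⟨a, ha⟩ := interp k A (fun χ => if toConv χ = (1 : WithConv (A →ₐ[k] k)) then 0 else 1)
      have h1 : a ∈ RingHom.ker (Bialgebra.counitAlgHom k A) := by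
        rw [RingHom.mem_ker]
        have := ha (Bialgebra.counitAlgHom k A)
        have h0 : toConv (Bialgebra.counitAlgHom k A) = (1 : WithConv (A →ₐ[k] k)) := rfl
        rw [if_pos h0] at this
        exact this
      rw [← h, hmem] at h1
      have h2 := ha g.ofConv
      rw [toConv_ofConv, if_neg hg1, h1 g hg] at h2
      exact zero_ne_one h2
  rw [hcard]
  exact IsSimpleGroup.prime_card

end Groth.Agent.H15.SimpleEt
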