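import Mathlib
set_option autoImplicit false
universe u
namespace Groth.Agent.H15.SpecLoc

theorem specloc (A : Type u) [CommRing A] (f : A) (I : Ideal A) :
    ∃ S : Submonoid A,
      Set.range (PrimeSpectrum.comap (algebraMap A (Localization S))) =
        {x | ∃ z : PrimeSpectrum A,
          z ∈ (PrimeSpectrum.basicOpen f : Set (PrimeSpectrum A)) ∩ PrimeSpectrum.zeroLocus I ∧ x ⤳ z} := by
  classical
  -- B = (A/I)_f
  let fbar : A ⧸ I := Ideal.Quotient.mk I f
  let φ : A →+* Localization.Away fbar := (algebraMap (A ⧸ I) (Localization.Away fbar)).comp (Ideal.Quotient.mk I)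
  let S : Submonoid A := (IsUnit.submonoid (Localization.Away fbar)).comap φ
  have hS : ∀ s, s ∈ S ↔ IsUnit (φ s) := fun s => Iff.rfl
  refine ⟨S, ?_⟩
  rw [PrimeSpectrum.localization_comap_range (Localization S) S]
  ext x
  simp only [Set.mem_ofPred_eq, Set.mem_inter_iff, SetLike.mem_coe, PrimeSpectrum.mem_basicOpen,
    PrimeSpectrum.mem_zeroLocus]
  constructor
  · intro hdisj
    -- the extended ideal is proper
    have hJ : Ideal.map φ x.asIdeal ≠ ⊤ := by
      intro htop
      have h1 : (1 : Localization.Away fbar) ∈ Ideal.map (algebraMap (A ⧸ I) (Localization.Away fbar))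
          (Ideal.map (Ideal.Quotient.mk I) x.asIdeal) := by
        rw [Ideal.map_map]
        show (1 : Localization.Away fbar) ∈ Ideal.map φ x.asIdeal
        rw [htop]; trivial
      rw [IsLocalization.mem_map_algebraMap_iff (Submonoid.powers fbar)] at h1
      obtain ⟨⟨⟨a, ha⟩, ⟨m, hm⟩⟩, h2⟩ := h1
      simp only [one_mul] at h2
      obtain ⟨s, hs, rfl⟩ := (Ideal.mem_map_iff_of_surjective _ Ideal.Quotient.mk_surjective).mp ha
      have hunit : IsUnit (φ s) := by
        show IsUnit (algebraMap (A ⧸ I) (Localization.Away fbar) (Ideal.Quotient.mk I s))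
        rw [← h2]
        exact IsLocalization.map_units (Localization.Away fbar) (⟨m, hm⟩ : Submonoid.powers fbar)
      exact Set.disjoint_left.mp hdisj ((hS s).mpr hunit) hs
    obtain ⟨n, hn, hle⟩ := Ideal.exists_le_maximal _ hJ
    have hnp : n.IsPrime := hn.isPrime
    refine ⟨⟨n.comap φ, inferInstance⟩, ⟨?_, ?_⟩, ?_⟩
    · -- f ∉ q
      intro hf
      have hf' : φ f ∈ n := hf
      have hu : IsUnit (φ f) := by
        show IsUnit (algebraMap (A ⧸ I) (Localization.Away fbar) fbar)
        exact IsLocalization.Away.algebraMap_isUnit fbar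
      exact hnp.ne_top (Ideal.eq_top_of_isUnit_mem _ hf' hu)
    · -- I ≤ q
      intro i hi
      show φ i ∈ n
      have : φ i = 0 := by
        show algebraMap (A ⧸ I) (Localization.Away fbar) (Ideal.Quotient.mk I i) = 0
        rw [Ideal.Quotient.eq_zero_iff_mem.mpr hi, map_zero]
      rw [this]; exact n.zero_mem
    · rw [← PrimeSpectrum.le_iff_specializes]
      show x.asIdeal ≤ n.comap φ
      exact (Ideal.map_le_iff_le_comap).mp hle
  · rintro ⟨z, ⟨hfz, hIz⟩, hxz⟩
    rw [← PrimeSpectrum.le_iff_specializes] at hxz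
    rw [Set.disjoint_left]
    intro s hs hsx
    have hsz : s ∈ z.asIdeal := hxz hsx
    -- z gives a prime of B not containing φ s... use: φ s unit ⇒ exists t with s t ≡ f^k mod I
    have hu : IsUnit (φ s) := (hS s).mp hs
    obtain ⟨b, hb⟩ := hu.exists_right_inv
    obtain ⟨⟨c, ⟨m, hm⟩⟩, hc⟩ := IsLocalization.surj (Submonoid.powers fbar) b
    obtain ⟨k, rfl⟩ := hm
    simp only at hc
    obtain ⟨t, rfl⟩ := Ideal.Quotient.mk_surjective c
    -- φ s * b = 1, b * f^k = t ⇒ φ(s t) = φ (f^k)
    have h3 : algebraMap (A ⧸ I) (Localization.Away fbar) (Ideal.Quotient.mk I (s * t)) =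
        algebraMap (A ⧸ I) (Localization.Away fbar) (fbar ^ k) := by
      rw [map_mul, map_mul, ← hc, ← mul_assoc]
      have : (algebraMap (A ⧸ I) (Localization.Away fbar)) ((Ideal.Quotient.mk I) s) * b = 1 := hb
      rw [this, one_mul]
    obtain ⟨⟨_, ⟨j, rfl⟩⟩, h4⟩ := (IsLocalization.eq_iff_exists (Submonoid.powers fbar) _).mp h3
    simp only at h4
    -- fbar^j * mk(s t) = fbar^j * fbar^k in A/I
    have h5 : f ^ j * (s * t) - f ^ j * f ^ k ∈ I := by
      rw [← Ideal.Quotient.eq]
      simpa [fbar] using h4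
    have h6 : f ^ j * f ^ k ∈ z.asIdeal := by
      have h7 : f ^ j * (s * t) ∈ z.asIdeal :=
        z.asIdeal.mul_mem_left _ (z.asIdeal.mul_mem_right _ hsz)
      have h8 := z.asIdeal.sub_mem h7 (hIz h5)
      simpa using h8
    rw [← pow_add] at h6
    exact hfz (z.2.mem_of_pow_mem _ h6)
end Groth.Agent.H15.SpecLoc
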