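import Mathlib

set_option autoImplicit false

namespace Groth.Agent.H15.StrongLoc

universe u v

section unit

variable {A : Type u} [Ring A] {P : Type v} [AddCommGroup P] [Module A P]

theorem map_JP_le {Q : Type*} [AddCommGroup Q] [Module A Q] (f : P →ₗ[A] Q) :
    (Ring.jacobson A • (⊤ : Submodule A P)).map f ≤ Ring.jacobson A • (⊤ : Submodule A Q) := by
  rw [Submodule.map_smul'']
  exact smul_mono_right _ le_top

theorem isUnit_one_sub [Module.Finite A P] [Module.Projective A P] (f : Module.End A P)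
    (hf : ∀ x, f x ∈ Ring.jacobson A • (⊤ : Submodule A P)) : IsUnit (1 - f) := by
  set g : Module.End A P := 1 - f with hg
  have hgx : ∀ x, x = g x + f x := fun x => by simp [hg]
  have hsurj : Function.Surjective g := by
    rw [← LinearMap.range_eq_top]
    set R := LinearMap.range g with hR
    have h1 : (⊤ : Submodule A (P ⧸ R)) ≤ Ring.jacobson A • ⊤ := by
      intro y _
      obtain ⟨x, rfl⟩ := R.mkQ_surjective y
      have h0 : R.mkQ (g x) = 0 := by
        rw [Submodule.mkQ_apply, Submodule.Quotient.mk_eq_zero]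
        exact LinearMap.mem_range_self g x
      have h3 : R.mkQ x = R.mkQ (f x) := by
        conv_lhs => rw [hgx x]
        rw [map_add, h0, zero_add]
      rw [h3]
      exact map_JP_le R.mkQ (Submodule.mem_map_of_mem (hf x))
    have hfg : (⊤ : Submodule A (P ⧸ R)).FG := Module.Finite.fg_top
    have h2 := Submodule.FG.eq_bot_of_le_jacobson_smul hfg h1
    have h3 : Subsingleton (P ⧸ R) := by
      rw [← Submodule.subsingleton_iff A]
      exact subsingleton_of_bot_eq_top h2.symm
    exact Submodule.Quotient.subsingleton_iff.mp h3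
  have hinj : Function.Injective g := by
    obtain ⟨s, hs⟩ := Module.projective_lifting_property g LinearMap.id hsurj
    have hs' : ∀ x, g (s x) = x := fun x => LinearMap.congr_fun hs x
    rw [← LinearMap.ker_eq_bot]
    set K := LinearMap.ker g with hK
    let π : Module.End A P := 1 - s ∘ₗ g
    have hπK : ∀ x, π x ∈ K := by
      intro x
      rw [hK, LinearMap.mem_ker]
      simp only [π, LinearMap.sub_apply, Module.End.one_apply, LinearMap.comp_apply, map_sub, hs',
        sub_self]
    have hπid : ∀ x ∈ K, π x = x := by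
      intro x hx
      rw [hK, LinearMap.mem_ker] at hx
      simp only [π, LinearMap.sub_apply, Module.End.one_apply, LinearMap.comp_apply, hx, map_zero,
        sub_zero]
    have hKrange : K = LinearMap.range π := by
      apply le_antisymm
      · intro x hx; exact ⟨x, hπid x hx⟩
      · rintro _ ⟨x, rfl⟩; exact hπK x
    have hKfg : K.FG := by
      rw [hKrange, LinearMap.range_eq_map]
      exact Submodule.FG.map _ Module.Finite.fg_top
    apply Submodule.FG.eq_bot_of_le_jacobson_smul hKfg
    intro x hx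
    have hxf : x = f x := by
      have := hgx x
      rw [hK, LinearMap.mem_ker] at hx
      rwa [hx, zero_add] at this
    have h4 : π x ∈ (Ring.jacobson A • (⊤ : Submodule A P)).map π :=
      Submodule.mem_map_of_mem (by rw [hxf]; exact hf x)
    rw [Submodule.map_smul'', Submodule.map_top, ← hKrange, hπid x hx] at h4
    exact h4
  exact (Module.End.isUnit_iff _).mpr ⟨hinj, hsurj⟩

end unit


section rho

variable (A : Type u) [Ring A] (P : Type v) [AddCommGroup P] [Module A P]

/-- `P / JP` -/
abbrev Pbar := P ⧸ (Ring.jacobson A • (⊤ : Submodule A P))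

theorem tors : Module.IsTorsionBySet A (Pbar A P) (Ring.jacobson A : Set A) := by
  rw [Module.isTorsionBySet_quotient_iff]
  intro x r hr
  exact Submodule.smul_mem_smul hr trivial

instance instModS : Module (A ⧸ Ring.jacobson A) (Pbar A P) := (tors A P).module

theorem mk_smul (a : A) (x : Pbar A P) : (Ideal.Quotient.mk (Ring.jacobson A) a) • x = a • x := rfl

variable {A P}

/-- an `A`-linear map between quotients is `A/J`-linear -/
def toS {Q : Type*} [AddCommGroup Q] [Module A Q] (h : Pbar A P →ₗ[A] Pbar A Q) :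
    Pbar A P →ₗ[A ⧸ Ring.jacobson A] Pbar A Q where
  toFun := h
  map_add' := h.map_add
  map_smul' := by
    intro s x
    obtain ⟨a, rfl⟩ := Ideal.Quotient.mk_surjective s
    exact h.map_smul a x

/-- an `A/J`-linear map between quotients is `A`-linear -/
def ofS {Q : Type*} [AddCommGroup Q] [Module A Q]
    (h : Pbar A P →ₗ[A ⧸ Ring.jacobson A] Pbar A Q) : Pbar A P →ₗ[A] Pbar A Q where
  toFun := h
  map_add' := h.map_add
  map_smul' := by
    intro a x
    exact h.map_smul (Ideal.Quotient.mk (Ring.jacobson A) a) x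

/-- the induced map on quotients -/
def bar {Q : Type*} [AddCommGroup Q] [Module A Q] (f : P →ₗ[A] Q) : Pbar A P →ₗ[A] Pbar A Q :=
  Submodule.mapQ _ _ f (Submodule.map_le_iff_le_comap.mp (map_JP_le f))

theorem bar_mk {Q : Type*} [AddCommGroup Q] [Module A Q] (f : P →ₗ[A] Q) (x : P) :
    bar f (Submodule.Quotient.mk x) = Submodule.Quotient.mk (f x) := rfl

variable (A P)

/-- reduction of endomorphisms -/
def rho : Module.End A P →+* Module.End (A ⧸ Ring.jacobson A) (Pbar A P) where
  toFun f := toS (bar f)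
  map_one' := by
    apply LinearMap.ext; intro y
    obtain ⟨x, rfl⟩ := Submodule.Quotient.mk_surjective _ y
    rfl
  map_mul' f g := by
    apply LinearMap.ext; intro y
    obtain ⟨x, rfl⟩ := Submodule.Quotient.mk_surjective _ y
    rfl
  map_zero' := by
    apply LinearMap.ext; intro y
    obtain ⟨x, rfl⟩ := Submodule.Quotient.mk_surjective _ y
    show Submodule.Quotient.mk ((0 : Module.End A P) x) = 0
    simp
  map_add' f g := by
    apply LinearMap.ext; intro y
    obtain ⟨x, rfl⟩ := Submodule.Quotient.mk_surjective _ y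
    show Submodule.Quotient.mk ((f + g) x) = _
    rfl

theorem rho_mk (f : Module.End A P) (x : P) :
    rho A P f (Submodule.Quotient.mk x) = Submodule.Quotient.mk (f x) := rfl

theorem rho_eq_zero_iff (f : Module.End A P) :
    rho A P f = 0 ↔ ∀ x, f x ∈ Ring.jacobson A • (⊤ : Submodule A P) := by
  constructor
  · intro h x
    have := LinearMap.congr_fun h (Submodule.Quotient.mk x)
    rw [rho_mk] at this
    exact (Submodule.Quotient.mk_eq_zero _).mp this
  · intro h
    apply LinearMap.ext; intro y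
    obtain ⟨x, rfl⟩ := Submodule.Quotient.mk_surjective _ y
    rw [rho_mk]
    exact (Submodule.Quotient.mk_eq_zero _).mpr (h x)

theorem rho_surjective [Module.Projective A P] : Function.Surjective (rho A P) := by
  intro h
  have hsurj : Function.Surjective (Submodule.mkQ (Ring.jacobson A • (⊤ : Submodule A P))) :=
    Submodule.mkQ_surjective _
  obtain ⟨f, hf⟩ := Module.projective_lifting_property
    (Submodule.mkQ (Ring.jacobson A • (⊤ : Submodule A P)))
    ((ofS h) ∘ₗ Submodule.mkQ (Ring.jacobson A • (⊤ : Submodule A P))) hsurj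
  refine ⟨f, ?_⟩
  apply LinearMap.ext; intro y
  obtain ⟨x, rfl⟩ := Submodule.Quotient.mk_surjective _ y
  rw [rho_mk]
  exact LinearMap.congr_fun hf x

instance finS [Module.Finite A P] : Module.Finite (A ⧸ Ring.jacobson A) (Pbar A P) := by
  obtain ⟨s, hs⟩ := (Module.Finite.fg_top : (⊤ : Submodule A (Pbar A P)).FG)
  refine ⟨⟨s, ?_⟩⟩
  rw [eq_top_iff]
  rintro x -
  have hx : x ∈ Submodule.span A (s : Set (Pbar A P)) := by rw [hs]; trivial
  induction hx using Submodule.span_induction with
  | mem y hy => exact Submodule.subset_span hy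
  | zero => exact Submodule.zero_mem _
  | add y z _ _ hy hz => exact Submodule.add_mem _ hy hz
  | smul a y _ hy =>
    rw [← mk_smul]
    exact Submodule.smul_mem _ _ hy

theorem ker_le_jacobson [Module.Finite A P] [Module.Projective A P] (f : Module.End A P)
    (hf : rho A P f = 0) : f ∈ Ring.jacobson (Module.End A P) := by
  rw [Ring.jacobson_eq_sInf_isMaximal, Submodule.mem_sInf]
  intro 𝔪 h𝔪
  by_contra hfm
  obtain ⟨g, i, hi, hgi⟩ := Ideal.IsMaximal.exists_inv h𝔪 hfm
  have hi' : i = 1 - g * f := by rw [← hgi]; abel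
  have hunit : IsUnit i := by
    rw [hi']
    apply isUnit_one_sub
    rw [← rho_eq_zero_iff, map_mul, hf, mul_zero]
  exact h𝔪.ne_top (Ideal.eq_top_of_isUnit_mem _ hi hunit)

theorem jacobson_le_ker [Module.Finite A P] [Module.Projective A P]
    [IsSemisimpleRing (A ⧸ Ring.jacobson A)] (f : Module.End A P)
    (hf : f ∈ Ring.jacobson (Module.End A P)) : rho A P f = 0 := by
  have h1 : Ring.jacobson (Module.End A P) ≤ RingHom.ker (rho A P) := by
    apply Ring.jacobson_le_of_eq_bot
    let e := RingHom.quotientKerEquivOfSurjective (rho_surjective A P)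
    haveI : IsSemisimpleRing (Module.End (A ⧸ Ring.jacobson A) (Pbar A P)) :=
      IsSemisimpleRing.moduleEnd (A ⧸ Ring.jacobson A) (Pbar A P)
    haveI : IsSemisimpleRing (Module.End A P ⧸ RingHom.ker (rho A P)) := e.symm.isSemisimpleRing
    exact IsSemisimpleRing.jacobson_eq_bot _
  exact (RingHom.mem_ker).mp (h1 hf)

theorem rho_eq_zero_iff_mem_jacobson [Module.Finite A P] [Module.Projective A P]
    [IsSemisimpleRing (A ⧸ Ring.jacobson A)] (f : Module.End A P) :
    rho A P f = 0 ↔ f ∈ Ring.jacobson (Module.End A P) :=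
  ⟨ker_le_jacobson A P f, jacobson_le_ker A P f⟩

end rho


section OI

/-- `m` pairwise orthogonal idempotents modulo the Jacobson radical, none of them in the radical -/
def HasOI (E : Type*) [Ring E] (m : ℕ) : Prop :=
  ∃ p : Fin m → E, (∀ i, p i ∉ Ring.jacobson E) ∧ (∀ i, p i * p i - p i ∈ Ring.jacobson E) ∧
    ∀ i j, i ≠ j → p i * p j ∈ Ring.jacobson E

/-- `m` pairwise orthogonal nonzero idempotents -/
def HasOI0 (F : Type*) [Ring F] (m : ℕ) : Prop :=
  ∃ p : Fin m → F, (∀ i, p i ≠ 0) ∧ (∀ i, p i * p i = p i) ∧ ∀ i j, i ≠ j → p i * p j = 0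

theorem mem_jacobson_of_ringEquiv {E E' : Type*} [Ring E] [Ring E'] (e : E ≃+* E') {x : E}
    (hx : x ∈ Ring.jacobson E) : e x ∈ Ring.jacobson E' := by
  haveI : RingHomSurjective (e : E →+* E') := ⟨e.surjective⟩
  exact Ring.le_comap_jacobson (e : E →+* E') hx

theorem mem_jacobson_iff_of_ringEquiv {E E' : Type*} [Ring E] [Ring E'] (e : E ≃+* E') (x : E) :
    e x ∈ Ring.jacobson E' ↔ x ∈ Ring.jacobson E := by
  constructor
  · intro h
    have := mem_jacobson_of_ringEquiv e.symm h
    rwa [RingEquiv.symm_apply_apply] at this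
  · exact mem_jacobson_of_ringEquiv e

theorem HasOI.of_ringEquiv {E E' : Type*} [Ring E] [Ring E'] (e : E ≃+* E') {m : ℕ}
    (h : HasOI E m) : HasOI E' m := by
  obtain ⟨p, h0, h1, h2⟩ := h
  refine ⟨fun i => e (p i), fun i => ?_, fun i => ?_, fun i j hij => ?_⟩
  · rw [mem_jacobson_iff_of_ringEquiv]; exact h0 i
  · rw [← map_mul, ← map_sub, mem_jacobson_iff_of_ringEquiv]; exact h1 i
  · rw [← map_mul, mem_jacobson_iff_of_ringEquiv]; exact h2 i j hij

theorem HasOI0.of_ringEquiv {F F' : Type*} [Ring F] [Ring F'] (e : F ≃+* F') {m : ℕ}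
    (h : HasOI0 F m) : HasOI0 F' m := by
  obtain ⟨p, h0, h1, h2⟩ := h
  refine ⟨fun i => e (p i), fun i => ?_, fun i => ?_, fun i j hij => ?_⟩
  · exact (EmbeddingLike.map_ne_zero_iff).mpr (h0 i)
  · rw [← map_mul, h1 i]
  · rw [← map_mul, h2 i j hij, map_zero]

theorem hasOI_iff_hasOI0 {E F : Type*} [Ring E] [Ring F] (ρ : E →+* F)
    (hsurj : Function.Surjective ρ) (hker : ∀ f, ρ f = 0 ↔ f ∈ Ring.jacobson E) (m : ℕ) :
    HasOI E m ↔ HasOI0 F m := by
  constructor
  · rintro ⟨p, h0, h1, h2⟩
    refine ⟨fun i => ρ (p i), fun i => ?_, fun i => ?_, fun i j hij => ?_⟩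
    · exact fun h => h0 i ((hker _).mp h)
    · have := (hker _).mpr (h1 i)
      rw [map_sub, map_mul, sub_eq_zero] at this
      exact this
    · have := (hker _).mpr (h2 i j hij)
      rwa [map_mul] at this
  · rintro ⟨p, h0, h1, h2⟩
    choose q hq using fun i => hsurj (p i)
    refine ⟨q, fun i => ?_, fun i => ?_, fun i j hij => ?_⟩
    · intro h
      exact h0 i (by rw [← hq i]; exact (hker _).mpr h)
    · rw [← hker, map_sub, map_mul, hq, h1 i, sub_self]
    · rw [← hker, map_mul, hq, hq, h2 i j hij]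

theorem oi_bound {S : Type*} [Ring S] : ∀ (m : ℕ) (M : Type v) [AddCommGroup M] [Module S M]
    (p : Fin m → Module.End S M), (∀ i, p i ≠ 0) → (∀ i, p i * p i = p i) →
    (∀ i j, i ≠ j → p i * p j = 0) → (m : ℕ∞) ≤ Module.length S M
  | 0, _, _, _, _, _, _, _ => by simp
  | m + 1, M, _, _, p, h0, h1, h2 => by
    have hmaps : ∀ j : Fin m, ∀ x ∈ LinearMap.ker (p 0), p j.succ x ∈ LinearMap.ker (p 0) := by
      intro j x _
      rw [LinearMap.mem_ker]
      have := h2 0 j.succ (Fin.succ_ne_zero j).symm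
      exact LinearMap.congr_fun this x
    let q : Fin m → Module.End S (LinearMap.ker (p 0)) := fun j => (p j.succ).restrict (hmaps j)
    have hq0 : ∀ j, q j ≠ 0 := by
      intro j hj
      apply h0 j.succ
      apply LinearMap.ext
      intro x
      -- y = p j.succ x ∈ ker p 0, and q j y = p j.succ y = y
      have hy : p j.succ x ∈ LinearMap.ker (p 0) := by
        rw [LinearMap.mem_ker]
        exact LinearMap.congr_fun (h2 0 j.succ (Fin.succ_ne_zero j).symm) x
      have h3 := LinearMap.congr_fun hj ⟨p j.succ x, hy⟩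
      have h4 := congrArg Subtype.val h3
      simp only [q, LinearMap.restrict_coe_apply, LinearMap.zero_apply, ZeroMemClass.coe_zero] at h4
      have h5 : p j.succ (p j.succ x) = p j.succ x := LinearMap.congr_fun (h1 j.succ) x
      rw [h5] at h4
      rw [h4]; rfl
    have hq1 : ∀ j, q j * q j = q j := by
      intro j
      apply LinearMap.ext
      intro x
      apply Subtype.ext
      exact LinearMap.congr_fun (h1 j.succ) x.1
    have hq2 : ∀ i j, i ≠ j → q i * q j = 0 := by
      intro i j hij
      apply LinearMap.ext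
      intro x
      apply Subtype.ext
      exact LinearMap.congr_fun (h2 i.succ j.succ (fun h => hij (Fin.succ_injective _ h))) x.1
    have IH := oi_bound m (LinearMap.ker (p 0)) q hq0 hq1 hq2
    have hexact : Function.Exact (LinearMap.ker (p 0)).subtype (p 0).rangeRestrict := by
      intro y
      constructor
      · intro h
        refine ⟨⟨y, ?_⟩, rfl⟩
        rw [LinearMap.mem_ker]
        exact congrArg Subtype.val h
      · rintro ⟨z, rfl⟩
        exact Subtype.ext z.2
    have hlen := Module.length_eq_add_of_exact (LinearMap.ker (p 0)).subtype (p 0).rangeRestrict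
      (Submodule.injective_subtype _) (LinearMap.surjective_rangeRestrict _) hexact
    have hnt : Nontrivial (LinearMap.range (p 0)) := by
      rw [Submodule.nontrivial_iff_ne_bot]
      intro h
      exact h0 0 (LinearMap.range_eq_bot.mp h)
    have hpos : (1 : ℕ∞) ≤ Module.length S (LinearMap.range (p 0)) :=
      Order.one_le_iff_pos.mpr Module.length_pos
    rw [hlen]
    push_cast
    exact add_le_add IH hpos

theorem hasOI0_pi {S : Type*} [Ring S] (T : Type*) [AddCommGroup T] [Module S T] [Nontrivial T]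
    (n : ℕ) : HasOI0 (Module.End S (Fin n → T)) n := by
  classical
  refine ⟨fun i => (LinearMap.single S (fun _ : Fin n => T) i) ∘ₗ (LinearMap.proj i),
    fun i => ?_, fun i => ?_, fun i j hij => ?_⟩
  · intro h
    obtain ⟨t, ht⟩ := exists_ne (0 : T)
    have := congrFun (LinearMap.congr_fun h (Pi.single i t)) i
    simp at this
    exact ht this
  · apply LinearMap.ext; intro x
    simp [Module.End.mul_apply]
  · apply LinearMap.ext; intro x
    simp [Module.End.mul_apply, Pi.single_eq_of_ne hij]

theorem oi_iff_le {S : Type*} [Ring S] (T : Type*) [AddCommGroup T] [Module S T]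
    [IsSimpleModule S T] (M : Type v) [AddCommGroup M] [Module S M] (n : ℕ)
    (e : M ≃ₗ[S] Fin n → T) (m : ℕ) (h : HasOI0 (Module.End S M) m) : m ≤ n := by
  obtain ⟨p, h0, h1, h2⟩ := h
  have h3 := oi_bound m M p h0 h1 h2
  rw [e.length_eq, Module.length_pi, Module.length_eq_one] at h3
  simpa using h3

theorem hasOI0_of_equiv {S : Type*} [Ring S] (T : Type*) [AddCommGroup T] [Module S T]
    [IsSimpleModule S T] (M : Type v) [AddCommGroup M] [Module S M] (n : ℕ)
    (e : M ≃ₗ[S] Fin n → T) : HasOI0 (Module.End S M) n := by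
  haveI : Nontrivial T := IsSimpleModule.nontrivial S T
  exact (hasOI0_pi (S := S) T n).of_ringEquiv e.symm.conjRingEquiv

end OI

section iso

variable (S : Type u) [Ring S] [IsSimpleRing S] [IsArtinianRing S]

theorem exists_equiv_pi (T : Submodule S S) [IsSimpleModule S T] (M : Type v) [AddCommGroup M]
    [Module S M] [Module.Finite S M] : ∃ n : ℕ, Nonempty (M ≃ₗ[S] Fin n → T) := by
  apply IsIsotypicOfType.linearEquiv_fun
  intro m hm
  have hiso := IsSimpleRing.isIsotypic S (M × S)
  let m₁ : Submodule S (M × S) := m.map (LinearMap.inl S M S)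
  let m₂ : Submodule S (M × S) := T.map (LinearMap.inr S M S)
  have e₁ : m ≃ₗ[S] m₁ := Submodule.equivMapOfInjective _ LinearMap.inl_injective m
  have e₂ : T ≃ₗ[S] m₂ := Submodule.equivMapOfInjective _ LinearMap.inr_injective T
  haveI : IsSimpleModule S m₁ := IsSimpleModule.congr e₁.symm
  haveI : IsSimpleModule S m₂ := IsSimpleModule.congr e₂.symm
  obtain ⟨e⟩ := hiso m₂ m₁
  exact ⟨e₁.trans (e.trans e₂.symm)⟩

end iso


section final

variable (A : Type u) [Ring A] [IsSimpleRing (A ⧸ Ring.jacobson A)]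
  [IsArtinianRing (A ⧸ Ring.jacobson A)]
  (P Q : Type v) [AddCommGroup P] [Module A P] [Module.Finite A P] [Module.Projective A P]
  [AddCommGroup Q] [Module A Q] [Module.Finite A Q] [Module.Projective A Q]

/-- lifting an isomorphism of the reductions -/
theorem lift_iso (ē : Pbar A P ≃ₗ[A] Pbar A Q) : Nonempty (P ≃ₗ[A] Q) := by
  set πP := Submodule.mkQ (Ring.jacobson A • (⊤ : Submodule A P)) with hπP
  set πQ := Submodule.mkQ (Ring.jacobson A • (⊤ : Submodule A Q)) with hπQ
  obtain ⟨φ, hφ⟩ := Module.projective_lifting_property πQ (ē.toLinearMap ∘ₗ πP)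
    (Submodule.mkQ_surjective _)
  obtain ⟨ψ, hψ⟩ := Module.projective_lifting_property πP (ē.symm.toLinearMap ∘ₗ πQ)
    (Submodule.mkQ_surjective _)
  have hφ' : ∀ x, πQ (φ x) = ē (πP x) := fun x => LinearMap.congr_fun hφ x
  have hψ' : ∀ y, πP (ψ y) = ē.symm (πQ y) := fun y => LinearMap.congr_fun hψ y
  have h1 : IsUnit (ψ ∘ₗ φ : Module.End A P) := by
    have : (ψ ∘ₗ φ : Module.End A P) = 1 - (1 - ψ ∘ₗ φ) := by abel
    rw [this]
    apply isUnit_one_sub
    intro x
    rw [← Submodule.Quotient.mk_eq_zero, ← Submodule.mkQ_apply]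
    show πP ((1 - ψ ∘ₗ φ : Module.End A P) x) = 0
    rw [LinearMap.sub_apply, map_sub, LinearMap.comp_apply, hψ', hφ', ē.symm_apply_apply]
    exact sub_self _
  have h2 : IsUnit (φ ∘ₗ ψ : Module.End A Q) := by
    have : (φ ∘ₗ ψ : Module.End A Q) = 1 - (1 - φ ∘ₗ ψ) := by abel
    rw [this]
    apply isUnit_one_sub
    intro y
    rw [← Submodule.Quotient.mk_eq_zero, ← Submodule.mkQ_apply]
    show πQ ((1 - φ ∘ₗ ψ : Module.End A Q) y) = 0
    rw [LinearMap.sub_apply, map_sub, LinearMap.comp_apply, hφ', hψ', ē.apply_symm_apply]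
    exact sub_self _
  have b1 := (Module.End.isUnit_iff _).mp h1
  have b2 := (Module.End.isUnit_iff _).mp h2
  have hinj : Function.Injective φ := by
    have : Function.Injective (ψ ∘ φ) := b1.1
    exact this.of_comp
  have hsurj : Function.Surjective φ := by
    have : Function.Surjective (φ ∘ ψ) := b2.2
    exact this.of_comp
  exact ⟨LinearEquiv.ofBijective φ ⟨hinj, hsurj⟩⟩

theorem main (e : Module.End A P ≃+* Module.End A Q) : Nonempty (P ≃ₗ[A] Q) := by
  obtain ⟨T, hT⟩ : ∃ T : Submodule (A ⧸ Ring.jacobson A) (A ⧸ Ring.jacobson A),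
      IsSimpleModule (A ⧸ Ring.jacobson A) T := by
    obtain ⟨T, hT⟩ := IsAtomic.exists_atom (Submodule (A ⧸ Ring.jacobson A) (A ⧸ Ring.jacobson A))
    exact ⟨T, isSimpleModule_iff_isAtom.mpr hT⟩
  obtain ⟨nP, ⟨eP⟩⟩ := exists_equiv_pi (A ⧸ Ring.jacobson A) T (Pbar A P)
  obtain ⟨nQ, ⟨eQ⟩⟩ := exists_equiv_pi (A ⧸ Ring.jacobson A) T (Pbar A Q)
  have hP := hasOI_iff_hasOI0 (rho A P) (rho_surjective A P) (rho_eq_zero_iff_mem_jacobson A P)
  have hQ := hasOI_iff_hasOI0 (rho A Q) (rho_surjective A Q) (rho_eq_zero_iff_mem_jacobson A Q)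
  have h1 : nP ≤ nQ := by
    apply oi_iff_le T (Pbar A Q) nQ eQ nP
    rw [← hQ]
    apply HasOI.of_ringEquiv e
    rw [hP]
    exact hasOI0_of_equiv T (Pbar A P) nP eP
  have h2 : nQ ≤ nP := by
    apply oi_iff_le T (Pbar A P) nP eP nQ
    rw [← hP]
    apply HasOI.of_ringEquiv e.symm
    rw [hQ]
    exact hasOI0_of_equiv T (Pbar A Q) nQ eQ
  have hn : nP = nQ := le_antisymm h1 h2
  subst hn
  let ēS : Pbar A P ≃ₗ[A ⧸ Ring.jacobson A] Pbar A Q := eP.trans eQ.symm
  let ē : Pbar A P ≃ₗ[A] Pbar A Q :=
    LinearEquiv.ofLinear (ofS ēS.toLinearMap) (ofS ēS.symm.toLinearMap)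
      (LinearMap.ext fun y => ēS.apply_symm_apply y) (LinearMap.ext fun x => ēS.symm_apply_apply x)
  exact lift_iso A P Q ē

end final

end Groth.Agent.H15.StrongLoc
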