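import Mathlib

namespace Groth.Agent.H15.SymSmooth

open TrivSqZeroExt

universe u

section
variable {A : Type u} [CommRing A] {M : Type u} [AddCommGroup M] [Module A M]

/-- finite presentation of a retract of a polynomial ring -/
theorem fp_of_retract {n : ℕ} {B : Type u} [CommRing B] [Algebra A B]
    (s : MvPolynomial (Fin n) A →ₐ[A] B) (σ : B →ₐ[A] MvPolynomial (Fin n) A)
    (h : s.comp σ = AlgHom.id A B) : Algebra.FinitePresentation A B := by
  have hσ : ∀ b, s (σ b) = b := fun b => DFunLike.congr_fun h b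
  have hs : Function.Surjective s := fun b => ⟨σ b, hσ b⟩
  refine Algebra.FinitePresentation.of_surjective hs ?_
  have hJ : RingHom.ker s.toRingHom = Ideal.span (Set.range fun i : Fin n =>
      (MvPolynomial.X i - σ (s (MvPolynomial.X i)) : MvPolynomial (Fin n) A)) := by
    apply le_antisymm
    · intro p hp
      have hp0 : s p = 0 := hp
      have key : (Ideal.Quotient.mkₐ A (Ideal.span (Set.range fun i : Fin n =>
          (MvPolynomial.X i - σ (s (MvPolynomial.X i)) : MvPolynomial (Fin n) A)))) =
          (Ideal.Quotient.mkₐ A _).comp (σ.comp s) := by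
        apply MvPolynomial.algHom_ext
        intro i
        simp only [AlgHom.comp_apply, Ideal.Quotient.mkₐ_eq_mk]
        rw [Ideal.Quotient.eq]
        exact Ideal.subset_span ⟨i, rfl⟩
      have h2 := DFunLike.congr_fun key p
      simp only [AlgHom.comp_apply, hp0, map_zero] at h2
      exact Ideal.Quotient.eq_zero_iff_mem.mp h2
    · apply Ideal.span_le.mpr
      rintro _ ⟨i, rfl⟩
      show s _ = 0
      rw [map_sub, hσ, sub_self]
  rw [hJ]
  exact Submodule.fg_span (Set.finite_range _)

theorem fp_of_finite_projective [Module.Finite A M] [Module.Projective A M] :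
    Algebra.FinitePresentation A (SymmetricAlgebra A M) := by
  obtain ⟨n, f, g, hf, hg, hfg⟩ := Module.Finite.exists_comp_eq_id_of_projective A M
  let b : Module.Basis (Fin n) A (Fin n → A) := Pi.basisFun A (Fin n)
  let e := SymmetricAlgebra.equivMvPolynomial b
  let F : SymmetricAlgebra A (Fin n → A) →ₐ[A] SymmetricAlgebra A M :=
    SymmetricAlgebra.lift (SymmetricAlgebra.ι A M ∘ₗ f)
  let G : SymmetricAlgebra A M →ₐ[A] SymmetricAlgebra A (Fin n → A) :=
    SymmetricAlgebra.lift (SymmetricAlgebra.ι A _ ∘ₗ g)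
  have hFG : F.comp G = AlgHom.id A _ := by
    apply SymmetricAlgebra.algHom_ext
    ext m
    have := DFunLike.congr_fun hfg m
    simp only [LinearMap.comp_apply, LinearMap.id_apply] at this
    simp [F, G, SymmetricAlgebra.lift_ι_apply, this]
  refine fp_of_retract (F.comp e.symm.toAlgHom) (e.toAlgHom.comp G) ?_
  refine AlgHom.ext fun x => ?_
  have := DFunLike.congr_fun hFG x
  simpa using this

theorem formallySmooth_of_projective [Module.Projective A M] :
    Algebra.FormallySmooth A (SymmetricAlgebra A M) := by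
  refine Algebra.FormallySmooth.of_comp_surjective fun B _ _ I hI f => ?_
  have hsurj : Function.Surjective (Ideal.Quotient.mkₐ A I).toLinearMap :=
    Ideal.Quotient.mk_surjective
  obtain ⟨g, hg⟩ := Module.projective_lifting_property (Ideal.Quotient.mkₐ A I).toLinearMap
    (f.toLinearMap ∘ₗ SymmetricAlgebra.ι A M) hsurj
  refine ⟨SymmetricAlgebra.lift g, ?_⟩
  apply SymmetricAlgebra.algHom_ext
  ext m
  have := DFunLike.congr_fun hg m
  simpa [SymmetricAlgebra.lift_ι_apply] using this

end

section rev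
variable {A : Type u} [CommRing A] (N : Type u) [AddCommGroup N] [Module A N]
  [Module Aᵐᵒᵖ N] [IsCentralScalar A N]

noncomputable def toTSZ : SymmetricAlgebra A N →ₐ[A] TrivSqZeroExt A N :=
  SymmetricAlgebra.lift (TrivSqZeroExt.inrHom A N)

noncomputable def d : SymmetricAlgebra A N →ₗ[A] N :=
  (TrivSqZeroExt.sndHom A N) ∘ₗ (toTSZ N).toLinearMap

lemma d_ι (m : N) : d N (SymmetricAlgebra.ι A N m) = m := by
  simp [d, toTSZ, SymmetricAlgebra.lift_ι_apply]

lemma d_mul (x y : SymmetricAlgebra A N) :
    d N (x * y) = (fst (toTSZ N x)) • d N y + (fst (toTSZ N y)) • d N x := by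
  simp [d, map_mul, snd_mul]

lemma d_algebraMap (a : A) : d N (algebraMap A (SymmetricAlgebra A N) a) = 0 := by
  simp [d, TrivSqZeroExt.algebraMap_eq_inl]

theorem finite_of_finiteType [Algebra.FiniteType A (SymmetricAlgebra A N)] :
    Module.Finite A N := by
  obtain ⟨S, hS⟩ := Algebra.FiniteType.out (R := A) (A := SymmetricAlgebra A N)
  have key : ∀ x ∈ Algebra.adjoin A (S : Set (SymmetricAlgebra A N)),
      d N x ∈ Submodule.span A ((d N) '' (S : Set (SymmetricAlgebra A N))) := by
    intro x hx
    induction hx using Algebra.adjoin_induction with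
    | mem x hx => exact Submodule.subset_span ⟨x, hx, rfl⟩
    | algebraMap a => rw [d_algebraMap]; exact Submodule.zero_mem _
    | add x y _ _ hx hy => rw [map_add]; exact Submodule.add_mem _ hx hy
    | mul x y _ _ hx hy =>
      rw [d_mul]
      exact Submodule.add_mem _ (Submodule.smul_mem _ _ hy) (Submodule.smul_mem _ _ hx)
  have htop : Submodule.span A ((d N) '' (S : Set (SymmetricAlgebra A N))) = ⊤ := by
    rw [eq_top_iff]
    intro m _
    have := key (SymmetricAlgebra.ι A N m) (by rw [hS]; exact Algebra.mem_top)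
    rwa [d_ι] at this
  classical
  refine ⟨⟨S.image (d N), ?_⟩⟩
  rw [Finset.coe_image]
  exact htop

theorem exists_lift' {R A B C : Type u} [CommRing R] [CommRing A] [Algebra R A] [CommRing B]
    [Algebra R B] [CommRing C] [Algebra R C] [Algebra.FormallySmooth R A] (f : A →ₐ[R] C)
    (g : B →ₐ[R] C) (hg : Function.Surjective g)
    (hg' : IsNilpotent <| RingHom.ker (g : B →+* C)) :
    ∃ h : A →ₐ[R] B, ∀ x, g (h x) = f x :=
  ⟨Algebra.FormallySmooth.liftOfSurjective f g hg hg',
    Algebra.FormallySmooth.liftOfSurjective_apply f g hg hg'⟩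

theorem isNilpotent_of_mul_eq_zero {B : Type*} [CommRing B] (I : Ideal B)
    (h : ∀ x ∈ I, ∀ y ∈ I, x * y = 0) : IsNilpotent I := by
  refine ⟨2, ?_⟩
  rw [pow_two, Ideal.zero_eq_bot, ← le_bot_iff]
  apply Ideal.mul_le.mpr
  intro x hx y hy
  rw [Ideal.mem_bot]
  exact h x hx y hy

section
variable (F : Type u) [AddCommGroup F] [Module A F] [Module Aᵐᵒᵖ F] [IsCentralScalar A F]

theorem map_surj (p : F →ₗ[A] N) (hp : Function.Surjective p) :
    Function.Surjective (TrivSqZeroExt.map p) := by
  intro x
  obtain ⟨y, hy⟩ := hp x.snd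
  refine ⟨TrivSqZeroExt.inl x.fst + TrivSqZeroExt.inr y, ?_⟩
  apply TrivSqZeroExt.ext
  · simp
  · simp [hy]

theorem ker_nilp (p : F →ₗ[A] N) : IsNilpotent (RingHom.ker ((TrivSqZeroExt.map p :
    TrivSqZeroExt A F →ₐ[A] TrivSqZeroExt A N) : TrivSqZeroExt A F →+* TrivSqZeroExt A N)) := by
  apply isNilpotent_of_mul_eq_zero
  intro x hx y hy
  have hx0 : x.fst = 0 := by
    have h1 : TrivSqZeroExt.map p x = 0 := hx
    have := congrArg TrivSqZeroExt.fst h1
    simpa using this
  have hy0 : y.fst = 0 := by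
    have h1 : TrivSqZeroExt.map p y = 0 := hy
    have := congrArg TrivSqZeroExt.fst h1
    simpa using this
  apply TrivSqZeroExt.ext
  · simp [hx0]
  · simp [hx0, hy0]

theorem split_of_formallySmooth [Algebra.FormallySmooth A (SymmetricAlgebra A N)]
    (p : F →ₗ[A] N) (hp : Function.Surjective p) : ∃ s : N →ₗ[A] F, p ∘ₗ s = LinearMap.id := by
  obtain ⟨h, hh⟩ := exists_lift' (toTSZ N) (TrivSqZeroExt.map p)
    (map_surj N F p hp) (ker_nilp N F p)
  refine ⟨(TrivSqZeroExt.sndHom A F) ∘ₗ h.toLinearMap ∘ₗ SymmetricAlgebra.ι A N, ?_⟩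
  ext m
  have h1 := congrArg TrivSqZeroExt.snd (hh (SymmetricAlgebra.ι A N m))
  rw [TrivSqZeroExt.snd_map] at h1
  simp only [LinearMap.comp_apply, LinearMap.id_apply, TrivSqZeroExt.sndHom_apply,
    AlgHom.toLinearMap_apply]
  rw [h1]
  simp [toTSZ, SymmetricAlgebra.lift_ι_apply]

end

theorem projective_of_formallySmooth [Algebra.FormallySmooth A (SymmetricAlgebra A N)] :
    Module.Projective A N := by
  obtain ⟨s, hs⟩ := split_of_formallySmooth N (N →₀ A) (Finsupp.linearCombination A id)
    (Finsupp.linearCombination_id_surjective A N)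
  exact Module.Projective.of_split s _ hs

end rev

theorem main {A M : Type u} [CommRing A] [AddCommGroup M] [Module A M] :
    Algebra.Smooth A (SymmetricAlgebra A M) ↔ Module.Finite A M ∧ Module.Projective A M := by
  constructor
  · intro h
    let _ : Module Aᵐᵒᵖ M := Module.compHom _ ((RingHom.id A).fromOpposite mul_comm)
    have _ : IsCentralScalar A M := ⟨fun r m => rfl⟩
    exact ⟨finite_of_finiteType M, projective_of_formallySmooth M⟩
  · rintro ⟨h1, h2⟩
    exact ⟨formallySmooth_of_projective, fp_of_finite_projective⟩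

end Groth.Agent.H15.SymSmooth
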