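import Mathlib
import Groth.Agent.H15.ObsDim
import Groth.Agent.H15.ObsPS2

universe u

open CategoryTheory
open scoped TensorProduct

namespace Groth.Agent.H15.TrivLift

open ArtFun ArtFun.Art IsLocalRing MvPowerSeries TrivSqZeroExt Groth.Agent.H15.PSEval
  Groth.Agent.H15.ObsPS Groth.Agent.H15.ObsPS2 Groth.Agent.H15.ObsDim

section Nilp

variable {A : Type u} [CommRing A] {M : Type u} [AddCommGroup M] [Module A M] [Module Aᵐᵒᵖ M]
  [IsCentralScalar A M]

/-- The kernel of the first projection squares to zero. -/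
lemma ker_fst_sq : (RingHom.ker (fstHom A A M : TrivSqZeroExt A M →+* A)) ^ 2 = ⊥ := by
  rw [eq_bot_iff, pow_two, Ideal.mul_le]
  intro x hx y hy
  rw [RingHom.mem_ker] at hx hy
  have hx' : x.fst = 0 := hx
  have hy' : y.fst = 0 := hy
  rw [Ideal.mem_bot]
  ext
  · rw [fst_mul, hx', zero_mul, fst_zero]
  · rw [snd_mul, hx', hy', MulOpposite.op_zero, zero_smul, zero_smul, add_zero, snd_zero]

/-- A family of elements of a trivial extension of an Artinian local ring whose first components
are non-units generates a nilpotent ideal. -/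
theorem exists_pow_span_eq_bot [IsLocalRing A] [IsArtinianRing A] {σ : Type*}
    (b : σ → TrivSqZeroExt A M) (hb : ∀ i, (b i).fst ∈ maximalIdeal A) :
    ∃ N : ℕ, (Ideal.span (Set.range b)) ^ N = ⊥ := by
  obtain ⟨N, hN⟩ := IsArtinianRing.isNilpotent_jacobson_bot (R := A)
  rw [IsLocalRing.jacobson_eq_maximalIdeal ⊥ bot_ne_top] at hN
  refine ⟨N * 2, ?_⟩
  have h1 : (Ideal.span (Set.range b)) ^ N ≤
      RingHom.ker (fstHom A A M : TrivSqZeroExt A M →+* A) := by
    intro x hx
    rw [RingHom.mem_ker]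
    have h2 : (fstHom A A M : TrivSqZeroExt A M →+* A) x ∈
        ((Ideal.span (Set.range b)) ^ N).map (fstHom A A M : TrivSqZeroExt A M →+* A) :=
      Ideal.mem_map_of_mem _ hx
    rw [Ideal.map_pow, Ideal.map_span] at h2
    have h3 : Ideal.span ((fstHom A A M : TrivSqZeroExt A M →+* A) '' Set.range b) ≤
        maximalIdeal A := by
      rw [Ideal.span_le]
      rintro _ ⟨_, ⟨i, rfl⟩, rfl⟩
      exact hb i
    have h4 := Ideal.pow_right_mono h3 N h2
    rw [hN] at h4
    exact h4
  rw [pow_mul, eq_bot_iff, ← ker_fst_sq (A := A) (M := M)]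
  exact Ideal.pow_right_mono h1 2

end Nilp

section Forward

variable {k : Type u} [Field k]

theorem lift_of_equiv {n : ℕ} {Rc : Type u} [CommRing Rc] [Algebra k Rc]
    (e : Rc ≃ₐ[k] MvPowerSeries (Fin n) k)
    (A : Art k k) (M M' : Type u) [AddCommGroup M] [Module A M] [Module Aᵐᵒᵖ M]
    [IsCentralScalar A M] [Module k M] [IsScalarTower k A M] [IsScalarTower k Aᵐᵒᵖ M]
    [AddCommGroup M'] [Module A M'] [Module Aᵐᵒᵖ M'] [IsCentralScalar A M'] [Module k M']
    [IsScalarTower k A M'] [IsScalarTower k Aᵐᵒᵖ M'] (f : M' →ₗ[A] M) (hf : Function.Surjective f)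
    (φ : Rc →ₐ[k] TrivSqZeroExt A M) :
    ∃ ψ : Rc →ₐ[k] TrivSqZeroExt A M', ∀ r, (ψ r).fst = (φ r).fst ∧ f (ψ r).snd = (φ r).snd := by
  classical
  set φ' : MvPowerSeries (Fin n) k →ₐ[k] TrivSqZeroExt A M := φ.comp e.symm.toAlgHom with hφ'
  have ha : ∀ i, (φ' (X i)).fst ∈ maximalIdeal A := fun i => by
    rw [Art.mem_maximalIdeal_iff]
    have h1 := algHom_eq_resS ((A.res.comp (fstHom k A M)).comp φ')
    have h2 := DFunLike.congr_fun h1 (X i)
    rw [resS_apply, constantCoeff_X] at h2
    exact h2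
  choose m' hm' using fun i => hf (φ' (X i)).snd
  set b : Fin n → TrivSqZeroExt A M' := fun i => inl (φ' (X i)).fst + inr (m' i) with hb
  have hbfst : ∀ i, (b i).fst ∈ maximalIdeal A := fun i => by
    simp only [hb, fst_add, fst_inl, fst_inr, add_zero]
    exact ha i
  obtain ⟨N, hN⟩ := exists_pow_span_eq_bot b hbfst
  obtain ⟨ψ₀, hψC, hψX⟩ := exists_eval (algebraMap k (TrivSqZeroExt A M')) b N hN
  let ψ' : MvPowerSeries (Fin n) k →ₐ[k] TrivSqZeroExt A M' :=
    { ψ₀ with
      commutes' := fun c => by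
        change ψ₀ (algebraMap k (MvPowerSeries (Fin n) k) c) = _
        rw [← c_eq_algebraMap, hψC] }
  have hψ'X : ∀ i, ψ' (X i) = b i := hψX
  have hmapX : ∀ i, TrivSqZeroExt.map f (b i) = φ' (X i) := fun i => by
    simp only [hb, map_add, map_inl, map_inr, hm']
    exact inl_fst_add_inr_snd_eq _
  have key : ((TrivSqZeroExt.map f : TrivSqZeroExt A M' →ₐ[A] TrivSqZeroExt A M) :
        TrivSqZeroExt A M' →+* TrivSqZeroExt A M).comp (ψ' : MvPowerSeries (Fin n) k →+* _) =
      (φ' : MvPowerSeries (Fin n) k →+* TrivSqZeroExt A M) := by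
    have hfstX : ∀ i, (TrivSqZeroExt.map f (b i)).fst ∈ maximalIdeal A := fun i => by
      rw [fst_map]; exact hbfst i
    obtain ⟨N', hN'⟩ := exists_pow_span_eq_bot (fun i => TrivSqZeroExt.map f (b i)) hfstX
    refine ringHom_ext_nilp _ _ ?_ ?_ N' ?_
    · intro c
      change TrivSqZeroExt.map f (ψ' (C c)) = φ' (C c)
      rw [c_eq_algebraMap, ψ'.commutes, φ'.commutes, algebraMap_eq_inl', map_inl,
        algebraMap_eq_inl']
    · intro i
      change TrivSqZeroExt.map f (ψ' (X i)) = φ' (X i)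
      rw [hψ'X, hmapX]
    · have : (fun i => ((TrivSqZeroExt.map f : TrivSqZeroExt A M' →ₐ[A] TrivSqZeroExt A M) :
          TrivSqZeroExt A M' →+* TrivSqZeroExt A M).comp (ψ' : MvPowerSeries (Fin n) k →+* _) (X i)) =
          fun i => TrivSqZeroExt.map f (b i) := by
        funext i
        change TrivSqZeroExt.map f (ψ' (X i)) = _
        rw [hψ'X]
      rw [this]
      exact hN'
  refine ⟨ψ'.comp e.toAlgHom, fun r => ?_⟩
  have h1 : TrivSqZeroExt.map f (ψ' (e r)) = φ' (e r) := RingHom.congr_fun key (e r)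
  have h2 : φ' (e r) = φ r := by
    rw [hφ']
    change φ (e.symm (e r)) = φ r
    rw [e.symm_apply_apply]
  rw [h2] at h1
  change (ψ' (e r)).fst = (φ r).fst ∧ f (ψ' (e r)).snd = (φ r).snd
  rw [← h1, fst_map, snd_map]
  exact ⟨rfl, rfl⟩

end Forward

section Backward

variable {k : Type u} [Field k] {d : ℕ}
  (J : Ideal (MvPowerSeries (Fin d) k)) (hJm : J ≤ Groth.Agent.H15.ArtPoly.mP (resS k d)) (N : ℕ)

lemma mul_inl_inr {A : Type u} [CommRing A] {M : Type u} [AddCommGroup M] [Module A M]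
    [Module Aᵐᵒᵖ M] [IsCentralScalar A M] (a a' : A) (v v' : M) :
    (inl a + inr v : TrivSqZeroExt A M) * (inl a' + inr v') =
      inl (a * a') + inr (a • v' + a' • v) := by
  ext
  · simp [fst_mul]
  · simp [snd_mul, op_smul_eq_smul]

/-- The gradient modulo the ideal. -/
noncomputable def grad : MvPowerSeries (Fin d) k →ₗ[k] (Fin d → Cq J hJm N) where
  toFun g := fun i => mk₀ J hJm N (pderiv k i g)
  map_add' g h := by
    funext i
    simp only [map_add, Pi.add_apply]
  map_smul' c g := by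
    funext i
    simp only [Pi.smul_apply, RingHom.id_apply]
    rw [Derivation.map_smul, map_smul]

lemma grad_apply (g : MvPowerSeries (Fin d) k) (i : Fin d) :
    grad J hJm N g i = mk₀ J hJm N (pderiv k i g) := rfl

lemma grad_mul (g h : MvPowerSeries (Fin d) k) :
    grad J hJm N (g * h) = mk₀ J hJm N g • grad J hJm N h + mk₀ J hJm N h • grad J hJm N g := by
  funext i
  simp only [grad_apply, Pi.add_apply, Pi.smul_apply, smul_eq_mul, Derivation.leibniz, map_add,
    map_mul]

lemma grad_C (c : k) : grad J hJm N (C c) = 0 := by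
  funext i
  simp only [grad_apply, pderiv_C, map_zero, Pi.zero_apply]

variable {V' : Type u} [AddCommGroup V'] [Module (Cq J hJm N) V'] [Module (Cq J hJm N)ᵐᵒᵖ V']
  [IsCentralScalar (Cq J hJm N) V'] [Module k V'] [IsScalarTower k (Cq J hJm N) V']
  [IsScalarTower k (Cq J hJm N)ᵐᵒᵖ V']

/-- The first-order jet map twisted by a linear map. -/
noncomputable def Phi (L : (Fin d → Cq J hJm N) →ₗ[Cq J hJm N] V') :
    MvPowerSeries (Fin d) k →ₐ[k] TrivSqZeroExt (Cq J hJm N) V' where
  toFun g := inl (mk₀ J hJm N g) + inr (L (grad J hJm N g))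
  map_one' := by
    have h1 : grad J hJm N (1 : MvPowerSeries (Fin d) k) = 0 := by
      have := grad_C J hJm N (1 : k)
      rwa [map_one] at this
    rw [h1, map_zero, inr_zero, add_zero, map_one, inl_one]
  map_mul' g h := by
    rw [mul_inl_inr, map_mul, grad_mul, map_add, map_smul, map_smul]
  map_zero' := by
    rw [map_zero, map_zero, map_zero, inl_zero, inr_zero, add_zero]
  map_add' g h := by
    rw [map_add, map_add, map_add, inl_add, inr_add]
    abel_nf
  commutes' c := by
    rw [← c_eq_algebraMap, grad_C, map_zero, inr_zero, add_zero, algebraMap_eq_inl']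
    congr 1

lemma Phi_apply (L : (Fin d → Cq J hJm N) →ₗ[Cq J hJm N] V') (g : MvPowerSeries (Fin d) k) :
    Phi J hJm N L g = inl (mk₀ J hJm N g) + inr (L (grad J hJm N g)) := rfl

omit [IsScalarTower k (Cq J hJm N) V'] [IsScalarTower k (Cq J hJm N)ᵐᵒᵖ V'] [Module k V'] in
lemma mk₀_mem_max {g : MvPowerSeries (Fin d) k} (hg : g ∈ maximalIdeal (MvPowerSeries (Fin d) k)) :
    mk₀ J hJm N g ∈ maximalIdeal (Cq J hJm N) := by
  rw [Art.mem_maximalIdeal_iff]
  change resS k d g = 0
  rw [resS_apply]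
  exact (mem_max_iff g).1 hg

lemma pderiv_mem_max {g : MvPowerSeries (Fin d) k}
    (hg : g ∈ maximalIdeal (MvPowerSeries (Fin d) k) ^ 2) (i : Fin d) :
    pderiv k i g ∈ maximalIdeal (MvPowerSeries (Fin d) k) := by
  rw [pow_two] at hg
  refine Submodule.mul_induction_on hg ?_ ?_
  · intro a ha b hb
    rw [Derivation.leibniz]
    exact Ideal.add_mem _ (Ideal.mul_mem_right _ _ ha) (Ideal.mul_mem_right _ _ hb)
  · intro x y hx hy
    rw [map_add]
    exact Ideal.add_mem _ hx hy

/-- The lifting property in the form used below. -/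
def LiftProp (k : Type u) [Field k] (Rc : Type u) [CommRing Rc] [Algebra k Rc] : Prop :=
  ∀ (A : ArtFun.Art k k) (M M' : Type u) [AddCommGroup M] [Module (↥A) M] [Module (↥A)ᵐᵒᵖ M]
    [IsCentralScalar (↥A) M] [Module k M] [IsScalarTower k (↥A) M] [IsScalarTower k (↥A)ᵐᵒᵖ M]
    [AddCommGroup M'] [Module (↥A) M'] [Module (↥A)ᵐᵒᵖ M'] [IsCentralScalar (↥A) M'] [Module k M']
    [IsScalarTower k (↥A) M'] [IsScalarTower k (↥A)ᵐᵒᵖ M'] (f : M' →ₗ[↥A] M),
    Function.Surjective f →
      ∀ φ : Rc →ₐ[k] TrivSqZeroExt (↥A) M,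
        ∃ ψ : Rc →ₐ[k] TrivSqZeroExt (↥A) M',
          ∀ r : Rc, (ψ r).fst = (φ r).fst ∧ f (ψ r).snd = (φ r).snd

/-- The lifting property for finite modules only. -/
def LiftPropFin (k : Type u) [Field k] (Rc : Type u) [CommRing Rc] [Algebra k Rc] : Prop :=
  ∀ (A : ArtFun.Art k k) (M M' : Type u) [AddCommGroup M] [Module (↥A) M] [Module (↥A)ᵐᵒᵖ M]
    [IsCentralScalar (↥A) M] [Module k M] [IsScalarTower k (↥A) M] [IsScalarTower k (↥A)ᵐᵒᵖ M]
    [Module.Finite (↥A) M]
    [AddCommGroup M'] [Module (↥A) M'] [Module (↥A)ᵐᵒᵖ M'] [IsCentralScalar (↥A) M'] [Module k M']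
    [IsScalarTower k (↥A) M'] [IsScalarTower k (↥A)ᵐᵒᵖ M'] [Module.Finite (↥A) M']
    (f : M' →ₗ[↥A] M),
    Function.Surjective f →
      ∀ φ : Rc →ₐ[k] TrivSqZeroExt (↥A) M,
        ∃ ψ : Rc →ₐ[k] TrivSqZeroExt (↥A) M',
          ∀ r : Rc, (ψ r).fst = (φ r).fst ∧ f (ψ r).snd = (φ r).snd

lemma LiftProp.fin {k : Type u} [Field k] {Rc : Type u} [CommRing Rc] [Algebra k Rc]
    (H : LiftProp k Rc) : LiftPropFin k Rc := by
  intro A M M' _ _ _ _ _ _ _ _ _ _ _ _ _ _ _ _ f hf φ
  exact H A M M' f hf φ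

include hJm in
theorem pderiv_mem_I₀ (hJ2 : J ≤ maximalIdeal (MvPowerSeries (Fin d) k) ^ 2)
    {Rc : Type u} [CommRing Rc] [Algebra k Rc] (u : MvPowerSeries (Fin d) k →ₐ[k] Rc)
    (husurj : Function.Surjective u) (hker : RingHom.ker (u : MvPowerSeries (Fin d) k →+* Rc) = J)
    (H : LiftPropFin k Rc)
    (g : MvPowerSeries (Fin d) k) (hg : g ∈ J) (i : Fin d) :
    pderiv k i g ∈ I₀ J N := by
  classical
  let W : Submodule (Cq J hJm N) (Fin d → Cq J hJm N) :=
    Submodule.span (Cq J hJm N) ((grad J hJm N) '' (J : Set (MvPowerSeries (Fin d) k)))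
  have hgradW : ∀ h ∈ J, grad J hJm N h ∈ W := fun h hh =>
    Submodule.subset_span ⟨h, hh, rfl⟩
  -- the map to the quotient kills `J`
  have hkill : ∀ h ∈ J, Phi J hJm N W.mkQ h = 0 := by
    intro h hh
    rw [Phi_apply]
    have h1 : mk₀ J hJm N h = 0 := (mk₀_eq_zero_iff J hJm N h).2 (le_sup_left (a := J) hh)
    have h2 : W.mkQ (grad J hJm N h) = 0 := by
      rw [Submodule.mkQ_apply, Submodule.Quotient.mk_eq_zero]
      exact hgradW h hh
    rw [h1, h2, inl_zero, inr_zero, add_zero]
  let φ : Rc →ₐ[k] TrivSqZeroExt (Cq J hJm N) ((Fin d → Cq J hJm N) ⧸ W) :=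
    AlgHom.liftOfSurjective u husurj (Phi J hJm N W.mkQ) (by
      intro h hh
      rw [RingHom.mem_ker]
      have : h ∈ J := by rw [← hker]; exact hh
      exact hkill h this)
  have hφ : ∀ h, φ (u h) = Phi J hJm N W.mkQ h := fun h =>
    AlgHom.liftOfSurjective_apply u husurj _ _ h
  obtain ⟨ψ, hψ⟩ := H (Cq J hJm N) ((Fin d → Cq J hJm N) ⧸ W) (Fin d → Cq J hJm N) W.mkQ
    (Submodule.mkQ_surjective W) φ
  -- the correction terms
  have hw : ∀ j, (ψ (u (X j))).snd - grad J hJm N (X j) ∈ W := by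
    intro j
    have h1 := (hψ (u (X j))).2
    rw [hφ, Phi_apply] at h1
    simp only [snd_add, snd_inl, snd_inr, zero_add] at h1
    rw [← Submodule.Quotient.mk_eq_zero, Submodule.Quotient.mk_sub]
    rw [Submodule.mkQ_apply, Submodule.mkQ_apply] at h1
    rw [h1, sub_self]
  let U : (Fin d → Cq J hJm N) →ₗ[Cq J hJm N] (Fin d → Cq J hJm N) :=
    { toFun := fun v => ∑ j, v j • ((ψ (u (X j))).snd - grad J hJm N (X j))
      map_add' := fun v v' => by
        simp only [Pi.add_apply, add_smul, Finset.sum_add_distrib]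
      map_smul' := fun a v => by
        simp only [Pi.smul_apply, smul_eq_mul, mul_smul, Finset.smul_sum, RingHom.id_apply] }
  have hU : ∀ v, U v = ∑ j, v j • ((ψ (u (X j))).snd - grad J hJm N (X j)) := fun v => rfl
  let T : (Fin d → Cq J hJm N) →ₗ[Cq J hJm N] (Fin d → Cq J hJm N) := LinearMap.id + U
  have hgradX : ∀ j j', grad J hJm N (X j) j' = if j' = j then 1 else 0 := by
    intro j j'
    rw [grad_apply, pderiv_X]
    by_cases h : j' = j
    · subst h
      rw [Pi.single_eq_same, map_one, if_pos rfl]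
    · rw [Pi.single_eq_of_ne' h, map_zero, if_neg h]
  have hTX : ∀ j, T (grad J hJm N (X j)) = (ψ (u (X j))).snd := by
    intro j
    change grad J hJm N (X j) + U (grad J hJm N (X j)) = _
    rw [hU]
    simp only [hgradX, ite_smul, one_smul, zero_smul, Finset.sum_ite_eq', Finset.mem_univ, if_true]
    abel
  -- comparison of the two maps
  have hcomp : (Phi J hJm N T : MvPowerSeries (Fin d) k →+*
        TrivSqZeroExt (Cq J hJm N) (Fin d → Cq J hJm N)) =
      ((ψ.comp u : MvPowerSeries (Fin d) k →ₐ[k]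
        TrivSqZeroExt (Cq J hJm N) (Fin d → Cq J hJm N)) : MvPowerSeries (Fin d) k →+*
        TrivSqZeroExt (Cq J hJm N) (Fin d → Cq J hJm N)) := by
    have hfst : ∀ j, ((Phi J hJm N T) (X j)).fst ∈ maximalIdeal (Cq J hJm N) := by
      intro j
      rw [Phi_apply]
      simp only [fst_add, fst_inl, fst_inr, add_zero]
      apply mk₀_mem_max
      rw [mem_max_iff, constantCoeff_X]
    obtain ⟨N', hN'⟩ := exists_pow_span_eq_bot (fun j => (Phi J hJm N T) (X j)) hfst
    refine ringHom_ext_nilp _ _ ?_ ?_ N' hN'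
    · intro c
      change Phi J hJm N T (C c) = ψ (u (C c))
      rw [c_eq_algebraMap, AlgHom.commutes, AlgHom.commutes, AlgHom.commutes]
    · intro j
      change Phi J hJm N T (X j) = ψ (u (X j))
      rw [Phi_apply, hTX]
      have h1 := (hψ (u (X j))).1
      rw [hφ, Phi_apply] at h1
      simp only [fst_add, fst_inl, fst_inr, add_zero] at h1
      rw [← h1]
      exact inl_fst_add_inr_snd_eq _
  -- `T` kills `W`
  have hTgrad : ∀ h ∈ J, T (grad J hJm N h) = 0 := by
    intro h hh
    have h1 : Phi J hJm N T h = ψ (u h) := RingHom.congr_fun hcomp h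
    have h2 : u h = 0 := by
      have : h ∈ RingHom.ker (u : MvPowerSeries (Fin d) k →+* Rc) := by rw [hker]; exact hh
      exact this
    rw [h2, map_zero, Phi_apply] at h1
    have h3 := congrArg TrivSqZeroExt.snd h1
    simpa only [snd_add, snd_inl, snd_inr, zero_add, snd_zero] using h3
  have hTW : ∀ w ∈ W, T w = 0 := by
    intro w hw'
    refine Submodule.span_induction ?_ ?_ ?_ ?_ hw'
    · rintro _ ⟨h, hh, rfl⟩
      exact hTgrad h hh
    · exact map_zero T
    · intro x y _ _ hx hy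
      rw [map_add, hx, hy, add_zero]
    · intro a x _ hx
      rw [map_smul, hx, smul_zero]
  -- coordinates of elements of `W` are non-units
  have hWm : ∀ w ∈ W, ∀ j, w j ∈ maximalIdeal (Cq J hJm N) := by
    intro w hw'
    refine Submodule.span_induction ?_ ?_ ?_ ?_ hw'
    · rintro _ ⟨h, hh, rfl⟩ j
      rw [grad_apply]
      exact mk₀_mem_max J hJm N (pderiv_mem_max (hJ2 hh) j)
    · intro j
      exact Ideal.zero_mem _
    · intro x y _ _ hx hy j
      exact Ideal.add_mem _ (hx j) (hy j)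
    · intro a x _ hx j
      exact Ideal.mul_mem_left _ _ (hx j)
  -- Nakayama
  have hWle : W ≤ maximalIdeal (Cq J hJm N) • W := by
    intro w hw'
    have h1 : w + U w = 0 := hTW w hw'
    have h2 : w = - U w := eq_neg_of_add_eq_zero_left h1
    rw [h2, hU]
    refine Submodule.neg_mem _ (Submodule.sum_mem _ fun j _ => ?_)
    exact Submodule.smul_mem_smul (hWm w hw' j) (hw j)
  have hW0 : W = ⊥ :=
    Submodule.eq_bot_of_le_smul_of_le_jacobson_bot (maximalIdeal (Cq J hJm N)) W
      (IsNoetherian.noetherian W) hWle (IsLocalRing.maximalIdeal_le_jacobson ⊥)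
  have h1 : grad J hJm N g ∈ W := hgradW g hg
  rw [hW0, Submodule.mem_bot] at h1
  have h2 := congrFun h1 i
  rw [grad_apply, Pi.zero_apply] at h2
  exact (mk₀_eq_zero_iff J hJm N _).1 h2

end Backward

section Main

variable {k : Type u} [Field k] {d : ℕ}

/-- The kernel of the presentation is stable under partial derivatives. -/
theorem pderiv_mem_ker (R : CRing k k) (u : MvPowerSeries (Fin d) k →ₐ[k] R.carrier)
    (husurj : Function.Surjective u) (hu : R.res.comp u = resS k d)
    (hJ2 : RingHom.ker (u : MvPowerSeries (Fin d) k →+* R.carrier) ≤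
      maximalIdeal (MvPowerSeries (Fin d) k) ^ 2)
    (H : LiftPropFin k R.carrier) (g : MvPowerSeries (Fin d) k)
    (hg : g ∈ RingHom.ker (u : MvPowerSeries (Fin d) k →+* R.carrier)) (i : Fin d) :
    pderiv k i g ∈ RingHom.ker (u : MvPowerSeries (Fin d) k →+* R.carrier) := by
  have hJm : RingHom.ker (u : MvPowerSeries (Fin d) k →+* R.carrier) ≤
      Groth.Agent.H15.ArtPoly.mP (resS k d) := by
    rw [hmP]
    exact hJ2.trans (Ideal.pow_le_self two_ne_zero)
  have hum : ∀ a ∈ Groth.Agent.H15.ArtPoly.mP (resS k d), u a ∈ maximalIdeal R.carrier := by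
    intro a ha
    rw [CRing.mem_maximalIdeal_iff]
    have h1 : R.res (u a) = resS k d a := DFunLike.congr_fun hu a
    rw [h1]
    exact ha
  have hall : ∀ N : ℕ, u (pderiv k i g) ∈ maximalIdeal R.carrier ^ (N + 1) := by
    intro N
    have h1 := pderiv_mem_I₀ _ hJm N hJ2 u husurj rfl H g hg i
    obtain ⟨j, hj, y, hy, hjy⟩ := Submodule.mem_sup.1 h1
    rw [← hjy, map_add]
    have hj0 : u j = 0 := hj
    rw [hj0, zero_add]
    have h2 : (u : MvPowerSeries (Fin d) k →+* R.carrier) y ∈
        (Groth.Agent.H15.ArtPoly.mP (resS k d) ^ (N + 1)).map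
          (u : MvPowerSeries (Fin d) k →+* R.carrier) := Ideal.mem_map_of_mem _ hy
    rw [Ideal.map_pow] at h2
    refine Ideal.pow_right_mono ?_ (N + 1) h2
    rw [Ideal.map_le_iff_le_comap]
    intro a ha
    exact hum a ha
  rw [RingHom.mem_ker]
  have h3 : (u : MvPowerSeries (Fin d) k →+* R.carrier) (pderiv k i g) ∈
      (⨅ n : ℕ, maximalIdeal R.carrier ^ n) := by
    rw [Ideal.mem_iInf]
    intro n
    exact Ideal.pow_le_pow_right (Nat.le_succ n) (hall n)
  rw [Ideal.iInf_pow_eq_bot_of_isLocalRing _ (Ideal.IsPrime.ne_top inferInstance)] at h3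
  exact h3

/-- In characteristic zero a proper ideal stable under partial derivatives vanishes. -/
theorem eq_bot_of_pderiv_mem [CharZero k] (J : Ideal (MvPowerSeries (Fin d) k))
    (hJm : J ≤ maximalIdeal (MvPowerSeries (Fin d) k))
    (hd : ∀ g ∈ J, ∀ i, pderiv k i g ∈ J) : J = ⊥ := by
  classical
  have key : ∀ n : ℕ, ∀ g ∈ J, ∀ a : Fin d →₀ ℕ, a.degree = n → coeff a g = 0 := by
    intro n
    induction n with
    | zero =>
      intro g hg a ha
      rw [Finsupp.degree_eq_zero_iff] at ha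
      subst ha
      rw [coeff_zero_eq_constantCoeff_apply]
      exact (mem_max_iff g).1 (hJm hg)
    | succ n ih =>
      intro g hg a ha
      have hne : a ≠ 0 := by
        intro h
        rw [h, map_zero] at ha
        exact Nat.succ_ne_zero n ha.symm
      obtain ⟨i, hi⟩ : ∃ i, a i ≠ 0 := by
        by_contra hcon
        simp only [not_exists, not_not] at hcon
        exact hne (Finsupp.ext hcon)
      have hab : a - Finsupp.single i 1 + Finsupp.single i 1 = a :=
        Finsupp.sub_add_single_one_cancel hi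
      have hdeg : (a - Finsupp.single i 1).degree = n := by
        have h1 := congrArg Finsupp.degree hab
        rw [map_add, Finsupp.degree_single, ha] at h1
        exact Nat.succ_injective h1
      have h2 := ih (pderiv k i g) (hd g hg i) _ hdeg
      rw [coeff_pderiv, hab] at h2
      rcases mul_eq_zero.1 h2 with h3 | h3
      · exact h3
      · exact absurd h3 (Nat.cast_add_one_ne_zero _)
  rw [eq_bot_iff]
  intro g hg
  rw [Ideal.mem_bot]
  ext a
  rw [key _ g hg a rfl, map_zero]

theorem main_backward_fin [CharZero k] (R : CRing k k) (H : LiftPropFin k R.carrier) :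
    Nonempty (R.carrier ≃ₐ[k] MvPowerSeries
      (Fin (Module.finrank (IsLocalRing.ResidueField R.carrier)
        (IsLocalRing.CotangentSpace R.carrier))) k) := by
  obtain ⟨d, u, husurj, hu, hJ2⟩ := exists_presentation R
  have hJ0 : RingHom.ker (u : MvPowerSeries (Fin d) k →+* R.carrier) = ⊥ :=
    eq_bot_of_pderiv_mem _ (hJ2.trans (Ideal.pow_le_self two_ne_zero))
      (fun g hg i => pderiv_mem_ker R u husurj hu hJ2 H g hg i)
  have hinj : Function.Injective u := (RingHom.injective_iff_ker_eq_bot _).2 hJ0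
  let e : MvPowerSeries (Fin d) k ≃ₐ[k] R.carrier := AlgEquiv.ofBijective u ⟨hinj, husurj⟩
  have := isRegularLocalRing_ps k d
  have hreg : IsRegularLocalRing R.carrier := IsRegularLocalRing.of_ringEquiv e.toRingEquiv
  have h1 := (IsRegularLocalRing.iff_finrank_cotangentSpace R.carrier).1 hreg
  have h2 : ringKrullDim R.carrier = (d : WithBot ℕ∞) := by
    rw [← ringKrullDim_eq_of_ringEquiv e.toRingEquiv]
    exact le_antisymm (dim_le k d) (le_dim k d)
  rw [h2] at h1
  have h3 : Module.finrank (IsLocalRing.ResidueField R.carrier)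
      (IsLocalRing.CotangentSpace R.carrier) = d := by exact_mod_cast h1
  rw [h3]
  exact ⟨e.symm⟩

theorem main_backward [CharZero k] (R : CRing k k) (H : LiftProp k R.carrier) :
    Nonempty (R.carrier ≃ₐ[k] MvPowerSeries
      (Fin (Module.finrank (IsLocalRing.ResidueField R.carrier)
        (IsLocalRing.CotangentSpace R.carrier))) k) :=
  main_backward_fin R H.fin

end Main

end Groth.Agent.H15.TrivLift
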