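import Mathlib
import Groth.Agent.H15.TrivLift
import Groth.Agent.H15.ArtProrepK

universe u v

open CategoryTheory

namespace Groth.Agent.H15.T1Lift

open ArtFun ArtFun.Art IsLocalRing MvPowerSeries TrivSqZeroExt Groth.Agent.H15.PSEval
  Groth.Agent.H15.ObsPS Groth.Agent.H15.ObsPS2 Groth.Agent.H15.ObsDim Groth.Agent.H15.TrivLift

variable {k : Type u} [Field k]

/-- Every `k`-algebra map from a complete local `k`-algebra with residue field `k` to `k` is the
augmentation. -/
theorem algHom_eq_res (R : CRing k k) (g : R.carrier →ₐ[k] k) : g = R.res := by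
  have hker : ∀ y : R.carrier, R.res y = 0 → g y = 0 := by
    intro y hy
    by_contra hne
    have hym : y ∈ maximalIdeal R.carrier := (CRing.mem_maximalIdeal_iff R y).2 hy
    have hu : IsUnit (algebraMap k R.carrier (g y)) := (isUnit_iff_ne_zero.2 hne).map _
    have h1 : IsUnit (y - algebraMap k R.carrier (g y)) := by
      by_contra hnu
      have h2 : y - algebraMap k R.carrier (g y) ∈ maximalIdeal R.carrier :=
        (IsLocalRing.mem_maximalIdeal _).2 hnu
      have h3 : algebraMap k R.carrier (g y) ∈ maximalIdeal R.carrier := by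
        have := Ideal.sub_mem _ hym h2
        rwa [sub_sub_cancel] at this
      exact (IsLocalRing.mem_maximalIdeal _).1 h3 hu
    have h4 := h1.map g
    rw [map_sub, AlgHom.commutes, Algebra.algebraMap_self_apply, sub_self] at h4
    exact not_isUnit_zero h4
  apply AlgHom.ext
  intro x
  have h1 : R.res (x - algebraMap k R.carrier (R.res x)) = 0 := by
    rw [map_sub, AlgHom.commutes, Algebra.algebraMap_self_apply, sub_self]
  have h2 := hker _ h1
  rw [map_sub, AlgHom.commutes, Algebra.algebraMap_self_apply, sub_eq_zero] at h2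
  exact h2

section Obj

variable (A : Art k k) (M : Type u) [AddCommGroup M] [Module A M] [Module Aᵐᵒᵖ M]
  [IsCentralScalar A M] [Module k M] [IsScalarTower k A M] [IsScalarTower k Aᵐᵒᵖ M]

omit [Module k M] [IsScalarTower k A M] [IsScalarTower k Aᵐᵒᵖ M] in
theorem isLocalRing_tsze' : IsLocalRing (TrivSqZeroExt A M) := by
  have : Nontrivial (TrivSqZeroExt A M) :=
    ⟨⟨0, 1, fun h => zero_ne_one (α := A) (by simpa using congrArg TrivSqZeroExt.fst h)⟩⟩
  refine IsLocalRing.of_nonunits_add ?_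
  intro a b ha hb
  rw [mem_nonunits_iff, isUnit_iff_isUnit_fst] at ha hb ⊢
  rw [fst_add]
  exact fun h => (IsLocalRing.isUnit_or_isUnit_of_isUnit_add h).elim ha hb

omit [Module k M] [IsScalarTower k A M] [IsScalarTower k Aᵐᵒᵖ M] in
theorem isArtinianRing_tsze' [Module.Finite A M] : IsArtinianRing (TrivSqZeroExt A M) :=
  haveI : Module.Finite A (TrivSqZeroExt A M) := inferInstanceAs (Module.Finite A (A × M))
  IsArtinianRing.of_finite A _

/-- The trivial extension as an object. -/
noncomputable def tszeObj [Module.Finite A M] : Art k k :=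
  { carrier := TrivSqZeroExt A M
    isLocalRing := isLocalRing_tsze' A M
    isArtinianRing := isArtinianRing_tsze' A M
    res := A.res.comp (fstHom k A M)
    res_surjective := fun c => by
      obtain ⟨a, ha⟩ := A.res_surjective c
      exact ⟨inl a, ha⟩ }

/-- The projection. -/
noncomputable def fstMor [Module.Finite A M] : tszeObj A M ⟶ A := ⟨fstHom k A M, rfl⟩

/-- The section. -/
noncomputable def inlMor [Module.Finite A M] : A ⟶ tszeObj A M :=
  ⟨inlAlgHom k A M, AlgHom.ext fun _ => rfl⟩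

variable {M} {M' : Type u} [AddCommGroup M'] [Module A M'] [Module Aᵐᵒᵖ M']
  [IsCentralScalar A M'] [Module k M'] [IsScalarTower k A M'] [IsScalarTower k Aᵐᵒᵖ M']

/-- Functoriality, as `k`-algebra map. -/
noncomputable def mapAlg (f : M' →ₗ[A] M) : TrivSqZeroExt A M' →ₐ[k] TrivSqZeroExt A M :=
  { (TrivSqZeroExt.map f : TrivSqZeroExt A M' →+* TrivSqZeroExt A M) with
    commutes' := fun c => by
      change TrivSqZeroExt.map f (algebraMap k (TrivSqZeroExt A M') c) = _
      rw [algebraMap_eq_inl', map_inl, algebraMap_eq_inl'] }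

lemma mapAlg_apply (f : M' →ₗ[A] M) (x : TrivSqZeroExt A M') :
    mapAlg A f x = TrivSqZeroExt.map f x := rfl

/-- Functoriality. -/
noncomputable def mapMor [Module.Finite A M] [Module.Finite A M'] (f : M' →ₗ[A] M) :
    tszeObj A M' ⟶ tszeObj A M :=
  ⟨mapAlg A f, AlgHom.ext fun (x : TrivSqZeroExt A M') => by
    change A.res (TrivSqZeroExt.fst (TrivSqZeroExt.map f x)) = A.res (TrivSqZeroExt.fst x)
    rw [fst_map]⟩

end Obj

section Main

lemma mul_eq_zero_of_fst {A : Type u} [CommRing A] {N : Type u} [AddCommGroup N] [Module A N]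
    [Module Aᵐᵒᵖ N] [IsCentralScalar A N] (x y : TrivSqZeroExt A N) (hx : x.fst = 0)
    (hy : y.fst = 0) : x * y = 0 := by
  ext
  · rw [fst_mul, hx, zero_mul, fst_zero]
  · rw [snd_mul, hx, hy, MulOpposite.op_zero, zero_smul, zero_smul, add_zero, snd_zero]

lemma fst_snd_of_map {A : Type u} [CommRing A] {N N' : Type u} [AddCommGroup N] [Module A N]
    [Module Aᵐᵒᵖ N] [IsCentralScalar A N] [AddCommGroup N'] [Module A N']
    [Module Aᵐᵒᵖ N'] [IsCentralScalar A N'] (f : N' →ₗ[A] N) (w : TrivSqZeroExt A N')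
    (v : TrivSqZeroExt A N) (h : TrivSqZeroExt.map f w = v) :
    w.fst = v.fst ∧ f w.snd = v.snd := by
  rw [← h, fst_map, snd_map]
  exact ⟨rfl, rfl⟩

variable [CharZero k]

theorem main (F : Art k k ⥤ Type v) [TangentStr F] (h0 : H0 F)
    (hRS : (∀ ⦃B A A' A'' : Art k k⦄ (p' : B ⟶ A') (p'' : B ⟶ A'') (f' : A' ⟶ A) (f'' : A'' ⟶ A)
        (h : IsFibreProd p' p'' f' f''), Function.Surjective f'' → Function.Bijective (cmp F h)))
    (hfin : Hfin F)
    (hT1 : ∀ ⦃A A' A'' : Art k k⦄ (π' : A' ⟶ A) (i' : A ⟶ A') (π'' : A'' ⟶ A) (i'' : A ⟶ A'')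
        (q : A'' ⟶ A'), i' ≫ π' = 𝟙 A → i'' ≫ π'' = 𝟙 A →
        RingHom.ker π'.toAlgHom * RingHom.ker π'.toAlgHom = ⊥ →
        RingHom.ker π''.toAlgHom * RingHom.ker π''.toAlgHom = ⊥ →
        q ≫ π' = π'' → i'' ≫ q = i' → Function.Surjective q → Function.Surjective (F.map q)) :
    IsSmoothFunctor F := by
  classical
  -- pro-representability
  have hprorep : IsProrepresentable F := by
    refine (Groth.Agent.H15.ArtProrepK.prorep_iff_hsq (Λ := k) (k := k)
      Function.surjective_id F h0).2 ⟨?_, ?_, hfin, ?_⟩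
    · intro B A A' A'' p' p'' f' f'' h hsm
      exact (hRS p' p'' f' f'' h hsm.1).2
    · intro B A' p' p'' h
      exact hRS p' p'' _ _ h (dual k k).res_surjective
    · intro B A A' p₁ p₂ f h hsm
      exact hRS p₁ p₂ f f h hsm.1
  obtain ⟨⟨R, ξ, huniv⟩⟩ := hprorep
  -- the lifting property of the coefficient ring
  have hlift : LiftPropFin k R.carrier := by
    intro A M M' _ _ _ _ _ _ _ _ _ _ _ _ _ _ _ _ f hf φ
    have hker : ∀ (N : Type u) [AddCommGroup N] [Module A N] [Module Aᵐᵒᵖ N]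
        [IsCentralScalar A N] [Module k N] [IsScalarTower k A N] [IsScalarTower k Aᵐᵒᵖ N]
        [Module.Finite A N],
        RingHom.ker (fstMor A N).toAlgHom * RingHom.ker (fstMor A N).toAlgHom = ⊥ := by
      intro N _ _ _ _ _ _ _ _
      rw [eq_bot_iff, Ideal.mul_le]
      intro x hx y hy
      rw [Ideal.mem_bot]
      exact mul_eq_zero_of_fst (A := A) (N := N) x y hx hy
    have hqsurj : Function.Surjective (mapMor A f) := by
      intro (x : TrivSqZeroExt A M)
      obtain ⟨m', hm'⟩ := hf x.snd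
      refine ⟨(inl x.fst + inr m' : TrivSqZeroExt A M'), ?_⟩
      change TrivSqZeroExt.map f (inl x.fst + inr m') = x
      rw [map_add, map_inl, map_inr, hm', inl_fst_add_inr_snd_eq]
    have hsurjF := hT1 (fstMor A M) (inlMor A M) (fstMor A M') (inlMor A M') (mapMor A f)
      (Art.hom_ext (AlgHom.ext fun _ => rfl)) (Art.hom_ext (AlgHom.ext fun _ => rfl))
      (hker M) (hker M')
      (Art.hom_ext (AlgHom.ext fun (x : TrivSqZeroExt A M') => fst_map f x))
      (Art.hom_ext (AlgHom.ext fun (a : A) => map_inl f a)) hqsurj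
    let φ' : HomSet R.carrier R.res (tszeObj A M) := ⟨φ, algHom_eq_res R _⟩
    obtain ⟨z, hz⟩ := hsurjF (ξ.app _ φ')
    obtain ⟨ψ, rfl⟩ := (huniv (tszeObj A M')).2 z
    have h1 : ξ.app _ (HomSet.map (mapMor A f) ψ) = ξ.app _ φ' := by
      rw [ξ.natural, hz]
    have h2 : HomSet.map (mapMor A f) ψ = φ' := (huniv (tszeObj A M)).1 h1
    refine ⟨ψ.1, fun r => ?_⟩
    have h3 : TrivSqZeroExt.map f (ψ.1 r : TrivSqZeroExt A M') = φ r := by
      have := congrArg (fun t : HomSet R.carrier R.res (tszeObj A M) => t.1 r) h2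
      exact this
    exact fst_snd_of_map f _ _ h3
  obtain ⟨e⟩ := main_backward_fin R hlift
  -- smoothness
  intro B A μ hμ y
  obtain ⟨φ, rfl⟩ := (huniv A).2 y
  let χ : HomSet (MvPowerSeries (Fin _) k) (resS k _) A :=
    ⟨φ.1.comp e.symm.toAlgHom, algHom_eq_resS _⟩
  obtain ⟨ψ', hψ'⟩ := exists_lift_S μ hμ χ
  let ψ : HomSet R.carrier R.res B := ⟨ψ'.1.comp e.toAlgHom, algHom_eq_res R _⟩
  refine ⟨ξ.app B ψ, ?_⟩
  rw [← ξ.natural]
  congr 1
  apply Subtype.ext
  apply AlgHom.ext
  intro r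
  have h1 := congrArg (fun t : HomSet (MvPowerSeries (Fin _) k) (resS k _) A => t.1 (e r)) hψ'
  change μ.toAlgHom (ψ'.1 (e r)) = φ.1 (e.symm (e r)) at h1
  rw [e.symm_apply_apply] at h1
  exact h1

end Main

end Groth.Agent.H15.T1Lift
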