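import Mathlib
open TensorProduct

namespace Groth.Agent.H15.TorsBC

universe u
variable {R S : Type u} [CommRing R] [CommRing S] [Algebra R S]

section facts
variable (I : Ideal R) (hq : Function.Bijective (algebraMap (R ⧸ I) (S ⧸ I.map (algebraMap R S))))

theorem algMap_mk (r : R) : algebraMap (R ⧸ I) (S ⧸ I.map (algebraMap R S)) (Ideal.Quotient.mk I r) =
    Ideal.Quotient.mk _ (algebraMap R S r) := rfl

include hq in
theorem F1 (s : S) : ∃ r : R, s - algebraMap R S r ∈ I.map (algebraMap R S) := by
  obtain ⟨q, hq'⟩ := hq.2 (Ideal.Quotient.mk _ s)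
  obtain ⟨r, rfl⟩ := Ideal.Quotient.mk_surjective q
  refine ⟨r, ?_⟩
  rw [← Ideal.Quotient.eq, ← hq', algMap_mk]

include hq in
theorem F2 (r : R) (h : algebraMap R S r ∈ I.map (algebraMap R S)) : r ∈ I := by
  rw [← Ideal.Quotient.eq_zero_iff_mem] at h ⊢
  apply hq.1
  rw [map_zero, algMap_mk]; exact h

end facts

/-- the submodule killed by `J` -/
def tors (J : Ideal R) (T : Type u) [AddCommGroup T] [Module R T] : Submodule R T where
  carrier := {t | ∀ a ∈ J, a • t = 0}
  add_mem' := by
    intro x y hx hy a ha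
    rw [smul_add, hx a ha, hy a ha, add_zero]
  zero_mem' := by intro a _; exact smul_zero a
  smul_mem' := by
    intro c x hx a ha
    rw [smul_comm, hx a ha, smul_zero]

theorem mem_tors {J : Ideal R} {T : Type u} [AddCommGroup T] [Module R T] {t : T} :
    t ∈ tors J T ↔ ∀ a ∈ J, a • t = 0 := Iff.rfl

section surj
variable (I : Ideal R) (hq : Function.Bijective (algebraMap (R ⧸ I) (S ⧸ I.map (algebraMap R S))))

include hq in
theorem tmul_mem_range (T : Type u) [AddCommGroup T] [Module R T] :
    ∀ n : ℕ, ∀ t : T, (∀ a ∈ I ^ n, a • t = 0) → ∀ s : S,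
      s ⊗ₜ[R] t ∈ LinearMap.range (TensorProduct.mk R S T 1) := by
  intro n
  induction n with
  | zero =>
    intro t ht s
    have : t = 0 := by
      have := ht 1 (by simp)
      simpa using this
    rw [this, tmul_zero]
    exact zero_mem _
  | succ n ih =>
    intro t ht s
    obtain ⟨r, hr⟩ := F1 I hq s
    have hQ : ∀ e ∈ I.map (algebraMap R S), ∀ s' : S,
        (s' * e) ⊗ₜ[R] t ∈ LinearMap.range (TensorProduct.mk R S T 1) := by
      intro e he
      refine Submodule.span_induction ?_ ?_ ?_ ?_ he
      · rintro _ ⟨a, ha, rfl⟩ s'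
        have h1 : (s' * algebraMap R S a) ⊗ₜ[R] t = s' ⊗ₜ[R] (a • t) := by
          rw [mul_comm, ← Algebra.smul_def, TensorProduct.smul_tmul]
        rw [h1]
        refine ih (a • t) (fun b hb => ?_) s'
        rw [smul_smul]
        exact ht _ (by rw [pow_succ]; exact Ideal.mul_mem_mul hb ha)
      · intro s'
        rw [mul_zero, zero_tmul]
        exact zero_mem _
      · intro x y _ _ hx hy s'
        rw [mul_add, add_tmul]
        exact add_mem (hx s') (hy s')
      · intro c x _ hx s'
        rw [smul_eq_mul, ← mul_assoc]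
        exact hx _
    have h2 : s ⊗ₜ[R] t = (1 : S) ⊗ₜ[R] (r • t) + (1 * (s - algebraMap R S r)) ⊗ₜ[R] t := by
      rw [one_mul, sub_tmul, ← TensorProduct.smul_tmul, Algebra.smul_def, mul_one]
      abel
    rw [h2]
    exact add_mem ⟨r • t, rfl⟩ (hQ _ hr 1)

include hq in
theorem mk_surjective (T : Type u) [AddCommGroup T] [Module R T]
    (hT : ∀ t : T, ∃ n : ℕ, ∀ a ∈ I ^ n, a • t = 0) :
    Function.Surjective (TensorProduct.mk R S T 1) := by
  intro z
  rw [← LinearMap.mem_range]
  induction z using TensorProduct.induction_on with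
  | zero => exact zero_mem _
  | tmul s t =>
    obtain ⟨n, hn⟩ := hT t
    exact tmul_mem_range I hq T n t hn s
  | add x y hx hy => exact add_mem hx hy

end surj

section inj
variable (I : Ideal R) (hq : Function.Bijective (algebraMap (R ⧸ I) (S ⧸ I.map (algebraMap R S))))

/-- the ring hom `S → R/I` -/
noncomputable def rho : S →+* R ⧸ I :=
  ((RingEquiv.ofBijective (algebraMap (R ⧸ I) (S ⧸ I.map (algebraMap R S))) hq).symm : _ →+* _).comp
    (Ideal.Quotient.mk (I.map (algebraMap R S)))

theorem rho_algebraMap (r : R) : rho I hq (algebraMap R S r) = Ideal.Quotient.mk I r := by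
  unfold rho
  simp only [RingHom.coe_comp, Function.comp_apply, RingHom.coe_coe]
  rw [RingEquiv.symm_apply_eq]
  rfl

include hq in
theorem mk_injective_one (T : Type u) [AddCommGroup T] [Module R T]
    (hT : ∀ a ∈ I, ∀ t : T, a • t = 0) :
    Function.Injective (TensorProduct.mk R S T 1) := by
  have hT' : Module.IsTorsionBySet R T (I : Set R) := by
    intro x a
    exact hT a a.2 x
  letI : Module (R ⧸ I) T := Module.IsTorsionBySet.module hT'
  have hmk : ∀ (b : R) (x : T), Ideal.Quotient.mk I b • x = b • x :=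
    fun b x => Module.IsTorsionBySet.mk_smul hT' b x
  let g : S ⊗[R] T →ₗ[R] T := TensorProduct.lift
    (LinearMap.mk₂ R (fun s t => rho I hq s • t)
      (fun s1 s2 t => by rw [map_add, add_smul])
      (fun c s t => by
        rw [Algebra.smul_def, map_mul, rho_algebraMap, mul_smul, hmk])
      (fun s t1 t2 => by rw [smul_add])
      (fun c s t => by
        obtain ⟨r', hr'⟩ := Ideal.Quotient.mk_surjective (rho I hq s)
        rw [← hr', hmk, hmk, smul_comm]))
  have hg : ∀ t : T, g (TensorProduct.mk R S T 1 t) = t := by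
    intro t
    simp only [TensorProduct.mk_apply, g, TensorProduct.lift.tmul, LinearMap.mk₂_apply, map_one,
      one_smul]
  exact Function.LeftInverse.injective hg

variable [Module.Flat R S]

include hq in
theorem mk_injective_pow : ∀ n : ℕ, ∀ (T : Type u) [AddCommGroup T] [Module R T],
    (∀ a ∈ I ^ n, ∀ t : T, a • t = 0) → Function.Injective (TensorProduct.mk R S T 1) := by
  intro n
  induction n with
  | zero =>
    intro T _ _ hT t1 t2 _
    have h0 : ∀ t : T, t = 0 := fun t => by
      have := hT 1 (by simp) t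
      simpa using this
    rw [h0 t1, h0 t2]
  | succ n ih =>
    intro T _ _ hT t1 t2 h12
    rw [← sub_eq_zero]
    have h : (1 : S) ⊗ₜ[R] (t1 - t2) = 0 := by
      rw [tmul_sub, sub_eq_zero]; exact h12
    set t := t1 - t2 with ht
    set T' := tors I T with hT'
    -- step a
    have hquot : ∀ b ∈ I ^ n, ∀ x : T ⧸ T', b • x = 0 := by
      intro b hb x
      obtain ⟨y, rfl⟩ := T'.mkQ_surjective x
      rw [← map_smul, Submodule.mkQ_apply, Submodule.Quotient.mk_eq_zero]
      intro a ha
      rw [smul_smul, mul_comm a b]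
      exact hT _ (by rw [pow_succ]; exact Ideal.mul_mem_mul hb ha) y
    have ha : t ∈ T' := by
      have h1 : TensorProduct.mk R S (T ⧸ T') 1 (T'.mkQ t) = 0 := by
        have : TensorProduct.mk R S (T ⧸ T') 1 (T'.mkQ t) =
            LinearMap.lTensor S T'.mkQ ((1 : S) ⊗ₜ[R] t) := by
          simp
        rw [this, h, map_zero]
      have h2 := ih (T ⧸ T') hquot (a₁ := T'.mkQ t) (a₂ := 0) (by rw [h1, map_zero])
      rwa [Submodule.mkQ_apply, Submodule.Quotient.mk_eq_zero] at h2
    -- step b
    have hb : (1 : S) ⊗ₜ[R] (⟨t, ha⟩ : T') = 0 := by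
      apply Module.Flat.lTensor_preserves_injective_linearMap (M := S) T'.subtype
        Subtype.val_injective
      rw [map_zero, LinearMap.lTensor_tmul, Submodule.subtype_apply]
      exact h
    have hc := mk_injective_one I hq T' (fun a ha t => by
      apply Subtype.ext
      exact t.2 a ha) (a₁ := ⟨t, ha⟩) (a₂ := 0) (by
        rw [map_zero]; exact hb)
    exact congrArg Subtype.val hc

include hq in
theorem mk_injective (T : Type u) [AddCommGroup T] [Module R T]
    (hT : ∀ t : T, ∃ n : ℕ, ∀ a ∈ I ^ n, a • t = 0) :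
    Function.Injective (TensorProduct.mk R S T 1) := by
  intro t1 t2 h12
  rw [← sub_eq_zero]
  have h : (1 : S) ⊗ₜ[R] (t1 - t2) = 0 := by
    rw [tmul_sub, sub_eq_zero]; exact h12
  set t := t1 - t2 with ht
  obtain ⟨n, hn⟩ := hT t
  set T' := tors (I ^ n) T with hT'
  have ha : t ∈ T' := hn
  have hb : (1 : S) ⊗ₜ[R] (⟨t, ha⟩ : T') = 0 := by
    apply Module.Flat.lTensor_preserves_injective_linearMap (M := S) T'.subtype
      Subtype.val_injective
    rw [map_zero, LinearMap.lTensor_tmul, Submodule.subtype_apply]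
    exact h
  have hc := mk_injective_pow I hq n T' (fun a ha t => by
    apply Subtype.ext
    exact t.2 a ha) (a₁ := ⟨t, ha⟩) (a₂ := 0) (by
      rw [map_zero]; exact hb)
  exact congrArg Subtype.val hc

end inj


section lemmaB
variable [Module.Flat R S]

theorem lTensor_proj_piRight {ι : Type*} [Fintype ι] [DecidableEq ι] (N : Type u) [AddCommGroup N]
    [Module R N] (z : S ⊗[R] (ι → N)) (i : ι) :
    TensorProduct.piRight R R S (fun _ : ι => N) z i =
      LinearMap.lTensor S (LinearMap.proj (R := R) (φ := fun _ : ι => N) i) z := by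
  induction z using TensorProduct.induction_on with
  | zero => simp
  | tmul s f => simp
  | add x y hx hy => simp only [map_add, Pi.add_apply, hx, hy]

theorem mem_range_lTensor_tors (J : Ideal R) (hJ : J.FG) (N : Type u) [AddCommGroup N] [Module R N]
    (y : S ⊗[R] N) (hy : ∀ a ∈ J, a • y = 0) :
    y ∈ LinearMap.range (LinearMap.lTensor S (tors J N).subtype) := by
  classical
  obtain ⟨s, hs⟩ := hJ
  let φ : N →ₗ[R] (s → N) := LinearMap.pi (fun a : s => (a : R) • LinearMap.id)
  have hex : Function.Exact (tors J N).subtype φ := by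
    intro x
    constructor
    · intro hx
      have hx' : x ∈ tors J N := by
        rw [mem_tors]
        intro a ha
        rw [← hs] at ha
        refine Submodule.span_induction ?_ ?_ ?_ ?_ ha
        · intro b hb
          have := congrFun hx ⟨b, hb⟩
          simpa [φ] using this
        · exact zero_smul _ _
        · intro a b _ _ h1 h2
          rw [add_smul, h1, h2, add_zero]
        · intro c a _ h1
          rw [smul_eq_mul, mul_smul, h1, smul_zero]
      exact ⟨⟨x, hx'⟩, rfl⟩
    · rintro ⟨x', rfl⟩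
      ext a
      simp only [φ, LinearMap.pi_apply, LinearMap.smul_apply, LinearMap.id_coe, id_eq,
        Submodule.subtype_apply, Pi.zero_apply]
      exact x'.2 a (by rw [← hs]; exact Ideal.subset_span a.2)
  have hex' := Module.Flat.lTensor_exact S hex
  rw [LinearMap.mem_range]
  apply (hex' y).mp
  apply (TensorProduct.piRight R R S (fun _ : s => N)).injective
  rw [map_zero]
  ext a
  rw [lTensor_proj_piRight, ← LinearMap.comp_apply, ← LinearMap.lTensor_comp]
  have : (LinearMap.proj (R := R) (φ := fun _ : s => N) a) ∘ₗ φ = (a : R) • LinearMap.id := by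
    ext x
    simp [φ]
  rw [this, LinearMap.lTensor_smul, LinearMap.lTensor_id, LinearMap.smul_apply, LinearMap.id_apply,
    Pi.zero_apply]
  exact hy a (by rw [← hs]; exact Ideal.subset_span a.2)

end lemmaB

section main
variable [Module.Flat R S]

/-- the power-torsion submodule -/
def ptors (I : Ideal R) (N : Type u) [AddCommGroup N] [Module R N] : Submodule R N where
  carrier := {y | ∃ n : ℕ, ∀ a ∈ I ^ n, a • y = 0}
  add_mem' := by
    rintro x y ⟨n, hn⟩ ⟨m, hm⟩
    refine ⟨max n m, fun a ha => ?_⟩
    rw [smul_add, hn a (Ideal.pow_le_pow_right (le_max_left n m) ha),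
      hm a (Ideal.pow_le_pow_right (le_max_right n m) ha), add_zero]
  zero_mem' := ⟨0, fun a _ => smul_zero a⟩
  smul_mem' := by
    rintro c x ⟨n, hn⟩
    refine ⟨n, fun a ha => ?_⟩
    rw [smul_comm, hn a ha, smul_zero]

theorem main {M N : Type u} (I : Ideal R) (hI : I.FG)
    (hq : Function.Bijective (algebraMap (R ⧸ I) (S ⧸ I.map (algebraMap R S))))
    [AddCommGroup M] [Module R M] [AddCommGroup N] [Module R N]
    (hMN : (∀ x : M, ∃ n : ℕ, ∀ a ∈ I ^ n, a • x = 0) ∨ (∀ y : N, ∃ n : ℕ, ∀ a ∈ I ^ n, a • y = 0)) :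
    Function.Bijective (fun f : M →ₗ[R] N => LinearMap.baseChange S f) := by
  rcases hMN with hM | hN
  · -- M torsion
    let Nt := ptors I N
    have hNt : ∀ t : Nt, ∃ n : ℕ, ∀ a ∈ I ^ n, a • t = 0 := by
      rintro ⟨t, n, hn⟩
      exact ⟨n, fun a ha => Subtype.ext (hn a ha)⟩
    let j : Nt →ₗ[R] S ⊗[R] N := (LinearMap.lTensor S Nt.subtype) ∘ₗ (TensorProduct.mk R S Nt 1)
    have hj : Function.Injective j :=
      (Module.Flat.lTensor_preserves_injective_linearMap (M := S) Nt.subtype
        Subtype.val_injective).comp (mk_injective I hq Nt hNt)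
    have hjapp : ∀ x : Nt, j x = (1 : S) ⊗ₜ[R] (x : N) := fun x => by
      simp [j]
    have hmem : ∀ (f : M →ₗ[R] N) (m : M), f m ∈ Nt := by
      intro f m
      obtain ⟨n, hn⟩ := hM m
      exact ⟨n, fun a ha => by rw [← map_smul, hn a ha, map_zero]⟩
    constructor
    · intro f g hfg
      simp only at hfg
      ext m
      have h1 : j ⟨f m, hmem f m⟩ = j ⟨g m, hmem g m⟩ := by
        rw [hjapp, hjapp]
        have := LinearMap.congr_fun hfg ((1 : S) ⊗ₜ[R] m)
        simpa using this
      exact congrArg Subtype.val (hj h1)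
    · intro g'
      let h : M →ₗ[R] S ⊗[R] N := (g'.restrictScalars R) ∘ₗ (TensorProduct.mk R S M 1)
      have hrange : ∀ m, h m ∈ LinearMap.range j := by
        intro m
        obtain ⟨n, hn⟩ := hM m
        have hy : ∀ a ∈ I ^ n, a • h m = 0 := by
          intro a ha
          rw [← map_smul, hn a ha, map_zero]
        obtain ⟨y', hy'⟩ := mem_range_lTensor_tors (S := S) (I ^ n) (Ideal.FG.pow hI) N (h m) hy
        have hT : ∀ t : tors (I ^ n) N, ∃ k : ℕ, ∀ a ∈ I ^ k, a • t = 0 :=
          fun t => ⟨n, fun a ha => Subtype.ext (t.2 a ha)⟩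
        obtain ⟨x, hx⟩ := mk_surjective I hq (tors (I ^ n) N) hT y'
        refine ⟨⟨(x : N), n, x.2⟩, ?_⟩
        rw [hjapp, ← hy', ← hx]
        simp
      let f' : M →ₗ[R] Nt := ((LinearEquiv.ofInjective j hj).symm : _ →ₗ[R] _) ∘ₗ
        (h.codRestrict (LinearMap.range j) hrange)
      have hf' : ∀ m, j (f' m) = h m := by
        intro m
        have := (LinearEquiv.ofInjective j hj).apply_symm_apply (h.codRestrict (LinearMap.range j) hrange m)
        have h2 := congrArg Subtype.val this
        simp [f'] at h2 ⊢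
      refine ⟨Nt.subtype ∘ₗ f', ?_⟩
      simp only
      apply TensorProduct.AlgebraTensorModule.ext
      intro s m
      rw [LinearMap.baseChange_tmul]
      have : s ⊗ₜ[R] ((Nt.subtype ∘ₗ f') m) = s • j (f' m) := by
        rw [hjapp, TensorProduct.smul_tmul', smul_eq_mul, mul_one]
        rfl
      rw [this, hf' m]
      show s • g' ((1 : S) ⊗ₜ[R] m) = g' (s ⊗ₜ[R] m)
      rw [← map_smul, TensorProduct.smul_tmul', smul_eq_mul, mul_one]
  · -- N torsion
    have hbij : Function.Bijective (TensorProduct.mk R S N 1) :=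
      ⟨mk_injective I hq N hN, mk_surjective I hq N hN⟩
    let eN : N ≃ₗ[R] S ⊗[R] N := LinearEquiv.ofBijective (TensorProduct.mk R S N 1) hbij
    have heN : ∀ x : N, eN x = (1 : S) ⊗ₜ[R] x := fun x => rfl
    constructor
    · intro f g hfg
      simp only at hfg
      ext m
      apply hbij.1
      have := LinearMap.congr_fun hfg ((1 : S) ⊗ₜ[R] m)
      simpa using this
    · intro g'
      let f : M →ₗ[R] N := (eN.symm : _ →ₗ[R] _) ∘ₗ (g'.restrictScalars R) ∘ₗ (TensorProduct.mk R S M 1)
      have hf : ∀ m, (1 : S) ⊗ₜ[R] f m = g' ((1 : S) ⊗ₜ[R] m) := by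
        intro m
        rw [← heN]
        simp [f]
      refine ⟨f, ?_⟩
      simp only
      apply TensorProduct.AlgebraTensorModule.ext
      intro s m
      rw [LinearMap.baseChange_tmul]
      have : s ⊗ₜ[R] f m = s • ((1 : S) ⊗ₜ[R] f m) := by
        rw [TensorProduct.smul_tmul', smul_eq_mul, mul_one]
      rw [this, hf m, ← map_smul, TensorProduct.smul_tmul', smul_eq_mul, mul_one]

end main

end Groth.Agent.H15.TorsBC
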