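import Mathlib
import Groth.Agent.H15.GraphLap

set_option autoImplicit false

namespace Groth.Agent.H15.TorsCoker

open Finset Groth.Agent.H15.GraphLap

variable {n : ℕ} (A : Matrix (Fin n) (Fin n) ℤ) (m : Fin n → ℤ)

/-- The edge type. -/
abbrev Edge : Type := {p : Fin n × Fin n // p.1 < p.2 ∧ 0 < A p.1 p.2}

theorem sum_edge {α : Type*} [Fintype α] [DecidableEq α] {F : Type*} [Field F]
    (P : α × α → Prop) [DecidablePred P] (g : α → α → F) (i : α) (hirr : ¬ P (i, i)) :
    ∑ p : {q : α × α // P q},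
        ((if p.1.1 = i then (1 : F) else 0) - (if p.1.2 = i then 1 else 0)) * g p.1.1 p.1.2
      = ∑ j, ((if P (i, j) then g i j else 0) - (if P (j, i) then g j i else 0)) := by
  have e2 : ∑ q ∈ univ.filter P,
      ((if q.1 = i then (1 : F) else 0) - (if q.2 = i then 1 else 0)) * g q.1 q.2 =
      ∑ p : {q : α × α // P q},
        ((if p.1.1 = i then (1 : F) else 0) - (if p.1.2 = i then 1 else 0)) * g p.1.1 p.1.2 :=
    Finset.sum_subtype (univ.filter P) (p := P) (by intro q; simp)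
      (fun q => ((if q.1 = i then (1 : F) else 0) - (if q.2 = i then 1 else 0)) * g q.1 q.2)
  rw [← e2, Finset.sum_filter, Fintype.sum_prod_type]
  have e3 : ∀ a b, (if P (a, b) then
      ((if a = i then (1 : F) else 0) - (if b = i then 1 else 0)) * g a b else 0) =
      (if a = i then (if P (i, b) then g i b else 0) else 0) -
        (if b = i then (if P (a, i) then g a i else 0) else 0) := by
    intro a b
    by_cases ha : a = i
    · subst ha
      by_cases hb : b = a
      · subst hb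
        simp [hirr]
      · by_cases hP : P (a, b)
        · simp [hP, hb]
        · simp [hP, hb]
    · by_cases hb : b = i
      · subst hb
        by_cases hP : P (a, b)
        · simp [hP, ha]
        · simp [hP, ha]
      · simp [ha, hb]
  simp only [e3, Finset.sum_sub_distrib]
  have e4 : ∑ a, ∑ b, (if a = i then (if P (i, b) then g i b else 0) else 0) =
      ∑ b, (if P (i, b) then g i b else 0) := by
    rw [Finset.sum_eq_single i (by intro a _ ha; simp [ha]) (by simp)]
    simp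
  have e5 : ∑ a, ∑ b, (if b = i then (if P (a, i) then g a i else 0) else 0) =
      ∑ a, (if P (a, i) then g a i else 0) := by
    apply Finset.sum_congr rfl
    intro a _
    simp
  rw [e4, e5]

section field

variable (ℓ : ℕ) [Fact ℓ.Prime]

/-- reduction of the matrix -/
def Abar : Matrix (Fin n) (Fin n) (ZMod ℓ) := A.map (Int.castRingHom (ZMod ℓ))

def mbar : Fin n → ZMod ℓ := fun i => (m i : ZMod ℓ)

def cw (p : Edge A) : ZMod ℓ := mbar m ℓ p.1.1 * (A p.1.1 p.1.2 : ZMod ℓ) * mbar m ℓ p.1.2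

theorem Abar_mulVec_cast (u : Fin n → ℤ) (i : Fin n) :
    (Abar A ℓ).mulVec (fun j => (u j : ZMod ℓ)) i = ((A.mulVec u i : ℤ) : ZMod ℓ) := by
  have := RingHom.map_mulVec (Int.castRingHom (ZMod ℓ)) A u i
  simpa [Abar, Function.comp_def] using this.symm

variable (hsymm : A.IsSymm) (hA : ∀ i j, i ≠ j → 0 ≤ A i j) (hm : ∀ i, 0 < m i)
  (hAm : A.mulVec m = 0)
  (hconn : ∀ I : Finset (Fin n), I.Nonempty → I ≠ univ → ∃ i ∈ I, ∃ j ∉ I, A i j ≠ 0)
  (hℓA : ∀ i j, A i j ≠ 0 → ¬ ((ℓ : ℤ) ∣ A i j))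
  (hℓm : ∀ i, ¬ ((ℓ : ℤ) ∣ m i))

include hℓm in
theorem mbar_ne (i : Fin n) : mbar m ℓ i ≠ 0 := by
  unfold mbar
  rw [Ne, ZMod.intCast_zmod_eq_zero_iff_dvd]
  exact hℓm i

include hℓm hℓA in
theorem cw_ne (p : Edge A) : cw A m ℓ p ≠ 0 := by
  unfold cw
  refine mul_ne_zero (mul_ne_zero (mbar_ne m ℓ hℓm _) ?_) (mbar_ne m ℓ hℓm _)
  rw [Ne, ZMod.intCast_zmod_eq_zero_iff_dvd]
  exact hℓA _ _ p.2.2.ne'

include hsymm hA hconn in
theorem conn' (hn : 0 < n) (y : Fin n → ZMod ℓ)
    (hy : ∀ p : Edge A, y p.1.1 = y p.1.2) : ∀ i j, y i = y j := by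
  have h0 : ∀ i, y i = y ⟨0, hn⟩ := by
    by_contra hcon
    push_neg at hcon
    obtain ⟨k, hk⟩ := hcon
    let I : Finset (Fin n) := univ.filter (fun i => y i = y ⟨0, hn⟩)
    have hI : I.Nonempty := ⟨⟨0, hn⟩, by simp [I]⟩
    have hIne : I ≠ univ := by
      intro he
      have : k ∈ I := he ▸ mem_univ k
      simp only [I, mem_filter, mem_univ, true_and] at this
      exact hk this
    obtain ⟨i, hi, j, hj, hij⟩ := hconn I hI hIne
    simp only [I, mem_filter, mem_univ, true_and] at hi hj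
    have hne : i ≠ j := by rintro rfl; exact hj hi
    have hpos : 0 < A i j := lt_of_le_of_ne (hA i j hne) (Ne.symm hij)
    apply hj
    rcases lt_or_gt_of_ne hne with hlt | hgt
    · have := hy ⟨(i, j), hlt, hpos⟩
      simp only at this
      rw [← this]; exact hi
    · have hji : A j i = A i j := Matrix.IsSymm.apply hsymm i j
      have := hy ⟨(j, i), hgt, by rw [hji]; exact hpos⟩
      simp only at this
      rw [this]; exact hi
  intro i j
  rw [h0 i, h0 j]

include hsymm hA hAm in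
/-- Identity (I). -/
theorem L_eq (x : Fin n → ZMod ℓ) (i : Fin n) (hμ : ∀ i, mbar m ℓ i ≠ 0) :
    L (fun p : Edge A => p.1.1) (fun p : Edge A => p.1.2) (cw A m ℓ) (mbar m ℓ) x i =
      mbar m ℓ i * (Abar A ℓ).mulVec x i := by
  classical
  rw [Groth.Agent.H15.GraphLap.L_apply]
  set y : Fin n → ZMod ℓ := fun j => x j * (mbar m ℓ j)⁻¹ with hy
  set C : Fin n → Fin n → ZMod ℓ := fun a b => mbar m ℓ a * (A a b : ZMod ℓ) * mbar m ℓ b with hC
  have hCsymm : ∀ a b, C a b = C b a := by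
    intro a b
    simp only [hC]
    rw [Matrix.IsSymm.apply hsymm b a]
    ring
  -- RHS
  have hrow : ∑ j, C i j = 0 := by
    have h1 := congrFun hAm i
    simp only [Matrix.mulVec, dotProduct, Pi.zero_apply] at h1
    have h2 : ((∑ j, A i j * m j : ℤ) : ZMod ℓ) = 0 := by rw [h1]; simp
    push_cast at h2
    simp only [hC]
    calc ∑ j, mbar m ℓ i * (A i j : ZMod ℓ) * mbar m ℓ j
        = mbar m ℓ i * ∑ j, (A i j : ZMod ℓ) * (m j : ZMod ℓ) := by
          rw [Finset.mul_sum]; apply Finset.sum_congr rfl; intro j _; unfold mbar; ring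
      _ = 0 := by rw [h2, mul_zero]
  have hR : mbar m ℓ i * (Abar A ℓ).mulVec x i = ∑ j, C i j * (y j - y i) := by
    have e1 : ∑ j, C i j * (y j - y i) = ∑ j, C i j * y j - (∑ j, C i j) * y i := by
      rw [Finset.sum_mul, ← Finset.sum_sub_distrib]
      apply Finset.sum_congr rfl; intro j _; ring
    rw [e1, hrow, zero_mul, sub_zero]
    simp only [Matrix.mulVec, dotProduct, Abar, Matrix.map_apply, Int.coe_castRingHom]
    rw [Finset.mul_sum]
    apply Finset.sum_congr rfl
    intro j _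
    simp only [hC, hy]
    have := hμ j
    field_simp
  rw [hR]
  have e2 := sum_edge (F := ZMod ℓ) (fun q : Fin n × Fin n => q.1 < q.2 ∧ 0 < A q.1 q.2)
    (fun a b => C a b * (y b - y a)) i (fun hh => lt_irrefl _ hh.1)
  refine Eq.trans ?_ (e2.trans ?_)
  · exact Finset.sum_congr rfl (fun p _ => rfl)
  apply Finset.sum_congr rfl
  intro j _
  dsimp only
  -- termwise
  rcases lt_trichotomy i j with hlt | heq | hgt
  · rw [if_neg (show ¬ (j < i ∧ 0 < A j i) from fun hh => absurd hh.1 (not_lt.mpr hlt.le)), sub_zero]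
    by_cases hpos : 0 < A i j
    · rw [if_pos (show i < j ∧ 0 < A i j from ⟨hlt, hpos⟩)]
    · rw [if_neg (show ¬ (i < j ∧ 0 < A i j) from fun hh => hpos hh.2)]
      have h0 : A i j = 0 := le_antisymm (not_lt.mp hpos) (hA i j hlt.ne)
      simp only [hC, h0]; simp
  · subst heq
    rw [if_neg (show ¬ (i < i ∧ 0 < A i i) from fun hh => absurd hh.1 (lt_irrefl _))]; simp
  · rw [if_neg (show ¬ (i < j ∧ 0 < A i j) from fun hh => absurd hh.1 (not_lt.mpr hgt.le)), zero_sub]
    by_cases hpos : 0 < A j i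
    · rw [if_pos (show j < i ∧ 0 < A j i from ⟨hgt, hpos⟩), hCsymm j i]; ring
    · rw [if_neg (show ¬ (j < i ∧ 0 < A j i) from fun hh => hpos hh.2)]
      have h0 : A j i = 0 := le_antisymm (not_lt.mp hpos) (hA j i hgt.ne)
      have h0' : A i j = 0 := by rw [Matrix.IsSymm.apply hsymm j i]; exact h0
      simp only [hC, h0']; simp

include hsymm hA hAm hconn hℓA hℓm in
theorem finrank_ker_le (hn : 0 < n) :
    Module.finrank (ZMod ℓ) (LinearMap.ker (Abar A ℓ).mulVecLin) ≤
      (univ.filter fun p : Fin n × Fin n => p.1 < p.2 ∧ 0 < A p.1 p.2).card + 2 - n := by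
  classical
  have hμ := mbar_ne m ℓ hℓm
  have h1 := finrank_ker_L_le (fun p : Edge A => p.1.1) (fun p : Edge A => p.1.2) (cw A m ℓ)
    (mbar m ℓ) hn (cw_ne A m ℓ hℓA hℓm) hμ (conn' A ℓ hsymm hA hconn hn)
  have hle : LinearMap.ker (Abar A ℓ).mulVecLin ≤
      LinearMap.ker (L (fun p : Edge A => p.1.1) (fun p : Edge A => p.1.2) (cw A m ℓ) (mbar m ℓ)) := by
    intro x hx
    rw [LinearMap.mem_ker, Matrix.mulVecLin_apply] at hx
    rw [LinearMap.mem_ker]
    funext i
    rw [L_eq A m ℓ hsymm hA hAm x i hμ, hx]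
    simp
  have h2 := Submodule.finrank_mono hle
  have h3 : Fintype.card (Edge A) =
      (univ.filter fun p : Fin n × Fin n => p.1 < p.2 ∧ 0 < A p.1 p.2).card :=
    Fintype.card_subtype _
  omega

end field

theorem main (hsymm : A.IsSymm) (hA : ∀ i j, i ≠ j → 0 ≤ A i j) (hm : ∀ i, 0 < m i)
    (hAm : A.mulVec m = 0)
    (hconn : ∀ I : Finset (Fin n), I.Nonempty → I ≠ univ → ∃ i ∈ I, ∃ j ∉ I, A i j ≠ 0)
    (ℓ : ℕ) (hℓ : ℓ.Prime) (hℓA : ∀ i j, A i j ≠ 0 → ¬ ((ℓ : ℤ) ∣ A i j))
    (hℓm : ∀ i, ¬ ((ℓ : ℤ) ∣ m i)) :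
    Nat.card (Submodule.torsionBy ℤ ((Fin n → ℤ) ⧸ LinearMap.range (Matrix.mulVecLin A)) (ℓ : ℤ))
      ≤ ℓ ^ ((univ.filter fun p : Fin n × Fin n => p.1 < p.2 ∧ 0 < A p.1 p.2).card + 1 - n) := by
  classical
  haveI : Fact ℓ.Prime := ⟨hℓ⟩
  rcases Nat.eq_zero_or_pos n with h0 | hn
  · subst h0
    haveI : Subsingleton (Submodule.torsionBy ℤ
        ((Fin 0 → ℤ) ⧸ LinearMap.range (Matrix.mulVecLin A)) (ℓ : ℤ)) := by
      constructor
      rintro ⟨a, _⟩ ⟨b, _⟩
      apply Subtype.ext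
      obtain ⟨a', rfl⟩ := Submodule.Quotient.mk_surjective _ a
      obtain ⟨b', rfl⟩ := Submodule.Quotient.mk_surjective _ b
      congr 1
      exact Subsingleton.elim _ _
    rw [Nat.card_unique]
    exact Nat.one_le_pow _ _ hℓ.pos
  · set K := LinearMap.ker (Abar A ℓ).mulVecLin with hK
    have hmK : mbar m ℓ ∈ K := by
      rw [hK, LinearMap.mem_ker, Matrix.mulVecLin_apply]
      funext i
      have := Abar_mulVec_cast A ℓ m i
      unfold mbar
      rw [this, hAm]
      simp
    set N : Submodule (ZMod ℓ) K := Submodule.span (ZMod ℓ) {(⟨mbar m ℓ, hmK⟩ : K)} with hN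
    have hne : (⟨mbar m ℓ, hmK⟩ : K) ≠ 0 := by
      intro h
      have := congrArg Subtype.val h
      simp only [ZeroMemClass.coe_zero] at this
      exact mbar_ne m ℓ hℓm ⟨0, hn⟩ (congrFun this ⟨0, hn⟩)
    have hNrank : Module.finrank (ZMod ℓ) N = 1 := finrank_span_singleton hne
    have hquot := Submodule.finrank_quotient_add_finrank N
    have hcard : Nat.card (K ⧸ N) = ℓ ^ Module.finrank (ZMod ℓ) (K ⧸ N) := by
      rw [Module.natCard_eq_pow_finrank (K := ZMod ℓ), Nat.card_zmod]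
    -- the injection
    have key : ∀ t : Submodule.torsionBy ℤ
        ((Fin n → ℤ) ⧸ LinearMap.range (Matrix.mulVecLin A)) (ℓ : ℤ),
        ∃ (v u : Fin n → ℤ), Submodule.Quotient.mk v = t.1 ∧ A.mulVec u = (ℓ : ℤ) • v := by
      rintro ⟨t, ht⟩
      obtain ⟨v, rfl⟩ := Submodule.Quotient.mk_surjective _ t
      rw [Submodule.mem_torsionBy_iff, ← Submodule.Quotient.mk_smul,
        Submodule.Quotient.mk_eq_zero] at ht
      obtain ⟨u, hu⟩ := ht
      exact ⟨v, u, rfl, by rw [← hu, Matrix.mulVecLin_apply]⟩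
    choose v u hv hu using key
    have huK : ∀ t, (fun j => ((u t j : ℤ) : ZMod ℓ)) ∈ K := by
      intro t
      rw [hK, LinearMap.mem_ker, Matrix.mulVecLin_apply]
      funext i
      rw [Abar_mulVec_cast, hu t]
      simp
    let Φ : Submodule.torsionBy ℤ
        ((Fin n → ℤ) ⧸ LinearMap.range (Matrix.mulVecLin A)) (ℓ : ℤ) → K ⧸ N :=
      fun t => Submodule.Quotient.mk ⟨_, huK t⟩
    have hΦ : Function.Injective Φ := by
      intro t1 t2 h12
      simp only [Φ] at h12
      rw [Submodule.Quotient.eq, hN, Submodule.mem_span_singleton] at h12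
      obtain ⟨a, ha⟩ := h12
      -- lift a to an integer
      obtain ⟨c, rfl⟩ := ZMod.intCast_surjective a
      have hcoord : ∀ i, (ℓ : ℤ) ∣ u t1 i - u t2 i - c * m i := by
        intro i
        have := congrFun (congrArg Subtype.val ha) i
        simp only [SetLike.val_smul, Pi.smul_apply, smul_eq_mul, AddSubgroupClass.coe_sub,
          Pi.sub_apply, mbar] at this
        rw [← ZMod.intCast_zmod_eq_zero_iff_dvd]
        push_cast
        rw [← this]; ring
      choose z hz using hcoord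
      -- A (u1 - u2) = ℓ A z
      apply Subtype.ext
      rw [← hv t1, ← hv t2, Submodule.Quotient.eq]
      refine ⟨z, ?_⟩
      rw [Matrix.mulVecLin_apply]
      have e1 : A.mulVec (fun i => u t1 i - u t2 i - c * m i) = (ℓ : ℤ) • A.mulVec z := by
        have : (fun i => u t1 i - u t2 i - c * m i) = (ℓ : ℤ) • z := by
          funext i; rw [hz i]; simp
        rw [this, Matrix.mulVec_smul]
      have e2 : A.mulVec (fun i => u t1 i - u t2 i - c * m i) =
          A.mulVec (u t1) - A.mulVec (u t2) - c • A.mulVec m := by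
        have : (fun i => u t1 i - u t2 i - c * m i) = u t1 - u t2 - c • m := by
          funext i; simp
        rw [this, Matrix.mulVec_sub, Matrix.mulVec_sub, Matrix.mulVec_smul]
      rw [e2, hAm, smul_zero, sub_zero, hu t1, hu t2, ← smul_sub] at e1
      have hℓ0 : (ℓ : ℤ) ≠ 0 := by exact_mod_cast hℓ.ne_zero
      funext i
      have := congrFun e1 i
      simp only [Pi.smul_apply, smul_eq_mul, Pi.sub_apply] at this
      exact (mul_left_cancel₀ hℓ0 this).symm
    have hle := Nat.card_le_card_of_injective Φ hΦ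
    have hfr : Module.finrank (ZMod ℓ) K ≤ _ := finrank_ker_le A m ℓ hsymm hA hAm hconn hℓA hℓm hn
    rw [hcard] at hle
    refine le_trans hle (Nat.pow_le_pow_right hℓ.pos ?_)
    omega

end Groth.Agent.H15.TorsCoker
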