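import Mathlib

namespace Groth.Agent.H15.TruncAdd

open Polynomial

universe u

section coeffs
variable {A : Type u} [CommRing A]

theorem single_add_single_eq (i j : ℕ) (s : Fin 2 →₀ ℕ) :
    Finsupp.single (0 : Fin 2) i + Finsupp.single (1 : Fin 2) j = s ↔ s 0 = i ∧ s 1 = j := by
  constructor
  · rintro rfl
    simp
  · rintro ⟨rfl, rfl⟩
    ext k
    fin_cases k <;> simp

theorem coeff_add_pow (n : ℕ) (s : Fin 2 →₀ ℕ) :
    MvPolynomial.coeff s ((MvPolynomial.X 0 + MvPolynomial.X 1 : MvPolynomial (Fin 2) A) ^ n) =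
      if s 0 + s 1 = n then (n.choose (s 0) : A) else 0 := by
  rw [add_pow, MvPolynomial.coeff_sum]
  have hterm : ∀ m ∈ Finset.range (n + 1),
      MvPolynomial.coeff s ((MvPolynomial.X 0 : MvPolynomial (Fin 2) A) ^ m * MvPolynomial.X 1 ^ (n - m) * (n.choose m : MvPolynomial (Fin 2) A)) =
        if s 0 = m ∧ s 1 = n - m then (n.choose m : A) else 0 := by
    intro m _
    have : ((MvPolynomial.X 0 : MvPolynomial (Fin 2) A) ^ m * MvPolynomial.X 1 ^ (n - m) * (n.choose m : MvPolynomial (Fin 2) A)) =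
        MvPolynomial.monomial (Finsupp.single (0 : Fin 2) m + Finsupp.single (1 : Fin 2) (n - m)) (n.choose m : A) := by
      rw [MvPolynomial.X_pow_eq_monomial, MvPolynomial.X_pow_eq_monomial, MvPolynomial.monomial_mul,
        one_mul, ← map_natCast (MvPolynomial.C : A →+* MvPolynomial (Fin 2) A), mul_comm,
        MvPolynomial.C_mul_monomial, mul_one]
    rw [this, MvPolynomial.coeff_monomial]
    simp only [single_add_single_eq]
  rw [Finset.sum_congr rfl hterm]
  by_cases h : s 0 + s 1 = n
  · rw [if_pos h, Finset.sum_eq_single (s 0)]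
    · rw [if_pos ⟨rfl, by omega⟩]
    · intro m _ hm
      rw [if_neg]
      rintro ⟨h1, _⟩
      exact hm h1.symm
    · intro h0
      exact absurd (Finset.mem_range.2 (by omega)) h0
  · rw [if_neg h]
    apply Finset.sum_eq_zero
    intro m hm
    rw [if_neg]
    rintro ⟨h1, h2⟩
    rw [Finset.mem_range] at hm
    omega

theorem coeff_aeval_add (q : A[X]) (N : ℕ) (hN : q.natDegree < N) (i j : ℕ) (hij : i + j < N) :
    MvPolynomial.coeff (Finsupp.single (0 : Fin 2) i + Finsupp.single (1 : Fin 2) j)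
      (Polynomial.aeval (MvPolynomial.X 0 + MvPolynomial.X 1 : MvPolynomial (Fin 2) A) q) =
      q.coeff (i + j) * ((i + j).choose i : A) := by
  rw [Polynomial.aeval_eq_sum_range' hN, MvPolynomial.coeff_sum]
  simp only [MvPolynomial.coeff_smul, coeff_add_pow, smul_eq_mul]
  rw [Finset.sum_eq_single (i + j)]
  · simp
  · intro n _ hn
    rw [if_neg, mul_zero]
    simpa using fun h => hn h.symm
  · intro h0
    exact absurd (Finset.mem_range.2 hij) h0

theorem coeff_aeval_X0 (q : A[X]) (N : ℕ) (hN : q.natDegree < N) (i j : ℕ) (hij : i + j < N) :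
    MvPolynomial.coeff (Finsupp.single (0 : Fin 2) i + Finsupp.single (1 : Fin 2) j)
      (Polynomial.aeval (MvPolynomial.X 0 : MvPolynomial (Fin 2) A) q) =
      if j = 0 then q.coeff i else 0 := by
  rw [Polynomial.aeval_eq_sum_range' hN, MvPolynomial.coeff_sum]
  simp only [MvPolynomial.coeff_smul, MvPolynomial.coeff_X_pow, smul_eq_mul]
  have hiff : ∀ n : ℕ, Finsupp.single (0 : Fin 2) n = Finsupp.single (0 : Fin 2) i + Finsupp.single (1 : Fin 2) j ↔
      (n = i ∧ j = 0) := by
    intro n
    have := single_add_single_eq i j (Finsupp.single (0 : Fin 2) n)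
    rw [eq_comm, this]
    simp [eq_comm]
  simp only [hiff]
  by_cases hj : j = 0
  · subst hj
    rw [if_pos rfl, Finset.sum_eq_single i]
    · simp
    · intro n _ hn
      rw [if_neg (by simp [hn]), mul_zero]
    · intro h0
      exact absurd (Finset.mem_range.2 (by omega)) h0
  · rw [if_neg hj]
    apply Finset.sum_eq_zero
    intro n _
    rw [if_neg (by simp [hj]), mul_zero]

theorem coeff_aeval_X1 (q : A[X]) (N : ℕ) (hN : q.natDegree < N) (i j : ℕ) (hij : i + j < N) :
    MvPolynomial.coeff (Finsupp.single (0 : Fin 2) i + Finsupp.single (1 : Fin 2) j)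
      (Polynomial.aeval (MvPolynomial.X 1 : MvPolynomial (Fin 2) A) q) =
      if i = 0 then q.coeff j else 0 := by
  rw [Polynomial.aeval_eq_sum_range' hN, MvPolynomial.coeff_sum]
  simp only [MvPolynomial.coeff_smul, MvPolynomial.coeff_X_pow, smul_eq_mul]
  have hiff : ∀ n : ℕ, Finsupp.single (1 : Fin 2) n = Finsupp.single (0 : Fin 2) i + Finsupp.single (1 : Fin 2) j ↔
      (n = j ∧ i = 0) := by
    intro n
    have := single_add_single_eq i j (Finsupp.single (1 : Fin 2) n)
    rw [eq_comm, this]
    simp [eq_comm, and_comm]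
  simp only [hiff]
  by_cases hi : i = 0
  · subst hi
    rw [if_pos rfl, Finset.sum_eq_single j]
    · simp
    · intro n _ hn
      rw [if_neg (by simp [hn]), mul_zero]
    · intro h0
      exact absurd (Finset.mem_range.2 (by omega)) h0
  · rw [if_neg hi]
    apply Finset.sum_eq_zero
    intro n _
    rw [if_neg (by simp [hi]), mul_zero]

end coeffs

theorem part1 (p : ℕ) [Fact p.Prime] (A : Type u) [CommRing A] [CharP A p] (q : A[X])
    (hq : q.natDegree < p ^ 2) :
    (Polynomial.aeval (MvPolynomial.X 0 + MvPolynomial.X 1 : MvPolynomial (Fin 2) A) q -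
            Polynomial.aeval (MvPolynomial.X 0 : MvPolynomial (Fin 2) A) q -
            Polynomial.aeval (MvPolynomial.X 1 : MvPolynomial (Fin 2) A) q ∈
          Ideal.span ({MvPolynomial.X 0 ^ p ^ 2, MvPolynomial.X 1 ^ p ^ 2} : Set (MvPolynomial (Fin 2) A)) ↔
        ∃ a₁ ap : A, q = Polynomial.C a₁ * X + Polynomial.C ap * X ^ p) := by
  have hp : p.Prime := Fact.out
  constructor
  · intro hD
    have hset : ({MvPolynomial.X 0 ^ p ^ 2, MvPolynomial.X 1 ^ p ^ 2} : Set (MvPolynomial (Fin 2) A)) =
        (fun s => MvPolynomial.monomial s (1 : A)) ''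
          {Finsupp.single (0 : Fin 2) (p ^ 2), Finsupp.single (1 : Fin 2) (p ^ 2)} := by
      rw [Set.image_pair, MvPolynomial.X_pow_eq_monomial, MvPolynomial.X_pow_eq_monomial]
    rw [hset, MvPolynomial.mem_ideal_span_monomial_image] at hD
    have hB : ∀ i j, i + j < p ^ 2 →
        q.coeff (i + j) * ((i + j).choose i : A) - (if j = 0 then q.coeff i else 0) -
          (if i = 0 then q.coeff j else 0) = 0 := by
      intro i j hij
      rw [← coeff_aeval_add q _ hq i j hij, ← coeff_aeval_X0 q _ hq i j hij,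
        ← coeff_aeval_X1 q _ hq i j hij, ← MvPolynomial.coeff_sub, ← MvPolynomial.coeff_sub]
      by_contra hne
      obtain ⟨si, hsi, hle⟩ := hD _ (MvPolynomial.mem_support_iff.2 hne)
      rcases hsi with rfl | rfl
      · have := hle 0
        simp at this
        omega
      · have := hle 1
        simp at this
        omega
    have h0 : q.coeff 0 = 0 := by
      have := hB 0 0 (by have := hp.pos; positivity)
      simpa using this
    have hn : ∀ n, n ≠ 1 → n ≠ p → q.coeff n = 0 := by
      intro n hn1 hnp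
      by_cases hlt : n < p ^ 2
      swap
      · exact Polynomial.coeff_eq_zero_of_natDegree_lt (by omega)
      rcases Nat.eq_zero_or_pos n with rfl | hpos
      · exact h0
      by_cases hdvd : p ∣ n
      · obtain ⟨m, rfl⟩ := hdvd
        have hm1 : 1 < m := by
          rcases m with _ | _ | m
          · simp at hpos
          · simp at hnp
          · omega
        have hmp : m < p := by
          by_contra hcon
          have : p * p ≤ p * m := Nat.mul_le_mul_left p (not_lt.1 hcon)
          rw [sq] at hlt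
          omega
        have hsum : p + p * (m - 1) = p * m := by
          obtain ⟨m', rfl⟩ : ∃ m', m = m' + 1 := ⟨m - 1, by omega⟩
          rw [Nat.add_sub_cancel]; ring
        have h1 := hB p (p * (m - 1)) (by rw [hsum]; exact hlt)
        rw [hsum] at h1
        have hne1 : p * (m - 1) ≠ 0 := Nat.mul_ne_zero hp.ne_zero (by omega)
        rw [if_neg hne1, if_neg hp.ne_zero, sub_zero, sub_zero] at h1
        have hch : ((p * m).choose p : A) = (m : A) := by
          rw [CharP.natCast_eq_natCast A p]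
          have := Choose.choose_modEq_choose_mod_mul_choose_div_nat (n := p * m) (k := p) (p := p)
          simpa [Nat.mul_div_cancel_left _ hp.pos, Nat.div_self hp.pos] using this
        rw [hch] at h1
        have hu : IsUnit (m : A) :=
          (CharP.isUnit_natCast_iff hp).2 (Nat.not_dvd_of_pos_of_lt (by omega) hmp)
        exact (hu.mul_left_eq_zero).1 h1
      · have hsum : 1 + (n - 1) = n := by omega
        have h1 := hB 1 (n - 1) (by rw [hsum]; exact hlt)
        rw [hsum] at h1
        have hne1 : n - 1 ≠ 0 := by omega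
        rw [if_neg hne1, if_neg one_ne_zero, sub_zero, sub_zero, Nat.choose_one_right] at h1
        have hu : IsUnit (n : A) := (CharP.isUnit_natCast_iff hp).2 hdvd
        exact (hu.mul_left_eq_zero).1 h1
    refine ⟨q.coeff 1, q.coeff p, ?_⟩
    ext n
    simp only [Polynomial.coeff_add, Polynomial.coeff_C_mul, Polynomial.coeff_X, Polynomial.coeff_X_pow]
    by_cases h1 : n = 1
    · subst h1
      have : (1 : ℕ) ≠ p := hp.one_lt.ne
      simp [this]
    · by_cases h2 : n = p
      · subst h2
        simp [Ne.symm h1]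
      · rw [hn n h1 h2]
        simp [Ne.symm h1, h2]
  · rintro ⟨a₁, ap, rfl⟩
    have : CharP (MvPolynomial (Fin 2) A) p := inferInstance
    have h0 : Polynomial.aeval (MvPolynomial.X 0 + MvPolynomial.X 1 : MvPolynomial (Fin 2) A)
          (Polynomial.C a₁ * X + Polynomial.C ap * X ^ p) -
        Polynomial.aeval (MvPolynomial.X 0 : MvPolynomial (Fin 2) A) (Polynomial.C a₁ * X + Polynomial.C ap * X ^ p) -
        Polynomial.aeval (MvPolynomial.X 1 : MvPolynomial (Fin 2) A) (Polynomial.C a₁ * X + Polynomial.C ap * X ^ p) = 0 := by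
      simp only [map_add, map_mul, Polynomial.aeval_C, Polynomial.aeval_X, map_pow]
      rw [add_pow_char]
      ring
    rw [h0]
    exact Submodule.zero_mem _

theorem part2' (p : ℕ) [Fact p.Prime] (A : Type u) [CommRing A] [CharP A p] (a₁ ap : A)
    (I : Ideal A[X]) (hI : I = Ideal.span ({X ^ p ^ 2} : Set A[X]))
    (φ : (A[X] ⧸ I) →ₐ[A] (A[X] ⧸ I))
    (hφ : φ (Ideal.Quotient.mk I X) =
          Ideal.Quotient.mk I (Polynomial.C a₁ * X + Polynomial.C ap * X ^ p)) :
    Function.Bijective φ ↔ IsUnit a₁ := by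
  have hp : p.Prime := Fact.out
  set r : A[X] := Polynomial.C a₁ * X + Polynomial.C ap * X ^ p with hr
  have hcomp : ∀ g : A[X], φ (Ideal.Quotient.mk I g) = Ideal.Quotient.mk I (g.comp r) := by
    intro g
    have h1 : (φ.comp (Ideal.Quotient.mkₐ A I)) =
        (Ideal.Quotient.mkₐ A I).comp (Polynomial.aeval r : A[X] →ₐ[A] A[X]) := by
      apply Polynomial.algHom_ext
      simp [hφ]
    have := DFunLike.congr_fun h1 g
    simpa [Polynomial.comp, Polynomial.aeval_def] using this
  have hXI : (X : A[X]) ^ (p * p) ∈ I := by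
    rw [hI, ← sq]; exact Ideal.subset_span rfl
  constructor
  · rintro ⟨_, hsurj⟩
    obtain ⟨b, hb⟩ := hsurj (Ideal.Quotient.mk I X)
    obtain ⟨g, rfl⟩ := Ideal.Quotient.mk_surjective b
    rw [hcomp, Ideal.Quotient.eq, hI, Ideal.mem_span_singleton] at hb
    obtain ⟨h, hh⟩ := hb
    have hd := congrArg (fun f => (derivative f).eval 0) hh
    have hp1 : p - 1 ≠ 0 := by have := hp.two_le; omega
    have hp2 : p ^ 2 - 1 ≠ 0 := by
      have := hp.two_le
      have : 2 ^ 2 ≤ p ^ 2 := Nat.pow_le_pow_left this 2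
      omega
    have hp3 : p ^ 2 ≠ 0 := pow_ne_zero 2 hp.ne_zero
    simp only [derivative_sub, derivative_comp, derivative_X, derivative_mul, derivative_X_pow,
      eval_sub, eval_mul, eval_add, eval_one, eval_pow, eval_X, eval_C, hr, derivative_add,
      derivative_C, zero_mul, zero_add, mul_one, eval_natCast, zero_pow hp1, zero_pow hp2,
      zero_pow hp3, mul_zero, add_zero] at hd
    exact IsUnit.of_mul_eq_one _ (sub_eq_zero.1 hd)
  · rintro ⟨u, rfl⟩
    have hrp : r ^ p = Polynomial.C ((u : A) ^ p) * X ^ p + Polynomial.C (ap ^ p) * X ^ (p * p) := by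
      rw [hr, add_pow_char, mul_pow, mul_pow, ← pow_mul, ← map_pow, ← map_pow]
    set c : A := ((u⁻¹ : Aˣ) : A) ^ p with hc
    have hcu : c * (u : A) ^ p = 1 := by
      rw [hc, ← mul_pow, Units.inv_mul, one_pow]
    set w : A[X] := Polynomial.C c * X ^ p with hw
    have hwcomp : Ideal.Quotient.mk I (w.comp r) = Ideal.Quotient.mk I (X ^ p) := by
      rw [Ideal.Quotient.eq, hw]
      simp only [mul_comp, C_comp, X_pow_comp]
      rw [hrp]
      have : Polynomial.C c * (Polynomial.C ((u : A) ^ p) * X ^ p + Polynomial.C (ap ^ p) * X ^ (p * p)) - X ^ p =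
          Polynomial.C (c * ap ^ p) * X ^ (p * p) := by
        rw [mul_add, ← mul_assoc, ← map_mul, hcu, map_one, one_mul, ← mul_assoc, ← map_mul]
        ring
      rw [this]
      exact I.mul_mem_left _ hXI
    set g : A[X] := Polynomial.C ((u⁻¹ : Aˣ) : A) * (X - Polynomial.C ap * w) with hg
    have hgφ : φ (Ideal.Quotient.mk I g) = Ideal.Quotient.mk I X := by
      rw [hcomp, hg]
      simp only [mul_comp, C_comp, sub_comp, X_comp]
      rw [map_mul, map_sub, map_mul, hwcomp, ← map_mul, ← map_sub, ← map_mul, hr]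
      congr 1
      rw [add_sub_cancel_right, ← mul_assoc, ← map_mul, Units.inv_mul, map_one, one_mul]
    have hsurj : Function.Surjective φ := by
      intro b
      obtain ⟨f, rfl⟩ := Ideal.Quotient.mk_surjective b
      refine ⟨Polynomial.aeval (Ideal.Quotient.mk I g) f, ?_⟩
      rw [← Polynomial.aeval_algHom_apply, hgφ]
      have : Ideal.Quotient.mk I X = Ideal.Quotient.mkₐ A I X := rfl
      rw [this, Polynomial.aeval_algHom_apply, Polynomial.aeval_X_left]
      rfl
    have hfin : Module.Finite A (A[X] ⧸ I) := by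
      rw [hI]; exact (Polynomial.monic_X_pow (p ^ 2)).finite_quotient
    exact ⟨OrzechProperty.injective_of_surjective_endomorphism φ.toLinearMap hsurj, hsurj⟩

theorem part2 (p : ℕ) [Fact p.Prime] (A : Type u) [CommRing A] [CharP A p] (a₁ ap : A)
    (φ : (A[X] ⧸ Ideal.span ({X ^ p ^ 2} : Set A[X])) →ₐ[A] (A[X] ⧸ Ideal.span ({X ^ p ^ 2} : Set A[X])))
    (hφ : φ (Ideal.Quotient.mk (Ideal.span ({X ^ p ^ 2} : Set A[X])) X) =
          Ideal.Quotient.mk (Ideal.span ({X ^ p ^ 2} : Set A[X])) (Polynomial.C a₁ * X + Polynomial.C ap * X ^ p)) :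
    Function.Bijective φ ↔ IsUnit a₁ := part2' p A a₁ ap _ rfl φ hφ

theorem main (p : ℕ) [Fact p.Prime] (A : Type u) [CommRing A] [CharP A p] :
    (∀ q : A[X], q.natDegree < p ^ 2 →
      (Polynomial.aeval (MvPolynomial.X 0 + MvPolynomial.X 1 : MvPolynomial (Fin 2) A) q -
            Polynomial.aeval (MvPolynomial.X 0 : MvPolynomial (Fin 2) A) q -
            Polynomial.aeval (MvPolynomial.X 1 : MvPolynomial (Fin 2) A) q ∈
          Ideal.span ({MvPolynomial.X 0 ^ p ^ 2, MvPolynomial.X 1 ^ p ^ 2} : Set (MvPolynomial (Fin 2) A)) ↔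
        ∃ a₁ ap : A, q = Polynomial.C a₁ * X + Polynomial.C ap * X ^ p)) ∧
    (∀ (a₁ ap : A) (φ : (A[X] ⧸ Ideal.span ({X ^ p ^ 2} : Set A[X])) →ₐ[A] (A[X] ⧸ Ideal.span ({X ^ p ^ 2} : Set A[X]))),
      φ (Ideal.Quotient.mk (Ideal.span ({X ^ p ^ 2} : Set A[X])) X) =
          Ideal.Quotient.mk (Ideal.span ({X ^ p ^ 2} : Set A[X])) (Polynomial.C a₁ * X + Polynomial.C ap * X ^ p) →
        (Function.Bijective φ ↔ IsUnit a₁)) :=
  ⟨fun q hq => part1 p A q hq, fun a₁ ap φ hφ => part2 p A a₁ ap φ hφ⟩

end Groth.Agent.H15.TruncAdd
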