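import Mathlib
import Groth.Prelude.Def_ComodSub
import Groth.Agent.Lib.Helper7.Unip7
import Groth.Agent.H15.FundComod
import Groth.Agent.H15.PrimTens
import Groth.Agent.H15.UnipMult

set_option autoImplicit false
universe u

open TensorProduct Coalgebra Groth.Agent.H29 Groth.Agent.Helper7.Unip7 Groth.Agent.H15.PrimTens

namespace Groth.Agent.H15.UnipMult2

section Lemmas

variable {k : Type*} [Field k] (K : Type*) [Field K] [Algebra k K]

theorem contr_smul {M : Type*} [AddCommGroup M] [Module k M] (l : K →ₗ[k] k) (c : K)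
    (y : K ⊗[k] M) : contr K M l (c • y) = contr K M (l ∘ₗ LinearMap.mulLeft k c) y := by
  induction y using TensorProduct.induction_on with
  | zero => simp
  | tmul s m => simp [TensorProduct.smul_tmul']
  | add u v hu hv => simp only [smul_add, map_add, hu, hv]

/-- `ψ_K : K ⊗ M → K`. -/
noncomputable def ext {M : Type*} [AddCommGroup M] [Module k M] (ψ : M →ₗ[k] k) :
    K ⊗[k] M →ₗ[K] K :=
  (TensorProduct.AlgebraTensorModule.rid k K K).toLinearMap ∘ₗ ψ.baseChange K

@[simp] theorem ext_tmul {M : Type*} [AddCommGroup M] [Module k M] (ψ : M →ₗ[k] k) (s : K)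
    (m : M) : ext K ψ (s ⊗ₜ[k] m) = ψ m • s := by
  simp [ext]

theorem eq_zero_of_ext {M : Type*} [AddCommGroup M] [Module k M] (y : K ⊗[k] M)
    (h : ∀ ψ : M →ₗ[k] k, ext K ψ y = 0) : y = 0 := by
  classical
  let b := Module.Free.chooseBasis k M
  let e := TensorProduct.equivFinsuppOfBasisRight (M := K) b
  have he : ∀ (z : K ⊗[k] M) i, e z i = ext K (b.coord i) z := by
    intro z i
    induction z using TensorProduct.induction_on with
    | zero => simp
    | tmul s m =>
      rw [TensorProduct.equivFinsuppOfBasisRight_apply_tmul_apply, ext_tmul, b.coord_apply]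
    | add u v hu hv => rw [map_add, Finsupp.add_apply, hu, hv, map_add]
  apply e.injective
  rw [map_zero]
  ext i
  rw [he, h]
  rfl

variable {A : Type*} [CommRing A] [Bialgebra k A]

open TensorProduct.AlgebraTensorModule in
theorem rAct_distrib (ψ : A →ₗ[k] k) (x y : K ⊗[k] A) :
    ((rAct A ψ).baseChange K) ((distribBaseChange k K A A).symm (x ⊗ₜ[K] y)) = ext K ψ y • x := by
  induction x using TensorProduct.induction_on with
  | zero => simp
  | tmul s a =>
    induction y using TensorProduct.induction_on with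
    | zero => simp
    | tmul t b =>
      rw [distribBaseChange_symm_tmul, LinearMap.baseChange_tmul, rAct_tmul, ext_tmul,
        TensorProduct.smul_tmul', TensorProduct.tmul_smul, TensorProduct.smul_tmul', smul_eq_mul]
      congr 1
      rw [Algebra.smul_def, Algebra.smul_def]
      ring
    | add u v hu hv =>
      rw [TensorProduct.tmul_add, map_add, map_add, hu, hv, map_add, add_smul]
  | add u v hu hv =>
    rw [TensorProduct.add_tmul, map_add, map_add, hu, hv, smul_add]

theorem exists_finset_contr {M : Type*} [AddCommGroup M] [Module k M] (h : K ⊗[k] M) :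
    ∃ T : Finset M, ∀ l : K →ₗ[k] k, contr K M l h ∈ Submodule.span k (T : Set M) := by
  classical
  induction h using TensorProduct.induction_on with
  | zero => exact ⟨∅, fun l => by simp⟩
  | tmul s m =>
    refine ⟨{m}, fun l => ?_⟩
    rw [contr_tmul]
    exact Submodule.smul_mem _ _ (Submodule.subset_span (by simp))
  | add u v hu hv =>
    obtain ⟨T₁, h₁⟩ := hu
    obtain ⟨T₂, h₂⟩ := hv
    refine ⟨T₁ ∪ T₂, fun l => ?_⟩
    rw [map_add]
    refine Submodule.add_mem _ (Submodule.span_mono ?_ (h₁ l)) (Submodule.span_mono ?_ (h₂ l))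
    · intro x hx; simp only [Finset.coe_union, Set.mem_union]; exact Or.inl hx
    · intro x hx; simp only [Finset.coe_union, Set.mem_union]; exact Or.inr hx

theorem rAct_comul_contr (h : K ⊗[k] A) (hh : comul (R := K) h = h ⊗ₜ[K] h) (ψ : A →ₗ[k] k)
    (l : K →ₗ[k] k) :
    rAct A ψ (comul (R := k) (contr K A l h)) = contr K A l (ext K ψ h • h) := by
  rw [← contr_baseChange K l (comul (R := k) (A := A)), ← contr_baseChange K l (rAct A ψ),
    ← rAct_distrib, ← hh, comul_eq, LinearEquiv.symm_apply_apply]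

end Lemmas

section GroupLike

variable {k : Type u} [Field k] (K : Type*) [Field K] [Algebra k K] {AU : Type u} [CommRing AU]
  [Bialgebra k AU]

theorem groupLike_eq_one (hU : HopfRep.IsUnipotent k AU) (h : K ⊗[k] AU)
    (hh : IsGroupLikeElem K h) : h = 1 := by
  classical
  by_contra hne
  obtain ⟨ψ, hψ⟩ : ∃ ψ : AU →ₗ[k] k, ext K ψ (h - 1) ≠ 0 := by
    by_contra hcon
    simp only [not_exists, not_not] at hcon
    exact hne (sub_eq_zero.mp (eq_zero_of_ext K _ hcon))
  obtain ⟨c, hc⟩ : ∃ c : K, c = ext K ψ (h - 1) := ⟨_, rfl⟩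
  have hc0 : c ≠ 0 := hc ▸ hψ
  let T : (K →ₗ[k] k) →ₗ[k] AU :=
    { toFun := fun l => contr K AU l h
      map_add' := fun l₁ l₂ => by simp [contr, LinearMap.rTensor_add]
      map_smul' := fun a l => by simp [contr, LinearMap.rTensor_smul] }
  have hT : ∀ l, T l = contr K AU l h := fun _ => rfl
  have hWsub : HopfRep.IsSubcomod (k := k) (A := AU) (LinearMap.range T) := by
    rw [isSubcomod_iff]
    rintro φ _ ⟨l, rfl⟩
    refine ⟨l ∘ₗ LinearMap.mulLeft k (ext K φ h), ?_⟩
    rw [hT, hT, ← contr_smul]
    exact (rAct_comul_contr K h hh.comul_eq_tmul_self φ l).symm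
  have hWfin : Module.Finite k (LinearMap.range T) := by
    obtain ⟨S, hS⟩ := exists_finset_contr K h
    have hle : LinearMap.range T ≤ Submodule.span k (S : Set AU) := by
      rintro _ ⟨l, rfl⟩
      exact hS l
    have : Module.Finite k (Submodule.span k (S : Set AU)) :=
      Module.Finite.span_of_finite k S.finite_toSet
    exact Submodule.finiteDimensional_of_le hle
  obtain ⟨W, hW⟩ : ∃ W : Submodule k AU, W = LinearMap.range T := ⟨_, rfl⟩
  rw [← hW] at hWsub hWfin
  let cW : HopfRep.Comod k AU W := ComodSub.Comod.restr (HopfRep.Comod.regular k AU) W hWsub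
  obtain ⟨G, h0, htop, -, -, -, hco⟩ := exists_unip_chain hU (V := W)
  have hsubhom : Hoch.IsComodHom AU W.subtype :=
    ComodSub.isComodHom_subtype (HopfRep.Comod.regular k AU) W hWsub
  have hdown : ∀ i, (∀ l, ∃ g ∈ G (i + 1), (g : AU) = contr K AU l h) →
      (∀ l, ∃ g ∈ G i, (g : AU) = contr K AU l h) := by
    intro i hi l
    obtain ⟨g, hg, hgl⟩ := hi (l ∘ₗ LinearMap.mulLeft k c⁻¹)
    refine ⟨_, hco i g hg ψ, ?_⟩
    have e1 : ((dualAct ψ g : W) : AU) = rAct AU ψ (comul (R := k) (g : AU)) :=
      (isComodHom_iff W.subtype).mp hsubhom ψ g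
    have e2 : ext K ψ (1 : K ⊗[k] AU) = algebraMap k K (ψ 1) := by
      rw [Algebra.TensorProduct.one_def, ext_tmul, Algebra.algebraMap_eq_smul_one]
    rw [Submodule.coe_sub, Submodule.coe_smul, e1, hgl, rAct_comul_contr K h hh.comul_eq_tmul_self,
      ← map_smul, ← algebraMap_smul K (ψ 1) h, ← e2, ← map_sub, ← sub_smul, ← map_sub, ← hc,
      contr_smul]
    have e3 : (l ∘ₗ LinearMap.mulLeft k c⁻¹) ∘ₗ LinearMap.mulLeft k c = l := by
      apply LinearMap.ext
      intro x
      simp only [LinearMap.comp_apply, LinearMap.mulLeft_apply]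
      rw [← mul_assoc, inv_mul_cancel₀ hc0, one_mul]
    rw [e3]
  have hall : ∀ j, j ≤ Module.finrank k W →
      ∀ l, ∃ g ∈ G (Module.finrank k W - j), (g : AU) = contr K AU l h := by
    intro j
    induction j with
    | zero =>
      intro _ l
      refine ⟨⟨contr K AU l h, ?_⟩, ?_, rfl⟩
      · rw [hW]; exact ⟨l, rfl⟩
      · rw [Nat.sub_zero, htop]; exact Submodule.mem_top
    | succ j ih =>
      intro hj
      apply hdown
      have : Module.finrank k W - (j + 1) + 1 = Module.finrank k W - j := by omega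
      rw [this]
      exact ih (by omega)
  have hzero : h = 0 := by
    apply eq_zero_of_contr
    intro l
    obtain ⟨g, hg, hgl⟩ := hall (Module.finrank k W) le_rfl l
    rw [Nat.sub_self, h0] at hg
    rw [← hgl, (Submodule.mem_bot k).mp hg]
    rfl
  have := hh.counit_eq_one
  rw [hzero, map_zero] at this
  exact zero_ne_one this

end GroupLike

section Final

variable {k : Type u} [Field k] {AM AU : Type u} [CommRing AM] [CommRing AU]
  [Bialgebra k AM] [Bialgebra k AU]

/-- (i) every bialgebra map `AU → AM` is trivial. -/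
theorem part_one {K : Type*} [Field K] [Algebra k K]
    (hM : Submodule.span K {a : K ⊗[k] AM | IsGroupLikeElem K a} = ⊤)
    (hU : HopfRep.IsUnipotent k AU) (φ : AU →ₐc[k] AM) (v : AU) :
    φ v = algebraMap k AM (counit (R := k) v) := by
  have h := Groth.Agent.H15.UnipMult.main
    (Bialgebra.TensorProduct.map (BialgHom.id k k) φ : k ⊗[k] AU →ₐc[k] k ⊗[k] AM) hU
    (fun y hy => PrimTens.prim_eq_zero hM k y hy) ((1 : k) ⊗ₜ[k] v)
  rw [Bialgebra.TensorProduct.map_tmul, TensorProduct.counit_tmul, CommSemiring.counit_apply,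
    Algebra.TensorProduct.algebraMap_apply] at h
  have h2 := congrArg (TensorProduct.lid k AM) h
  rw [TensorProduct.lid_tmul, TensorProduct.lid_tmul] at h2
  simp only [BialgHom.id_apply, one_smul, smul_eq_mul, mul_one, Algebra.algebraMap_self_apply] at h2
  rw [h2, Algebra.algebraMap_eq_smul_one]

/-- (ii) every bialgebra map `AM → AU` is trivial. -/
theorem part_two {K : Type*} [Field K] [Algebra k K]
    (hM : Submodule.span K {a : K ⊗[k] AM | IsGroupLikeElem K a} = ⊤)
    (hU : HopfRep.IsUnipotent k AU) (ψ : AM →ₐc[k] AU) (a : AM) :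
    ψ a = algebraMap k AU (counit (R := k) a) := by
  let ψK : K ⊗[k] AM →ₐc[K] K ⊗[k] AU := Bialgebra.TensorProduct.map (BialgHom.id K K) ψ
  have h1 : ∀ x : K ⊗[k] AM, ψK x = algebraMap K (K ⊗[k] AU) (counit (R := K) x) := by
    intro x
    have hx : x ∈ Submodule.span K {a : K ⊗[k] AM | IsGroupLikeElem K a} := by
      rw [hM]; exact Submodule.mem_top
    induction hx using Submodule.span_induction with
    | mem g hg =>
      have hg' : IsGroupLikeElem K g := hg
      rw [groupLike_eq_one K hU (ψK g) (hg'.map ψK), hg'.counit_eq_one, map_one]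
    | zero => simp
    | add x y _ _ hx hy => rw [map_add, hx, hy, map_add, map_add]
    | smul c x _ hx => rw [map_smul, hx, map_smul, smul_eq_mul, map_mul, Algebra.smul_def]
  have h2 := h1 ((1 : K) ⊗ₜ[k] a)
  rw [Bialgebra.TensorProduct.map_tmul, TensorProduct.counit_tmul, CommSemiring.counit_apply,
    Algebra.TensorProduct.algebraMap_apply] at h2
  have hinj : Function.Injective (fun b : AU => (1 : K) ⊗ₜ[k] b) :=
    Algebra.TensorProduct.includeRight_injective (R := k) (A := K) (B := AU)
      (FaithfulSMul.algebraMap_injective k K)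
  apply hinj
  show (1 : K) ⊗ₜ[k] ψ a = (1 : K) ⊗ₜ[k] algebraMap k AU (counit (R := k) a)
  simp only [BialgHom.id_apply] at h2
  rw [h2, Algebra.algebraMap_eq_smul_one (counit (R := k) a), TensorProduct.tmul_smul,
    TensorProduct.smul_tmul']
  simp

end Final

end Groth.Agent.H15.UnipMult2
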