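import Mathlib
set_option autoImplicit false
universe u

namespace Groth.Agent.H15.UnitsCyclic

open Finset

theorem isCyclic_units {A : Type u} [CommRing A] [IsLocalRing A]
    (G : Subgroup Aˣ) [Finite G] (hG : IsUnit ((Nat.card G : ℕ) : A)) : IsCyclic G := by
  let f : G →* IsLocalRing.ResidueField A :=
    ((IsLocalRing.residue A : A →* IsLocalRing.ResidueField A)).comp
      ((Units.coeHom A).comp G.subtype)
  apply isCyclic_of_injective_ringHom f
  rw [injective_iff_map_eq_one]
  intro g hg
  have hg' : IsLocalRing.residue A ((g : Aˣ) : A) = 1 := hg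
  set a : A := ((g : Aˣ) : A) with ha
  set N := Nat.card G with hN
  have hgN : a ^ N = 1 := by
    have h1 : g ^ N = 1 := pow_card_eq_one'
    have h2 := congrArg (fun x : G => ((x : Aˣ) : A)) h1
    simpa using h2
  have hgeom : (a - 1) * ∑ i ∈ range N, a ^ i = 0 := by
    rw [mul_geom_sum, hgN, sub_self]
  have hS : IsUnit (∑ i ∈ range N, a ^ i) := by
    rw [← IsLocalRing.notMem_maximalIdeal]
    intro hmem
    have h3 : (∑ i ∈ range N, a ^ i) - (N : A) ∈ IsLocalRing.maximalIdeal A := by
      rw [← IsLocalRing.residue_eq_zero_iff]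
      simp [map_sub, map_sum, map_pow, hg']
    have h4 : (N : A) ∈ IsLocalRing.maximalIdeal A := by
      have := Ideal.sub_mem _ hmem h3
      simpa using this
    exact (IsLocalRing.notMem_maximalIdeal.mpr hG) h4
  have h5 : a - 1 = 0 := hS.mul_left_eq_zero.mp hgeom
  have h6 : a = 1 := sub_eq_zero.mp h5
  apply Subtype.ext
  apply Units.ext
  exact h6

end Groth.Agent.H15.UnitsCyclic
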