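import Mathlib

set_option autoImplicit false

namespace Groth.Agent.H15.UnivHomeo

open Polynomial TensorProduct

universe u

variable {R S : Type u} [CommRing R] [CommRing S] [Algebra R S]

/-- Key lemma: a ring map from `S` to a domain is determined by its restriction to `R`. -/
theorem ringHom_ext_of_pow {L : Type*} [CommRing L] [IsDomain L] (G : Set S)
    (hG : Algebra.adjoin R G = ⊤)
    (hpow : ∀ x ∈ G, ∃ (n : ℕ) (P : Polynomial R), 0 < n ∧
      Polynomial.map (algebraMap R S) P = (Polynomial.X - Polynomial.C x) ^ n)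
    (ψ ψ' : S →+* L) (h : ψ.comp (algebraMap R S) = ψ'.comp (algebraMap R S)) : ψ = ψ' := by
  have hGeq : ∀ x ∈ G, ψ x = ψ' x := by
    intro x hx
    obtain ⟨n, P, hn, hP⟩ := hpow x hx
    have h1 : (X - C (ψ x)) ^ n = (X - C (ψ' x)) ^ n := by
      have e1 := congrArg (Polynomial.map ψ) hP
      have e2 := congrArg (Polynomial.map ψ') hP
      rw [Polynomial.map_map, Polynomial.map_pow, Polynomial.map_sub, map_X, map_C] at e1 e2
      rw [← e1, ← e2, h]
    have h2 := congrArg (Polynomial.eval (ψ' x)) h1
    simp only [eval_pow, eval_sub, eval_X, eval_C, sub_self] at h2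
    rw [zero_pow (by omega)] at h2
    have h3 := pow_eq_zero_iff (by omega : n ≠ 0) |>.mp h2
    exact (sub_eq_zero.mp h3).symm
  let _ : Algebra R L := (ψ.comp (algebraMap R S)).toAlgebra
  let Ψ : S →ₐ[R] L := { ψ with commutes' := fun r => rfl }
  let Ψ' : S →ₐ[R] L := { ψ' with commutes' := fun r => (RingHom.congr_fun h r).symm }
  have hΨ : Ψ = Ψ' := AlgHom.ext_of_adjoin_eq_top hG (fun x hx => hGeq x hx)
  ext s
  exact AlgHom.congr_fun hΨ s

theorem isIntegral_of_pow (G : Set S) (hG : Algebra.adjoin R G = ⊤)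
    (hpow : ∀ x ∈ G, ∃ (n : ℕ) (P : Polynomial R), 0 < n ∧
      Polynomial.map (algebraMap R S) P = (Polynomial.X - Polynomial.C x) ^ n) :
    Algebra.IsIntegral R S := by
  have h1 : ∀ x ∈ G, IsIntegral R x := by
    intro x hx
    rcases subsingleton_or_nontrivial S with hS | hS
    · rw [Subsingleton.elim x 0]; exact isIntegral_zero
    obtain ⟨n, P, hn, hP⟩ := hpow x hx
    have hmem : (X - C x) ^ n ∈ Polynomial.lifts (algebraMap R S) :=
      (Polynomial.mem_lifts _).mpr ⟨P, hP⟩
    have hmonic : ((X - C x) ^ n : S[X]).Monic := (monic_X_sub_C x).pow n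
    obtain ⟨Q, hQ, -, hQm⟩ := Polynomial.lifts_and_degree_eq_and_monic hmem hmonic
    refine ⟨Q, hQm, ?_⟩
    rw [← Polynomial.eval_map, hQ]
    simp [zero_pow (by omega : n ≠ 0)]
  have h2 : Algebra.adjoin R G ≤ integralClosure R S := Algebra.adjoin_le (fun x hx => h1 x hx)
  rw [hG] at h2
  exact ⟨fun x => h2 Algebra.mem_top⟩

theorem comap_injective (G : Set S) (hG : Algebra.adjoin R G = ⊤)
    (hpow : ∀ x ∈ G, ∃ (n : ℕ) (P : Polynomial R), 0 < n ∧
      Polynomial.map (algebraMap R S) P = (Polynomial.X - Polynomial.C x) ^ n) :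
    Function.Injective (PrimeSpectrum.comap (algebraMap R S)) := by
  intro q q' hqq
  set p := PrimeSpectrum.comap (algebraMap R S) q with hp
  have hf : p.asIdeal = Ideal.comap (algebraMap R S) q.asIdeal := rfl
  have hf' : p.asIdeal = Ideal.comap (algebraMap R S) q'.asIdeal := by
    rw [hqq]; rfl
  let a1 : Algebra p.asIdeal.ResidueField q.asIdeal.ResidueField :=
    (Ideal.ResidueField.map p.asIdeal q.asIdeal (algebraMap R S) hf).toAlgebra
  let a2 : Algebra p.asIdeal.ResidueField q'.asIdeal.ResidueField :=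
    (Ideal.ResidueField.map p.asIdeal q'.asIdeal (algebraMap R S) hf').toAlgebra
  let T := q.asIdeal.ResidueField ⊗[p.asIdeal.ResidueField] q'.asIdeal.ResidueField
  have hnt : Nontrivial T := inferInstance
  obtain ⟨m, hm⟩ := Ideal.exists_maximal T
  let ψ : S →+* T ⧸ m := (Ideal.Quotient.mk m).comp
    ((Algebra.TensorProduct.includeLeft : q.asIdeal.ResidueField →ₐ[p.asIdeal.ResidueField] T).toRingHom.comp
      (algebraMap S q.asIdeal.ResidueField))
  let ψ' : S →+* T ⧸ m := (Ideal.Quotient.mk m).comp
    ((Algebra.TensorProduct.includeRight : q'.asIdeal.ResidueField →ₐ[p.asIdeal.ResidueField] T).toRingHom.comp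
      (algebraMap S q'.asIdeal.ResidueField))
  have hfield : IsField (T ⧸ m) := (Ideal.Quotient.maximal_ideal_iff_isField_quotient m).mp hm
  have hdom : IsDomain (T ⧸ m) := hfield.isDomain
  have hagree : ψ.comp (algebraMap R S) = ψ'.comp (algebraMap R S) := by
    ext r
    simp only [ψ, ψ', RingHom.comp_apply, AlgHom.toRingHom_eq_coe, RingHom.coe_coe]
    congr 1
    rw [← Ideal.ResidueField.map_algebraMap p.asIdeal q.asIdeal (algebraMap R S) hf r,
      ← Ideal.ResidueField.map_algebraMap p.asIdeal q'.asIdeal (algebraMap R S) hf' r]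
    have e1 : Ideal.ResidueField.map p.asIdeal q.asIdeal (algebraMap R S) hf
        (algebraMap R p.asIdeal.ResidueField r) =
        algebraMap p.asIdeal.ResidueField q.asIdeal.ResidueField
          (algebraMap R p.asIdeal.ResidueField r) := rfl
    have e2 : Ideal.ResidueField.map p.asIdeal q'.asIdeal (algebraMap R S) hf'
        (algebraMap R p.asIdeal.ResidueField r) =
        algebraMap p.asIdeal.ResidueField q'.asIdeal.ResidueField
          (algebraMap R p.asIdeal.ResidueField r) := rfl
    rw [e1, e2, AlgHom.commutes, AlgHom.commutes]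
  have hψ := ringHom_ext_of_pow G hG hpow ψ ψ' hagree
  have hker : ∀ s : S, s ∈ q.asIdeal ↔ ψ s = 0 := by
    intro s
    have hinj : Function.Injective ((Ideal.Quotient.mk m).comp
      (Algebra.TensorProduct.includeLeft :
        q.asIdeal.ResidueField →ₐ[p.asIdeal.ResidueField] T).toRingHom) := by
      have : Nontrivial (T ⧸ m) := hdom.toNontrivial
      exact RingHom.injective _
    rw [← Ideal.algebraMap_residueField_eq_zero (I := q.asIdeal)]
    constructor
    · intro h0
      simp only [ψ, RingHom.comp_apply]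
      rw [h0, map_zero, map_zero]
    · intro h0
      apply hinj
      rw [map_zero]
      exact h0
  have hker' : ∀ s : S, s ∈ q'.asIdeal ↔ ψ' s = 0 := by
    intro s
    have hinj : Function.Injective ((Ideal.Quotient.mk m).comp
      (Algebra.TensorProduct.includeRight :
        q'.asIdeal.ResidueField →ₐ[p.asIdeal.ResidueField] T).toRingHom) := by
      have : Nontrivial (T ⧸ m) := hdom.toNontrivial
      exact RingHom.injective _
    rw [← Ideal.algebraMap_residueField_eq_zero (I := q'.asIdeal)]
    constructor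
    · intro h0
      simp only [ψ', RingHom.comp_apply]
      rw [h0, map_zero, map_zero]
    · intro h0
      apply hinj
      rw [map_zero]
      exact h0
  apply PrimeSpectrum.ext
  ext s
  rw [hker, hker', hψ]

theorem comap_surjective (hker : ∀ r : R, algebraMap R S r = 0 → IsNilpotent r)
    [Algebra.IsIntegral R S] :
    Function.Surjective (PrimeSpectrum.comap (algebraMap R S)) := by
  intro p
  have h0 : (⊥ : Ideal S).comap (algebraMap R S) ≤ p.asIdeal := by
    intro r hr
    have : algebraMap R S r = 0 := by simpa using hr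
    obtain ⟨n, hn⟩ := hker r this
    exact p.2.mem_of_pow_mem n (hn ▸ p.asIdeal.zero_mem)
  obtain ⟨Q, -, hQ, hQp⟩ := Ideal.exists_ideal_over_prime_of_isIntegral p.asIdeal ⊥ h0
  exact ⟨⟨Q, hQ⟩, PrimeSpectrum.ext hQp⟩

theorem main (hker : ∀ r : R, algebraMap R S r = 0 → IsNilpotent r) (G : Set S)
    (hG : Algebra.adjoin R G = ⊤)
    (hpow : ∀ x ∈ G, ∃ (n : ℕ) (P : Polynomial R), 0 < n ∧
      Polynomial.map (algebraMap R S) P = (Polynomial.X - Polynomial.C x) ^ n) :
    IsHomeomorph (PrimeSpectrum.comap (algebraMap R S)) ∧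
      ∀ (q : Ideal S) [q.IsPrime] (p : Ideal R) [p.IsPrime] [q.LiesOver p],
        @IsPurelyInseparable p.ResidueField q.ResidueField _ _
          (Ideal.ResidueField.mapₐ p q (Algebra.ofId R S) (q.over_def p)).toRingHom.toAlgebra := by
  have hint : Algebra.IsIntegral R S := isIntegral_of_pow G hG hpow
  refine ⟨?_, ?_⟩
  · rw [isHomeomorph_iff_continuous_isClosedMap_bijective]
    refine ⟨PrimeSpectrum.continuous_comap _, ?_, comap_injective G hG hpow, comap_surjective hker⟩
    exact PrimeSpectrum.isClosedMap_comap_of_isIntegral _ (algebraMap_isIntegral_iff.mpr hint)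
  · intro q _ p _ _
    let a1 : Algebra p.ResidueField q.ResidueField :=
      (Ideal.ResidueField.mapₐ p q (Algebra.ofId R S) (q.over_def p)).toRingHom.toAlgebra
    refine @IsPurelyInseparable.of_injective_comp_algebraMap p.ResidueField q.ResidueField _ _ a1
      (AlgebraicClosure q.ResidueField) _ _ ⟨algebraMap _ _⟩ ?_
    intro f g hfg
    apply Ideal.ResidueField.ringHom_ext
    apply ringHom_ext_of_pow G hG hpow
    ext r
    have e1 : algebraMap S q.ResidueField (algebraMap R S r) =
        algebraMap p.ResidueField q.ResidueField (algebraMap R p.ResidueField r) := by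
      change _ = Ideal.ResidueField.map p q (algebraMap R S) (q.over_def p) _
      rw [Ideal.ResidueField.map_algebraMap]
    simp only [RingHom.comp_apply]
    rw [e1]
    exact RingHom.congr_fun hfg (algebraMap R p.ResidueField r)

end Groth.Agent.H15.UnivHomeo
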