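import Mathlib
import Groth.Agent.S9419

set_option autoImplicit false
open TensorProduct

namespace Groth.Agent.H15.UnrDesc

universe u

/-- the index type: finitely generated `A₀`-subalgebras of `R` -/
abbrev Idx (A₀ R : Type u) [CommRing A₀] [CommRing R] [Algebra A₀ R] : Type u :=
  {T : Subalgebra A₀ R // T.FG}

instance (A₀ R : Type u) [CommRing A₀] [CommRing R] [Algebra A₀ R] :
    IsDirected (Idx A₀ R) (· ≤ ·) :=
  ⟨fun a b => ⟨⟨a.1 ⊔ b.1, a.2.sup b.2⟩, show a.1 ≤ a.1 ⊔ b.1 from le_sup_left,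
    show b.1 ≤ a.1 ⊔ b.1 from le_sup_right⟩⟩

instance (A₀ R : Type u) [CommRing A₀] [CommRing R] [Algebra A₀ R] : Nonempty (Idx A₀ R) :=
  ⟨⟨⊥, Subalgebra.fg_bot⟩⟩

section transfer

variable (A₀ R C₀ : Type u) [CommRing A₀] [CommRing R] [Algebra A₀ R] [CommRing C₀]
  [Algebra A₀ C₀] [Algebra.FiniteType A₀ C₀]

attribute [local instance] Algebra.TensorProduct.rightAlgebra in
/-- transfer of unramifiedness to `A₀ ⊗[A₀] R` -/
lemma unram_lid [Algebra.FormallyUnramified R (R ⊗[A₀] C₀)] :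
    Algebra.Unramified (A₀ ⊗[A₀] R) ((A₀ ⊗[A₀] R) ⊗[A₀] C₀) := by
  have h1 : Algebra.FormallyUnramified (A₀ ⊗[A₀] R) ((A₀ ⊗[A₀] R) ⊗[R] (R ⊗[A₀] C₀)) :=
    inferInstance
  have h2 : Algebra.FormallyUnramified (A₀ ⊗[A₀] R) ((A₀ ⊗[A₀] R) ⊗[A₀] C₀) :=
    Algebra.FormallyUnramified.of_equiv (A := (A₀ ⊗[A₀] R) ⊗[R] (R ⊗[A₀] C₀))
      (B := (A₀ ⊗[A₀] R) ⊗[A₀] C₀)
      (Algebra.TensorProduct.cancelBaseChange A₀ R (A₀ ⊗[A₀] R) (A₀ ⊗[A₀] R) C₀)
  exact { formallyUnramified := h2, finiteType := inferInstance }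

end transfer

/-- Lemma A -/
theorem lemmaA (A₀ R C₀ : Type u) [CommRing A₀] [CommRing R] [Algebra A₀ R] [CommRing C₀]
    [Algebra A₀ C₀] [Algebra.FiniteType ℤ A₀] [Algebra.FinitePresentation A₀ C₀]
    [Algebra.FormallyUnramified R (R ⊗[A₀] C₀)] :
    ∃ (R₀ : Type u) (_ : CommRing R₀) (_ : Algebra.FiniteType ℤ R₀) (_ : Algebra A₀ R₀)
      (_ : Algebra R₀ R) (_ : IsScalarTower A₀ R₀ R),
      Algebra.FormallyUnramified R₀ (R₀ ⊗[A₀] C₀) := by
  haveI : Algebra.FiniteType A₀ C₀ := Algebra.FiniteType.of_finitePresentation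
  have h := unram_lid A₀ R C₀
  obtain ⟨i, hi⟩ := Groth.Agent.S9419.result (ι := Idx A₀ R) A₀ (fun i => ↥i.1)
    (fun i j hij => Subalgebra.inclusion hij) R (fun i => i.1.val)
    (fun i j hij => by ext x; rfl)
    (fun a => ⟨⟨Algebra.adjoin A₀ {a}, ⟨{a}, by simp⟩⟩,
      ⟨a, Algebra.subset_adjoin (Set.mem_singleton a)⟩, rfl⟩)
    (fun i x hx => ⟨i, le_rfl, by
      have : x = 0 := Subtype.ext hx
      rw [this, map_zero]⟩)
    A₀ C₀ h
  haveI : Algebra.FiniteType A₀ ↥i.1 := (Subalgebra.fg_iff_finiteType i.1).mp i.2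
  have hft : Algebra.FiniteType ℤ (A₀ ⊗[A₀] ↥i.1) :=
    Algebra.FiniteType.trans (S := A₀) inferInstance inferInstance
  let ρ : A₀ ⊗[A₀] ↥i.1 →ₐ[A₀] R := i.1.val.comp (Algebra.TensorProduct.lid A₀ ↥i.1).toAlgHom
  letI : Algebra (A₀ ⊗[A₀] ↥i.1) R := ρ.toRingHom.toAlgebra
  haveI : IsScalarTower A₀ (A₀ ⊗[A₀] ↥i.1) R :=
    IsScalarTower.of_algebraMap_eq' ρ.comp_algebraMap.symm
  refine ⟨A₀ ⊗[A₀] ↥i.1, inferInstance, ?_, inferInstance, inferInstance,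
    inferInstance, hi.formallyUnramified⟩
  exact hft

theorem main (R : Type u) [CommRing R] (S : Type u) [CommRing S]
    [Algebra R S] [Algebra.FinitePresentation R S] [Algebra.FormallyUnramified R S] :
    ∃ (R₀ : Type u) (_ : CommRing R₀) (_ : Algebra.FiniteType ℤ R₀) (S₀ : Type u) (_ : CommRing S₀)
      (_ : Algebra R₀ S₀) (_ : Algebra.FinitePresentation R₀ S₀) (_ : Algebra.FormallyUnramified R₀ S₀)
      (_ : Algebra R₀ R), Nonempty (R ⊗[R₀] S₀ ≃ₐ[R] S) := by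
  let P := Algebra.Presentation.ofFinitePresentation R S
  let e := P.tensorModelOfHasCoeffsEquiv P.Core
  haveI : Algebra.FormallyUnramified R (R ⊗[P.Core] P.ModelOfHasCoeffs P.Core) :=
    Algebra.FormallyUnramified.of_equiv e.symm
  obtain ⟨R₀, _, _, _, _, _, hunr⟩ := lemmaA P.Core R (P.ModelOfHasCoeffs P.Core)
  refine ⟨R₀, inferInstance, inferInstance, R₀ ⊗[P.Core] P.ModelOfHasCoeffs P.Core, inferInstance,
    inferInstance, inferInstance, hunr, inferInstance, ?_⟩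
  exact ⟨(Algebra.TensorProduct.cancelBaseChange P.Core R₀ R R
    (P.ModelOfHasCoeffs P.Core)).trans e⟩

end Groth.Agent.H15.UnrDesc
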