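import Mathlib
import Groth.Prelude.Def_PBC

set_option autoImplicit false
open TensorProduct

namespace Groth.Agent.H15.WCon

universe u

section Prod

variable (A X Y : Type u) [CommRing A] [CommRing X] [CommRing Y] [Algebra A X] [Algebra A Y]

lemma fst_flat : (RingHom.fst X Y).Flat := by
  algebraize [RingHom.fst X Y]
  have : Algebra.Etale (X × Y) X := inferInstance
  show Module.Flat (X × Y) X
  exact Algebra.Smooth.flat (X × Y) X

lemma snd_flat : (RingHom.snd X Y).Flat := by
  algebraize [RingHom.snd X Y]
  have : Algebra.Etale (X × Y) Y := inferInstance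
  show Module.Flat (X × Y) Y
  exact Algebra.Smooth.flat (X × Y) Y

lemma fst_comp_lmul :
    (RingHom.fst X Y).comp (Algebra.TensorProduct.lmul' A (S := X × Y)).toRingHom =
      (Algebra.TensorProduct.lmul' A (S := X)).toRingHom.comp
        (Algebra.TensorProduct.map (AlgHom.fst A X Y) (AlgHom.fst A X Y)).toRingHom := by
  have : (AlgHom.fst A X Y).comp (Algebra.TensorProduct.lmul' A (S := X × Y)) =
      (Algebra.TensorProduct.lmul' A (S := X)).comp
        (Algebra.TensorProduct.map (AlgHom.fst A X Y) (AlgHom.fst A X Y)) := by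
    ext <;> simp
  exact congrArg AlgHom.toRingHom this

lemma snd_comp_lmul :
    (RingHom.snd X Y).comp (Algebra.TensorProduct.lmul' A (S := X × Y)).toRingHom =
      (Algebra.TensorProduct.lmul' A (S := Y)).toRingHom.comp
        (Algebra.TensorProduct.map (AlgHom.snd A X Y) (AlgHom.snd A X Y)).toRingHom := by
  have : (AlgHom.snd A X Y).comp (Algebra.TensorProduct.lmul' A (S := X × Y)) =
      (Algebra.TensorProduct.lmul' A (S := Y)).comp
        (Algebra.TensorProduct.map (AlgHom.snd A X Y) (AlgHom.snd A X Y)) := by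
    ext <;> simp
  exact congrArg AlgHom.toRingHom this

lemma span_idem : Ideal.span ({(1, 0), (0, 1)} : Set (X × Y)) = ⊤ := by
  rw [Ideal.eq_top_iff_one]
  have : (1 : X × Y) = (1, 0) + (0, 1) := by ext <;> simp
  rw [this]
  exact Ideal.add_mem _ (Ideal.subset_span (by simp)) (Ideal.subset_span (by simp))

theorem prodFlat [Module.Flat A X] [Module.Flat A Y] : Module.Flat A (X × Y) := by
  rw [← RingHom.flat_algebraMap_iff]
  apply RingHom.Flat.ofLocalizationSpanTarget _ ({(1, 0), (0, 1)} : Set (X × Y)) (span_idem X Y)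
  rintro ⟨r, hr⟩
  rcases hr with rfl | rfl
  · letI := (RingHom.fst X Y).toAlgebra
    let e : Localization.Away ((1, 0) : X × Y) ≃ₐ[X × Y] X :=
      IsLocalization.algEquiv (Submonoid.powers ((1, 0) : X × Y)) _ _
    have h1 : algebraMap (X × Y) (Localization.Away ((1, 0) : X × Y)) =
        (e.symm : X →+* _).comp (RingHom.fst X Y) := by
      ext x
      exact (e.symm.commutes x).symm
    show RingHom.Flat ((algebraMap (X × Y) (Localization.Away ((1, 0) : X × Y))).comp _)
    rw [h1, RingHom.comp_assoc]
    refine RingHom.Flat.comp ?_ (.of_bijective e.symm.bijective)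
    have : (RingHom.fst X Y).comp (algebraMap A (X × Y)) = algebraMap A X := by
      ext a; rfl
    rw [this, RingHom.flat_algebraMap_iff]
    infer_instance
  · letI := (RingHom.snd X Y).toAlgebra
    let e : Localization.Away ((0, 1) : X × Y) ≃ₐ[X × Y] Y :=
      IsLocalization.algEquiv (Submonoid.powers ((0, 1) : X × Y)) _ _
    have h1 : algebraMap (X × Y) (Localization.Away ((0, 1) : X × Y)) =
        (e.symm : Y →+* _).comp (RingHom.snd X Y) := by
      ext x
      exact (e.symm.commutes x).symm
    show RingHom.Flat ((algebraMap (X × Y) (Localization.Away ((0, 1) : X × Y))).comp _)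
    rw [h1, RingHom.comp_assoc]
    refine RingHom.Flat.comp ?_ (.of_bijective e.symm.bijective)
    have : (RingHom.snd X Y).comp (algebraMap A (X × Y)) = algebraMap A Y := by
      ext a; rfl
    rw [this, RingHom.flat_algebraMap_iff]
    infer_instance

theorem prodWE [Algebra.WeaklyEtale A X] [Algebra.WeaklyEtale A Y] :
    Algebra.WeaklyEtale A (X × Y) where
  flat := prodFlat A X Y
  flat_lmul' := by
    show RingHom.Flat (Algebra.TensorProduct.lmul' A (S := X × Y)).toRingHom
    apply RingHom.Flat.ofLocalizationSpanTarget _ ({(1, 0), (0, 1)} : Set (X × Y))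
    · rw [Ideal.eq_top_iff_one]
      have : (1 : X × Y) = (1, 0) + (0, 1) := by ext <;> simp
      rw [this]
      exact Ideal.add_mem _ (Ideal.subset_span (by simp)) (Ideal.subset_span (by simp))
    · rintro ⟨r, hr⟩
      rcases hr with rfl | rfl
      · letI := (RingHom.fst X Y).toAlgebra
        let e : Localization.Away ((1, 0) : X × Y) ≃ₐ[X × Y] X :=
          IsLocalization.algEquiv (Submonoid.powers ((1, 0) : X × Y)) _ _
        have h1 : algebraMap (X × Y) (Localization.Away ((1, 0) : X × Y)) =
            (e.symm : X →+* _).comp (RingHom.fst X Y) := by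
          ext x
          exact (e.symm.commutes x).symm
        show RingHom.Flat ((algebraMap (X × Y) (Localization.Away ((1, 0) : X × Y))).comp _)
        rw [h1, RingHom.comp_assoc, fst_comp_lmul]
        refine RingHom.Flat.comp (RingHom.Flat.comp ?_ ?_) (.of_bijective e.symm.bijective)
        · exact RingHom.Flat.tensorProductMap (f := AlgHom.fst A X Y) (g := AlgHom.fst A X Y)
            (fst_flat X Y) (fst_flat X Y)
        · exact Algebra.WeaklyEtale.flat_lmul' A X
      · letI := (RingHom.snd X Y).toAlgebra
        let e : Localization.Away ((0, 1) : X × Y) ≃ₐ[X × Y] Y :=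
          IsLocalization.algEquiv (Submonoid.powers ((0, 1) : X × Y)) _ _
        have h1 : algebraMap (X × Y) (Localization.Away ((0, 1) : X × Y)) =
            (e.symm : Y →+* _).comp (RingHom.snd X Y) := by
          ext x
          exact (e.symm.commutes x).symm
        show RingHom.Flat ((algebraMap (X × Y) (Localization.Away ((0, 1) : X × Y))).comp _)
        rw [h1, RingHom.comp_assoc, snd_comp_lmul]
        refine RingHom.Flat.comp (RingHom.Flat.comp ?_ ?_) (.of_bijective e.symm.bijective)
        · exact RingHom.Flat.tensorProductMap (f := AlgHom.snd A X Y) (g := AlgHom.snd A X Y)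
            (snd_flat X Y) (snd_flat X Y)
        · exact Algebra.WeaklyEtale.flat_lmul' A Y

end Prod

section Loc

variable (A B : Type u) [CommRing A] [CommRing B] [Algebra A B] (S : Submonoid A)
  [IsLocalization S B]

include S in
lemma includeLeft_surj : Function.Surjective
    (Algebra.TensorProduct.includeLeft : B →ₐ[A] B ⊗[A] B) := by
  intro t
  induction t using TensorProduct.induction_on with
  | zero => exact ⟨0, map_zero _⟩
  | add x y hx hy =>
    obtain ⟨a, rfl⟩ := hx
    obtain ⟨b, rfl⟩ := hy
    exact ⟨a + b, map_add _ _ _⟩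
  | tmul b₁ b₂ =>
    obtain ⟨⟨a, s⟩, h⟩ := IsLocalization.surj S b₂
    -- h : b₂ * algebraMap s = algebraMap a
    obtain ⟨⟨c, t⟩, h'⟩ := IsLocalization.surj S b₁
    have hs : IsUnit (algebraMap A B s) := IsLocalization.map_units B s
    obtain ⟨u, hu⟩ := hs
    refine ⟨b₁ * b₂, ?_⟩
    show (b₁ * b₂) ⊗ₜ[A] (1 : B) = b₁ ⊗ₜ[A] b₂
    have e1 : b₁ = (b₁ * ↑u⁻¹) * algebraMap A B s := by
      rw [mul_assoc, ← hu, Units.inv_mul, mul_one]
    have e2 : b₂ * algebraMap A B s = algebraMap A B a := h
    calc (b₁ * b₂) ⊗ₜ[A] (1 : B)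
        = ((b₁ * ↑u⁻¹) * (b₂ * algebraMap A B s)) ⊗ₜ[A] (1 : B) := by
          congr 1
          rw [← hu]
          have : (↑u⁻¹ : B) * (b₂ * ↑u) = b₂ := by
            rw [mul_comm b₂, ← mul_assoc, Units.inv_mul, one_mul]
          rw [mul_assoc, this]
      _ = (a • (b₁ * ↑u⁻¹)) ⊗ₜ[A] (1 : B) := by
          rw [e2, Algebra.smul_def, mul_comm]
      _ = (b₁ * ↑u⁻¹) ⊗ₜ[A] (a • (1 : B)) := by
          rw [TensorProduct.smul_tmul]
      _ = (b₁ * ↑u⁻¹) ⊗ₜ[A] ((s : A) • b₂) := by
          congr 1
          rw [Algebra.smul_def, Algebra.smul_def, mul_one, ← e2, mul_comm]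
      _ = ((s : A) • (b₁ * ↑u⁻¹)) ⊗ₜ[A] b₂ := by
          rw [TensorProduct.smul_tmul]
      _ = b₁ ⊗ₜ[A] b₂ := by
          congr 1
          rw [Algebra.smul_def, mul_comm, ← e1]

include S in
theorem locWE : Algebra.WeaklyEtale A B where
  flat := IsLocalization.flat B S
  flat_lmul' := by
    apply RingHom.Flat.of_bijective
    have hs := includeLeft_surj A B S
    have hid : ∀ b : B, Algebra.TensorProduct.lmul' A (S := B)
        ((Algebra.TensorProduct.includeLeft : B →ₐ[A] B ⊗[A] B) b) = b := by
      intro b
      simp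
    constructor
    · intro x y hxy
      obtain ⟨a, rfl⟩ := hs x
      obtain ⟨b, rfl⟩ := hs y
      have : a = b := by
        have h1 := hid a
        have h2 := hid b
        rw [← h1, ← h2]
        exact hxy
      rw [this]
    · intro b
      exact ⟨_, hid b⟩

end Loc

section Main

variable (A B : Type u) [CommRing A] [CommRing B] [Algebra A B]

/-- key extraction step -/
lemma extract (f : A) (hf : ∀ m : Ideal B, m.IsMaximal → algebraMap A B f ∈ m)
    (C' : Type u) [CommRing C'] [Algebra A C']
    (σ : (Localization.Away f × C') →ₐ[A] B) : Nonempty (C' →ₐ[A] B) := by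
  set ε : B := σ (1, 0) with hε
  have hidem : ε * ε = ε := by
    rw [hε, ← map_mul]
    congr 1
    ext <;> simp
  have hε0 : ε = 0 := by
    by_contra hne
    have hnu : ¬ IsUnit (1 - ε) := by
      intro hu
      have h0 : ε * (1 - ε) = 0 := by rw [mul_sub, mul_one, hidem, sub_self]
      exact hne ((hu.mul_left_eq_zero).mp h0)
    obtain ⟨m, hm, hmem⟩ := exists_max_ideal_of_mem_nonunits hnu
    have hfm := hf m hm
    have h1 : ε = σ ((algebraMap A (Localization.Away f) f, 0)) *
        σ ((IsLocalization.Away.invSelf f, 0)) := by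
      rw [← map_mul, hε]
      congr 1
      ext
      · simp [IsLocalization.Away.mul_invSelf]
      · simp
    have h2 : σ ((algebraMap A (Localization.Away f) f, 0)) = algebraMap A B f * ε := by
      have : ((algebraMap A (Localization.Away f) f, 0) : Localization.Away f × C') =
          f • (1, 0) := by
        ext <;> simp [Algebra.smul_def]
      rw [this, map_smul, Algebra.smul_def]
    have hεm : ε ∈ m := by
      rw [h1, h2]
      exact m.mul_mem_right _ (m.mul_mem_right _ hfm)
    exact hm.ne_top ((Ideal.eq_top_iff_one m).mpr (by simpa using m.add_mem hmem hεm))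
  have hindep : ∀ (x : Localization.Away f) (c : C'), σ (x, c) = σ (0, c) := by
    intro x c
    have : ((x, c) : Localization.Away f × C') = (x, 0) * (1, 0) + (0, c) := by ext <;> simp
    rw [this, map_add, map_mul, ← hε, hε0, mul_zero, zero_add]
  refine ⟨{ toFun := fun c => σ (0, c), map_one' := ?_, map_mul' := ?_, map_zero' := ?_,
            map_add' := ?_, commutes' := ?_ }⟩
  · rw [← hindep 1 1]
    exact map_one σ
  · intro c c'
    rw [← map_mul]
    congr 1
    ext <;> simp
  · exact map_zero σ
  · intro c c'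
    rw [← map_add]
    congr 1
    ext <;> simp
  · intro a
    rw [← hindep (algebraMap A _ a)]
    exact σ.commutes a

lemma ind (hA : EtPBC.IsWContractible A) :
    ∀ (l : List A), (∀ f ∈ l, ∀ m : Ideal B, m.IsMaximal → algebraMap A B f ∈ m) →
    ∀ (C' : Type u) [CommRing C'] [Algebra A C'] [Algebra.WeaklyEtale A C'],
      (∀ p : PrimeSpectrum A, (∀ f ∈ l, f ∈ p.asIdeal) →
        p ∈ Set.range (PrimeSpectrum.comap (algebraMap A C'))) →
      Nonempty (C' →ₐ[A] B) := by
  intro l
  induction l with
  | nil =>
    intro _ C' _ _ _ hcov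
    have hsurj : Function.Surjective (PrimeSpectrum.comap (algebraMap A C')) :=
      fun p => hcov p (by simp)
    have hff : Module.FaithfullyFlat A C' := Module.FaithfullyFlat.of_comap_surjective hsurj
    obtain ⟨ρ⟩ := hA C' hff inferInstance
    exact ⟨(Algebra.ofId A B).comp ρ⟩
  | cons f l ih =>
    intro hl C' _ _ _ hcov
    haveI : Algebra.WeaklyEtale A (Localization.Away f × C') := prodWE A _ _
    obtain ⟨σ⟩ := ih (fun g hg => hl g (List.mem_cons_of_mem _ hg)) (Localization.Away f × C') (by
      intro p hp
      by_cases hfp : f ∈ p.asIdeal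
      · obtain ⟨q, hq⟩ := hcov p (by
          intro g hg
          rcases List.mem_cons.mp hg with rfl | h
          · exact hfp
          · exact hp g h)
        refine ⟨PrimeSpectrum.comap (RingHom.snd _ _) q, ?_⟩
        rw [← hq]
        rfl
      · obtain ⟨q, hq⟩ : p ∈ Set.range
            (PrimeSpectrum.comap (algebraMap A (Localization.Away f))) := by
          rw [PrimeSpectrum.localization_away_comap_range (Localization.Away f) f]
          exact hfp
        refine ⟨PrimeSpectrum.comap (RingHom.fst _ _) q, ?_⟩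
        rw [← hq]
        rfl)
    exact extract A B f (hl f List.mem_cons_self) C' σ

variable (S : Submonoid A) [IsLocalization S B]

include S in
theorem main (E : Finset A)
    (hB : Set.range (PrimeSpectrum.comap (algebraMap A B)) =
      {x | ∃ z : PrimeSpectrum A, z ∈ PrimeSpectrum.zeroLocus (R := A) E ∧ x ⤳ z})
    (hA : EtPBC.IsWContractible A) : EtPBC.IsWContractible B := by
  intro C _ _ hff hwe
  letI : Algebra A C := ((algebraMap B C).comp (algebraMap A B)).toAlgebra
  haveI : IsScalarTower A B C := IsScalarTower.of_algebraMap_eq' rfl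
  haveI : Algebra.WeaklyEtale A B := locWE A B S
  haveI : Algebra.WeaklyEtale A C := Algebra.WeaklyEtale.trans A B C
  have hmax : ∀ f ∈ E.toList, ∀ m : Ideal B, m.IsMaximal → algebraMap A B f ∈ m := by
    intro f hf m hm
    have hfE : f ∈ (E : Set A) := by simpa using hf
    let x : PrimeSpectrum A := PrimeSpectrum.comap (algebraMap A B) ⟨m, hm.isPrime⟩
    have hx : x ∈ Set.range (PrimeSpectrum.comap (algebraMap A B)) := ⟨_, rfl⟩
    rw [hB] at hx
    obtain ⟨z, hz, hxz⟩ := hx
    have hzr : z ∈ Set.range (PrimeSpectrum.comap (algebraMap A B)) := by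
      rw [hB]
      exact ⟨z, hz, specializes_rfl⟩
    obtain ⟨q, rfl⟩ := hzr
    have hle : m ≤ q.asIdeal := by
      have h1 : x.asIdeal ≤ (PrimeSpectrum.comap (algebraMap A B) q).asIdeal :=
        (PrimeSpectrum.asIdeal_le_asIdeal _ _).mpr ((PrimeSpectrum.le_iff_specializes _ _).mpr hxz)
      have e1 := IsLocalization.map_comap S B m
      have e2 := IsLocalization.map_comap S B q.asIdeal
      rw [← e1, ← e2]
      exact Ideal.map_mono h1
    have hmq : m = q.asIdeal := hm.eq_of_le q.isPrime.ne_top hle
    have : f ∈ (PrimeSpectrum.comap (algebraMap A B) q).asIdeal := hz hfE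
    rw [hmq]
    exact this
  have hcov : ∀ p : PrimeSpectrum A, (∀ f ∈ E.toList, f ∈ p.asIdeal) →
      p ∈ Set.range (PrimeSpectrum.comap (algebraMap A C)) := by
    intro p hp
    have hpZ : p ∈ PrimeSpectrum.zeroLocus (R := A) E := by
      intro f hf
      exact hp f (by simpa using hf)
    have hpr : p ∈ Set.range (PrimeSpectrum.comap (algebraMap A B)) := by
      rw [hB]
      exact ⟨p, hpZ, specializes_rfl⟩
    obtain ⟨q, rfl⟩ := hpr
    obtain ⟨q', rfl⟩ := PrimeSpectrum.comap_surjective_of_faithfullyFlat (A := B) (B := C) q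
    exact ⟨q', rfl⟩
  obtain ⟨σ⟩ := ind A B hA E.toList hmax C hcov
  have hσB : ∀ b : B, σ (algebraMap B C b) = b := by
    have : (σ.toRingHom.comp (algebraMap B C)) = RingHom.id B := by
      apply IsLocalization.ringHom_ext S
      ext a
      exact σ.commutes a
    intro b
    exact RingHom.congr_fun this b
  exact ⟨{ σ.toRingHom with commutes' := hσB }⟩

end Main

end Groth.Agent.H15.WCon
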