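import Groth.Prelude.Def_ProEtW
import Mathlib
set_option autoImplicit false
universe u
namespace Groth.Agent.H15.WLocal
open Topology

theorem quasiSeparatedSpace_of_isClosed {X : Type u} [TopologicalSpace X] [QuasiSeparatedSpace X]
    [PrespectralSpace X] (Y : Set X) (hY : IsClosed Y) : QuasiSeparatedSpace ↥Y := by
  have hemb : IsClosedEmbedding (Subtype.val : ↥Y → X) := hY.isClosedEmbedding_subtypeVal
  have key : ∀ U : Set ↥Y, IsOpen U → IsCompact U →
      ∃ W : Set X, IsCompact W ∧ IsOpen W ∧ U = Subtype.val ⁻¹' W := by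
    intro U hU hUc
    obtain ⟨O, hO, rfl⟩ := isOpen_induced_iff.mp hU
    have hK : IsCompact (Subtype.val '' (Subtype.val ⁻¹' O : Set ↥Y)) := hUc.image continuous_subtype_val
    obtain ⟨W, hWc, hWo, hKW, hWO⟩ := PrespectralSpace.exists_isCompact_and_isOpen_between hK hO
      (by rintro _ ⟨y, hy, rfl⟩; exact hy)
    refine ⟨W, hWc, hWo, ?_⟩
    ext y
    constructor
    · intro hy
      exact hKW ⟨y, hy, rfl⟩
    · intro hy
      exact hWO hy
  refine ⟨fun U V hU hUc hV hVc => ?_⟩
  obtain ⟨W1, h1c, h1o, rfl⟩ := key U hU hUc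
  obtain ⟨W2, h2c, h2o, rfl⟩ := key V hV hVc
  rw [← Set.preimage_inter]
  exact hemb.isCompact_preimage (QuasiSeparatedSpace.inter_isCompact _ _ h1o h1c h2o h2c)

theorem wlocal_closed (X : Type u) [TopologicalSpace X] (hX : ProEtW.IsWLocal X)
    (Y : Set X) (hY : IsClosed Y) : ProEtW.IsWLocal ↥Y := by
  obtain ⟨hsp, hcl, hspec⟩ := hX
  have hemb : IsClosedEmbedding (Subtype.val : ↥Y → X) := hY.isClosedEmbedding_subtypeVal
  have hclosed_iff : ∀ y : ↥Y, IsClosed ({y} : Set ↥Y) ↔ IsClosed ({(y : X)} : Set X) := by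
    intro y
    constructor
    · intro h
      have := hemb.isClosedMap _ h
      simpa using this
    · intro h
      have := h.preimage continuous_subtype_val (f := (Subtype.val : ↥Y → X))
      convert this using 1
      ext z
      simp [Subtype.ext_iff]
  refine ⟨?_, ?_, ?_⟩
  · have : CompactSpace ↥Y := isCompact_iff_compactSpace.mp hY.isCompact
    have : QuasiSober ↥Y := hemb.quasiSober
    have : QuasiSeparatedSpace ↥Y := quasiSeparatedSpace_of_isClosed Y hY
    have : PrespectralSpace ↥Y := PrespectralSpace.of_isClosedEmbedding _ hemb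
    exact {}
  · have : {y : ↥Y | IsClosed ({y} : Set ↥Y)} = Subtype.val ⁻¹' {x : X | IsClosed ({x} : Set X)} := by
      ext y
      exact hclosed_iff y
    rw [this]
    exact hcl.preimage continuous_subtype_val
  · intro y
    obtain ⟨c, ⟨hc1, hc2⟩, hcu⟩ := hspec (y : X)
    have hcY : c ∈ Y := by
      have : c ∈ closure ({(y : X)} : Set X) := specializes_iff_mem_closure.mp hc2
      exact (closure_minimal (Set.singleton_subset_iff.mpr y.2) hY) this
    refine ⟨⟨c, hcY⟩, ⟨(hclosed_iff _).mpr hc1, ?_⟩, ?_⟩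
    · exact (subtype_specializes_iff _ _).mpr hc2
    · rintro z ⟨hz1, hz2⟩
      have := hcu (z : X) ⟨(hclosed_iff z).mp hz1, (subtype_specializes_iff _ _).mp hz2⟩
      exact Subtype.ext this
end Groth.Agent.H15.WLocal
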