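import Groth.Prelude.Def_ProEtW
import Mathlib
set_option autoImplicit false
universe u
namespace Groth.Agent.H15.ZDim
open Topology

/-- In a ring in which primes are pairwise incomparable, vanishing loci of elements are open. -/
theorem isOpen_zeroLocus_singleton (B : Type u) [CommRing B]
    (h0 : ∀ q q' : PrimeSpectrum B, q.asIdeal ≤ q'.asIdeal → q = q') (f : B) :
    IsOpen (PrimeSpectrum.zeroLocus ({f} : Set B)) := by
  rw [isOpen_iff_forall_mem_open]
  intro x hx
  have hfx : f ∈ x.asIdeal := by simpa using hx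
  have hmin : x.asIdeal ∈ minimalPrimes B := by
    refine ⟨⟨x.2, bot_le⟩, ?_⟩
    rintro q ⟨hq, -⟩ hqx
    have := h0 ⟨q, hq⟩ x hqx
    rw [← this]
  have hrad := IsLocalization.AtPrime.radical_map_of_mem_minimalPrimes
    (A := Localization.AtPrime x.asIdeal) x.asIdeal ⊥ hmin
  have h1 : algebraMap B (Localization.AtPrime x.asIdeal) f ∈
      ((⊥ : Ideal B).map (algebraMap B (Localization.AtPrime x.asIdeal))).radical := by
    rw [hrad]; exact Ideal.mem_map_of_mem _ hfx
  rw [Ideal.map_bot] at h1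
  obtain ⟨n, hn⟩ := h1
  rw [Ideal.mem_bot, ← map_pow, IsLocalization.map_eq_zero_iff x.asIdeal.primeCompl] at hn
  obtain ⟨⟨s, hs⟩, hsf⟩ := hn
  refine ⟨PrimeSpectrum.basicOpen s, ?_, (PrimeSpectrum.basicOpen s).2, hs⟩
  intro y hy
  have hsy : s ∉ y.asIdeal := hy
  have : s * f ^ n ∈ y.asIdeal := by
    simp only at hsf
    rw [hsf]; exact y.asIdeal.zero_mem
  rcases y.2.mem_or_mem this with h | h
  · exact absurd h hsy
  · have := y.2.mem_of_pow_mem _ h
    simpa using this

theorem t2_of_incomparable (B : Type u) [CommRing B]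
    (h0 : ∀ q q' : PrimeSpectrum B, q.asIdeal ≤ q'.asIdeal → q = q') : T2Space (PrimeSpectrum B) := by
  refine ⟨fun x y hxy => ?_⟩
  have : ¬ x.asIdeal ≤ y.asIdeal := fun h => hxy (h0 x y h)
  obtain ⟨f, hfx, hfy⟩ := SetLike.not_le_iff_exists.mp this
  refine ⟨PrimeSpectrum.zeroLocus ({f} : Set B), PrimeSpectrum.basicOpen f,
    isOpen_zeroLocus_singleton B h0 f, (PrimeSpectrum.basicOpen f).2, by simpa using hfx, hfy, ?_⟩
  rw [Set.disjoint_left]
  intro z hz hz'
  have : f ∈ z.asIdeal := by simpa using hz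
  exact hz' this

theorem profinite_of_incomparable (B : Type u) [CommRing B]
    (h0 : ∀ q q' : PrimeSpectrum B, q.asIdeal ≤ q'.asIdeal → q = q') :
    ProEtW.IsProfinite (PrimeSpectrum B) := by
  have := t2_of_incomparable B h0
  exact ⟨inferInstance, inferInstance, inferInstance⟩

theorem isMaximal_of_t2 (A : Type u) [CommRing A] [T2Space (PrimeSpectrum A)] (p : PrimeSpectrum A) :
    p.asIdeal.IsMaximal :=
  (PrimeSpectrum.isClosed_singleton_iff_isMaximal p).mp (isClosed_singleton)

theorem s0701 (A B : Type u) [CommRing A] [CommRing B]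
    [Algebra A B] [T2Space (PrimeSpectrum A)] [TotallyDisconnectedSpace (PrimeSpectrum A)]
    (h : ∀ q q' : PrimeSpectrum B, q.asIdeal.comap (algebraMap A B) = q'.asIdeal.comap (algebraMap A B) →
      q.asIdeal ≤ q'.asIdeal → q = q') :
    ProEtW.IsProfinite (PrimeSpectrum B) := by
  apply profinite_of_incomparable
  intro q q' hqq'
  refine h q q' ?_ hqq'
  have hmax := isMaximal_of_t2 A (PrimeSpectrum.comap (algebraMap A B) q)
  have hle : q.asIdeal.comap (algebraMap A B) ≤ q'.asIdeal.comap (algebraMap A B) := Ideal.comap_mono hqq'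
  exact hmax.eq_of_le (Ideal.IsPrime.ne_top inferInstance) hle

theorem s0702 (A B : Type u) [CommRing A] [CommRing B]
    [Algebra A B] [T2Space (PrimeSpectrum A)] [TotallyDisconnectedSpace (PrimeSpectrum A)]
    (h : ProEtW.AlgebraicResidueExtensions A B) :
    ProEtW.IsProfinite (PrimeSpectrum B) := by
  apply profinite_of_incomparable
  intro q q' hqq'
  have hmax : (q.asIdeal.comap (algebraMap A B)).IsMaximal :=
    isMaximal_of_t2 A (PrimeSpectrum.comap (algebraMap A B) q)
  have halg := h q.asIdeal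
  let _ : Field (A ⧸ q.asIdeal.comap (algebraMap A B)) := Ideal.Quotient.field _
  have hint : Algebra.IsIntegral (A ⧸ q.asIdeal.comap (algebraMap A B)) (B ⧸ q.asIdeal) :=
    Algebra.IsAlgebraic.isIntegral
  have hfield : IsField (B ⧸ q.asIdeal) :=
    isField_of_isIntegral_of_isField' (R := A ⧸ q.asIdeal.comap (algebraMap A B)) (Field.toIsField _)
  have hqmax : q.asIdeal.IsMaximal := Ideal.Quotient.maximal_of_isField _ hfield
  ext1
  exact hqmax.eq_of_le (Ideal.IsPrime.ne_top inferInstance) hqq'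
end Groth.Agent.H15.ZDim
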